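/-
Checks for the axes, part 0.
-/
import Cfsg.Agent.MO.AxD

set_option autoImplicit false
set_option Elab.async false
set_option maxRecDepth 100000

namespace CfsgMO.Ck

theorem x22 : chkW tab av 9 12 4 0 ([40, 44, 27] ++ [42, 39, 40, 40, 38, 32, 34, 12, 13, 14, 17, 21, 0, 3, 4, 5, 7, 9, 24, 54, 52, 25, 47, 49, 51, 39, 53, 51, 49, 39, 43, 54, 53, 33, 42, 47, 41, 52, 42, 41, 36, 54, 53, 31, 28, 36, 40, 49, 53, 54]) = true := by
  decide +kernel

theorem r239 : chkR tab av 8 5 0 0 [44, 53, 43, 53, 11] [48, 44, 38, 41, 48, 47, 27, 28, 29, 32, 34, 35, 12, 14, 16, 17, 21, 22, 1, 3, 5, 9, 10] [53, 51, 53, 40, 53, 11] = true := by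
  decide +kernel

theorem r22 : chkR tab av 2 3 0 3 [53, 46, 53] [48, 50, 41, 37, 51, 27, 33, 14, 15, 20, 0, 2, 5, 9, 24] [44, 53, 11] = true := by
  decide +kernel

theorem r264 : chkR tab av 8 10 0 0 [47, 53, 51, 53] [36, 50, 50, 39, 41, 42, 38, 25, 26, 27, 31, 34, 12, 15, 17, 18, 19, 20, 22, 0, 1, 2, 3, 4, 6, 8, 9, 10, 24] [48, 53, 49, 53, 11] = true := by
  decide +kernel

theorem r258 : chkR tab av 8 8 0 0 [41, 53, 46, 53, 11] [40, 36, 47, 47, 37, 36, 46, 28, 29, 30, 32, 33, 34, 12, 16, 17, 21, 0, 3, 4, 7, 8, 24] [41, 53, 46, 53, 11] = true := by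
  decide +kernel

theorem r263 : chkR tab av 8 8 0 0 [48, 53, 50, 53, 11] [47, 51, 46, 50, 51, 38, 43, 27, 31, 32, 33, 12, 15, 19, 20, 22, 23, 0, 4, 6, 8, 9, 10, 24] [48, 53, 50, 53, 11] = true := by
  decide +kernel

theorem r111 : chkR tab av 5 10 0 0 [46, 53, 41, 53, 11] [36, 42, 47, 36, 48, 42, 40, 25, 27, 29, 35, 14, 15, 19, 22, 1, 5, 6, 8, 10] [39, 53, 46, 53, 11] = true := by
  decide +kernel

theorem r130 : chkR tab av 5 9 0 0 [53, 47, 53, 41, 53, 11] [42, 36, 50, 48, 44, 31, 35, 13, 18, 2, 5, 24] [31, 36, 53, 49, 53] = true := by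
  decide +kernel

theorem r193 : chkR tab av 7 9 0 1 [46, 53, 51, 53] [42, 43, 41, 42, 36, 26, 27, 29, 30, 31, 32, 33, 35, 13, 14, 17, 19, 20, 21, 22, 0, 3, 5, 6, 8, 9] [50, 40, 53] = true := by
  decide +kernel

theorem r265 : chkR tab av 8 10 0 0 [47, 53, 51, 53, 11] [49, 40, 40, 41, 39, 37, 28, 32, 33, 34, 16, 19, 20, 21, 23, 0, 2, 3, 4, 6, 7] [48, 53, 49, 53, 11] = true := by
  decide +kernel

theorem r226 : chkR tab av 8 8 0 0 [53, 42, 53] [46, 50, 37, 46, 51, 37, 42, 27, 28, 29, 32, 33, 35, 12, 13, 14, 15, 17, 18, 0, 1, 4, 5, 6, 8] [53, 42, 53, 11] = true := by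
  decide +kernel

theorem r220 : chkR tab av 8 8 0 0 [53, 36, 53] [46, 41, 44, 46, 44, 46, 49, 28, 31, 34, 35, 12, 17, 19, 22, 23, 0, 2, 3, 4, 5, 24] [53, 36, 53] = true := by
  decide +kernel

theorem r297 : chkR tab av 9 8 0 0 [49, 53, 49, 53, 11] [44, 46, 41, 51, 26, 27, 28, 30, 34, 35, 14, 15, 16, 17, 18, 19, 20, 21, 22, 23, 2, 3, 5, 10] [45, 53, 43, 53, 11] = true := by
  decide +kernel

theorem r327 : chkR tab av 10 11 0 1 [51, 33, 53, 49, 53, 11] [48, 50, 38, 41, 47, 49, 44, 25, 27, 28, 31, 13, 15, 16, 17, 18, 20, 23, 0, 1, 6, 8] [36, 53, 11] = true := by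
  decide +kernel

theorem r167 : chkR tab av 6 8 0 0 [43, 53, 36, 53, 11] [38, 38, 50, 36, 50, 47, 25, 26, 29, 31, 12, 13, 16, 20, 22, 0, 8, 9, 10, 24] [44, 39, 53, 11] = true := by
  decide +kernel

theorem r58 : chkR tab av 3 7 0 0 [44, 53, 43, 53, 11] [50, 47, 46, 43, 42, 35, 12, 13, 16, 17, 21, 1, 2, 5, 8, 10, 24] [51, 53] = true := by
  decide +kernel

theorem r100 : chkR tab av 5 8 0 0 [53, 47, 53] [36, 50, 41, 46, 51, 41, 26, 30, 32, 33, 35, 13, 14, 17, 18, 19, 20, 21, 22, 6, 9, 24] [46, 41, 53] = true := by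
  decide +kernel

theorem r45 : chkR tab av 3 5 0 1 [47, 53, 41, 53] [39, 46, 36, 41, 43, 30, 33, 12, 13, 14, 15, 16, 18, 19, 20, 23, 2, 4, 5, 6, 9, 24] [53, 11] = true := by
  decide +kernel

theorem r56 : chkR tab av 3 7 0 0 [44, 53, 50, 53, 11] [46, 41, 37, 48, 25, 27, 12, 13, 14, 16, 20, 21, 3, 5, 7, 24] [50, 53, 11] = true := by
  decide +kernel

theorem r267 : chkR tab av 8 11 0 1 [53, 50, 44, 53, 11] [42, 49, 43, 49, 42, 25, 28, 31, 34, 35, 19, 20, 23, 1, 2, 6, 10, 24] [44, 53, 11] = true := by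
  decide +kernel

theorem r234 : chkR tab av 8 9 0 0 [35, 53, 36, 53, 11] [51, 42, 38, 50, 43, 25, 26, 27, 28, 29, 30, 12, 13, 14, 17, 18, 19, 21, 0, 1, 5, 8, 10] [44, 53, 11] = true := by
  decide +kernel

theorem r217 : chkR tab av 8 9 0 0 [44, 44, 53, 11] [51, 47, 47, 49, 37, 26, 29, 30, 32, 33, 16, 17, 18, 19, 20, 1, 3, 5, 6, 7, 10, 24] [51, 46, 53, 11] = true := by
  decide +kernel

theorem r201 : chkR tab av 8 8 0 0 [42, 53] [43, 47, 36, 46, 42, 48, 42, 27, 30, 33, 12, 13, 14, 19, 20, 0, 1, 3, 4, 6, 8, 9] [42, 53] = true := by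
  decide +kernel

theorem r206 : chkR tab av 8 10 0 0 [40, 53, 11] [38, 44, 44, 37, 36, 36, 46, 30, 12, 13, 14, 16, 17, 18, 19, 23, 2, 5, 6, 10] [48, 53] = true := by
  decide +kernel

theorem r63 : chkR tab av 4 3 0 0 [44, 53, 11] [49, 43, 47, 46, 43, 27, 28, 34, 13, 14, 15, 17, 5, 8] [36, 53] = true := by
  decide +kernel

theorem g27 : chkW tab av 9 9 0 0 [44, 47, 53, 42, 41, 38, 40, 39, 28, 29, 30, 31, 13, 14, 17, 19, 21, 23, 1, 3, 5, 7, 8, 9, 52, 46, 40] = true := by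
  decide +kernel

theorem a6 : chkW tab av 2 6 0 4 [53, 43, 53, 45, 53, 54] = true := by
  decide +kernel

theorem g36 : chkW tab av 11 11 0 0 [53, 42, 53, 47, 46, 47, 51, 49, 25, 27, 30, 31, 33, 16, 18, 19, 21, 22, 23, 1, 3, 4, 6, 10, 11, 24, 52, 42] = true := by
  decide +kernel

theorem r39 : chkR tab av 3 3 0 0 [46, 39, 53] [27, 28, 33, 12, 13, 17] [46, 39, 53] = true := by
  decide +kernel

theorem r153 : chkR tab av 6 6 0 0 [46, 44, 53, 11] [27, 30, 33, 35, 12, 13, 15, 23] [46, 44, 53, 11] = true := by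
  decide +kernel

theorem r1 : chkR tab av 0 0 0 0 [11] [50, 40, 42, 47, 44] [] = true := by
  decide +kernel

theorem a10 : chkW tab av 3 10 0 1 [47, 53, 51, 53, 54] = true := by
  decide +kernel

theorem r196 : chkR tab av 8 8 0 0 [53] [26, 30, 32, 34, 13, 15, 17, 18, 19, 22] [53] = true := by
  decide +kernel

theorem s60 : chkS tab av 7 0 [51, 53, 36] 128 128 = true := by
  decide +kernel

theorem s93 : chkS tab av 9 0 [45, 53, 39] 96 96 = true := by
  decide +kernel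

theorem s33 : chkS tab av 5 0 [53, 49, 44] 80 64 = true := by
  decide +kernel

theorem s44 : chkS tab av 5 0 [53, 42] 96 96 = true := by
  decide +kernel

theorem s97 : chkS tab av 9 0 [40, 44, 27] 0 96 = true := by
  decide +kernel

theorem s112 : chkS tab av 11 0 [46, 41] 64 64 = true := by
  decide +kernel

theorem s18 : chkS tab av 3 0 [50] 64 64 = true := by
  decide +kernel

theorem s68 : chkS tab av 8 0 [40] 80 96 = true := by
  decide +kernel

theorem s110 : chkS tab av 11 0 [45] 96 96 = true := by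
  decide +kernel

end CfsgMO.Ck
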