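/-
Checks for the axes, part 1.
-/
import Cfsg.Agent.MO.AxD

set_option autoImplicit false
set_option Elab.async false
set_option maxRecDepth 100000

namespace CfsgMO.Ck

theorem x20 : chkW tab av 7 12 3 0 ([51, 45] ++ [49, 51, 39, 36, 39, 38, 25, 12, 13, 15, 17, 18, 19, 20, 0, 4, 8, 9, 54, 52, 25, 48, 48, 45, 42, 53, 43, 42, 43, 54, 52, 42, 41, 36, 54, 53, 31, 28, 36, 40, 49, 53, 54]) = true := by
  decide +kernel

theorem r132 : chkR tab av 5 8 0 0 [53, 48, 53, 48, 53, 11] [48, 39, 36, 43, 48, 43, 25, 26, 28, 31, 32, 12, 13, 14, 15, 16, 18, 19, 20, 23, 0, 3, 6, 8, 9, 10] [44, 53, 47, 53] = true := by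
  decide +kernel

theorem r139 : chkR tab av 5 8 0 0 [53, 41, 53, 39, 53] [38, 42, 40, 40, 49, 39, 32, 34, 35, 12, 13, 15, 16, 17, 18, 23, 1, 4, 6, 7, 8, 9] [48, 53, 47, 53, 11] = true := by
  decide +kernel

theorem r27 : chkR tab av 2 6 0 4 [53, 43, 53, 45, 53, 11] [42, 44, 48, 38, 38, 13, 14, 16, 19, 21, 1, 6, 7, 9, 10] [] = true := by
  decide +kernel

theorem r25 : chkR tab av 2 5 0 4 [53, 49, 53, 39, 53, 11] [46, 46, 50, 37, 49, 15, 16, 22, 0, 1, 6, 7, 9] [] = true := by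
  decide +kernel

theorem r322 : chkR tab av 10 10 0 0 [42, 53, 49, 53] [46, 46, 48, 43, 48, 47, 41, 25, 27, 28, 29, 12, 13, 15, 17, 19, 21, 23, 3, 5, 8, 9, 10, 24] [42, 53, 49, 53, 11] = true := by
  decide +kernel

theorem r316 : chkR tab av 10 10 0 0 [47, 53, 51, 53, 11] [42, 38, 41, 50, 51, 42, 42, 26, 27, 28, 14, 15, 17, 18, 21, 22, 23, 0, 1, 2, 6, 7, 8] [51, 53, 49, 53, 11] = true := by
  decide +kernel

theorem r191 : chkR tab av 7 8 0 1 [50, 53, 44, 53] [47, 42, 37, 50, 41, 25, 29, 34, 35, 14, 15, 17, 19, 20, 21, 22, 23, 0, 2, 5, 6, 7, 9, 10, 24] [38, 43, 47, 53] = true := by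
  decide +kernel

theorem r227 : chkR tab av 8 10 0 0 [53, 45, 53] [51, 47, 48, 43, 44, 49, 43, 26, 28, 30, 31, 33, 12, 17, 18, 20, 22, 0, 3, 5, 6, 9] [48, 53, 46, 53, 11] = true := by
  decide +kernel

theorem r266 : chkR tab av 8 8 0 0 [53, 50, 44, 53] [39, 48, 44, 41, 46, 42, 25, 28, 32, 33, 12, 14, 15, 19, 20, 22, 23, 0, 4, 9, 24] [53, 50, 44, 53] = true := by
  decide +kernel

theorem r261 : chkR tab av 8 10 0 0 [50, 53, 38, 53, 11] [40, 49, 44, 40, 39, 25, 27, 28, 31, 32, 33, 13, 15, 16, 18, 22, 23, 0, 4, 6, 8, 10, 24] [51, 53, 46, 53] = true := by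
  decide +kernel

theorem g17 : chkW tab av 6 6 1 1 [35, 53, 51, 44, 53, 36, 51, 44, 38, 50, 40, 29, 34, 35, 12, 13, 16, 22, 0, 2, 4, 5, 9, 10, 24, 52, 46, 42] = true := by
  decide +kernel

theorem r164 : chkR tab av 6 8 0 0 [41, 53, 46, 53] [42, 43, 40, 50, 36, 46, 43, 28, 31, 12, 13, 14, 15, 19, 20, 21, 22, 23, 9, 10, 24] [43, 42, 53] = true := by
  decide +kernel

theorem r274 : chkR tab av 8 8 0 0 [30, 53, 45, 49, 53, 11] [38, 51, 47, 36, 47, 44, 44, 26, 29, 31, 32, 13, 14, 15, 19, 20, 22, 23, 0, 1, 5, 9, 10] [36, 53] = true := by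
  decide +kernel

theorem r112 : chkR tab av 5 11 0 1 [51, 53, 45, 53] [37, 36, 50, 44, 48, 37, 28, 32, 33, 35, 12, 13, 16, 18, 20, 23, 2, 4, 6, 7, 10, 24] [43, 48, 53] = true := by
  decide +kernel

theorem r115 : chkR tab av 5 8 0 0 [39, 53, 45, 53, 11] [36, 42, 36, 36, 43, 44, 26, 28, 30, 31, 32, 34, 12, 13, 15, 16, 21, 23, 1, 2, 3, 5, 10, 24] [50, 53] = true := by
  decide +kernel

theorem g20 : chkW tab av 7 7 0 0 [36, 45, 53, 44, 39, 41, 37, 36, 46, 26, 27, 28, 30, 31, 33, 35, 13, 14, 15, 22, 2, 8, 9, 24, 52, 36, 42] = true := by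
  decide +kernel

theorem r8 : chkR tab av 1 2 3 0 [44, 53, 11] [43, 41, 50, 37, 49, 28, 12, 18, 8, 10] [53, 11] = true := by
  decide +kernel

theorem r311 : chkR tab av 10 11 0 1 [33, 53, 48, 53, 11] [50, 49, 47, 46, 42, 44, 27, 30, 31, 32, 35, 13, 15, 16, 18, 20, 21, 2, 4, 5, 6, 7, 8, 10] [50, 53] = true := by
  decide +kernel

theorem g2 : chkW tab av 1 1 0 0 [42, 36, 53, 51, 40, 47, 47, 46, 39, 27, 28, 13, 0, 8, 10, 11, 52, 33, 36, 46] = true := by
  decide +kernel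

theorem g29 : chkW tab av 10 10 0 0 [48, 45, 53, 51, 50, 51, 38, 47, 36, 25, 26, 28, 29, 30, 31, 32, 34, 35, 14, 15, 17, 18, 20, 22, 5, 7, 9, 10, 52, 43, 37] = true := by
  decide +kernel

theorem r303 : chkR tab av 10 8 0 0 [48, 53, 11] [49, 49, 46, 48, 42, 39, 37, 25, 27, 30, 31, 35, 12, 13, 20, 21, 23, 0, 3, 4, 7, 8, 9, 10] [40, 53, 11] = true := by
  decide +kernel

theorem r272 : chkR tab av 8 8 0 0 [43, 32, 53, 41, 53] [25, 27, 28, 30, 31, 32, 33, 34, 12, 15, 16, 19] [43, 32, 53, 41, 53] = true := by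
  decide +kernel

theorem g15 : chkW tab av 6 6 0 0 [48, 45, 53, 41, 46, 42, 47, 36, 25, 27, 28, 30, 31, 33, 34, 13, 16, 17, 18, 19, 21, 0, 1, 2, 6, 9, 10, 52, 38, 49] = true := by
  decide +kernel

theorem r177 : chkR tab av 6 6 0 0 [45, 53, 49, 53] [26, 27, 29, 30, 34, 35, 13, 14, 16, 18, 19, 20] [45, 53, 49, 53] = true := by
  decide +kernel

theorem r286 : chkR tab av 9 10 0 0 [43, 42, 53, 11] [36, 49, 39, 49, 42, 31, 34, 12, 15, 16, 19, 20, 21, 23, 0, 1, 2, 3, 4, 5, 6, 9, 10, 24] [44, 53] = true := by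
  decide +kernel

theorem r9 : chkR tab av 1 1 0 0 [39, 53] [46, 49, 39, 49, 51, 27, 35, 0, 8] [39, 53, 11] = true := by
  decide +kernel

theorem g5 : chkW tab av 2 2 0 0 [40, 38, 53, 27, 15, 2, 5, 6, 9, 11, 52, 33, 36, 43] = true := by
  decide +kernel

theorem r40 : chkR tab av 3 3 0 0 [46, 39, 53, 11] [30, 31, 14, 15, 17, 20, 2, 3, 5, 6, 8] [46, 39, 53] = true := by
  decide +kernel

theorem x2 : chkW tab av 0 12 0 0 ([27] ++ [37, 47, 50, 46, 49, 36, 11, 54]) = true := by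
  decide +kernel

theorem r61 : chkR tab av 4 4 0 0 [50, 53] [28, 30, 31, 33, 34, 35, 12, 13, 14, 15, 17, 19, 21] [50, 53] = true := by
  decide +kernel

theorem a11 : chkW tab av 4 11 0 2 [51, 53, 39, 53, 54] = true := by
  decide +kernel

theorem r148 : chkR tab av 6 6 0 0 [11] [46, 46, 40, 36, 50, 30, 31, 20, 0, 1, 2, 3, 4, 7, 8, 9] [11] = true := by
  decide +kernel

theorem s0 : chkS tab av 0 0 [46, 53, 45] 128 128 = true := by
  decide +kernel

theorem s16 : chkS tab av 3 0 [45, 53, 36] 96 96 = true := by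
  decide +kernel

theorem s46 : chkS tab av 6 0 [48, 53, 48] 96 96 = true := by
  decide +kernel

theorem s81 : chkS tab av 8 0 [53, 43] 96 96 = true := by
  decide +kernel

theorem s102 : chkS tab av 10 0 [53, 41] 80 80 = true := by
  decide +kernel

theorem s113 : chkS tab av 11 0 [46, 39] 128 64 = true := by
  decide +kernel

theorem s64 : chkS tab av 7 0 [47] 208 128 = true := by
  decide +kernel

theorem s89 : chkS tab av 9 0 [40] 64 80 = true := by
  decide +kernel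

theorem s32 : chkS tab av 5 0 [45] 80 80 = true := by
  decide +kernel

theorem s54 : chkS tab av 6 0 [] 80 64 = true := by
  decide +kernel

end CfsgMO.Ck
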