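/-
Checks for the axes, part 10.
-/
import Cfsg.Agent.MO.AxD

set_option autoImplicit false
set_option Elab.async false
set_option maxRecDepth 100000

namespace CfsgMO.Ck

theorem r19 : chkR tab av 2 2 0 0 [53, 42, 53, 11] [42, 40, 37, 46, 49, 35, 12, 15, 16, 17, 1, 3, 8, 10] [53, 42, 53] = true := by
  decide +kernel

theorem x19 : chkW tab av 0 0 0 0 [39, 42, 43, 47, 38, 13, 14, 18, 2, 4, 5, 7, 8, 24, 54, 52, 25, 31, 51, 45, 43, 53, 31, 46, 49, 49, 54, 52, 42, 41, 36, 54, 53, 31, 28, 36, 40, 49, 53, 54] = true := by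
  decide +kernel

theorem r128 : chkR tab av 5 8 0 0 [53, 49, 53, 39, 53, 11] [39, 36, 39, 50, 50, 48, 25, 26, 28, 30, 34, 35, 12, 13, 14, 16, 17, 18, 19, 20, 21, 22, 0, 1, 4, 7, 8, 24] [39, 53, 39, 53] = true := by
  decide +kernel

theorem r260 : chkR tab av 8 10 0 0 [39, 53, 46, 53, 11] [37, 47, 42, 42, 46, 41, 44, 51, 25, 27, 29, 30, 35, 13, 16, 23, 0, 1, 2, 3, 4, 5, 8, 24] [47, 53, 41, 53] = true := by
  decide +kernel

theorem r24 : chkR tab av 2 5 0 4 [53, 49, 53, 39, 53] [38, 39, 51, 38, 50, 13, 15, 18, 19, 20, 21, 23, 1, 3, 4, 6, 7, 24] [] = true := by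
  decide +kernel

theorem r249 : chkR tab av 8 10 0 0 [47, 53, 41, 53, 11] [42, 36, 39, 41, 44, 48, 42, 26, 27, 29, 31, 32, 14, 16, 17, 18, 19, 20, 22, 23, 1, 2, 3, 6, 7, 8, 24] [41, 53, 46, 53, 11] = true := by
  decide +kernel

theorem r248 : chkR tab av 8 10 0 0 [49, 53, 49, 53, 11] [42, 42, 47, 38, 36, 41, 37, 26, 29, 31, 34, 35, 14, 17, 19, 20, 21, 23, 0, 5, 6, 7, 8, 9] [42, 53, 46, 53] = true := by
  decide +kernel

theorem r185 : chkR tab av 7 7 0 0 [51, 53, 45, 53, 11] [43, 47, 49, 40, 46, 27, 29, 14, 15, 16, 17, 20, 21, 2, 3, 6, 7, 8] [51, 53, 45, 53] = true := by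
  decide +kernel

theorem r273 : chkR tab av 8 9 0 0 [43, 32, 53, 41, 53, 11] [40, 37, 48, 51, 40, 46, 25, 28, 29, 30, 33, 35, 12, 13, 14, 17, 20, 21, 22, 3, 4, 7, 9, 10, 24] [44, 53, 50, 53] = true := by
  decide +kernel

theorem r228 : chkR tab av 8 10 0 0 [53, 45, 53, 11] [38, 48, 44, 44, 41, 50, 40, 26, 27, 31, 33, 34, 35, 14, 15, 19, 20, 22, 23, 1, 2, 3, 7, 9, 24] [38, 53, 41, 53] = true := by
  decide +kernel

theorem r247 : chkR tab av 8 8 0 0 [49, 53, 49, 53] [41, 47, 43, 37, 38, 47, 27, 30, 31, 13, 14, 18, 19, 22, 0, 2, 3, 4, 5, 6, 7, 8, 10, 24] [49, 53, 38, 53] = true := by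
  decide +kernel

theorem r161 : chkR tab av 6 8 1 1 [44, 53, 49, 53, 11] [43, 44, 44, 43, 43, 49, 34, 20, 21, 22, 0, 1, 2, 4, 5, 7, 10] [46, 41, 53, 11] = true := by
  decide +kernel

theorem r54 : chkR tab av 3 8 0 1 [40, 53, 41, 53, 11] [46, 43, 46, 43, 25, 27, 28, 33, 12, 14, 18, 20, 22, 0, 1, 2, 5, 6, 7, 8, 9, 24] [43, 38, 39, 53, 11] = true := by
  decide +kernel

theorem r52 : chkR tab av 3 6 0 1 [46, 53, 41, 53, 11] [50, 37, 42, 41, 51, 33, 34, 35, 12, 13, 14, 16, 18, 22, 0, 1, 2, 4, 9] [46, 44, 53] = true := by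
  decide +kernel

theorem r4 : chkR tab av 0 2 0 0 [44, 53, 43, 53] [46, 48, 41, 36, 36, 16, 0, 1, 2, 3, 5, 8, 10] [] = true := by
  decide +kernel

theorem r221 : chkR tab av 8 10 0 0 [53, 36, 53, 11] [37, 50, 50, 38, 42, 48, 26, 30, 32, 35, 12, 13, 14, 16, 18, 19, 23, 0, 2, 3, 6, 7] [53, 51, 53] = true := by
  decide +kernel

theorem r174 : chkR tab av 6 5 0 0 [39, 53, 47, 53, 11] [43, 41, 44, 39, 40, 27, 35, 12, 19, 20, 21, 23, 0, 6, 7, 8, 9, 24] [53, 40, 53] = true := by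
  decide +kernel

theorem r170 : chkR tab av 6 10 0 0 [46, 53, 41, 53] [36, 37, 42, 36, 49, 46, 28, 30, 33, 35, 12, 13, 15, 18, 19, 20, 21, 23, 0, 1, 3, 4, 8, 9, 24] [45, 53, 11] = true := by
  decide +kernel

theorem r109 : chkR tab av 5 8 0 0 [41, 53, 46, 53, 11] [37, 43, 50, 43, 49, 39, 25, 29, 34, 13, 14, 15, 16, 17, 19, 21, 23, 1, 2, 3, 4, 6, 7, 8, 10, 24] [44, 53] = true := by
  decide +kernel

theorem r278 : chkR tab av 8 8 0 0 [50, 36, 35, 53, 51, 53, 11] [27, 28, 29, 32, 34, 35, 15, 16, 17, 20, 22] [50, 36, 35, 53, 51, 53, 11] = true := by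
  decide +kernel

theorem r332 : chkR tab av 11 8 1 0 [44, 53] [46, 51, 46, 41, 38, 26, 27, 30, 33, 35, 12, 14, 15, 17, 18, 20, 21, 23, 1, 3, 4, 6, 7, 24] [53, 50, 44, 53, 11] = true := by
  decide +kernel

theorem r15 : chkR tab av 2 2 0 0 [53] [43, 37, 40, 47, 40, 28, 33, 14, 15, 17, 2, 6, 9, 10] [53] = true := by
  decide +kernel

theorem r78 : chkR tab av 4 11 0 2 [51, 53, 39, 53, 11] [38, 42, 36, 37, 44, 48, 25, 28, 29, 12, 14, 15, 16, 17, 21, 22, 1, 3, 9, 10] [] = true := by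
  decide +kernel

theorem g30 : chkW tab av 10 10 0 0 [43, 49, 53, 46, 39, 38, 42, 48, 42, 26, 28, 30, 33, 34, 13, 14, 16, 18, 21, 23, 1, 2, 4, 5, 7, 8, 10, 52, 50, 39] = true := by
  decide +kernel

theorem r202 : chkR tab av 8 9 0 0 [45, 53] [36, 36, 37, 47, 48, 43, 26, 28, 30, 31, 33, 34, 35, 12, 14, 16, 23, 0, 2, 4, 5, 9, 24] [50, 53, 11] = true := by
  decide +kernel

theorem g13 : chkW tab av 5 5 0 0 [51, 40, 53, 43, 39, 51, 40, 36, 27, 28, 30, 34, 35, 17, 19, 20, 21, 23, 0, 1, 2, 3, 5, 6, 9, 11, 52, 33, 39, 49] = true := by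
  decide +kernel

theorem r335 : chkR tab av 11 11 0 0 [43, 48, 53, 11] [38, 38, 48, 37, 39, 38, 26, 28, 29, 34, 35, 13, 14, 16, 20, 21, 23, 2, 5, 7, 9, 10] [43, 48, 53, 11] = true := by
  decide +kernel

theorem g12 : chkW tab av 5 5 0 0 [44, 50, 53, 50, 43, 46, 40, 51, 27, 28, 30, 12, 14, 15, 18, 19, 20, 0, 1, 7, 8, 9, 52, 33, 39, 49] = true := by
  decide +kernel

theorem g32 : chkW tab av 11 11 0 0 [49, 53, 42, 47, 42, 42, 48, 49, 48, 26, 27, 30, 32, 34, 35, 13, 17, 21, 3, 5, 6, 8, 11, 52, 33, 49] = true := by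
  decide +kernel

theorem r12 : chkR tab av 1 4 0 0 [48, 53, 49, 53] [41, 41, 41, 12, 15, 17, 18, 19, 1, 2, 3, 4] [] = true := by
  decide +kernel

theorem r305 : chkR tab av 10 10 0 0 [47, 49, 53] [25, 26, 28, 33, 34, 35, 12, 14, 16, 21, 22] [47, 49, 53] = true := by
  decide +kernel

theorem s9 : chkS tab av 2 0 [53, 39, 53, 51] 80 80 = true := by
  decide +kernel

theorem r14 : chkR tab av 2 2 0 0 [11] [49, 42, 46, 47, 16, 0, 1, 2, 3, 5, 7, 8, 10] [11] = true := by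
  decide +kernel

theorem r60 : chkR tab av 4 4 0 0 [53] [27, 30, 33, 14, 17, 20] [53] = true := by
  decide +kernel

theorem s37 : chkS tab av 5 0 [53, 49, 53, 49] 80 96 = true := by
  decide +kernel

theorem s21 : chkS tab av 3 0 [48, 53, 50] 80 208 = true := by
  decide +kernel

theorem s48 : chkS tab av 6 0 [40, 53, 51] 64 64 = true := by
  decide +kernel

theorem s80 : chkS tab av 8 0 [32, 53, 42] 80 64 = true := by
  decide +kernel

theorem s61 : chkS tab av 7 0 [51, 45] 0 208 = true := by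
  decide +kernel

theorem s55 : chkS tab av 6 0 [49, 38, 27] 0 80 = true := by
  decide +kernel

theorem s108 : chkS tab av 10 0 [45, 27] 96 128 = true := by
  decide +kernel

theorem s99 : chkS tab av 10 0 [45] 64 96 = true := by
  decide +kernel

theorem s67 : chkS tab av 8 0 [45] 64 96 = true := by
  decide +kernel

theorem s3 : chkS tab av 0 0 [27] 0 0 = true := by
  decide +kernel

end CfsgMO.Ck
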