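/-
Checks for the axes, part 11.
-/
import Cfsg.Agent.MO.AxD

set_option autoImplicit false
set_option Elab.async false
set_option maxRecDepth 100000

namespace CfsgMO.Ck

theorem r143 : chkR tab av 5 5 0 0 [53, 40, 53, 36, 53] [41, 36, 50, 43, 47, 46, 30, 31, 32, 34, 35, 12, 13, 14, 15, 16, 22, 0, 1, 2, 3, 6, 9, 10, 24] [53, 30, 47, 53, 41, 53, 11] = true := by
  decide +kernel

theorem r131 : chkR tab av 5 5 0 0 [53, 48, 53, 48, 53] [48, 36, 40, 38, 42, 37, 25, 26, 27, 28, 30, 31, 33, 12, 13, 16, 17, 19, 20, 4, 5, 10] [53, 48, 53, 48, 53] = true := by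
  decide +kernel

theorem x6 : chkW tab av 1 12 3 0 ([40] ++ [48, 44, 38, 42, 38, 0, 4, 6, 8, 9, 54, 52, 42, 41, 36, 53, 54]) = true := by
  decide +kernel

theorem r144 : chkR tab av 5 10 0 0 [53, 40, 53, 36, 53, 11] [40, 46, 44, 50, 38, 42, 31, 32, 33, 35, 14, 15, 17, 19, 21, 2, 4, 5, 6, 7, 8, 10] [40, 53, 45, 53] = true := by
  decide +kernel

theorem r101 : chkR tab av 5 6 1 1 [53, 47, 53, 11] [44, 50, 44, 51, 48, 38, 27, 28, 33, 34, 35, 12, 15, 20, 21, 23, 3, 5, 6, 7, 8, 9, 10] [44, 53, 49, 53] = true := by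
  decide +kernel

theorem r325 : chkR tab av 10 10 0 0 [51, 53, 49, 53] [40, 43, 36, 40, 50, 37, 47, 25, 27, 28, 30, 32, 35, 13, 16, 17, 18, 20, 21, 23, 4, 7, 8, 9] [47, 53, 51, 53, 11] = true := by
  decide +kernel

theorem r290 : chkR tab av 9 5 0 0 [44, 53, 43, 53, 11] [46, 47, 49, 43, 43, 25, 27, 29, 35, 12, 15, 16, 17, 19, 21, 22, 23, 1, 2, 3, 4, 8] [53, 51, 53, 41, 53, 11] = true := by
  decide +kernel

theorem r255 : chkR tab av 8 8 0 0 [42, 53, 47, 53, 11] [36, 36, 42, 36, 42, 49, 36, 28, 29, 33, 34, 12, 13, 15, 17, 18, 21, 23, 0, 4, 7, 24] [47, 53, 36, 53] = true := by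
  decide +kernel

theorem r250 : chkR tab av 8 8 0 0 [39, 53, 39, 53, 11] [48, 36, 47, 42, 44, 49, 26, 27, 29, 30, 31, 34, 35, 12, 14, 15, 16, 20, 0, 1, 4, 5, 7, 10, 24] [43, 53, 36, 53] = true := by
  decide +kernel

theorem r299 : chkR tab av 9 9 0 0 [51, 53, 49, 53, 11] [39, 40, 44, 48, 42, 48, 25, 26, 27, 30, 33, 34, 14, 15, 16, 19, 23, 4, 5, 6, 7] [51, 53, 49, 53] = true := by
  decide +kernel

theorem g1 : chkW tab av 0 0 0 0 [46, 51, 53, 47, 51, 47, 41, 39, 29, 34, 35, 52, 33, 43, 47] = true := by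
  decide +kernel

theorem r294 : chkR tab av 9 10 0 0 [47, 53, 36, 53] [47, 47, 41, 40, 38, 41, 25, 29, 33, 12, 13, 15, 17, 21, 22, 3, 5, 7, 10] [45, 53, 43, 53] = true := by
  decide +kernel

theorem r230 : chkR tab av 8 10 0 0 [53, 41, 53, 11] [39, 41, 50, 40, 41, 48, 26, 27, 28, 29, 14, 15, 16, 17, 21, 22, 0, 4, 7, 9, 10, 24] [51, 33, 53, 49, 53] = true := by
  decide +kernel

theorem r188 : chkR tab av 7 9 0 1 [40, 53, 42, 53] [39, 50, 43, 36, 38, 25, 30, 12, 13, 18, 19, 20, 21, 22, 23, 0, 3, 4, 5, 6, 24] [48, 42, 53, 11] = true := by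
  decide +kernel

theorem r238 : chkR tab av 8 9 0 0 [45, 53, 43, 53, 11] [43, 49, 38, 36, 25, 28, 31, 34, 35, 13, 14, 15, 16, 19, 21, 23, 2, 6, 10, 24] [49, 53, 49, 53] = true := by
  decide +kernel

theorem r65 : chkR tab av 4 6 0 1 [53, 36, 53] [39, 41, 43, 42, 47, 41, 30, 31, 34, 35, 15, 17, 18, 20, 22, 2, 3, 5, 6, 7, 9, 10] [45, 53, 11] = true := by
  decide +kernel

theorem r123 : chkR tab av 5 9 0 0 [50, 53, 44, 53] [36, 47, 36, 41, 48, 27, 28, 29, 31, 32, 34, 12, 13, 16, 17, 18, 20, 21, 23, 1, 2, 3, 5, 6, 8, 9, 10] [46, 44, 53, 11] = true := by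
  decide +kernel

theorem r169 : chkR tab av 6 9 0 0 [38, 53, 48, 53, 11] [36, 39, 41, 37, 49, 27, 28, 30, 33, 34, 15, 16, 19, 20, 21, 23, 1, 3, 4, 6, 8, 10] [36, 47, 53] = true := by
  decide +kernel

theorem r218 : chkR tab av 8 8 0 0 [38, 43, 47, 53, 11] [49, 48, 37, 51, 46, 27, 28, 34, 35, 12, 13, 15, 16, 17, 21, 0, 1, 3, 5, 7, 9, 10, 24] [38, 43, 47, 53, 11] = true := by
  decide +kernel

theorem r89 : chkR tab av 5 9 0 0 [53, 42, 53] [49, 44, 50, 51, 50, 26, 28, 29, 30, 31, 35, 12, 14, 15, 16, 19, 21, 0, 2, 5, 6, 7, 9, 10, 24] [51, 46, 53] = true := by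
  decide +kernel

theorem g6 : chkW tab av 3 3 0 0 [43, 38, 33, 53, 49, 48, 37, 49, 47, 40, 27, 30, 31, 13, 14, 17, 20, 22, 52, 42, 48] = true := by
  decide +kernel

theorem g9 : chkW tab av 4 4 0 0 [41, 47, 33, 53, 41, 48, 43, 43, 38, 30, 31, 33, 34, 13, 14, 16, 17, 18, 20, 4, 6, 8, 10, 24, 52, 49, 42] = true := by
  decide +kernel

theorem g10 : chkW tab av 4 4 0 0 [39, 51, 33, 53, 40, 38, 42, 41, 48, 49, 30, 31, 33, 34, 13, 18, 2, 5, 8, 9, 52, 51] = true := by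
  decide +kernel

theorem r288 : chkR tab av 9 9 0 0 [50, 40, 53, 11] [43, 44, 41, 36, 51, 27, 30, 31, 32, 33, 12, 13, 14, 15, 2, 3, 5, 8, 9, 24] [50, 40, 53, 11] = true := by
  decide +kernel

theorem r172 : chkR tab av 6 6 0 0 [48, 53, 38, 53] [25, 27, 28, 29, 33, 34, 35, 12, 14, 16, 17, 19, 22, 23, 24] [48, 53, 38, 53] = true := by
  decide +kernel

theorem r178 : chkR tab av 6 6 0 0 [45, 53, 49, 53, 11] [25, 26, 29, 31, 33, 20, 21, 22, 23, 0, 2, 5, 6, 8, 9, 10] [45, 53, 49, 53] = true := by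
  decide +kernel

theorem r37 : chkR tab av 3 4 0 0 [42, 53, 11] [44, 37, 43, 37, 51, 33, 35, 13, 14, 16, 19, 21, 22, 3, 8, 9] [50, 53, 11] = true := by
  decide +kernel

theorem r11 : chkR tab av 1 3 0 0 [44, 53, 43, 53, 11] [44, 47, 36, 43, 42, 12, 13, 15, 16, 3, 5] [] = true := by
  decide +kernel

theorem r83 : chkR tab av 5 6 0 0 [50, 53] [38, 39, 39, 50, 44, 25, 27, 35, 12, 14, 17, 20, 23, 0, 1, 2, 5, 8] [36, 53, 11] = true := by
  decide +kernel

theorem g35 : chkW tab av 11 11 0 0 [50, 53, 36, 42, 36, 38, 36, 37, 25, 26, 28, 32, 33, 34, 12, 14, 15, 18, 19, 20, 21, 22, 0, 1, 3, 4, 5, 7, 9, 10, 11, 24, 52, 39] = true := by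
  decide +kernel

theorem r209 : chkR tab av 8 8 0 0 [43, 42, 53, 11] [25, 26, 28, 29, 12, 13, 15, 19, 22] [43, 42, 53, 11] = true := by
  decide +kernel

theorem s11 : chkS tab av 2 0 [53, 41, 53, 45] 208 208 = true := by
  decide +kernel

theorem r43 : chkR tab av 3 8 0 1 [42, 53, 47, 53] [] [] = true := by
  decide +kernel

theorem r150 : chkR tab av 6 6 0 0 [45, 53] [33, 12, 13, 14, 15, 18, 20] [45, 53] = true := by
  decide +kernel

theorem s12 : chkS tab av 2 0 [53, 41] 64 64 = true := by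
  decide +kernel

theorem s59 : chkS tab av 7 0 [45, 53, 36] 80 80 = true := by
  decide +kernel

theorem s90 : chkS tab av 9 0 [41, 53, 38] 80 80 = true := by
  decide +kernel

theorem s31 : chkS tab av 5 0 [46, 53, 45] 80 96 = true := by
  decide +kernel

theorem s20 : chkS tab av 3 0 [36, 45] 128 64 = true := by
  decide +kernel

theorem s88 : chkS tab av 9 0 [40, 39] 80 128 = true := by
  decide +kernel

theorem s8 : chkS tab av 2 0 [45] 128 512 = true := by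
  decide +kernel

theorem s96 : chkS tab av 9 0 [39] 80 80 = true := by
  decide +kernel

theorem s52 : chkS tab av 6 0 [49] 64 80 = true := by
  decide +kernel

theorem s77 : chkS tab av 8 0 [] 96 128 = true := by
  decide +kernel

theorem s105 : chkS tab av 10 0 [] 80 80 = true := by
  decide +kernel

end CfsgMO.Ck
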