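/-
Checks for the axes, part 2.
-/
import Cfsg.Agent.MO.AxD

set_option autoImplicit false
set_option Elab.async false
set_option maxRecDepth 100000

namespace CfsgMO.Ck

theorem x18 : chkW tab av 6 12 4 0 ([49, 38, 27] ++ [39, 42, 43, 47, 38, 13, 14, 18, 2, 4, 5, 7, 8, 24, 54, 52, 25, 31, 51, 45, 43, 53, 31, 46, 49, 49, 54, 52, 42, 41, 36, 54, 53, 31, 28, 36, 40, 49, 53, 54]) = true := by
  decide +kernel

theorem x10 : chkW tab av 1 12 3 0 ([] ++ [2, 42, 42, 47, 36, 36, 1, 2, 5, 54, 52, 51, 49, 39, 43, 53, 54]) = true := by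
  decide +kernel

theorem r26 : chkR tab av 2 6 0 4 [53, 43, 53, 45, 53] [42, 44, 48, 38, 38, 30, 31, 12, 14, 15, 20, 22, 1, 5, 7, 9, 10] [] = true := by
  decide +kernel

theorem r246 : chkR tab av 8 10 0 0 [51, 53, 45, 53, 11] [37, 46, 40, 44, 44, 41, 51, 27, 28, 29, 32, 33, 34, 35, 12, 13, 14, 15, 16, 18, 19, 1, 2, 3, 4, 5, 9, 24] [41, 53, 46, 53] = true := by
  decide +kernel

theorem r321 : chkR tab av 10 8 0 0 [42, 53, 47, 53, 11] [39, 50, 38, 47, 42, 42, 38, 25, 26, 28, 29, 31, 34, 12, 14, 15, 19, 20, 21, 22, 0, 1, 3, 9] [41, 53, 46, 53] = true := by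
  decide +kernel

theorem r134 : chkR tab av 5 9 0 0 [53, 51, 53, 41, 53, 11] [51, 51, 41, 39, 38, 28, 30, 32, 35, 13, 14, 15, 16, 18, 20, 23, 1, 2, 7, 8, 10, 24] [44, 53, 43, 53] = true := by
  decide +kernel

theorem r253 : chkR tab av 8 10 0 0 [49, 53, 38, 53, 11] [51, 49, 42, 43, 40, 49, 47, 26, 27, 28, 31, 13, 15, 21, 22, 23, 1, 2, 4, 6, 9, 10] [42, 53, 46, 53, 11] = true := by
  decide +kernel

theorem r329 : chkR tab av 10 10 0 0 [28, 51, 53, 49, 53, 11] [48, 47, 50, 38, 40, 41, 25, 26, 27, 33, 12, 13, 14, 16, 18, 19, 21, 23, 0, 3, 6, 7, 8, 9, 24] [28, 51, 53, 49, 53, 11] = true := by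
  decide +kernel

theorem r224 : chkR tab av 8 10 0 0 [53, 47, 53] [48, 44, 46, 47, 51, 39, 41, 25, 28, 29, 30, 32, 35, 12, 14, 19, 2, 3, 5, 6, 8, 10] [39, 53, 47, 53] = true := by
  decide +kernel

theorem r222 : chkR tab av 8 10 0 0 [53, 51, 53] [38, 41, 48, 41, 48, 47, 38, 25, 27, 28, 29, 33, 15, 22, 3, 5, 6, 7, 8, 10] [44, 53, 43, 53] = true := by
  decide +kernel

theorem r308 : chkR tab av 10 10 0 0 [53, 36, 53] [40, 41, 51, 39, 51, 48, 43, 25, 26, 27, 30, 34, 35, 12, 13, 14, 15, 16, 17, 18, 19, 20, 22, 4, 7, 24] [53, 36, 53, 11] = true := by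
  decide +kernel

theorem r189 : chkR tab av 7 9 0 1 [40, 53, 42, 53, 11] [51, 40, 41, 48, 39, 27, 29, 30, 35, 17, 18, 19, 20, 21, 22, 0, 1, 4, 5, 10] [48, 42, 53, 11] = true := by
  decide +kernel

theorem r328 : chkR tab av 10 11 0 1 [28, 51, 53, 49, 53] [48, 37, 36, 38, 40, 37, 27, 29, 30, 31, 32, 33, 34, 14, 17, 19, 20, 22, 4, 5, 6, 7, 8, 9, 10, 24] [51, 44, 53, 11] = true := by
  decide +kernel

theorem r113 : chkR tab av 5 11 0 1 [51, 53, 45, 53, 11] [36, 49, 36, 46, 40, 49, 25, 28, 30, 31, 32, 35, 12, 15, 20, 23, 3, 6, 9, 10, 24] [43, 48, 53] = true := by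
  decide +kernel

theorem r283 : chkR tab av 9 6 1 1 [48, 53] [49, 39, 43, 48, 47, 25, 28, 29, 30, 35, 12, 13, 16, 21, 0, 4, 6, 9] [44, 53, 45, 53] = true := by
  decide +kernel

theorem r67 : chkR tab av 4 5 0 1 [53, 39, 53] [49, 36, 48, 39, 46, 49, 28, 31, 13, 21, 22, 23, 4, 5, 6, 9, 10] [46, 53, 11] = true := by
  decide +kernel

theorem r114 : chkR tab av 5 8 0 0 [39, 53, 45, 53] [47, 47, 44, 46, 47, 25, 26, 27, 28, 29, 30, 32, 33, 34, 35, 14, 18, 19, 21, 22, 0, 2, 3, 4, 6, 8, 24] [50, 53] = true := by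
  decide +kernel

theorem r93 : chkR tab av 5 8 0 0 [53, 48, 53] [44, 40, 50, 49, 36, 39, 29, 31, 33, 35, 18, 23, 2, 4, 5, 6, 7, 9, 10, 24] [50, 36, 53, 11] = true := by
  decide +kernel

theorem r72 : chkR tab av 4 10 0 1 [41, 53, 46, 53, 11] [43, 48, 46, 50, 50, 27, 28, 35, 15, 16, 17, 19, 22, 4, 9] [53, 11] = true := by
  decide +kernel

theorem g7 : chkW tab av 3 3 0 0 [43, 49, 53, 38, 44, 38, 40, 41, 38, 25, 30, 12, 13, 14, 18, 21, 2, 3, 6, 8, 10, 52, 42, 48] = true := by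
  decide +kernel

theorem r212 : chkR tab av 8 8 0 0 [50, 36, 53] [46, 46, 44, 40, 49, 48, 27, 28, 35, 12, 13, 14, 17, 21, 0, 5, 6, 9, 10, 24] [50, 36, 53] = true := by
  decide +kernel

theorem r49 : chkR tab av 3 10 0 1 [47, 53, 51, 53] [49, 49, 40, 39, 37, 43, 26, 27, 33, 12, 13, 18, 19, 21, 22, 23, 1, 4, 7, 10, 24] [] = true := by
  decide +kernel

theorem r32 : chkR tab av 3 3 0 0 [39, 53] [38, 42, 37, 39, 42, 51, 34, 15, 16, 19, 20, 21, 5, 6, 9, 10] [39, 53] = true := by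
  decide +kernel

theorem r207 : chkR tab av 8 9 0 0 [39, 53] [36, 39, 49, 47, 47, 48, 25, 26, 28, 30, 31, 33, 34, 12, 15, 17, 20, 21, 23, 1, 2, 3, 5, 6, 8, 9, 10] [36, 53] = true := by
  decide +kernel

theorem r35 : chkR tab av 3 3 0 0 [36, 53, 11] [37, 41, 37, 49, 37, 26, 27, 28, 14, 15, 16, 17, 22, 23, 2, 5] [36, 53, 11] = true := by
  decide +kernel

theorem r204 : chkR tab av 8 8 0 0 [51, 53, 11] [41, 51, 51, 48, 50, 30, 31, 32, 33, 35, 12, 17, 22, 23, 1, 4, 6, 10, 24] [50, 44, 53] = true := by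
  decide +kernel

theorem r200 : chkR tab av 8 10 0 0 [44, 53, 11] [41, 43, 40, 44, 48, 26, 28, 29, 30, 32, 33, 35, 13, 15, 16, 17, 19, 22, 23, 0, 1, 2, 3, 4, 5, 7, 8, 10] [36, 53, 11] = true := by
  decide +kernel

theorem r231 : chkR tab av 8 8 0 0 [53, 44, 53, 11] [25, 26, 28, 29, 31, 34, 13, 15, 16, 18, 19, 20, 21, 23, 24] [53, 44, 53, 11] = true := by
  decide +kernel

theorem r219 : chkR tab av 8 8 0 0 [43, 38, 39, 53] [25, 30, 33, 14, 15, 16, 17, 19, 20, 22] [43, 38, 39, 53] = true := by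
  decide +kernel

theorem r289 : chkR tab av 9 9 0 0 [51, 49, 33, 53, 11] [30, 33, 34, 12, 13, 14, 15, 16, 17, 23, 24] [51, 49, 33, 53, 11] = true := by
  decide +kernel

theorem r48 : chkR tab av 3 9 0 1 [43, 53, 49, 53, 11] [25, 27, 31, 13, 14, 15, 16, 17, 0, 2, 6] [] = true := by
  decide +kernel

theorem r88 : chkR tab av 5 5 0 0 [39, 53] [31, 35, 12, 13, 19, 2, 4, 6, 7, 8, 9, 10] [39, 53, 11] = true := by
  decide +kernel

theorem r182 : chkR tab av 7 7 0 0 [11] [49, 46, 48, 44, 43, 28, 15, 17, 20, 22, 2, 3, 4, 5, 6, 7, 8] [11] = true := by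
  decide +kernel

theorem s10 : chkS tab av 2 0 [53, 50] 128 128 = true := by
  decide +kernel

theorem s57 : chkS tab av 7 0 [48, 53, 48] 96 96 = true := by
  decide +kernel

theorem s87 : chkS tab av 9 0 [45, 53, 36] 128 128 = true := by
  decide +kernel

theorem s100 : chkS tab av 10 0 [40, 53, 51] 80 80 = true := by
  decide +kernel

theorem s19 : chkS tab av 3 0 [47, 50] 64 0 = true := by
  decide +kernel

theorem s76 : chkS tab av 8 0 [44, 42] 80 128 = true := by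
  decide +kernel

theorem s1 : chkS tab av 0 0 [38] 512 512 = true := by
  decide +kernel

theorem s92 : chkS tab av 9 0 [50] 80 80 = true := by
  decide +kernel

theorem s49 : chkS tab av 6 0 [40] 64 208 = true := by
  decide +kernel

theorem s7 : chkS tab av 1 0 [] 512 0 = true := by
  decide +kernel

end CfsgMO.Ck
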