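/-
Checks for the axes, part 3.
-/
import Cfsg.Agent.MO.AxD

set_option autoImplicit false
set_option Elab.async false
set_option maxRecDepth 100000

namespace CfsgMO.Ck

theorem x16 : chkW tab av 4 12 3 0 ([40, 44] ++ [2, 38, 51, 46, 49, 44, 37, 12, 15, 17, 19, 20, 1, 2, 3, 4, 5, 8, 10, 54, 53, 45, 49, 50, 47, 52, 42, 41, 36, 54, 53, 31, 28, 36, 40, 49, 53, 54]) = true := by
  decide +kernel

theorem x8 : chkW tab av 1 12 3 0 ([40] ++ [2, 38, 51, 39, 46, 41, 0, 2, 3, 4, 8, 9, 10, 54, 52, 42, 41, 36, 53, 54]) = true := by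
  decide +kernel

theorem r136 : chkR tab av 5 10 0 0 [53, 50, 53, 48, 53, 11] [46, 36, 38, 48, 38, 39, 26, 29, 31, 32, 35, 12, 15, 16, 18, 21, 22, 23, 1, 3, 6, 7, 9, 10] [51, 53, 39, 53, 11] = true := by
  decide +kernel

theorem g0 : chkW tab av 0 0 0 0 [51, 36, 33, 53, 47, 41, 44, 41, 40, 43, 27, 29, 35, 52, 33, 43, 47] = true := by
  decide +kernel

theorem r252 : chkR tab av 8 10 0 0 [48, 53, 41, 53, 11] [48, 49, 38, 38, 44, 39, 46, 26, 28, 29, 30, 31, 33, 16, 18, 20, 23, 3, 4, 5, 6, 7, 8, 9, 10, 24] [40, 53, 42, 53, 11] = true := by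
  decide +kernel

theorem r241 : chkR tab av 8 8 0 0 [46, 53, 36, 53] [42, 37, 39, 50, 36, 49, 39, 25, 26, 27, 32, 33, 35, 13, 14, 17, 19, 21, 1, 3, 4, 5, 24] [46, 53, 36, 53, 11] = true := by
  decide +kernel

theorem r318 : chkR tab av 10 10 0 0 [48, 53, 49, 53] [47, 37, 38, 38, 42, 38, 42, 26, 29, 31, 32, 33, 12, 13, 16, 17, 18, 20, 3, 9, 24] [48, 53, 49, 53] = true := by
  decide +kernel

theorem r271 : chkR tab av 8 8 0 0 [29, 42, 53, 45, 53] [46, 40, 39, 44, 44, 42, 41, 25, 30, 35, 15, 17, 20, 0, 3, 6, 9] [51, 53, 39, 53, 11] = true := by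
  decide +kernel

theorem r291 : chkR tab av 9 10 0 0 [43, 53, 49, 53] [42, 44, 49, 49, 51, 37, 25, 26, 27, 31, 32, 35, 14, 16, 18, 19, 20, 0, 1, 2, 4, 7, 8, 24] [40, 53, 39, 53, 11] = true := by
  decide +kernel

theorem r326 : chkR tab av 10 10 0 0 [45, 53, 43, 53, 11] [41, 43, 47, 43, 49, 43, 27, 30, 32, 35, 13, 14, 16, 20, 21, 22, 23, 1, 5, 7, 9, 10, 24] [45, 53, 43, 53, 11] = true := by
  decide +kernel

theorem r276 : chkR tab av 8 9 0 0 [39, 31, 53, 39, 53, 11] [42, 42, 47, 48, 41, 43, 26, 27, 29, 15, 16, 19, 21, 2, 4, 5, 6, 8] [41, 53, 46, 53] = true := by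
  decide +kernel

theorem r334 : chkR tab av 11 10 1 0 [51, 44, 53] [48, 41, 48, 51, 47, 43, 36, 26, 29, 31, 32, 33, 12, 13, 15, 21, 23, 0, 1, 4, 5, 6, 9, 24] [28, 51, 53, 49, 53] = true := by
  decide +kernel

theorem r236 : chkR tab av 8 10 0 0 [27, 53, 51, 53, 11] [36, 37, 50, 41, 36, 46, 25, 27, 28, 32, 34, 35, 14, 15, 17, 18, 19, 0, 1, 4, 5, 6, 8, 9, 10, 24] [34, 53, 39, 53] = true := by
  decide +kernel

theorem r70 : chkR tab av 4 9 0 1 [39, 53, 39, 53, 11] [44, 39, 42, 41, 26, 27, 29, 31, 33, 34, 12, 19, 23, 0, 2, 3, 5, 8] [51, 49, 33, 53] = true := by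
  decide +kernel

theorem r307 : chkR tab av 10 8 0 0 [53, 51, 53, 11] [38, 44, 47, 41, 43, 38, 26, 28, 32, 33, 35, 14, 15, 17, 20, 0, 3, 6, 10, 24] [53, 36, 53, 11] = true := by
  decide +kernel

theorem r166 : chkR tab av 6 8 0 0 [43, 53, 36, 53] [38, 50, 51, 37, 42, 39, 29, 33, 12, 14, 16, 17, 18, 19, 21, 23, 0, 2, 3, 4, 5, 7, 8] [44, 39, 53, 11] = true := by
  decide +kernel

theorem r157 : chkR tab av 6 8 0 0 [51, 53, 39, 53] [36, 48, 36, 37, 43, 25, 26, 28, 29, 30, 33, 19, 20, 22, 23, 1, 3, 6, 7, 8, 24] [43, 50, 53] = true := by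
  decide +kernel

theorem r94 : chkR tab av 5 8 0 0 [53, 48, 53, 11] [37, 44, 38, 51, 40, 49, 29, 30, 33, 34, 35, 12, 15, 16, 18, 20, 23, 0, 4, 9, 24] [50, 36, 53, 11] = true := by
  decide +kernel

theorem r213 : chkR tab av 8 8 0 0 [45, 49, 53] [46, 50, 48, 51, 50, 37, 40, 30, 34, 13, 14, 15, 17, 18, 22, 23, 0, 2, 4, 6, 9, 10, 24] [45, 49, 53] = true := by
  decide +kernel

theorem r80 : chkR tab av 4 11 0 2 [49, 53, 49, 53, 11] [42, 44, 37, 51, 39, 30, 12, 13, 15, 17, 19, 22, 1, 2, 3, 6, 10, 24] [53, 11] = true := by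
  decide +kernel

theorem g22 : chkW tab av 8 8 0 0 [42, 40, 33, 53, 48, 48, 50, 36, 46, 46, 25, 26, 27, 28, 30, 31, 32, 34, 35, 13, 15, 16, 19, 23, 0, 4, 5, 6, 9, 11, 24, 52, 42, 43] = true := by
  decide +kernel

theorem r154 : chkR tab av 6 7 1 0 [40, 36, 53, 11] [49, 49, 42, 47, 41, 25, 27, 31, 33, 12, 14, 15, 16, 21, 23, 0, 2, 5] [50, 53] = true := by
  decide +kernel

theorem r216 : chkR tab av 8 9 0 0 [51, 49, 53] [49, 38, 51, 44, 44, 25, 26, 27, 30, 31, 33, 17, 20, 23, 3, 4, 8, 9, 24] [46, 44, 53] = true := by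
  decide +kernel

theorem r282 : chkR tab av 9 8 0 0 [43, 53, 11] [44, 50, 44, 44, 41, 40, 25, 30, 33, 34, 13, 18, 20, 23, 2, 3, 4, 5] [45, 49, 53, 11] = true := by
  decide +kernel

theorem g28 : chkW tab av 10 10 0 0 [51, 53, 40, 39, 40, 37, 40, 42, 27, 29, 30, 32, 34, 35, 12, 15, 17, 18, 20, 21, 1, 4, 5, 7, 8, 9, 24, 52, 43, 37] = true := by
  decide +kernel

theorem r237 : chkR tab av 8 8 0 0 [45, 53, 43, 53] [27, 28, 30, 31, 12, 13, 14, 15, 16, 17, 18, 19, 21, 23, 24] [45, 53, 43, 53] = true := by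
  decide +kernel

theorem r215 : chkR tab av 8 10 0 0 [43, 50, 53, 11] [48, 43, 44, 38, 49, 27, 28, 31, 32, 12, 17, 20, 1, 2, 5, 6, 7, 9] [47, 53, 11] = true := by
  decide +kernel

theorem r86 : chkR tab av 5 6 0 0 [48, 53] [41, 44, 40, 42, 44, 25, 30, 31, 32, 35, 12, 13, 14, 15, 17, 18, 22, 0, 6, 8, 9, 10] [48, 53, 11] = true := by
  decide +kernel

theorem r280 : chkR tab av 9 9 0 0 [40, 53, 11] [48, 44, 39, 37, 29, 32, 33, 34, 35, 12, 14, 15, 19, 20, 21, 22, 0, 2, 3, 4, 6, 9, 10] [40, 53, 11] = true := by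
  decide +kernel

theorem x9 : chkW tab av 12 0 0 0 [2, 38, 51, 39, 46, 41, 0, 2, 3, 4, 8, 9, 10, 54, 52, 42, 41, 36, 53, 54] = true := by
  decide +kernel

theorem r285 : chkR tab av 9 9 0 0 [36, 47, 53, 11] [27, 30, 31, 12, 13, 14, 23, 24] [36, 47, 53, 11] = true := by
  decide +kernel

theorem r38 : chkR tab av 3 3 0 0 [44, 53] [30, 33, 12, 13, 14, 15, 17, 19, 20, 24] [44, 53] = true := by
  decide +kernel

theorem r82 : chkR tab av 5 5 0 0 [53] [27, 28, 30, 34, 12, 13, 15, 17, 19, 20, 23] [53] = true := by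
  decide +kernel

theorem a1 : chkW tab av 0 1 0 3 [44, 53, 54] = true := by
  decide +kernel

theorem x5 : chkW tab av 12 0 0 0 [2, 41, 38, 44, 49, 43, 54] = true := by
  decide +kernel

theorem s47 : chkS tab av 6 0 [45, 53, 36] 96 80 = true := by
  decide +kernel

theorem s83 : chkS tab av 8 0 [53, 42] 80 80 = true := by
  decide +kernel

theorem s103 : chkS tab av 10 0 [53, 48] 96 96 = true := by
  decide +kernel

theorem r195 : chkR tab av 8 8 0 0 [11] [27, 30, 34, 12, 13, 15, 18, 22, 23, 24] [11] = true := by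
  decide +kernel

theorem s29 : chkS tab av 4 0 [44] 128 128 = true := by
  decide +kernel

theorem s71 : chkS tab av 8 0 [46] 80 80 = true := by
  decide +kernel

theorem s101 : chkS tab av 10 0 [38] 80 96 = true := by
  decide +kernel

theorem s13 : chkS tab av 2 0 [] 128 0 = true := by
  decide +kernel

end CfsgMO.Ck
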