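/-
Checks for the axes, part 4.
-/
import Cfsg.Agent.MO.AxD

set_option autoImplicit false
set_option Elab.async false
set_option maxRecDepth 100000

namespace CfsgMO.Ck

theorem x14 : chkW tab av 3 12 3 0 ([47, 50] ++ [2, 37, 47, 43, 43, 46, 25, 13, 14, 16, 1, 4, 5, 6, 8, 54, 53, 33, 42, 47, 41, 52, 42, 41, 36, 54, 53, 31, 28, 36, 40, 49, 53, 54]) = true := by
  decide +kernel

theorem r142 : chkR tab av 5 8 0 0 [53, 51, 53, 38, 53, 11] [51, 49, 40, 40, 40, 41, 26, 27, 29, 31, 17, 18, 19, 21, 23, 2, 3, 4, 6, 8, 10] [51, 53, 43, 42, 53] = true := by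
  decide +kernel

theorem r245 : chkR tab av 8 8 0 0 [51, 53, 45, 53] [44, 42, 38, 41, 46, 40, 38, 39, 26, 28, 29, 31, 33, 13, 15, 16, 18, 19, 20, 22, 1, 2, 4, 5, 6, 7, 9, 24] [47, 53, 41, 53] = true := by
  decide +kernel

theorem r190 : chkR tab av 7 5 0 1 [41, 53, 46, 53, 11] [40, 37, 47, 44, 43, 26, 27, 31, 32, 35, 13, 14, 15, 16, 18, 1, 2, 4, 5, 6, 7, 9, 10, 24] [42, 53, 40, 53] = true := by
  decide +kernel

theorem r184 : chkR tab av 7 7 0 0 [51, 53, 45, 53] [46, 42, 48, 47, 50, 26, 29, 30, 32, 34, 14, 16, 18, 19, 0, 5, 6, 8] [51, 53, 45, 53] = true := by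
  decide +kernel

theorem r244 : chkR tab av 8 8 0 0 [51, 53, 39, 53, 11] [47, 50, 48, 44, 38, 48, 41, 27, 28, 32, 34, 35, 12, 13, 15, 17, 21, 1, 2, 8, 9, 10] [29, 42, 53, 45, 53, 11] = true := by
  decide +kernel

theorem r259 : chkR tab av 8 10 0 0 [39, 53, 46, 53] [46, 39, 48, 44, 48, 49, 51, 25, 32, 34, 35, 13, 14, 15, 16, 17, 19, 21, 22, 2, 4, 5, 6, 9] [47, 53, 41, 53] = true := by
  decide +kernel

theorem r116 : chkR tab av 5 8 0 0 [42, 53, 39, 53] [47, 40, 43, 44, 50, 26, 27, 28, 30, 31, 32, 34, 13, 17, 21, 23, 0, 1, 2, 3, 4, 5, 6, 8, 9, 10, 24] [40, 53, 43, 36, 53] = true := by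
  decide +kernel

theorem r323 : chkR tab av 10 10 0 0 [39, 53, 46, 53] [41, 42, 42, 39, 49, 48, 43, 25, 29, 15, 16, 17, 18, 19, 1, 5, 8] [39, 53, 46, 53] = true := by
  decide +kernel

theorem r28 : chkR tab av 2 7 0 3 [53, 42, 53, 38, 53] [48, 46, 50, 37, 13, 18, 19, 20, 22, 0, 3, 6, 8, 9, 10] [] = true := by
  decide +kernel

theorem r176 : chkR tab av 6 10 0 0 [49, 53, 49, 53, 11] [44, 39, 50, 50, 48, 50, 25, 27, 30, 31, 15, 16, 17, 19, 20, 22, 23, 0, 4, 9] [45, 53, 50, 53] = true := by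
  decide +kernel

theorem x15 : chkW tab av 12 0 0 0 [2, 37, 47, 43, 43, 46, 25, 13, 14, 16, 1, 4, 5, 6, 8, 54, 53, 33, 42, 47, 41, 52, 42, 41, 36, 54, 53, 31, 28, 36, 40, 49, 53, 54] = true := by
  decide +kernel

theorem r21 : chkR tab av 2 4 0 3 [53, 47, 53, 11] [51, 48, 36, 49, 28, 30, 13, 17, 18, 21, 3, 4, 6, 8] [53, 11] = true := by
  decide +kernel

theorem r310 : chkR tab av 10 10 0 0 [33, 53, 48, 53] [51, 39, 48, 44, 51, 46, 27, 32, 34, 14, 16, 18, 19, 20, 21, 22, 0, 1, 2, 3, 4, 5, 6, 7, 8, 9] [33, 53, 48, 53] = true := by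
  decide +kernel

theorem r235 : chkR tab av 8 8 0 0 [27, 53, 51, 53] [44, 41, 47, 41, 39, 46, 25, 30, 14, 15, 16, 17, 22, 0, 2, 6, 7, 8, 9, 10, 24] [27, 53, 51, 53] = true := by
  decide +kernel

theorem r194 : chkR tab av 7 9 0 1 [46, 53, 51, 53, 11] [46, 47, 46, 40, 31, 34, 12, 13, 14, 15, 16, 19, 20, 21, 22, 23, 0, 1, 3, 8, 9] [50, 40, 53] = true := by
  decide +kernel

theorem r119 : chkR tab av 5 10 0 0 [53, 42, 45, 53, 11] [43, 43, 41, 47, 50, 47, 25, 27, 30, 31, 32, 33, 13, 15, 20, 22, 0, 1, 2, 5, 6, 7, 9] [42, 53, 11] = true := by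
  decide +kernel

theorem r71 : chkR tab av 4 10 0 1 [41, 53, 46, 53] [41, 40, 38, 44, 42, 26, 33, 34, 35, 13, 14, 15, 16, 18, 19, 20, 23, 0, 2, 6, 7, 8, 24] [53, 11] = true := by
  decide +kernel

theorem r68 : chkR tab av 4 5 0 1 [53, 39, 53, 11] [50, 43, 46, 40, 51, 27, 31, 34, 13, 14, 15, 17, 18, 19, 21, 22, 23, 2, 10] [46, 53, 11] = true := by
  decide +kernel

theorem r287 : chkR tab av 9 9 1 1 [48, 42, 53] [38, 41, 39, 51, 36, 27, 29, 14, 16, 19, 20, 21, 22, 23, 1, 2, 5, 24] [48, 42, 53] = true := by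
  decide +kernel

theorem r156 : chkR tab av 6 8 0 0 [45, 53, 43, 53, 11] [51, 40, 42, 47, 48, 25, 27, 30, 34, 35, 12, 16, 17, 20, 0, 1, 2, 7] [39, 53, 11] = true := by
  decide +kernel

theorem r87 : chkR tab av 5 7 1 0 [48, 53, 11] [42, 36, 51, 46, 40, 44, 26, 30, 34, 35, 14, 15, 16, 20, 23, 3, 5, 6, 9] [44, 53] = true := by
  decide +kernel

theorem r333 : chkR tab av 11 10 1 0 [50, 53, 11] [41, 36, 41, 47, 37, 26, 32, 33, 34, 12, 13, 15, 21, 23, 2, 6, 9, 10, 24] [33, 53, 48, 53, 11] = true := by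
  decide +kernel

theorem g14 : chkW tab av 5 5 0 0 [47, 42, 53, 44, 48, 42, 44, 40, 44, 28, 30, 12, 13, 14, 15, 16, 18, 19, 20, 23, 2, 4, 6, 7, 24, 52, 33, 39, 49] = true := by
  decide +kernel

theorem r214 : chkR tab av 8 9 0 0 [45, 49, 53, 11] [50, 36, 51, 41, 37, 25, 26, 28, 29, 31, 32, 12, 15, 17, 19, 20, 21, 23, 0, 1, 3, 6, 8] [43, 53] = true := by
  decide +kernel

theorem r34 : chkR tab av 3 4 0 0 [36, 53] [49, 47, 42, 39, 41, 27, 31, 33, 16, 19, 0, 1, 8, 10] [44, 53] = true := by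
  decide +kernel

theorem r210 : chkR tab av 8 10 0 0 [51, 44, 53, 11] [42, 40, 43, 43, 49, 29, 30, 32, 13, 14, 16, 17, 18, 22, 23, 0, 4, 5, 6, 9, 24] [42, 53] = true := by
  decide +kernel

theorem a5 : chkW tab av 2 5 0 4 [53, 49, 53, 39, 53, 54] = true := by
  decide +kernel

theorem r13 : chkR tab av 1 4 0 0 [48, 53, 49, 53, 11] [50, 44, 50, 41, 15, 16, 0, 1, 2, 3] [] = true := by
  decide +kernel

theorem r302 : chkR tab av 10 10 0 0 [53] [49, 40, 39, 49, 37, 33, 12, 14, 15, 16, 17, 19, 22, 23, 1, 2, 3, 4, 5, 10] [53] = true := by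
  decide +kernel

theorem r331 : chkR tab av 11 11 0 0 [53] [46, 39, 42, 48, 48, 27, 29, 30, 13, 14, 16, 17, 18, 20, 21, 23, 1, 3, 7, 8, 9, 10, 24] [53] = true := by
  decide +kernel

theorem r0 : chkR tab av 0 0 0 0 [] [46, 43, 39, 40, 46] [] = true := by
  decide +kernel

theorem r304 : chkR tab av 10 10 0 0 [45, 53] [28, 31, 33, 16, 17, 21, 22, 24] [45, 53] = true := by
  decide +kernel

theorem x3 : chkW tab av 0 0 0 0 [37, 47, 50, 46, 49, 36, 11, 54] = true := by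
  decide +kernel

theorem s28 : chkS tab av 4 0 [45, 53, 39] 64 64 = true := by
  decide +kernel

theorem s66 : chkS tab av 8 0 [48, 53, 48] 80 80 = true := by
  decide +kernel

theorem s27 : chkS tab av 4 0 [53, 50] 80 80 = true := by
  decide +kernel

theorem s43 : chkS tab av 5 0 [53, 47] 80 96 = true := by
  decide +kernel

theorem s69 : chkS tab av 8 0 [45, 39] 64 80 = true := by
  decide +kernel

theorem s6 : chkS tab av 1 0 [40] 0 0 = true := by
  decide +kernel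

theorem s86 : chkS tab av 9 0 [45] 96 128 = true := by
  decide +kernel

theorem s107 : chkS tab av 10 0 [42] 64 96 = true := by
  decide +kernel

theorem s42 : chkS tab av 5 0 [] 64 128 = true := by
  decide +kernel

end CfsgMO.Ck
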