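/-
Checks for the axes, part 5.
-/
import Cfsg.Agent.MO.AxD

set_option autoImplicit false
set_option Elab.async false
set_option maxRecDepth 100000

namespace CfsgMO.Ck

theorem x23 : chkW tab av 0 0 0 0 [42, 39, 40, 40, 38, 32, 34, 12, 13, 14, 17, 21, 0, 3, 4, 5, 7, 9, 24, 54, 52, 25, 47, 49, 51, 39, 53, 51, 49, 39, 43, 54, 53, 33, 42, 47, 41, 52, 42, 41, 36, 54, 53, 31, 28, 36, 40, 49, 53, 54] = true := by
  decide +kernel

theorem r147 : chkR tab av 5 10 0 0 [53, 30, 47, 53, 41, 53] [50, 38, 48, 49, 40, 47, 25, 26, 27, 28, 29, 31, 34, 35, 12, 13, 14, 17, 22, 0, 1, 3, 4, 5, 9, 24] [40, 53, 45, 53, 11] = true := by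
  decide +kernel

theorem r186 : chkR tab av 7 8 0 1 [44, 53, 43, 53] [44, 40, 36, 36, 37, 28, 34, 35, 13, 15, 17, 19, 21, 22, 2, 5, 7, 10] [50, 36, 35, 53, 51, 53] = true := by
  decide +kernel

theorem r242 : chkR tab av 8 5 0 0 [44, 53, 47, 53, 11] [50, 51, 39, 46, 44, 40, 25, 27, 29, 32, 13, 15, 16, 18, 20, 21, 22, 1, 2, 7] [53, 48, 53, 48, 53, 11] = true := by
  decide +kernel

theorem r160 : chkR tab av 6 6 1 1 [44, 53, 45, 53, 11] [43, 38, 50, 37, 40, 25, 26, 27, 28, 32, 13, 20, 21, 0, 3, 4, 6, 9, 10] [44, 53, 45, 53, 11] = true := by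
  decide +kernel

theorem r240 : chkR tab av 8 8 0 0 [50, 53, 46, 53] [36, 48, 38, 41, 48, 50, 39, 25, 27, 28, 33, 34, 35, 15, 16, 17, 21, 22, 23, 2, 4, 8, 9, 24] [50, 53, 46, 53, 11] = true := by
  decide +kernel

theorem r320 : chkR tab av 10 10 0 0 [47, 53, 41, 53, 11] [36, 43, 40, 46, 44, 40, 47, 25, 28, 29, 32, 33, 14, 17, 18, 20, 22, 0, 3, 5, 10, 24] [47, 53, 41, 53, 11] = true := by
  decide +kernel

theorem r117 : chkR tab av 5 5 0 0 [42, 53, 39, 53, 11] [44, 46, 50, 38, 43, 36, 25, 26, 27, 30, 31, 32, 33, 35, 12, 14, 15, 16, 17, 21, 22, 1, 2, 4, 5, 6, 7, 24] [44, 53, 49, 53] = true := by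
  decide +kernel

theorem r17 : chkR tab av 2 3 0 3 [53, 44, 53, 11] [46, 43, 46, 51, 36, 25, 27, 33, 12, 0, 3, 5, 6, 10] [53, 11] = true := by
  decide +kernel

theorem r122 : chkR tab av 5 8 0 0 [44, 53, 49, 53, 11] [47, 46, 44, 48, 50, 30, 31, 33, 34, 13, 14, 15, 16, 17, 20, 21, 23, 1, 3, 4, 5, 7, 9, 10] [40, 53, 43, 36, 53, 11] = true := by
  decide +kernel

theorem r268 : chkR tab av 8 8 0 0 [53, 44, 51, 53] [38, 41, 41, 43, 43, 43, 26, 27, 28, 35, 18, 19, 20, 21, 0, 1, 4, 7, 8, 9, 10] [53, 44, 51, 53, 11] = true := by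
  decide +kernel

theorem r76 : chkR tab av 4 10 0 1 [43, 53, 49, 53, 11] [42, 47, 43, 41, 48, 25, 26, 27, 28, 12, 13, 14, 15, 16, 17, 19, 20, 23, 0, 2, 6, 7, 8, 9, 10] [47, 49, 53, 11] = true := by
  decide +kernel

theorem r55 : chkR tab av 3 6 0 1 [44, 53, 50, 53] [47, 37, 38, 47, 41, 25, 28, 33, 13, 14, 16, 21, 22, 0, 1, 3, 4, 6, 8, 9, 10] [40, 36, 53] = true := by
  decide +kernel

theorem r163 : chkR tab av 6 8 0 0 [49, 53, 50, 53, 11] [47, 43, 41, 43, 39, 46, 30, 31, 14, 17, 19, 20, 22, 0, 2, 4, 7, 8, 24] [53, 44, 53] = true := by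
  decide +kernel

theorem r269 : chkR tab av 8 10 0 0 [53, 44, 43, 53] [37, 49, 44, 48, 36, 38, 25, 26, 28, 30, 31, 13, 14, 15, 16, 18, 21, 0, 2, 3, 5, 8, 9] [38, 49, 53, 11] = true := by
  decide +kernel

theorem r102 : chkR tab av 5 6 0 0 [53, 40, 53] [47, 46, 48, 47, 36, 27, 28, 29, 31, 12, 13, 17, 22, 23, 1, 2, 3, 6, 9] [39, 53, 47, 53] = true := by
  decide +kernel

theorem r106 : chkR tab av 5 8 0 0 [53, 40, 49, 53] [40, 51, 48, 41, 38, 51, 50, 25, 12, 14, 16, 17, 19, 20, 21, 5, 7, 8, 9, 24] [42, 53, 11] = true := by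
  decide +kernel

theorem r270 : chkR tab av 8 10 0 0 [53, 44, 43, 53, 11] [46, 39, 40, 38, 47, 25, 27, 30, 31, 33, 13, 16, 18, 19, 20, 21, 22, 23, 4, 9, 24] [38, 49, 53, 11] = true := by
  decide +kernel

theorem r42 : chkR tab av 3 6 0 1 [53, 42, 53, 11] [43, 47, 38, 43, 48, 27, 28, 30, 35, 12, 13, 15, 16, 17, 19, 1, 4, 9, 24] [44, 53, 11] = true := by
  decide +kernel

theorem r121 : chkR tab av 5 9 0 0 [53, 44, 50, 53, 11] [49, 46, 42, 43, 37, 28, 30, 31, 33, 34, 35, 12, 13, 14, 15, 16, 22, 1, 2, 5, 6, 9, 10, 24] [50, 53] = true := by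
  decide +kernel

theorem r181 : chkR tab av 6 9 0 0 [47, 53, 51, 53, 11] [36, 37, 51, 46, 36, 26, 27, 31, 13, 16, 17, 18, 19, 21, 22, 0, 1, 3, 4, 5, 6, 7, 8, 9] [40, 53] = true := by
  decide +kernel

theorem r92 : chkR tab av 5 9 0 0 [53, 51, 53, 11] [44, 42, 38, 38, 51, 48, 30, 33, 34, 12, 14, 16, 18, 22, 7, 9, 24] [42, 53] = true := by
  decide +kernel

theorem g16 : chkW tab av 6 6 0 0 [50, 44, 33, 53, 36, 49, 48, 44, 41, 40, 27, 33, 35, 12, 13, 15, 16, 18, 21, 0, 1, 3, 4, 5, 6, 8, 9, 10, 11, 24, 52, 33, 36, 38] = true := by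
  decide +kernel

theorem r173 : chkR tab av 6 6 0 0 [48, 53, 38, 53, 11] [25, 26, 27, 28, 29, 30, 34, 35, 12, 14, 19, 21, 22, 23, 1, 5, 8, 24] [48, 53, 38, 53] = true := by
  decide +kernel

theorem r47 : chkR tab av 3 9 0 1 [43, 53, 49, 53] [36, 39, 39, 36, 47, 30, 31, 12, 13, 18, 19, 20, 22, 23, 0, 2, 3, 5, 6, 7, 9, 10] [] = true := by
  decide +kernel

theorem r152 : chkR tab av 6 6 1 1 [44, 53] [37, 48, 44, 50, 39, 30, 35, 14, 15, 21, 0, 1, 2, 7, 8, 10, 24] [44, 53] = true := by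
  decide +kernel

theorem r64 : chkR tab av 4 4 0 0 [45, 53] [38, 44, 44, 46, 46, 27, 12, 14, 16, 19, 0, 1, 2, 5, 9, 10] [45, 53, 11] = true := by
  decide +kernel

theorem r2 : chkR tab av 0 1 0 3 [44, 53] [51, 39, 39, 40, 37, 2, 8, 10] [] = true := by
  decide +kernel

theorem r149 : chkR tab av 6 6 0 0 [36, 53] [38, 39, 39, 50, 44, 27, 29, 31, 35, 12, 14, 15, 16, 19, 22, 5, 6, 8] [38, 53, 11] = true := by
  decide +kernel

theorem r103 : chkR tab av 5 5 0 0 [53, 40, 53, 11] [30, 34, 14, 19, 22] [53, 40, 53, 11] = true := by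
  decide +kernel

theorem r208 : chkR tab av 8 8 0 0 [44, 39, 53] [26, 30, 31, 33, 34, 35, 12, 14, 15, 21, 22, 23] [44, 39, 53] = true := by
  decide +kernel

theorem x4 : chkW tab av 0 12 0 0 ([27] ++ [2, 41, 38, 44, 49, 43, 54]) = true := by
  decide +kernel

theorem a9 : chkW tab av 3 9 0 1 [43, 53, 49, 53, 54] = true := by
  decide +kernel

theorem x0 : chkW tab av 0 12 0 0 ([] ++ [2, 43, 47, 44, 42, 49]) = true := by
  decide +kernel

theorem r330 : chkR tab av 11 11 0 0 [11] [40, 41, 41, 48, 28, 13, 14, 16, 17, 18, 20, 22, 1, 3, 6, 9, 10] [11] = true := by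
  decide +kernel

theorem s4 : chkS tab av 1 0 [46, 53, 45] 64 64 = true := by
  decide +kernel

theorem s73 : chkS tab av 8 0 [50, 53, 42] 96 96 = true := by
  decide +kernel

theorem s23 : chkS tab av 3 0 [48, 45, 44, 27] 64 512 = true := by
  decide +kernel

theorem s36 : chkS tab av 5 0 [53, 50] 80 80 = true := by
  decide +kernel

theorem s39 : chkS tab av 5 0 [47, 48] 208 80 = true := by
  decide +kernel

theorem s5 : chkS tab av 1 0 [45] 128 128 = true := by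
  decide +kernel

theorem s72 : chkS tab av 8 0 [48] 80 80 = true := by
  decide +kernel

theorem s104 : chkS tab av 10 0 [49] 80 64 = true := by
  decide +kernel

theorem s2 : chkS tab av 0 0 [] 4096 0 = true := by
  decide +kernel

end CfsgMO.Ck
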