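/-
Checks for the axes, part 6.
-/
import Cfsg.Agent.MO.AxD

set_option autoImplicit false
set_option Elab.async false
set_option maxRecDepth 100000

namespace CfsgMO.Ck

theorem x12 : chkW tab av 2 12 0 0 ([] ++ [2, 48, 43, 43, 49, 40, 14, 0, 1, 4, 7, 54, 53, 28, 41, 40, 51, 52, 42, 41, 36, 53, 54]) = true := by
  decide +kernel

theorem r127 : chkR tab av 5 8 0 0 [53, 49, 53, 39, 53] [43, 43, 42, 51, 51, 51, 42, 26, 27, 31, 32, 13, 14, 17, 18, 21, 23, 0, 2, 4, 7, 9, 24] [43, 53, 36, 53, 11] = true := by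
  decide +kernel

theorem r125 : chkR tab av 5 10 0 0 [53, 45, 53, 39, 53] [40, 40, 47, 36, 49, 50, 25, 26, 27, 29, 32, 34, 35, 13, 15, 21, 0, 5, 6, 7, 9, 24] [40, 53, 42, 53] = true := by
  decide +kernel

theorem r20 : chkR tab av 2 4 0 3 [53, 47, 53] [38, 49, 47, 42, 42, 42, 27, 28, 33, 12, 16, 2, 6, 8, 10] [53, 11] = true := by
  decide +kernel

theorem r29 : chkR tab av 2 7 0 3 [53, 42, 53, 38, 53, 11] [39, 43, 50, 48, 50, 28, 13, 15, 19, 2, 3, 4, 6, 7] [] = true := by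
  decide +kernel

theorem r251 : chkR tab av 8 8 0 0 [50, 53, 44, 53] [39, 36, 49, 36, 51, 51, 40, 25, 27, 29, 31, 32, 34, 13, 15, 17, 18, 19, 20, 2, 4, 5, 9, 24] [48, 53, 47, 53] = true := by
  decide +kernel

theorem r254 : chkR tab av 8 8 0 0 [42, 53, 47, 53] [38, 50, 47, 49, 38, 50, 48, 25, 27, 28, 29, 34, 35, 13, 14, 0, 3, 8, 9, 10] [42, 53, 47, 53] = true := by
  decide +kernel

theorem r232 : chkR tab av 8 10 0 0 [34, 53, 46, 53, 11] [37, 51, 51, 38, 43, 38, 49, 26, 28, 30, 31, 32, 33, 35, 14, 15, 16, 17, 18, 20, 21, 22, 23, 2, 3, 4, 7, 9, 10] [39, 53, 47, 53, 11] = true := by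
  decide +kernel

theorem r223 : chkR tab av 8 10 0 0 [53, 51, 53, 11] [48, 48, 44, 46, 36, 37, 44, 25, 26, 30, 31, 33, 34, 35, 15, 16, 17, 18, 19, 22, 1, 5, 6, 7, 24] [44, 53, 43, 53] = true := by
  decide +kernel

theorem r293 : chkR tab av 9 8 0 0 [44, 53, 50, 53, 11] [38, 48, 43, 40, 37, 48, 28, 29, 30, 34, 13, 15, 18, 19, 21, 0, 3, 6, 8, 9, 10, 24] [43, 32, 53, 41, 53, 11] = true := by
  decide +kernel

theorem r292 : chkR tab av 9 10 0 0 [43, 53, 49, 53, 11] [42, 44, 49, 49, 51, 37, 26, 29, 30, 35, 14, 15, 17, 18, 20, 21, 1, 5, 6, 8, 24] [40, 53, 39, 53, 11] = true := by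
  decide +kernel

theorem r69 : chkR tab av 4 9 0 1 [39, 53, 39, 53] [44, 49, 38, 39, 44, 30, 31, 33, 34, 16, 18, 19, 20, 21, 23, 1, 3, 4, 5, 7, 8, 24] [51, 49, 33, 53] = true := by
  decide +kernel

theorem r95 : chkR tab av 5 6 0 0 [53, 49, 53] [38, 51, 51, 51, 40, 44, 25, 27, 28, 29, 31, 33, 15, 18, 23, 0, 7, 8] [48, 53, 49, 53] = true := by
  decide +kernel

theorem r312 : chkR tab av 10 8 0 0 [34, 53, 39, 53, 11] [47, 41, 51, 38, 40, 43, 26, 27, 32, 33, 34, 35, 12, 13, 14, 17, 19, 20, 2, 3, 7] [27, 53, 51, 53, 11] = true := by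
  decide +kernel

theorem r97 : chkR tab av 5 5 0 0 [53, 38, 53] [42, 42, 42, 37, 44, 38, 25, 30, 33, 34, 12, 13, 14, 16, 19, 22, 23, 0, 1, 3, 5, 6, 9, 24] [53, 38, 53, 11] = true := by
  decide +kernel

theorem r159 : chkR tab av 6 9 1 1 [44, 53, 45, 53] [41, 41, 44, 48, 36, 25, 28, 31, 33, 35, 12, 17, 18, 21, 0, 2, 5, 6] [48, 53, 11] = true := by
  decide +kernel

theorem r155 : chkR tab av 6 9 0 0 [45, 53, 43, 53] [39, 49, 44, 39, 43, 50, 25, 27, 29, 30, 33, 34, 12, 13, 14, 17, 19, 22, 23, 2, 3, 5, 6, 9, 10] [36, 53, 11] = true := by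
  decide +kernel

theorem r171 : chkR tab av 6 10 0 0 [46, 53, 41, 53, 11] [36, 37, 42, 36, 49, 46, 25, 26, 29, 31, 34, 12, 14, 16, 18, 20, 21, 22, 5, 6, 10, 24] [45, 53, 11] = true := by
  decide +kernel

theorem r107 : chkR tab av 5 8 0 0 [53, 40, 49, 53, 11] [42, 38, 43, 40, 47, 38, 25, 26, 31, 35, 12, 16, 18, 20, 21, 1, 3, 6, 9] [42, 53, 11] = true := by
  decide +kernel

theorem r229 : chkR tab av 8 11 0 1 [53, 41, 53] [46, 51, 48, 46, 36, 40, 27, 28, 31, 32, 33, 34, 12, 13, 15, 17, 18, 19, 20, 22, 2, 4, 5, 6, 8] [36, 53] = true := by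
  decide +kernel

theorem r233 : chkR tab av 8 10 0 0 [35, 53, 36, 53] [38, 48, 43, 48, 43, 25, 28, 29, 30, 31, 33, 34, 35, 13, 15, 18, 20, 23, 0, 1, 3, 5, 6, 7, 8, 24] [38, 53, 11] = true := by
  decide +kernel

theorem r99 : chkR tab av 5 10 0 0 [53, 46, 53, 11] [41, 40, 39, 42, 40, 25, 28, 29, 30, 33, 34, 35, 12, 13, 16, 17, 20, 22, 23, 0, 1, 5, 6, 8, 9] [44, 53, 11] = true := by
  decide +kernel

theorem r197 : chkR tab av 8 8 0 0 [50, 53, 11] [51, 38, 42, 42, 43, 48, 48, 26, 27, 31, 33, 35, 13, 14, 17, 18, 20, 0, 1, 2, 3, 4, 5, 8, 10, 24] [50, 53, 11] = true := by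
  decide +kernel

theorem r275 : chkR tab av 8 8 0 0 [39, 31, 53, 39, 53] [26, 29, 30, 31, 32, 33, 35, 12, 13, 14, 16, 19, 22, 23] [39, 31, 53, 39, 53] = true := by
  decide +kernel

theorem r91 : chkR tab av 5 9 0 0 [53, 51, 53] [49, 44, 50, 49, 47, 26, 33, 15, 16, 17, 18, 21, 1, 2] [42, 53] = true := by
  decide +kernel

theorem r319 : chkR tab av 10 10 0 0 [45, 53, 50, 53, 11] [27, 28, 30, 31, 32, 33, 14, 16, 19, 22, 23] [45, 53, 50, 53, 11] = true := by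
  decide +kernel

theorem r205 : chkR tab av 8 8 0 0 [40, 53] [48, 46, 49, 51, 37, 42, 25, 27, 30, 34, 35, 13, 14, 15, 18, 22, 4, 7, 8] [40, 53] = true := by
  decide +kernel

theorem a7 : chkW tab av 2 7 0 3 [53, 42, 53, 38, 53, 54] = true := by
  decide +kernel

theorem r84 : chkR tab av 5 6 0 0 [50, 53, 11] [46, 41, 36, 50, 49, 28, 30, 31, 12, 14, 15, 16, 19, 20, 23, 3, 5, 6, 10] [38, 53] = true := by
  decide +kernel

theorem g26 : chkW tab av 9 9 0 0 [39, 53, 51, 50, 51, 50, 39, 25, 26, 29, 31, 33, 34, 12, 14, 15, 16, 17, 20, 3, 9, 52, 33, 44] = true := by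
  decide +kernel

theorem g21 : chkW tab av 7 7 0 0 [42, 33, 53, 39, 43, 40, 38, 51, 27, 14, 15, 17, 19, 23, 0, 3, 4, 5, 6, 10, 11] = true := by
  decide +kernel

theorem r50 : chkR tab av 3 10 0 1 [47, 53, 51, 53, 11] [27, 28, 12, 14, 17, 19, 20, 22, 2, 3, 24] [] = true := by
  decide +kernel

theorem a4 : chkW tab av 1 4 0 0 [48, 53, 49, 53, 54] = true := by
  decide +kernel

theorem r59 : chkR tab av 4 4 0 0 [11] [44, 38, 36, 46, 43, 12, 14, 18, 19, 2, 4, 6, 9] [11] = true := by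
  decide +kernel

theorem r30 : chkR tab av 3 3 0 0 [11] [49, 51, 44, 50, 12, 14, 15, 20, 0, 2, 5, 7] [11] = true := by
  decide +kernel

theorem s98 : chkS tab av 10 0 [48, 53, 48] 80 96 = true := by
  decide +kernel

theorem s65 : chkS tab av 8 0 [46, 53, 45] 80 96 = true := by
  decide +kernel

theorem s17 : chkS tab av 3 0 [53, 50] 80 80 = true := by
  decide +kernel

theorem s26 : chkS tab av 4 0 [40, 44] 128 0 = true := by
  decide +kernel

theorem s94 : chkS tab av 9 0 [46, 45] 208 96 = true := by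
  decide +kernel

theorem r301 : chkR tab av 10 10 0 0 [11] [27, 28, 12, 14, 19, 20, 21] [11] = true := by
  decide +kernel

theorem s91 : chkS tab av 9 0 [38] 64 96 = true := by
  decide +kernel

theorem s34 : chkS tab av 5 0 [40] 64 64 = true := by
  decide +kernel

theorem s63 : chkS tab av 7 0 [] 80 64 = true := by
  decide +kernel

end CfsgMO.Ck
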