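/-
Checks for the axes, part 7.
-/
import Cfsg.Agent.MO.AxD

set_option autoImplicit false
set_option Elab.async false
set_option maxRecDepth 100000

namespace CfsgMO.Ck

theorem x21 : chkW tab av 0 0 0 0 [49, 51, 39, 36, 39, 38, 25, 12, 13, 15, 17, 18, 19, 20, 0, 4, 8, 9, 54, 52, 25, 48, 48, 45, 42, 53, 43, 42, 43, 54, 52, 42, 41, 36, 54, 53, 31, 28, 36, 40, 49, 53, 54] = true := by
  decide +kernel

theorem r141 : chkR tab av 5 8 0 0 [53, 51, 53, 38, 53] [42, 51, 37, 49, 44, 41, 25, 31, 32, 33, 34, 35, 12, 14, 19, 21, 1, 2, 3, 4, 6, 7, 8, 9] [51, 53, 43, 42, 53] = true := by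
  decide +kernel

theorem r135 : chkR tab av 5 10 0 0 [53, 50, 53, 48, 53] [36, 39, 44, 51, 49, 39, 25, 26, 29, 30, 32, 33, 34, 12, 13, 17, 18, 19, 20, 23, 0, 1, 2, 5, 7] [51, 53, 39, 53, 11] = true := by
  decide +kernel

theorem r146 : chkR tab av 5 8 0 0 [53, 51, 53, 40, 53, 11] [51, 42, 49, 47, 41, 43, 26, 30, 32, 34, 13, 14, 16, 20, 21, 23, 0, 1, 2, 6, 10, 24] [44, 53, 43, 53] = true := by
  decide +kernel

theorem g8 : chkW tab av 3 3 0 0 [33, 43, 53, 41, 53, 43, 41, 44, 41, 39, 40, 25, 27, 28, 31, 35, 12, 13, 14, 15, 16, 19, 20, 22, 23, 0, 2, 52, 37, 52, 44] = true := by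
  decide +kernel

theorem r336 : chkR tab av 11 8 1 0 [46, 53, 41, 53] [47, 46, 46, 42, 37, 44, 51, 27, 30, 31, 32, 34, 35, 13, 14, 15, 17, 19, 22, 23, 0, 1, 7, 8] [48, 53, 50, 53] = true := by
  decide +kernel

theorem r300 : chkR tab av 9 5 0 0 [31, 36, 53, 49, 53, 11] [47, 48, 47, 42, 44, 25, 26, 29, 12, 13, 14, 16, 17, 18, 22, 23, 1, 6, 7, 8, 24] [53, 47, 53, 41, 53, 11] = true := by
  decide +kernel

theorem r175 : chkR tab av 6 10 0 0 [49, 53, 49, 53] [44, 39, 50, 50, 48, 50, 25, 27, 28, 29, 30, 31, 32, 33, 34, 12, 14, 15, 16, 17, 19, 20, 21, 0, 3, 7, 8] [45, 53, 50, 53] = true := by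
  decide +kernel

theorem x17 : chkW tab av 12 0 0 0 [2, 38, 51, 46, 49, 44, 37, 12, 15, 17, 19, 20, 1, 2, 3, 4, 5, 8, 10, 54, 53, 45, 49, 50, 47, 52, 42, 41, 36, 54, 53, 31, 28, 36, 40, 49, 53, 54] = true := by
  decide +kernel

theorem g4 : chkW tab av 2 2 0 0 [39, 38, 53, 40, 37, 46, 51, 38, 27, 28, 13, 21, 5, 6, 8, 9, 52, 33, 36, 43] = true := by
  decide +kernel

theorem r317 : chkR tab av 10 10 0 0 [51, 53, 39, 53] [51, 44, 42, 36, 37, 40, 30, 31, 32, 34, 12, 16, 18, 22, 23, 0, 1, 2, 5, 7, 9, 24] [51, 53, 39, 53] = true := by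
  decide +kernel

theorem r225 : chkR tab av 8 8 0 0 [53, 47, 53, 11] [39, 50, 47, 42, 51, 40, 40, 25, 26, 27, 29, 33, 34, 35, 12, 14, 15, 16, 18, 20, 0, 1, 6, 9, 10, 24] [34, 53, 46, 53] = true := by
  decide +kernel

theorem r53 : chkR tab av 3 8 0 1 [40, 53, 41, 53] [46, 43, 46, 43, 27, 28, 30, 33, 12, 15, 18, 20, 1, 2, 6, 7, 8, 9, 24] [43, 38, 39, 53, 11] = true := by
  decide +kernel

theorem r162 : chkR tab av 6 8 0 0 [49, 53, 50, 53] [46, 44, 37, 49, 49, 50, 26, 27, 34, 35, 15, 16, 18, 1, 3, 4, 5, 9, 24] [53, 44, 53] = true := by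
  decide +kernel

theorem r73 : chkR tab av 4 8 0 1 [39, 53, 47, 53] [42, 42, 39, 40, 46, 41, 26, 27, 30, 32, 12, 13, 14, 15, 19, 22, 23, 0, 1, 2, 5, 6, 8, 10, 24] [53, 11] = true := by
  decide +kernel

theorem r211 : chkR tab av 8 8 0 0 [50, 44, 53, 11] [48, 44, 49, 48, 49, 47, 25, 26, 27, 31, 32, 12, 21, 23, 3, 4, 5, 7, 8, 10, 24] [53, 38, 51, 53] = true := by
  decide +kernel

theorem r57 : chkR tab av 3 7 0 0 [44, 53, 43, 53] [36, 46, 36, 42, 38, 27, 34, 12, 14, 15, 19, 22, 23, 1, 5, 6, 8, 9] [51, 53] = true := by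
  decide +kernel

theorem r124 : chkR tab av 5 8 0 0 [50, 53, 44, 53, 11] [37, 44, 40, 44, 48, 25, 29, 30, 32, 33, 35, 13, 14, 15, 21, 23, 0, 1, 2, 4, 5] [51, 49, 53, 11] = true := by
  decide +kernel

theorem r98 : chkR tab av 5 9 0 0 [53, 46, 53] [51, 40, 37, 42, 43, 43, 26, 29, 34, 35, 12, 14, 15, 19, 22, 23, 2, 4, 5, 6, 9] [43, 42, 53] = true := by
  decide +kernel

theorem r79 : chkR tab av 4 11 0 2 [49, 53, 49, 53] [48, 44, 40, 51, 47, 25, 12, 13, 14, 15, 16, 17, 21, 23, 0, 1, 2, 3, 5, 6, 8] [53, 11] = true := by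
  decide +kernel

theorem r46 : chkR tab av 3 5 0 1 [47, 53, 41, 53, 11] [39, 46, 36, 41, 43, 28, 12, 13, 15, 18, 20, 2, 3, 4, 6, 8, 9, 24] [53, 11] = true := by
  decide +kernel

theorem r306 : chkR tab av 10 10 0 0 [38, 49, 53] [49, 43, 50, 36, 40, 43, 29, 32, 34, 13, 14, 15, 19, 21, 22, 23, 0, 1, 2, 3, 9, 10, 24] [38, 49, 53] = true := by
  decide +kernel

theorem g3 : chkW tab av 1 1 0 0 [46, 53, 42, 37, 40, 51, 51, 36, 27, 28, 31, 33, 35, 1, 2, 3, 8, 9, 52, 46, 46] = true := by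
  decide +kernel

theorem r281 : chkR tab av 9 10 0 0 [44, 53] [36, 50, 43, 41, 40, 38, 44, 27, 29, 30, 31, 34, 13, 14, 15, 19, 20, 21, 4, 6, 9, 10, 24] [38, 53] = true := by
  decide +kernel

theorem r151 : chkR tab av 6 7 1 0 [48, 53] [37, 47, 37, 44, 50, 26, 28, 29, 35, 12, 14, 16, 18, 21, 23, 1, 5, 9] [44, 53, 11] = true := by
  decide +kernel

theorem r105 : chkR tab av 5 5 0 0 [42, 53, 40, 53, 11] [26, 28, 30, 31, 32, 33, 34, 14, 16, 19, 21] [42, 53, 40, 53, 11] = true := by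
  decide +kernel

theorem g24 : chkW tab av 8 8 0 0 [40, 44, 53, 51, 50, 44, 41, 48, 26, 28, 34, 35, 12, 13, 17, 18, 19, 20, 21, 0, 2, 5, 24, 52, 33, 49, 50] = true := by
  decide +kernel

theorem r10 : chkR tab av 1 3 0 0 [44, 53, 43, 53] [36, 46, 41, 51, 39, 13, 15, 16, 21, 0, 2, 5, 7, 8, 9, 10] [] = true := by
  decide +kernel

theorem g31 : chkW tab av 11 11 0 0 [46, 48, 53, 41, 38, 49, 38, 48, 39, 25, 26, 28, 33, 35, 12, 13, 14, 16, 19, 2, 4, 5, 6, 7, 8, 10, 52, 33, 49] = true := by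
  decide +kernel

theorem r309 : chkR tab av 10 10 0 0 [53, 42, 53] [25, 32, 33, 35, 17, 18, 19, 1, 2, 3, 5, 6, 7, 9] [53, 42, 53, 11] = true := by
  decide +kernel

theorem g25 : chkW tab av 8 8 0 0 [50, 49, 53, 43, 44, 42, 46, 43, 28, 34, 15, 16, 17, 19, 21, 22, 23, 0, 1, 4, 7, 8, 10, 11, 24] = true := by
  decide +kernel

theorem r33 : chkR tab av 3 3 0 0 [39, 53, 11] [25, 28, 30, 13, 14, 15, 21, 2, 3, 5, 8] [39, 53] = true := by
  decide +kernel

theorem a3 : chkW tab av 1 3 0 0 [44, 53, 43, 53, 54] = true := by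
  decide +kernel

theorem r6 : chkR tab av 1 1 0 0 [11] [39, 42, 38, 40, 49, 0, 3, 10] [11] = true := by
  decide +kernel

theorem s35 : chkS tab av 5 0 [53, 39, 53, 51] 80 80 = true := by
  decide +kernel

theorem s14 : chkS tab av 3 0 [48, 53, 48] 80 80 = true := by
  decide +kernel

theorem s45 : chkS tab av 6 0 [46, 53, 45] 80 80 = true := by
  decide +kernel

theorem s79 : chkS tab av 8 0 [53, 47] 96 80 = true := by
  decide +kernel

theorem s62 : chkS tab av 7 0 [47, 46] 80 512 = true := by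
  decide +kernel

theorem s84 : chkS tab av 8 0 [50, 49, 27] 64 80 = true := by
  decide +kernel

theorem s82 : chkS tab av 8 0 [46, 27] 80 208 = true := by
  decide +kernel

theorem s15 : chkS tab av 3 0 [45] 128 128 = true := by
  decide +kernel

theorem s53 : chkS tab av 6 0 [43] 80 128 = true := by
  decide +kernel

theorem s95 : chkS tab av 9 0 [] 80 96 = true := by
  decide +kernel

theorem s114 : chkS tab av 11 0 [] 80 80 = true := by
  decide +kernel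

end CfsgMO.Ck
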