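/-
Checks for the axes, part 8.
-/
import Cfsg.Agent.MO.AxD

set_option autoImplicit false
set_option Elab.async false
set_option maxRecDepth 100000

namespace CfsgMO.Ck

theorem r145 : chkR tab av 5 5 0 0 [53, 51, 53, 40, 53] [46, 49, 43, 36, 41, 42, 36, 28, 30, 33, 34, 12, 14, 15, 17, 19, 20, 21, 22, 23, 1, 3, 7, 24] [53, 51, 53, 40, 53] = true := by
  decide +kernel

theorem r140 : chkR tab av 5 8 0 0 [53, 41, 53, 39, 53, 11] [36, 43, 47, 47, 38, 36, 47, 26, 28, 29, 30, 32, 34, 35, 12, 15, 17, 23, 1, 2, 7, 8, 9] [50, 53, 44, 53, 11] = true := by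
  decide +kernel

theorem r187 : chkR tab av 7 8 0 1 [44, 53, 43, 53, 11] [51, 50, 37, 43, 49, 27, 28, 29, 31, 13, 16, 17, 18, 19, 21, 22, 23, 5, 7] [50, 36, 35, 53, 51, 53] = true := by
  decide +kernel

theorem r277 : chkR tab av 8 8 0 0 [51, 53, 43, 42, 53, 11] [38, 51, 40, 42, 42, 37, 26, 27, 29, 32, 34, 35, 12, 18, 19, 20, 22, 23, 2, 8, 24] [51, 53, 43, 42, 53, 11] = true := by
  decide +kernel

theorem r137 : chkR tab av 5 10 0 0 [53, 43, 53, 45, 53] [37, 50, 44, 37, 48, 47, 30, 33, 12, 13, 18, 20, 21, 22, 23, 2, 5, 6, 8, 9, 10] [51, 53, 46, 53, 11] = true := by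
  decide +kernel

theorem r262 : chkR tab av 8 11 0 1 [48, 53, 50, 53] [51, 44, 43, 38, 48, 48, 43, 25, 26, 28, 29, 30, 35, 12, 13, 14, 16, 17, 18, 22, 23, 0, 1, 6, 7] [46, 53, 41, 53, 11] = true := by
  decide +kernel

theorem r315 : chkR tab av 10 10 0 0 [47, 53, 51, 53] [37, 46, 42, 44, 47, 46, 36, 25, 30, 32, 34, 12, 13, 14, 16, 17, 18, 19, 20, 21, 23, 3, 5, 6, 8, 10] [47, 53, 51, 53] = true := by
  decide +kernel

theorem r256 : chkR tab av 8 8 0 0 [47, 53, 36, 53, 11] [48, 38, 49, 39, 49, 38, 40, 25, 26, 29, 30, 14, 15, 18, 21, 22, 23, 0, 3, 5, 7, 8, 10] [42, 53, 47, 53, 11] = true := by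
  decide +kernel

theorem r16 : chkR tab av 2 3 0 3 [53, 44, 53] [51, 51, 50, 37, 38, 25, 31, 33, 17, 18, 19, 3, 5, 7, 9, 10] [53, 11] = true := by
  decide +kernel

theorem r314 : chkR tab av 10 10 0 0 [38, 53, 41, 53, 11] [49, 49, 39, 48, 48, 37, 30, 31, 34, 35, 12, 18, 19, 20, 21, 23, 0, 1, 2, 3, 4, 5, 6, 8, 9, 24] [48, 53, 46, 53] = true := by
  decide +kernel

theorem r110 : chkR tab av 5 10 0 0 [46, 53, 41, 53] [51, 48, 41, 44, 43, 40, 25, 28, 31, 32, 34, 35, 15, 16, 17, 0, 1, 10] [39, 53, 46, 53, 11] = true := by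
  decide +kernel

theorem g18 : chkW tab av 6 6 0 0 [47, 53, 41, 53, 50, 40, 36, 49, 44, 39, 25, 26, 27, 28, 29, 32, 34, 12, 13, 14, 15, 17, 18, 19, 20, 22, 1, 4, 5, 24, 52, 41, 52, 41] = true := by
  decide +kernel

theorem r51 : chkR tab av 3 6 0 1 [46, 53, 41, 53] [50, 37, 42, 41, 51, 30, 33, 34, 35, 13, 14, 16, 17, 18, 20, 21, 0, 1, 2, 4, 5, 9] [46, 44, 53] = true := by
  decide +kernel

theorem r75 : chkR tab av 4 10 0 1 [43, 53, 49, 53] [42, 47, 43, 41, 48, 25, 26, 28, 17, 18, 21, 23, 0, 6, 7, 8, 9, 10, 24] [47, 49, 53, 11] = true := by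
  decide +kernel

theorem r7 : chkR tab av 1 2 3 0 [44, 53] [42, 49, 43, 46, 47, 48, 27, 33, 14, 18, 10] [53, 11] = true := by
  decide +kernel

theorem r74 : chkR tab av 4 8 0 1 [39, 53, 47, 53, 11] [47, 37, 36, 36, 46, 48, 26, 28, 30, 32, 33, 16, 19, 21, 22, 23, 2, 3, 10] [53, 11] = true := by
  decide +kernel

theorem r168 : chkR tab av 6 9 0 0 [38, 53, 48, 53] [36, 39, 41, 37, 49, 26, 27, 28, 29, 30, 33, 35, 12, 14, 15, 17, 18, 19, 21, 3, 6, 8, 9] [36, 47, 53] = true := by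
  decide +kernel

theorem r120 : chkR tab av 5 8 0 0 [53, 44, 50, 53] [41, 50, 37, 44, 50, 49, 26, 28, 29, 30, 31, 12, 14, 16, 18, 19, 21, 22, 1, 2, 3, 4, 24] [45, 53, 11] = true := by
  decide +kernel

theorem r90 : chkR tab av 5 8 0 0 [53, 42, 53, 11] [44, 50, 37, 48, 36, 51, 30, 31, 32, 33, 12, 15, 16, 17, 18, 19, 21, 0, 2, 6, 7, 24] [44, 44, 53] = true := by
  decide +kernel

theorem r66 : chkR tab av 4 6 0 1 [53, 36, 53, 11] [41, 37, 51, 39, 40, 25, 27, 34, 12, 17, 18, 19, 20, 22, 2, 3, 7, 9] [45, 53, 11] = true := by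
  decide +kernel

theorem r158 : chkR tab av 6 10 0 0 [51, 53, 39, 53, 11] [49, 43, 49, 46, 41, 25, 26, 32, 33, 34, 12, 14, 15, 16, 18, 23, 0, 1, 5, 7, 8, 9] [47, 53] = true := by
  decide +kernel

theorem r180 : chkR tab av 6 9 0 0 [47, 53, 51, 53] [36, 37, 51, 46, 36, 26, 28, 31, 16, 17, 20, 21, 22, 0, 1, 2, 4, 5, 6, 7, 8, 9] [40, 53] = true := by
  decide +kernel

theorem r77 : chkR tab av 4 11 0 2 [51, 53, 39, 53] [36, 39, 49, 42, 48, 37, 28, 30, 12, 15, 16, 18, 19, 21, 22, 23, 3, 5, 7, 8, 9] [] = true := by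
  decide +kernel

theorem r62 : chkR tab av 4 4 0 0 [36, 53] [41, 44, 40, 42, 44, 27, 28, 30, 31, 33, 12, 13, 14, 17, 18, 20, 22, 2, 3, 6, 10, 24] [36, 53, 11] = true := by
  decide +kernel

theorem r183 : chkR tab av 7 7 0 0 [51, 53, 11] [50, 40, 49, 48, 48, 26, 27, 33, 34, 35, 14, 15, 18, 21, 0, 1, 2, 8, 9] [51, 53, 11] = true := by
  decide +kernel

theorem r324 : chkR tab av 10 10 0 0 [40, 53, 39, 53] [25, 27, 30, 32, 33, 35, 12, 13, 14, 16, 23, 24] [40, 53, 39, 53] = true := by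
  decide +kernel

theorem r284 : chkR tab av 9 9 0 0 [42, 53, 11] [40, 37, 48, 43, 40, 40, 26, 28, 30, 31, 34, 12, 17, 19, 20, 1, 2, 3, 8, 10, 24] [42, 53, 11] = true := by
  decide +kernel

theorem r3 : chkR tab av 0 1 0 3 [44, 53, 11] [41, 37, 47, 50, 41, 0, 4, 10] [] = true := by
  decide +kernel

theorem r85 : chkR tab av 5 5 0 0 [46, 53] [50, 41, 44, 38, 44, 27, 31, 33, 13, 15, 16, 18, 22, 23, 0, 1, 2, 3, 5, 6, 7, 24] [46, 53] = true := by
  decide +kernel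

theorem x11 : chkW tab av 12 0 0 0 [2, 42, 42, 47, 36, 36, 1, 2, 5, 54, 52, 51, 49, 39, 43, 53, 54] = true := by
  decide +kernel

theorem x7 : chkW tab av 0 0 0 0 [48, 44, 38, 42, 38, 0, 4, 6, 8, 9, 54, 52, 42, 41, 36, 53, 54] = true := by
  decide +kernel

theorem g11 : chkW tab av 4 4 0 0 [39, 37, 43, 43, 43, 12, 1, 3, 4, 6, 7, 8, 11, 52, 38] = true := by
  decide +kernel

theorem a8 : chkW tab av 3 8 0 1 [42, 53, 47, 53, 54] = true := by
  decide +kernel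

theorem r279 : chkR tab av 9 9 0 0 [11] [40, 42, 36, 42, 38, 26, 28, 31, 13, 15, 17, 18, 21, 22, 1, 2, 3, 5, 8, 9, 10, 24] [11] = true := by
  decide +kernel

theorem s75 : chkS tab av 8 0 [43, 41, 53, 36] 64 128 = true := by
  decide +kernel

theorem s56 : chkS tab av 7 0 [46, 53, 45] 80 80 = true := by
  decide +kernel

theorem s74 : chkS tab av 8 0 [38, 53, 46] 128 80 = true := by
  decide +kernel

theorem x1 : chkW tab av 12 0 0 0 [2, 43, 47, 44, 42, 49] = true := by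
  decide +kernel

theorem s41 : chkS tab av 5 0 [53, 46] 80 128 = true := by
  decide +kernel

theorem s50 : chkS tab av 6 0 [46, 51] 128 80 = true := by
  decide +kernel

theorem s58 : chkS tab av 7 0 [45] 80 128 = true := by
  decide +kernel

theorem s78 : chkS tab av 8 0 [42] 96 80 = true := by
  decide +kernel

theorem s106 : chkS tab av 10 0 [47] 80 128 = true := by
  decide +kernel

theorem s22 : chkS tab av 3 0 [] 128 64 = true := by
  decide +kernel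

end CfsgMO.Ck
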