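/-
Checks for the axes, part 9.
-/
import Cfsg.Agent.MO.AxD

set_option autoImplicit false
set_option Elab.async false
set_option maxRecDepth 100000

namespace CfsgMO.Ck

theorem r18 : chkR tab av 2 2 0 0 [53, 42, 53] [51, 46, 47, 41, 37, 28, 34, 12, 14, 16, 17, 10] [53, 42, 53] = true := by
  decide +kernel

theorem r138 : chkR tab av 5 8 0 0 [53, 43, 53, 45, 53, 11] [37, 51, 37, 51, 46, 50, 43, 25, 27, 28, 30, 31, 32, 33, 13, 14, 18, 19, 20, 22, 1, 4, 5, 9, 24] [50, 53, 38, 53] = true := by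
  decide +kernel

theorem r129 : chkR tab av 5 5 0 0 [53, 47, 53, 41, 53] [40, 40, 47, 47, 38, 26, 27, 33, 12, 15, 17, 18, 20, 23, 6, 9, 24] [53, 47, 53, 41, 53] = true := by
  decide +kernel

theorem r126 : chkR tab av 5 8 0 0 [53, 45, 53, 39, 53, 11] [41, 44, 46, 44, 38, 42, 26, 27, 29, 31, 33, 35, 13, 15, 16, 18, 19, 20, 22, 8, 24] [48, 53, 41, 53] = true := by
  decide +kernel

theorem r104 : chkR tab av 5 7 1 0 [42, 53, 40, 53] [50, 48, 48, 39, 49, 26, 29, 30, 32, 34, 13, 14, 15, 19, 20, 21, 23, 0, 2, 4, 5, 8, 24] [41, 53, 46, 53] = true := by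
  decide +kernel

theorem r23 : chkR tab av 2 3 0 3 [53, 46, 53, 11] [44, 48, 39, 40, 37, 12, 14, 18, 19, 20, 0, 1, 2, 3] [44, 53, 11] = true := by
  decide +kernel

theorem r313 : chkR tab av 10 10 0 0 [44, 53, 43, 53, 11] [41, 40, 42, 43, 50, 37, 48, 28, 29, 30, 34, 35, 12, 14, 16, 17, 19, 20, 22, 2, 3, 5, 6, 8, 9] [44, 53, 43, 53, 11] = true := by
  decide +kernel

theorem r295 : chkR tab av 9 10 0 0 [47, 53, 36, 53, 11] [43, 38, 40, 36, 50, 43, 36, 30, 31, 32, 34, 35, 12, 13, 14, 17, 21, 22, 1, 5, 6] [45, 53, 43, 53] = true := by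
  decide +kernel

theorem r243 : chkR tab av 8 8 0 0 [51, 53, 39, 53] [38, 49, 48, 47, 42, 47, 47, 27, 33, 13, 16, 17, 21, 22, 23, 0, 1, 2, 5, 6, 7, 8, 10] [51, 53, 39, 53] = true := by
  decide +kernel

theorem r257 : chkR tab av 8 10 0 0 [41, 53, 46, 53] [42, 42, 48, 51, 39, 50, 27, 28, 30, 31, 33, 34, 16, 17, 19, 21, 2, 5, 6, 7, 8] [42, 53, 47, 53] = true := by
  decide +kernel

theorem r192 : chkR tab av 7 8 0 1 [50, 53, 44, 53, 11] [49, 43, 38, 40, 51, 25, 31, 34, 12, 13, 16, 19, 20, 1, 2, 6, 8, 9, 10] [38, 43, 47, 53] = true := by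
  decide +kernel

theorem r296 : chkR tab av 9 8 0 0 [41, 53, 46, 53, 11] [41, 39, 41, 38, 36, 38, 28, 30, 32, 15, 18, 19, 20, 0, 5, 6, 7] [39, 31, 53, 39, 53, 11] = true := by
  decide +kernel

theorem r179 : chkR tab av 6 5 0 0 [48, 53, 49, 53, 11] [48, 49, 40, 47, 46, 39, 25, 28, 30, 31, 33, 14, 15, 16, 19, 20, 22, 23, 1, 2, 3, 8, 10] [53, 49, 53] = true := by
  decide +kernel

theorem r165 : chkR tab av 6 8 0 0 [41, 53, 46, 53, 11] [49, 51, 46, 47, 50, 41, 40, 26, 28, 29, 30, 14, 18, 20, 1, 3, 4, 5, 7, 9, 10] [43, 42, 53] = true := by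
  decide +kernel

theorem r133 : chkR tab av 5 5 0 0 [53, 51, 53, 41, 53] [26, 28, 29, 34, 35, 14, 15, 16, 18, 19, 20, 22, 24] [53, 51, 53, 41, 53] = true := by
  decide +kernel

theorem r118 : chkR tab av 5 8 0 0 [53, 42, 45, 53] [49, 47, 46, 48, 46, 51, 30, 31, 32, 33, 35, 12, 14, 15, 17, 19, 21, 1, 3, 5, 10] [51, 44, 53] = true := by
  decide +kernel

theorem r41 : chkR tab av 3 6 0 1 [53, 42, 53] [36, 48, 38, 40, 51, 36, 33, 35, 12, 15, 16, 20, 21, 1, 4, 6, 8, 9, 24] [44, 53, 11] = true := by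
  decide +kernel

theorem r108 : chkR tab av 5 10 0 0 [41, 53, 46, 53] [42, 46, 49, 39, 49, 36, 27, 29, 32, 33, 35, 13, 14, 15, 16, 18, 19, 22, 23, 1, 2, 6, 10] [36, 53] = true := by
  decide +kernel

theorem r203 : chkR tab av 8 8 0 0 [51, 53] [41, 40, 41, 43, 50, 40, 25, 26, 27, 29, 12, 14, 15, 17, 20, 21, 23, 0, 2, 8, 9, 24] [53, 38, 51, 53, 11] = true := by
  decide +kernel

theorem r5 : chkR tab av 0 2 0 0 [44, 53, 43, 53, 11] [37, 50, 50, 50, 15, 0, 1, 2, 4, 5] [] = true := by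
  decide +kernel

theorem r198 : chkR tab av 8 8 0 0 [36, 53] [47, 50, 49, 43, 37, 25, 28, 32, 35, 15, 16, 18, 19, 20, 23, 3, 5, 6, 7, 10, 24] [30, 53, 45, 49, 53] = true := by
  decide +kernel

theorem g19 : chkW tab av 7 7 0 0 [42, 51, 53, 43, 42, 46, 47, 47, 25, 27, 28, 31, 33, 34, 12, 13, 15, 18, 21, 22, 2, 4, 9, 10, 52, 36, 42] = true := by
  decide +kernel

theorem r36 : chkR tab av 3 4 0 0 [42, 53] [43, 49, 37, 48, 37, 51, 28, 30, 31, 34, 15, 16, 17, 21, 0, 9] [50, 53, 11] = true := by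
  decide +kernel

theorem r199 : chkR tab av 8 8 0 0 [36, 53, 11] [41, 37, 38, 44, 48, 43, 49, 29, 30, 32, 34, 35, 12, 22, 23, 0, 6, 7, 24] [36, 53, 11] = true := by
  decide +kernel

theorem r298 : chkR tab av 9 9 0 0 [51, 53, 49, 53] [25, 26, 27, 28, 30, 32, 33, 34, 35, 12, 14, 22, 23, 24] [51, 53, 49, 53] = true := by
  decide +kernel

theorem x13 : chkW tab av 12 0 0 0 [2, 48, 43, 43, 49, 40, 14, 0, 1, 4, 7, 54, 53, 28, 41, 40, 51, 52, 42, 41, 36, 53, 54] = true := by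
  decide +kernel

theorem g23 : chkW tab av 8 8 0 0 [43, 46, 33, 53, 36, 42, 47, 47, 46, 25, 30, 34, 35, 13, 14, 16, 20, 22, 23, 4, 5, 6, 8, 10, 52, 42, 43] = true := by
  decide +kernel

theorem g33 : chkW tab av 11 11 0 0 [47, 44, 53, 41, 44, 47, 36, 38, 50, 44, 27, 28, 30, 31, 32, 33, 34, 14, 19, 21, 22, 1, 2, 3, 5, 9, 11, 52, 33, 49] = true := by
  decide +kernel

theorem r96 : chkR tab av 5 5 0 0 [53, 49, 53, 11] [25, 26, 27, 28, 29, 30, 31, 34, 12, 18, 20, 21, 22, 23, 24] [53, 49, 53, 11] = true := by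
  decide +kernel

theorem r31 : chkR tab av 3 3 0 0 [53] [51, 37, 41, 42, 25, 27, 31, 33, 13, 16, 17, 19, 2, 3, 4, 8, 9] [53] = true := by
  decide +kernel

theorem a2 : chkW tab av 0 2 0 0 [44, 53, 43, 53, 54] = true := by
  decide +kernel

theorem r44 : chkR tab av 3 8 0 1 [42, 53, 47, 53, 11] [27, 30, 34, 12, 13, 16, 19, 20, 22, 23, 2, 5, 9] [] = true := by
  decide +kernel

theorem g34 : chkW tab av 11 11 0 0 [33, 53, 47, 49, 49, 44, 41, 44, 27, 28, 29, 30, 13, 14, 15, 20, 21, 22, 1, 2, 3, 4, 10, 24] = true := by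
  decide +kernel

theorem r81 : chkR tab av 5 5 0 0 [11] [40, 39, 43, 49, 36, 12, 15, 16, 23, 2, 4, 6, 7, 9] [11] = true := by
  decide +kernel

theorem s40 : chkS tab av 5 0 [53, 39, 53, 49] 96 128 = true := by
  decide +kernel

theorem s25 : chkS tab av 4 0 [45, 53, 36] 96 96 = true := by
  decide +kernel

theorem s51 : chkS tab av 6 0 [43, 53, 43] 80 80 = true := by
  decide +kernel

theorem s85 : chkS tab av 8 0 [30, 53, 42] 80 80 = true := by
  decide +kernel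

theorem s109 : chkS tab av 10 0 [53, 39] 64 96 = true := by
  decide +kernel

theorem s38 : chkS tab av 5 0 [47, 50] 128 128 = true := by
  decide +kernel

theorem s24 : chkS tab av 4 0 [45] 64 64 = true := by
  decide +kernel

theorem s70 : chkS tab av 8 0 [38] 128 80 = true := by
  decide +kernel

theorem s111 : chkS tab av 11 0 [38] 96 80 = true := by
  decide +kernel

theorem s30 : chkS tab av 4 0 [] 64 128 = true := by
  decide +kernel

end CfsgMO.Ck
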