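/-
The axes: representatives of the orbits on classes, part 0.
-/
import Cfsg.Agent.MO.Ax2
import Cfsg.Agent.MO.AxC0
import Cfsg.Agent.MO.AxC1
import Cfsg.Agent.MO.AxC2
import Cfsg.Agent.MO.AxC3
import Cfsg.Agent.MO.AxC4
import Cfsg.Agent.MO.AxC5
import Cfsg.Agent.MO.AxC6
import Cfsg.Agent.MO.AxC7
import Cfsg.Agent.MO.AxC8
import Cfsg.Agent.MO.AxC9
import Cfsg.Agent.MO.AxC10
import Cfsg.Agent.MO.AxC11

set_option autoImplicit false
set_option maxRecDepth 100000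

namespace CfsgMO.Ck

open Dat

noncomputable section

variable {D : Dat} {gel : ℕ → D.Γ} {p0 : D.I} (hC : Ctx D BB tab amat gel av p0)

def lf0 : ℕ → Fin 12 × Fin 12 := gdL (0, 0) [(0, 0), (0, 0), (1, 1), (2, 2)]
def reps0 : List (ℕ × ℕ) := [(8388608, 1), (10137600, 2), (25062, 3), (1171, 4), (307200, 4), (7028736, 5), (15417344, 6)]
def gens0 : List (List ℕ) := [[6030496, 7387633, 130336, 7423025, 9284863, 9283310, 9285515, 3007471, 6072084, 1740759, 3579325, 87626, 8233033, 10035334, 14939616, 10651008, 8213033, 10932498, 11191877, 15585994, 15091329, 3270593, 1962113, 8236165], [2175937, 1884689, 5958369, 6187605, 11389487, 11390273, 11895666, 2472561, 8115017, 8151809, 209483, 1591988, 10209146, 9680309, 13079493, 450034, 16529091, 9607453, 3197255, 15792312, 10393289, 15298548, 11259725, 14392504]]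

section
include hC

theorem f0_0 : Lab (gel 54) p0 (aa D BB av) 0 3 lf0 (cd 8388608) 1 :=
  lab_fr (hC.al.frl 0 0 0 (h := []) (by decide +kernel) (hC.al.chkR_sound hC.ok Ck.r0).1
    (hC.al.chkR_sound hC.ok Ck.r1).1) (by decide)

theorem f0_1 : Lab (gel 54) p0 (aa D BB av) 0 3 lf0 (cd 10137600) 2 :=
  lab_fr (hC.al.frl 0 1 1 (h := [44, 53]) (by decide +kernel) (hC.al.chkR_sound hC.ok Ck.r2).1
    (hC.al.chkR_sound hC.ok Ck.r3).1) (by decide)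

theorem f0_2 : Lab (gel 54) p0 (aa D BB av) 0 3 lf0 (cd 25062) 3 :=
  lab_fr (hC.al.frl 0 2 2 (h := [44, 53, 43, 53]) (by decide +kernel) (hC.al.chkR_sound hC.ok Ck.r4).1
    (hC.al.chkR_sound hC.ok Ck.r5).1) (by decide)

theorem h0 : Lab (gel 54) p0 (aa D BB av) 0 3 lf0 (cd 1171) 4 :=
  lab_sh (hC.shl 0 (n := 0) (by decide +kernel) s0 (zr_ne (by decide)) (zr_ne (by decide)) (by decide)) rfl

theorem h1 : Lab (gel 54) p0 (aa D BB av) 0 3 lf0 (cd 307200) 4 :=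
  lab_sh (hC.shl 0 (n := 0) (by decide +kernel) s1 (zr_ne (by decide)) (zr_ne (by decide)) (by decide)) rfl

theorem h2 : Lab (gel 54) p0 (aa D BB av) 0 3 lf0 (cd 7028736) 5 :=
  lab_sh (hC.shl 0 (n := 1) (by decide +kernel) s2 (zr_ne (by decide)) (hC.zr x0 x1 (by decide +kernel)) (by decide)) rfl

theorem h3 : Lab (gel 54) p0 (aa D BB av) 0 3 lf0 (cd 15417344) 6 :=
  lab_sh (hC.shl 0 (n := 2) (by decide +kernel) s3 (hC.zr x2 x3 (by decide +kernel)) (hC.zr x4 x5 (by decide +kernel)) (by decide)) rfl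

theorem hr0 : ∀ x ∈ reps0, x.1 < 2 ^ 24 ∧ x.2 < 2 ^ 3 ∧ Lab (gel 54) p0 (aa D BB av) 0 3 lf0 (cd x.1) x.2 :=
  List.forall_mem_cons.2 ⟨⟨by decide, by decide, f0_0 hC⟩,
  List.forall_mem_cons.2 ⟨⟨by decide, by decide, f0_1 hC⟩,
  List.forall_mem_cons.2 ⟨⟨by decide, by decide, f0_2 hC⟩,
  List.forall_mem_cons.2 ⟨⟨by decide, by decide, h0 hC⟩,
  List.forall_mem_cons.2 ⟨⟨by decide, by decide, h1 hC⟩,
  List.forall_mem_cons.2 ⟨⟨by decide, by decide, h2 hC⟩,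
  List.forall_mem_cons.2 ⟨⟨by decide, by decide, h3 hC⟩,
  List.forall_mem_nil _⟩⟩⟩⟩⟩⟩⟩

theorem hg0 : ∀ g ∈ gens0, Gn D (aa D BB av 0) g :=
  List.forall_mem_cons.2 ⟨hC.gn 0 g0 (by decide +kernel),
  List.forall_mem_cons.2 ⟨hC.gn 0 g1 (by decide +kernel),
  List.forall_mem_nil _⟩⟩

end

def lf1 : ℕ → Fin 12 × Fin 12 := gdL (0, 0) [(0, 0), (0, 1), (2, 2), (1, 1), (3, 3), (4, 4)]
def reps1 : List (ℕ × ℕ) := [(8388608, 1), (10137600, 2), (12345344, 3), (25062, 4), (1135746, 5), (1171, 6), (8192, 6), (81920, 8), (7028736, 7)]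
def gens1 : List (List ℕ) := [[3160341, 4190838, 4190466, 4009956, 4192725, 4178689, 3334144, 4180910, 1047043, 1046787, 3071, 4044, 7683790, 7506970, 4573826, 12074842, 11582386, 12350383, 12072870, 5146664, 6592211, 11112940, 8705826, 16238061], [1088, 1447, 1873, 3645, 667, 1411, 1001, 1413, 1415, 2439, 2680, 2048, 3414539, 3805018, 2129920, 2659507, 3704308, 3756553, 2165093, 2697753, 5665419, 7178761, 3249603, 16026997]]

section
include hC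

theorem f1_0 : Lab (gel 54) p0 (aa D BB av) 1 5 lf1 (cd 8388608) 1 :=
  lab_fr (hC.al.frl 1 0 1 (h := []) (by decide +kernel) (hC.al.chkR_sound hC.ok Ck.r2).2
    (hC.al.chkR_sound hC.ok Ck.r6).1) (by decide)

theorem f1_1 : Lab (gel 54) p0 (aa D BB av) 1 5 lf1 (cd 10137600) 2 :=
  lab_fr (hC.al.frl 1 2 2 (h := [44, 53]) (by decide +kernel) (hC.al.chkR_sound hC.ok Ck.r7).1
    (hC.al.chkR_sound hC.ok Ck.r8).1) (by decide)

theorem f1_2 : Lab (gel 54) p0 (aa D BB av) 1 5 lf1 (cd 12345344) 3 :=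
  lab_fr (hC.al.frl 1 1 1 (h := [39, 53]) (by decide +kernel) (hC.al.chkR_sound hC.ok Ck.r9).1
    (hC.al.chkR_sound hC.ok Ck.r9).2) (by decide)

theorem f1_3 : Lab (gel 54) p0 (aa D BB av) 1 5 lf1 (cd 25062) 4 :=
  lab_fr (hC.al.frl 1 3 3 (h := [44, 53, 43, 53]) (by decide +kernel) (hC.al.chkR_sound hC.ok Ck.r10).1
    (hC.al.chkR_sound hC.ok Ck.r11).1) (by decide)

theorem f1_4 : Lab (gel 54) p0 (aa D BB av) 1 5 lf1 (cd 1135746) 5 :=
  lab_fr (hC.al.frl 1 4 4 (h := [48, 53, 49, 53]) (by decide +kernel) (hC.al.chkR_sound hC.ok Ck.r12).1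
    (hC.al.chkR_sound hC.ok Ck.r13).1) (by decide)

theorem h4 : Lab (gel 54) p0 (aa D BB av) 1 5 lf1 (cd 1171) 6 :=
  lab_sh (hC.shl 1 (n := 0) (by decide +kernel) s4 (zr_ne (by decide)) (zr_ne (by decide)) (by decide)) rfl

theorem h5 : Lab (gel 54) p0 (aa D BB av) 1 5 lf1 (cd 8192) 6 :=
  lab_sh (hC.shl 1 (n := 0) (by decide +kernel) s5 (zr_ne (by decide)) (zr_ne (by decide)) (by decide)) rfl

theorem h6 : Lab (gel 54) p0 (aa D BB av) 1 5 lf1 (cd 81920) 8 :=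
  lab_sh (hC.shl 1 (n := 2) (by decide +kernel) s6 (hC.zr x6 x7 (by decide +kernel)) (hC.zr x8 x9 (by decide +kernel)) (by decide)) rfl

theorem h7 : Lab (gel 54) p0 (aa D BB av) 1 5 lf1 (cd 7028736) 7 :=
  lab_sh (hC.shl 1 (n := 1) (by decide +kernel) s7 (zr_ne (by decide)) (hC.zr x10 x11 (by decide +kernel)) (by decide)) rfl

theorem hr1 : ∀ x ∈ reps1, x.1 < 2 ^ 24 ∧ x.2 < 2 ^ 4 ∧ Lab (gel 54) p0 (aa D BB av) 1 5 lf1 (cd x.1) x.2 :=
  List.forall_mem_cons.2 ⟨⟨by decide, by decide, f1_0 hC⟩,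
  List.forall_mem_cons.2 ⟨⟨by decide, by decide, f1_1 hC⟩,
  List.forall_mem_cons.2 ⟨⟨by decide, by decide, f1_2 hC⟩,
  List.forall_mem_cons.2 ⟨⟨by decide, by decide, f1_3 hC⟩,
  List.forall_mem_cons.2 ⟨⟨by decide, by decide, f1_4 hC⟩,
  List.forall_mem_cons.2 ⟨⟨by decide, by decide, h4 hC⟩,
  List.forall_mem_cons.2 ⟨⟨by decide, by decide, h5 hC⟩,
  List.forall_mem_cons.2 ⟨⟨by decide, by decide, h6 hC⟩,
  List.forall_mem_cons.2 ⟨⟨by decide, by decide, h7 hC⟩,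
  List.forall_mem_nil _⟩⟩⟩⟩⟩⟩⟩⟩⟩

theorem hg1 : ∀ g ∈ gens1, Gn D (aa D BB av 1) g :=
  List.forall_mem_cons.2 ⟨hC.gn 1 g2 (by decide +kernel),
  List.forall_mem_cons.2 ⟨hC.gn 1 g3 (by decide +kernel),
  List.forall_mem_nil _⟩⟩

end

def lf2 : ℕ → Fin 12 × Fin 12 := gdL (0, 0) [(0, 0), (0, 2), (1, 2), (3, 3), (2, 2), (4, 4), (5, 5), (6, 6), (7, 7)]
def reps2 : List (ℕ × ℕ) := [(8388608, 1), (15728640, 2), (3895520, 3), (3428354, 4), (9822461, 5), (4362494, 3), (3257101, 6), (211508, 7), (630685, 8), (8192, 9), (150618, 9), (172285, 9), (298020, 9), (655391, 9), (7028736, 10)]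
def gens2 : List (List ℕ) := [[3722, 2, 1415, 256, 3289, 513, 331, 8, 173, 2047, 16, 2048, 2382636, 929704, 148235, 3825164, 2889610, 5135475, 6429203, 6869920, 4721417, 4853640, 6757192, 8933158], [4000, 2377, 1716, 75, 2371, 2383, 1829, 2395, 1228, 267, 925, 2048, 2093820, 4734725, 7863228, 1043492, 2661804, 8238853, 6950288, 5568788, 4329276, 924676, 2228494, 14031624]]

section
include hC

theorem f2_0 : Lab (gel 54) p0 (aa D BB av) 2 8 lf2 (cd 8388608) 1 :=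
  lab_fr (hC.al.frl 2 0 2 (h := []) (by decide +kernel) (hC.al.chkR_sound hC.ok Ck.r4).2
    (hC.al.chkR_sound hC.ok Ck.r14).1) (by decide)

theorem f2_1 : Lab (gel 54) p0 (aa D BB av) 2 8 lf2 (cd 15728640) 2 :=
  lab_fr (hC.al.frl 2 2 1 (h := [53]) (by decide +kernel) (hC.al.chkR_sound hC.ok Ck.r15).1
    (hC.al.chkR_sound hC.ok Ck.r7).2).symm (by decide)

theorem f2_2 : Lab (gel 54) p0 (aa D BB av) 2 8 lf2 (cd 3895520) 3 :=
  lab_fr (hC.al.frl 2 3 3 (h := [53, 44, 53]) (by decide +kernel) (hC.al.chkR_sound hC.ok Ck.r16).1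
    (hC.al.chkR_sound hC.ok Ck.r17).1) (by decide)

theorem f2_3 : Lab (gel 54) p0 (aa D BB av) 2 8 lf2 (cd 3428354) 4 :=
  lab_fr (hC.al.frl 2 2 2 (h := [53, 42, 53]) (by decide +kernel) (hC.al.chkR_sound hC.ok Ck.r18).1
    (hC.al.chkR_sound hC.ok Ck.r19).1) (by decide)

theorem f2_4 : Lab (gel 54) p0 (aa D BB av) 2 8 lf2 (cd 9822461) 5 :=
  lab_fr (hC.al.frl 2 4 4 (h := [53, 47, 53]) (by decide +kernel) (hC.al.chkR_sound hC.ok Ck.r20).1
    (hC.al.chkR_sound hC.ok Ck.r21).1) (by decide)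

theorem f2_5 : Lab (gel 54) p0 (aa D BB av) 2 8 lf2 (cd 4362494) 3 :=
  lab_fr (hC.al.frl 2 3 3 (h := [53, 46, 53]) (by decide +kernel) (hC.al.chkR_sound hC.ok Ck.r22).1
    (hC.al.chkR_sound hC.ok Ck.r23).1) (by decide)

theorem f2_6 : Lab (gel 54) p0 (aa D BB av) 2 8 lf2 (cd 3257101) 6 :=
  lab_fr (hC.al.frl 2 5 5 (h := [53, 49, 53, 39, 53]) (by decide +kernel) (hC.al.chkR_sound hC.ok Ck.r24).1
    (hC.al.chkR_sound hC.ok Ck.r25).1) (by decide)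

theorem f2_7 : Lab (gel 54) p0 (aa D BB av) 2 8 lf2 (cd 211508) 7 :=
  lab_fr (hC.al.frl 2 6 6 (h := [53, 43, 53, 45, 53]) (by decide +kernel) (hC.al.chkR_sound hC.ok Ck.r26).1
    (hC.al.chkR_sound hC.ok Ck.r27).1) (by decide)

theorem f2_8 : Lab (gel 54) p0 (aa D BB av) 2 8 lf2 (cd 630685) 8 :=
  lab_fr (hC.al.frl 2 7 7 (h := [53, 42, 53, 38, 53]) (by decide +kernel) (hC.al.chkR_sound hC.ok Ck.r28).1
    (hC.al.chkR_sound hC.ok Ck.r29).1) (by decide)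

theorem h8 : Lab (gel 54) p0 (aa D BB av) 2 8 lf2 (cd 8192) 9 :=
  lab_sh (hC.shl 2 (n := 0) (by decide +kernel) s8 (zr_ne (by decide)) (zr_ne (by decide)) (by decide)) rfl

theorem h9 : Lab (gel 54) p0 (aa D BB av) 2 8 lf2 (cd 150618) 9 :=
  lab_sh (hC.shl 2 (n := 0) (by decide +kernel) s9 (zr_ne (by decide)) (zr_ne (by decide)) (by decide)) rfl

theorem h10 : Lab (gel 54) p0 (aa D BB av) 2 8 lf2 (cd 172285) 9 :=
  lab_sh (hC.shl 2 (n := 0) (by decide +kernel) s10 (zr_ne (by decide)) (zr_ne (by decide)) (by decide)) rfl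

theorem h11 : Lab (gel 54) p0 (aa D BB av) 2 8 lf2 (cd 298020) 9 :=
  lab_sh (hC.shl 2 (n := 0) (by decide +kernel) s11 (zr_ne (by decide)) (zr_ne (by decide)) (by decide)) rfl

theorem h12 : Lab (gel 54) p0 (aa D BB av) 2 8 lf2 (cd 655391) 9 :=
  lab_sh (hC.shl 2 (n := 0) (by decide +kernel) s12 (zr_ne (by decide)) (zr_ne (by decide)) (by decide)) rfl

theorem h13 : Lab (gel 54) p0 (aa D BB av) 2 8 lf2 (cd 7028736) 10 :=
  lab_sh (hC.shl 2 (n := 1) (by decide +kernel) s13 (zr_ne (by decide)) (hC.zr x12 x13 (by decide +kernel)) (by decide)) rfl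

theorem hr2 : ∀ x ∈ reps2, x.1 < 2 ^ 24 ∧ x.2 < 2 ^ 4 ∧ Lab (gel 54) p0 (aa D BB av) 2 8 lf2 (cd x.1) x.2 :=
  List.forall_mem_cons.2 ⟨⟨by decide, by decide, f2_0 hC⟩,
  List.forall_mem_cons.2 ⟨⟨by decide, by decide, f2_1 hC⟩,
  List.forall_mem_cons.2 ⟨⟨by decide, by decide, f2_2 hC⟩,
  List.forall_mem_cons.2 ⟨⟨by decide, by decide, f2_3 hC⟩,
  List.forall_mem_cons.2 ⟨⟨by decide, by decide, f2_4 hC⟩,
  List.forall_mem_cons.2 ⟨⟨by decide, by decide, f2_5 hC⟩,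
  List.forall_mem_cons.2 ⟨⟨by decide, by decide, f2_6 hC⟩,
  List.forall_mem_cons.2 ⟨⟨by decide, by decide, f2_7 hC⟩,
  List.forall_mem_cons.2 ⟨⟨by decide, by decide, f2_8 hC⟩,
  List.forall_mem_cons.2 ⟨⟨by decide, by decide, h8 hC⟩,
  List.forall_mem_cons.2 ⟨⟨by decide, by decide, h9 hC⟩,
  List.forall_mem_cons.2 ⟨⟨by decide, by decide, h10 hC⟩,
  List.forall_mem_cons.2 ⟨⟨by decide, by decide, h11 hC⟩,
  List.forall_mem_cons.2 ⟨⟨by decide, by decide, h12 hC⟩,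
  List.forall_mem_cons.2 ⟨⟨by decide, by decide, h13 hC⟩,
  List.forall_mem_nil _⟩⟩⟩⟩⟩⟩⟩⟩⟩⟩⟩⟩⟩⟩⟩

theorem hg2 : ∀ g ∈ gens2, Gn D (aa D BB av 2) g :=
  List.forall_mem_cons.2 ⟨hC.gn 2 g4 (by decide +kernel),
  List.forall_mem_cons.2 ⟨hC.gn 2 g5 (by decide +kernel),
  List.forall_mem_nil _⟩⟩

end

def lf3 : ℕ → Fin 12 × Fin 12 := gdL (0, 0) [(0, 0), (1, 3), (2, 3), (3, 3), (3, 4), (4, 4), (6, 6), (8, 8), (5, 5), (9, 9), (10, 10), (6, 7), (7, 7)]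
def reps3 : List (ℕ × ℕ) := [(8388608, 1), (15728640, 2), (12345344, 3), (11743232, 4), (11816960, 5), (10137600, 2), (8671232, 3), (3428354, 6), (2342914, 7), (1365692, 8), (372920, 9), (74195, 10), (119505, 6), (4777278, 7), (1065446, 11), (25062, 12), (1955, 13), (8192, 13), (9192, 13), (172285, 13), (876544, 13), (880640, 14), (2109440, 13), (4719774, 13), (7028736, 13), (9105408, 13)]
def gens3 : List (List ℕ) := [[1190, 141, 1447, 40, 160, 2411, 32, 2144, 3091, 3900, 2592, 2048, 1125712, 1120656, 5251490, 5355802, 5774911, 1080708, 7253962, 1339650, 5330742, 5266074, 7363349, 16079563], [1534, 1869, 3808, 2300, 3552, 992, 4072, 2016, 4032, 2079, 979, 2048, 800451, 789271, 1385405, 74994, 2693484, 4745021, 51058, 8094568, 475658, 89748, 870883, 12305582], [4342374, 1323218, 7037328, 7040632, 4004099, 7038576, 4004627, 4001880, 5652871, 5653112, 3932, 987, 1208248, 1207671,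 14934168, 10700934, 1647746, 7331023, 14522366, 12434541, 14470292, 14470954, 9215421, 5908046]]

section
include hC

theorem f3_0 : Lab (gel 54) p0 (aa D BB av) 3 12 lf3 (cd 8388608) 1 :=
  lab_fr (hC.al.frl 3 1 3 (h := []) (by decide +kernel) (hC.al.chkR_sound hC.ok Ck.r10).2
    (hC.al.chkR_sound hC.ok Ck.r30).1) (by decide)

theorem f3_1 : Lab (gel 54) p0 (aa D BB av) 3 12 lf3 (cd 15728640) 2 :=
  lab_fr (hC.al.frl 3 3 2 (h := [53]) (by decide +kernel) (hC.al.chkR_sound hC.ok Ck.r31).1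
    (hC.al.chkR_sound hC.ok Ck.r16).2).symm (by decide)

theorem f3_2 : Lab (gel 54) p0 (aa D BB av) 3 12 lf3 (cd 12345344) 3 :=
  lab_fr (hC.al.frl 3 3 3 (h := [39, 53]) (by decide +kernel) (hC.al.chkR_sound hC.ok Ck.r32).1
    (hC.al.chkR_sound hC.ok Ck.r33).1) (by decide)

theorem f3_3 : Lab (gel 54) p0 (aa D BB av) 3 12 lf3 (cd 11743232) 4 :=
  lab_fr (hC.al.frl 3 4 3 (h := [36, 53]) (by decide +kernel) (hC.al.chkR_sound hC.ok Ck.r34).1
    (hC.al.chkR_sound hC.ok Ck.r35).1).symm (by decide)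

theorem f3_4 : Lab (gel 54) p0 (aa D BB av) 3 12 lf3 (cd 11816960) 5 :=
  lab_fr (hC.al.frl 3 4 4 (h := [42, 53]) (by decide +kernel) (hC.al.chkR_sound hC.ok Ck.r36).1
    (hC.al.chkR_sound hC.ok Ck.r37).1) (by decide)

theorem f3_5 : Lab (gel 54) p0 (aa D BB av) 3 12 lf3 (cd 10137600) 2 :=
  lab_fr (hC.al.frl 3 3 2 (h := [44, 53]) (by decide +kernel) (hC.al.chkR_sound hC.ok Ck.r38).1
    (hC.al.chkR_sound hC.ok Ck.r22).2).symm (by decide)

theorem f3_6 : Lab (gel 54) p0 (aa D BB av) 3 12 lf3 (cd 8671232) 3 :=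
  lab_fr (hC.al.frl 3 3 3 (h := [46, 39, 53]) (by decide +kernel) (hC.al.chkR_sound hC.ok Ck.r39).1
    (hC.al.chkR_sound hC.ok Ck.r40).1) (by decide)

theorem f3_7 : Lab (gel 54) p0 (aa D BB av) 3 12 lf3 (cd 3428354) 6 :=
  lab_fr (hC.al.frl 3 6 6 (h := [53, 42, 53]) (by decide +kernel) (hC.al.chkR_sound hC.ok Ck.r41).1
    (hC.al.chkR_sound hC.ok Ck.r42).1) (by decide)

theorem f3_8 : Lab (gel 54) p0 (aa D BB av) 3 12 lf3 (cd 2342914) 7 :=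
  lab_fr (hC.al.frl 3 8 8 (h := [42, 53, 47, 53]) (by decide +kernel) (hC.al.chkR_sound hC.ok Ck.r43).1
    (hC.al.chkR_sound hC.ok Ck.r44).1) (by decide)

theorem f3_9 : Lab (gel 54) p0 (aa D BB av) 3 12 lf3 (cd 1365692) 8 :=
  lab_fr (hC.al.frl 3 5 5 (h := [47, 53, 41, 53]) (by decide +kernel) (hC.al.chkR_sound hC.ok Ck.r45).1
    (hC.al.chkR_sound hC.ok Ck.r46).1) (by decide)

theorem f3_10 : Lab (gel 54) p0 (aa D BB av) 3 12 lf3 (cd 372920) 9 :=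
  lab_fr (hC.al.frl 3 9 9 (h := [43, 53, 49, 53]) (by decide +kernel) (hC.al.chkR_sound hC.ok Ck.r47).1
    (hC.al.chkR_sound hC.ok Ck.r48).1) (by decide)

theorem f3_11 : Lab (gel 54) p0 (aa D BB av) 3 12 lf3 (cd 74195) 10 :=
  lab_fr (hC.al.frl 3 10 10 (h := [47, 53, 51, 53]) (by decide +kernel) (hC.al.chkR_sound hC.ok Ck.r49).1
    (hC.al.chkR_sound hC.ok Ck.r50).1) (by decide)

theorem f3_12 : Lab (gel 54) p0 (aa D BB av) 3 12 lf3 (cd 119505) 6 :=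
  lab_fr (hC.al.frl 3 6 6 (h := [46, 53, 41, 53]) (by decide +kernel) (hC.al.chkR_sound hC.ok Ck.r51).1
    (hC.al.chkR_sound hC.ok Ck.r52).1) (by decide)

theorem f3_13 : Lab (gel 54) p0 (aa D BB av) 3 12 lf3 (cd 4777278) 7 :=
  lab_fr (hC.al.frl 3 8 8 (h := [40, 53, 41, 53]) (by decide +kernel) (hC.al.chkR_sound hC.ok Ck.r53).1
    (hC.al.chkR_sound hC.ok Ck.r54).1) (by decide)

theorem f3_14 : Lab (gel 54) p0 (aa D BB av) 3 12 lf3 (cd 1065446) 11 :=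
  lab_fr (hC.al.frl 3 6 7 (h := [44, 53, 50, 53]) (by decide +kernel) (hC.al.chkR_sound hC.ok Ck.r55).1
    (hC.al.chkR_sound hC.ok Ck.r56).1) (by decide)

theorem f3_15 : Lab (gel 54) p0 (aa D BB av) 3 12 lf3 (cd 25062) 12 :=
  lab_fr (hC.al.frl 3 7 7 (h := [44, 53, 43, 53]) (by decide +kernel) (hC.al.chkR_sound hC.ok Ck.r57).1
    (hC.al.chkR_sound hC.ok Ck.r58).1) (by decide)

theorem h14 : Lab (gel 54) p0 (aa D BB av) 3 12 lf3 (cd 1955) 13 :=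
  lab_sh (hC.shl 3 (n := 0) (by decide +kernel) s14 (zr_ne (by decide)) (zr_ne (by decide)) (by decide)) rfl

theorem h15 : Lab (gel 54) p0 (aa D BB av) 3 12 lf3 (cd 8192) 13 :=
  lab_sh (hC.shl 3 (n := 0) (by decide +kernel) s15 (zr_ne (by decide)) (zr_ne (by decide)) (by decide)) rfl

theorem h16 : Lab (gel 54) p0 (aa D BB av) 3 12 lf3 (cd 9192) 13 :=
  lab_sh (hC.shl 3 (n := 0) (by decide +kernel) s16 (zr_ne (by decide)) (zr_ne (by decide)) (by decide)) rfl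

theorem h17 : Lab (gel 54) p0 (aa D BB av) 3 12 lf3 (cd 172285) 13 :=
  lab_sh (hC.shl 3 (n := 0) (by decide +kernel) s17 (zr_ne (by decide)) (zr_ne (by decide)) (by decide)) rfl

theorem h18 : Lab (gel 54) p0 (aa D BB av) 3 12 lf3 (cd 876544) 13 :=
  lab_sh (hC.shl 3 (n := 0) (by decide +kernel) s18 (zr_ne (by decide)) (zr_ne (by decide)) (by decide)) rfl

theorem h19 : Lab (gel 54) p0 (aa D BB av) 3 12 lf3 (cd 880640) 14 :=
  lab_sh (hC.shl 3 (n := 1) (by decide +kernel) s19 (zr_ne (by decide)) (hC.zr x14 x15 (by decide +kernel)) (by decide)) rfl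

theorem h20 : Lab (gel 54) p0 (aa D BB av) 3 12 lf3 (cd 2109440) 13 :=
  lab_sh (hC.shl 3 (n := 0) (by decide +kernel) s20 (zr_ne (by decide)) (zr_ne (by decide)) (by decide)) rfl

theorem h21 : Lab (gel 54) p0 (aa D BB av) 3 12 lf3 (cd 4719774) 13 :=
  lab_sh (hC.shl 3 (n := 0) (by decide +kernel) s21 (zr_ne (by decide)) (zr_ne (by decide)) (by decide)) rfl

theorem h22 : Lab (gel 54) p0 (aa D BB av) 3 12 lf3 (cd 7028736) 13 :=
  lab_sh (hC.shl 3 (n := 0) (by decide +kernel) s22 (zr_ne (by decide)) (zr_ne (by decide)) (by decide)) rfl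

theorem h23 : Lab (gel 54) p0 (aa D BB av) 3 12 lf3 (cd 9105408) 13 :=
  lab_sh (hC.shl 3 (n := 0) (by decide +kernel) s23 (zr_ne (by decide)) (zr_ne (by decide)) (by decide)) rfl

theorem hr3 : ∀ x ∈ reps3, x.1 < 2 ^ 24 ∧ x.2 < 2 ^ 4 ∧ Lab (gel 54) p0 (aa D BB av) 3 12 lf3 (cd x.1) x.2 :=
  List.forall_mem_cons.2 ⟨⟨by decide, by decide, f3_0 hC⟩,
  List.forall_mem_cons.2 ⟨⟨by decide, by decide, f3_1 hC⟩,
  List.forall_mem_cons.2 ⟨⟨by decide, by decide, f3_2 hC⟩,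
  List.forall_mem_cons.2 ⟨⟨by decide, by decide, f3_3 hC⟩,
  List.forall_mem_cons.2 ⟨⟨by decide, by decide, f3_4 hC⟩,
  List.forall_mem_cons.2 ⟨⟨by decide, by decide, f3_5 hC⟩,
  List.forall_mem_cons.2 ⟨⟨by decide, by decide, f3_6 hC⟩,
  List.forall_mem_cons.2 ⟨⟨by decide, by decide, f3_7 hC⟩,
  List.forall_mem_cons.2 ⟨⟨by decide, by decide, f3_8 hC⟩,
  List.forall_mem_cons.2 ⟨⟨by decide, by decide, f3_9 hC⟩,
  List.forall_mem_cons.2 ⟨⟨by decide, by decide, f3_10 hC⟩,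
  List.forall_mem_cons.2 ⟨⟨by decide, by decide, f3_11 hC⟩,
  List.forall_mem_cons.2 ⟨⟨by decide, by decide, f3_12 hC⟩,
  List.forall_mem_cons.2 ⟨⟨by decide, by decide, f3_13 hC⟩,
  List.forall_mem_cons.2 ⟨⟨by decide, by decide, f3_14 hC⟩,
  List.forall_mem_cons.2 ⟨⟨by decide, by decide, f3_15 hC⟩,
  List.forall_mem_cons.2 ⟨⟨by decide, by decide, h14 hC⟩,
  List.forall_mem_cons.2 ⟨⟨by decide, by decide, h15 hC⟩,
  List.forall_mem_cons.2 ⟨⟨by decide, by decide, h16 hC⟩,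
  List.forall_mem_cons.2 ⟨⟨by decide, by decide, h17 hC⟩,
  List.forall_mem_cons.2 ⟨⟨by decide, by decide, h18 hC⟩,
  List.forall_mem_cons.2 ⟨⟨by decide, by decide, h19 hC⟩,
  List.forall_mem_cons.2 ⟨⟨by decide, by decide, h20 hC⟩,
  List.forall_mem_cons.2 ⟨⟨by decide, by decide, h21 hC⟩,
  List.forall_mem_cons.2 ⟨⟨by decide, by decide, h22 hC⟩,
  List.forall_mem_cons.2 ⟨⟨by decide, by decide, h23 hC⟩,
  List.forall_mem_nil _⟩⟩⟩⟩⟩⟩⟩⟩⟩⟩⟩⟩⟩⟩⟩⟩⟩⟩⟩⟩⟩⟩⟩⟩⟩⟩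

theorem hg3 : ∀ g ∈ gens3, Gn D (aa D BB av 3) g :=
  List.forall_mem_cons.2 ⟨hC.gn 3 g6 (by decide +kernel),
  List.forall_mem_cons.2 ⟨hC.gn 3 g7 (by decide +kernel),
  List.forall_mem_cons.2 ⟨hC.gn 3 g8 (by decide +kernel),
  List.forall_mem_nil _⟩⟩⟩

end

def lf4 : ℕ → Fin 12 × Fin 12 := gdL (0, 0) [(0, 0), (1, 4), (2, 4), (3, 4), (4, 4), (3, 3), (6, 6), (5, 5), (9, 9), (10, 10), (8, 8), (11, 11)]
def reps4 : List (ℕ × ℕ) := [(8388608, 1), (15728640, 2), (11984896, 3), (11743232, 4), (10137600, 5), (12607488, 4), (3993855, 6), (14835742, 7), (2015905, 8), (239563, 9), (976480, 10), (372920, 9), (356872, 11), (767050, 11), (8192, 12), (9192, 12), (49152, 13), (172285, 12), (1249976, 12), (2588672, 12), (7028736, 12)]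
def gens4 : List (List ℕ) := [[267, 2050, 175, 258, 3870, 2178, 515, 34, 2058, 2377, 4066, 2048, 2383248, 6291272, 83392, 3232146, 65545, 4735232, 6291846, 4342861, 6397551, 4524290, 4262279, 15935235], [237, 2262, 722, 734, 364, 2646, 1765, 1208, 726, 662, 982, 2048, 4275136, 6359576, 214465, 4432702, 211034, 596180, 4268370, 76736, 3990995, 460369, 1257520, 15209845], [3209713, 6282765, 1075, 331, 8186373, 7859417, 7283958, 8186955, 3930650, 7284222, 6282971, 2465, 10008477, 4340312, 13667477, 7731838, 9473335, 2006247, 9719520, 14339222, 5406847, 698127, 9490036, 13950182]]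

section
include hC

theorem f4_0 : Lab (gel 54) p0 (aa D BB av) 4 11 lf4 (cd 8388608) 1 :=
  lab_fr (hC.al.frl 4 1 4 (h := []) (by decide +kernel) (hC.al.chkR_sound hC.ok Ck.r12).2
    (hC.al.chkR_sound hC.ok Ck.r59).1) (by decide)

theorem f4_1 : Lab (gel 54) p0 (aa D BB av) 4 11 lf4 (cd 15728640) 2 :=
  lab_fr (hC.al.frl 4 4 2 (h := [53]) (by decide +kernel) (hC.al.chkR_sound hC.ok Ck.r60).1
    (hC.al.chkR_sound hC.ok Ck.r20).2).symm (by decide)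

theorem f4_2 : Lab (gel 54) p0 (aa D BB av) 4 11 lf4 (cd 11984896) 3 :=
  lab_fr (hC.al.frl 4 4 3 (h := [50, 53]) (by decide +kernel) (hC.al.chkR_sound hC.ok Ck.r61).1
    (hC.al.chkR_sound hC.ok Ck.r36).2).symm (by decide)

theorem f4_3 : Lab (gel 54) p0 (aa D BB av) 4 11 lf4 (cd 11743232) 4 :=
  lab_fr (hC.al.frl 4 4 4 (h := [36, 53]) (by decide +kernel) (hC.al.chkR_sound hC.ok Ck.r62).1
    (hC.al.chkR_sound hC.ok Ck.r62).2) (by decide)

theorem f4_4 : Lab (gel 54) p0 (aa D BB av) 4 11 lf4 (cd 10137600) 5 :=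
  lab_fr (hC.al.frl 4 3 3 (h := [44, 53]) (by decide +kernel) (hC.al.chkR_sound hC.ok Ck.r34).2
    (hC.al.chkR_sound hC.ok Ck.r63).1) (by decide)

theorem f4_5 : Lab (gel 54) p0 (aa D BB av) 4 11 lf4 (cd 12607488) 4 :=
  lab_fr (hC.al.frl 4 4 4 (h := [45, 53]) (by decide +kernel) (hC.al.chkR_sound hC.ok Ck.r64).1
    (hC.al.chkR_sound hC.ok Ck.r64).2) (by decide)

theorem f4_6 : Lab (gel 54) p0 (aa D BB av) 4 11 lf4 (cd 3993855) 6 :=
  lab_fr (hC.al.frl 4 6 6 (h := [53, 36, 53]) (by decide +kernel) (hC.al.chkR_sound hC.ok Ck.r65).1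
    (hC.al.chkR_sound hC.ok Ck.r66).1) (by decide)

theorem f4_7 : Lab (gel 54) p0 (aa D BB av) 4 11 lf4 (cd 14835742) 7 :=
  lab_fr (hC.al.frl 4 5 5 (h := [53, 39, 53]) (by decide +kernel) (hC.al.chkR_sound hC.ok Ck.r67).1
    (hC.al.chkR_sound hC.ok Ck.r68).1) (by decide)

theorem f4_8 : Lab (gel 54) p0 (aa D BB av) 4 11 lf4 (cd 2015905) 8 :=
  lab_fr (hC.al.frl 4 9 9 (h := [39, 53, 39, 53]) (by decide +kernel) (hC.al.chkR_sound hC.ok Ck.r69).1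
    (hC.al.chkR_sound hC.ok Ck.r70).1) (by decide)

theorem f4_9 : Lab (gel 54) p0 (aa D BB av) 4 11 lf4 (cd 239563) 9 :=
  lab_fr (hC.al.frl 4 10 10 (h := [41, 53, 46, 53]) (by decide +kernel) (hC.al.chkR_sound hC.ok Ck.r71).1
    (hC.al.chkR_sound hC.ok Ck.r72).1) (by decide)

theorem f4_10 : Lab (gel 54) p0 (aa D BB av) 4 11 lf4 (cd 976480) 10 :=
  lab_fr (hC.al.frl 4 8 8 (h := [39, 53, 47, 53]) (by decide +kernel) (hC.al.chkR_sound hC.ok Ck.r73).1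
    (hC.al.chkR_sound hC.ok Ck.r74).1) (by decide)

theorem f4_11 : Lab (gel 54) p0 (aa D BB av) 4 11 lf4 (cd 372920) 9 :=
  lab_fr (hC.al.frl 4 10 10 (h := [43, 53, 49, 53]) (by decide +kernel) (hC.al.chkR_sound hC.ok Ck.r75).1
    (hC.al.chkR_sound hC.ok Ck.r76).1) (by decide)

theorem f4_12 : Lab (gel 54) p0 (aa D BB av) 4 11 lf4 (cd 356872) 11 :=
  lab_fr (hC.al.frl 4 11 11 (h := [51, 53, 39, 53]) (by decide +kernel) (hC.al.chkR_sound hC.ok Ck.r77).1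
    (hC.al.chkR_sound hC.ok Ck.r78).1) (by decide)

theorem f4_13 : Lab (gel 54) p0 (aa D BB av) 4 11 lf4 (cd 767050) 11 :=
  lab_fr (hC.al.frl 4 11 11 (h := [49, 53, 49, 53]) (by decide +kernel) (hC.al.chkR_sound hC.ok Ck.r79).1
    (hC.al.chkR_sound hC.ok Ck.r80).1) (by decide)

theorem h24 : Lab (gel 54) p0 (aa D BB av) 4 11 lf4 (cd 8192) 12 :=
  lab_sh (hC.shl 4 (n := 0) (by decide +kernel) s24 (zr_ne (by decide)) (zr_ne (by decide)) (by decide)) rfl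

theorem h25 : Lab (gel 54) p0 (aa D BB av) 4 11 lf4 (cd 9192) 12 :=
  lab_sh (hC.shl 4 (n := 0) (by decide +kernel) s25 (zr_ne (by decide)) (zr_ne (by decide)) (by decide)) rfl

theorem h26 : Lab (gel 54) p0 (aa D BB av) 4 11 lf4 (cd 49152) 13 :=
  lab_sh (hC.shl 4 (n := 1) (by decide +kernel) s26 (zr_ne (by decide)) (hC.zr x16 x17 (by decide +kernel)) (by decide)) rfl

theorem h27 : Lab (gel 54) p0 (aa D BB av) 4 11 lf4 (cd 172285) 12 :=
  lab_sh (hC.shl 4 (n := 0) (by decide +kernel) s27 (zr_ne (by decide)) (zr_ne (by decide)) (by decide)) rfl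

theorem h28 : Lab (gel 54) p0 (aa D BB av) 4 11 lf4 (cd 1249976) 12 :=
  lab_sh (hC.shl 4 (n := 0) (by decide +kernel) s28 (zr_ne (by decide)) (zr_ne (by decide)) (by decide)) rfl

theorem h29 : Lab (gel 54) p0 (aa D BB av) 4 11 lf4 (cd 2588672) 12 :=
  lab_sh (hC.shl 4 (n := 0) (by decide +kernel) s29 (zr_ne (by decide)) (zr_ne (by decide)) (by decide)) rfl

theorem h30 : Lab (gel 54) p0 (aa D BB av) 4 11 lf4 (cd 7028736) 12 :=
  lab_sh (hC.shl 4 (n := 0) (by decide +kernel) s30 (zr_ne (by decide)) (zr_ne (by decide)) (by decide)) rfl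

theorem hr4 : ∀ x ∈ reps4, x.1 < 2 ^ 24 ∧ x.2 < 2 ^ 4 ∧ Lab (gel 54) p0 (aa D BB av) 4 11 lf4 (cd x.1) x.2 :=
  List.forall_mem_cons.2 ⟨⟨by decide, by decide, f4_0 hC⟩,
  List.forall_mem_cons.2 ⟨⟨by decide, by decide, f4_1 hC⟩,
  List.forall_mem_cons.2 ⟨⟨by decide, by decide, f4_2 hC⟩,
  List.forall_mem_cons.2 ⟨⟨by decide, by decide, f4_3 hC⟩,
  List.forall_mem_cons.2 ⟨⟨by decide, by decide, f4_4 hC⟩,
  List.forall_mem_cons.2 ⟨⟨by decide, by decide, f4_5 hC⟩,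
  List.forall_mem_cons.2 ⟨⟨by decide, by decide, f4_6 hC⟩,
  List.forall_mem_cons.2 ⟨⟨by decide, by decide, f4_7 hC⟩,
  List.forall_mem_cons.2 ⟨⟨by decide, by decide, f4_8 hC⟩,
  List.forall_mem_cons.2 ⟨⟨by decide, by decide, f4_9 hC⟩,
  List.forall_mem_cons.2 ⟨⟨by decide, by decide, f4_10 hC⟩,
  List.forall_mem_cons.2 ⟨⟨by decide, by decide, f4_11 hC⟩,
  List.forall_mem_cons.2 ⟨⟨by decide, by decide, f4_12 hC⟩,
  List.forall_mem_cons.2 ⟨⟨by decide, by decide, f4_13 hC⟩,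
  List.forall_mem_cons.2 ⟨⟨by decide, by decide, h24 hC⟩,
  List.forall_mem_cons.2 ⟨⟨by decide, by decide, h25 hC⟩,
  List.forall_mem_cons.2 ⟨⟨by decide, by decide, h26 hC⟩,
  List.forall_mem_cons.2 ⟨⟨by decide, by decide, h27 hC⟩,
  List.forall_mem_cons.2 ⟨⟨by decide, by decide, h28 hC⟩,
  List.forall_mem_cons.2 ⟨⟨by decide, by decide, h29 hC⟩,
  List.forall_mem_cons.2 ⟨⟨by decide, by decide, h30 hC⟩,
  List.forall_mem_nil _⟩⟩⟩⟩⟩⟩⟩⟩⟩⟩⟩⟩⟩⟩⟩⟩⟩⟩⟩⟩⟩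

theorem hg4 : ∀ g ∈ gens4, Gn D (aa D BB av 4) g :=
  List.forall_mem_cons.2 ⟨hC.gn 4 g9 (by decide +kernel),
  List.forall_mem_cons.2 ⟨hC.gn 4 g10 (by decide +kernel),
  List.forall_mem_cons.2 ⟨hC.gn 4 g11 (by decide +kernel),
  List.forall_mem_nil _⟩⟩⟩

end

def lf7 : ℕ → Fin 12 × Fin 12 := gdL (0, 0) [(0, 0), (2, 7), (5, 6), (3, 7), (3, 6), (7, 7), (8, 8), (9, 9), (5, 5)]
def reps7 : List (ℕ × ℕ) := [(8388608, 1), (10137600, 2), (13250560, 3), (11984896, 4), (815624, 5), (25062, 6), (1147932, 7), (239563, 8), (1106470, 6), (2061890, 7), (1171, 9), (1955, 9), (8192, 9), (9192, 9), (132162, 9), (2965504, 10), (6733824, 9), (7028736, 9), (7491584, 9)]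
def gens7 : List (List ℕ) := [[384, 758, 3900, 2189, 363, 1056, 1043, 48, 4032, 2208, 2970, 2048, 7289096, 8080139, 6258962, 2395658, 2390538, 4477393, 58924, 8048706, 5977521, 3947091, 6290321, 12843713], [3634, 3382, 4000, 1504, 3755, 1114, 4068, 2024, 3808, 3027, 3733, 2048, 3534880, 7850306, 404687, 1963280, 4730387, 723880, 4098070, 4435772, 7269009, 81664, 4784237, 9724684], [1333616, 4235413, 5558849, 3245, 6525776, 4228857, 165, 6524965, 6527541, 5559109, 4230989, 837, 13315660, 1082, 13840432, 13340326, 9822159, 10790344, 7568485, 3024190, 16480248, 1578237, 791167, 7990269]]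

section
include hC

theorem f7_0 : Lab (gel 54) p0 (aa D BB av) 7 8 lf7 (cd 8388608) 1 :=
  lab_fr (hC.al.frl 7 2 7 (h := []) (by decide +kernel) (hC.al.chkR_sound hC.ok Ck.r28).2
    (hC.al.chkR_sound hC.ok Ck.r182).1) (by decide)

theorem f7_1 : Lab (gel 54) p0 (aa D BB av) 7 8 lf7 (cd 10137600) 2 :=
  lab_fr (hC.al.frl 7 5 6 (h := [44, 53]) (by decide +kernel) (hC.al.chkR_sound hC.ok Ck.r87).2
    (hC.al.chkR_sound hC.ok Ck.r151).2) (by decide)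

theorem f7_2 : Lab (gel 54) p0 (aa D BB av) 7 8 lf7 (cd 13250560) 3 :=
  lab_fr (hC.al.frl 7 3 7 (h := [51, 53]) (by decide +kernel) (hC.al.chkR_sound hC.ok Ck.r57).2
    (hC.al.chkR_sound hC.ok Ck.r183).1) (by decide)

theorem f7_3 : Lab (gel 54) p0 (aa D BB av) 7 8 lf7 (cd 11984896) 4 :=
  lab_fr (hC.al.frl 7 6 3 (h := [50, 53]) (by decide +kernel) (hC.al.chkR_sound hC.ok Ck.r154).2
    (hC.al.chkR_sound hC.ok Ck.r56).2).symm (by decide)

theorem f7_4 : Lab (gel 54) p0 (aa D BB av) 7 8 lf7 (cd 815624) 5 :=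
  lab_fr (hC.al.frl 7 7 7 (h := [51, 53, 45, 53]) (by decide +kernel) (hC.al.chkR_sound hC.ok Ck.r184).1
    (hC.al.chkR_sound hC.ok Ck.r185).1) (by decide)

theorem f7_5 : Lab (gel 54) p0 (aa D BB av) 7 8 lf7 (cd 25062) 6 :=
  lab_fr (hC.al.frl 7 8 8 (h := [44, 53, 43, 53]) (by decide +kernel) (hC.al.chkR_sound hC.ok Ck.r186).1
    (hC.al.chkR_sound hC.ok Ck.r187).1) (by decide)

theorem f7_6 : Lab (gel 54) p0 (aa D BB av) 7 8 lf7 (cd 1147932) 7 :=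
  lab_fr (hC.al.frl 7 9 9 (h := [40, 53, 42, 53]) (by decide +kernel) (hC.al.chkR_sound hC.ok Ck.r188).1
    (hC.al.chkR_sound hC.ok Ck.r189).1) (by decide)

theorem f7_7 : Lab (gel 54) p0 (aa D BB av) 7 8 lf7 (cd 239563) 8 :=
  lab_fr (hC.al.frl 7 5 5 (h := [41, 53, 46, 53]) (by decide +kernel) (hC.al.chkR_sound hC.ok Ck.r104).2
    (hC.al.chkR_sound hC.ok Ck.r190).1) (by decide)

theorem f7_8 : Lab (gel 54) p0 (aa D BB av) 7 8 lf7 (cd 1106470) 6 :=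
  lab_fr (hC.al.frl 7 8 8 (h := [50, 53, 44, 53]) (by decide +kernel) (hC.al.chkR_sound hC.ok Ck.r191).1
    (hC.al.chkR_sound hC.ok Ck.r192).1) (by decide)

theorem f7_9 : Lab (gel 54) p0 (aa D BB av) 7 8 lf7 (cd 2061890) 7 :=
  lab_fr (hC.al.frl 7 9 9 (h := [46, 53, 51, 53]) (by decide +kernel) (hC.al.chkR_sound hC.ok Ck.r193).1
    (hC.al.chkR_sound hC.ok Ck.r194).1) (by decide)

theorem h56 : Lab (gel 54) p0 (aa D BB av) 7 8 lf7 (cd 1171) 9 :=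
  lab_sh (hC.shl 7 (n := 0) (by decide +kernel) s56 (zr_ne (by decide)) (zr_ne (by decide)) (by decide)) rfl

theorem h57 : Lab (gel 54) p0 (aa D BB av) 7 8 lf7 (cd 1955) 9 :=
  lab_sh (hC.shl 7 (n := 0) (by decide +kernel) s57 (zr_ne (by decide)) (zr_ne (by decide)) (by decide)) rfl

theorem h58 : Lab (gel 54) p0 (aa D BB av) 7 8 lf7 (cd 8192) 9 :=
  lab_sh (hC.shl 7 (n := 0) (by decide +kernel) s58 (zr_ne (by decide)) (zr_ne (by decide)) (by decide)) rfl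

theorem h59 : Lab (gel 54) p0 (aa D BB av) 7 8 lf7 (cd 9192) 9 :=
  lab_sh (hC.shl 7 (n := 0) (by decide +kernel) s59 (zr_ne (by decide)) (zr_ne (by decide)) (by decide)) rfl

theorem h60 : Lab (gel 54) p0 (aa D BB av) 7 8 lf7 (cd 132162) 9 :=
  lab_sh (hC.shl 7 (n := 0) (by decide +kernel) s60 (zr_ne (by decide)) (zr_ne (by decide)) (by decide)) rfl

theorem h61 : Lab (gel 54) p0 (aa D BB av) 7 8 lf7 (cd 2965504) 10 :=
  lab_sh (hC.shl 7 (n := 1) (by decide +kernel) s61 (hC.zr x20 x21 (by decide +kernel)) (zr_ne (by decide)) (by decide)) rfl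

theorem h62 : Lab (gel 54) p0 (aa D BB av) 7 8 lf7 (cd 6733824) 9 :=
  lab_sh (hC.shl 7 (n := 0) (by decide +kernel) s62 (zr_ne (by decide)) (zr_ne (by decide)) (by decide)) rfl

theorem h63 : Lab (gel 54) p0 (aa D BB av) 7 8 lf7 (cd 7028736) 9 :=
  lab_sh (hC.shl 7 (n := 0) (by decide +kernel) s63 (zr_ne (by decide)) (zr_ne (by decide)) (by decide)) rfl

theorem h64 : Lab (gel 54) p0 (aa D BB av) 7 8 lf7 (cd 7491584) 9 :=
  lab_sh (hC.shl 7 (n := 0) (by decide +kernel) s64 (zr_ne (by decide)) (zr_ne (by decide)) (by decide)) rfl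

theorem hr7 : ∀ x ∈ reps7, x.1 < 2 ^ 24 ∧ x.2 < 2 ^ 4 ∧ Lab (gel 54) p0 (aa D BB av) 7 8 lf7 (cd x.1) x.2 :=
  List.forall_mem_cons.2 ⟨⟨by decide, by decide, f7_0 hC⟩,
  List.forall_mem_cons.2 ⟨⟨by decide, by decide, f7_1 hC⟩,
  List.forall_mem_cons.2 ⟨⟨by decide, by decide, f7_2 hC⟩,
  List.forall_mem_cons.2 ⟨⟨by decide, by decide, f7_3 hC⟩,
  List.forall_mem_cons.2 ⟨⟨by decide, by decide, f7_4 hC⟩,
  List.forall_mem_cons.2 ⟨⟨by decide, by decide, f7_5 hC⟩,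
  List.forall_mem_cons.2 ⟨⟨by decide, by decide, f7_6 hC⟩,
  List.forall_mem_cons.2 ⟨⟨by decide, by decide, f7_7 hC⟩,
  List.forall_mem_cons.2 ⟨⟨by decide, by decide, f7_8 hC⟩,
  List.forall_mem_cons.2 ⟨⟨by decide, by decide, f7_9 hC⟩,
  List.forall_mem_cons.2 ⟨⟨by decide, by decide, h56 hC⟩,
  List.forall_mem_cons.2 ⟨⟨by decide, by decide, h57 hC⟩,
  List.forall_mem_cons.2 ⟨⟨by decide, by decide, h58 hC⟩,
  List.forall_mem_cons.2 ⟨⟨by decide, by decide, h59 hC⟩,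
  List.forall_mem_cons.2 ⟨⟨by decide, by decide, h60 hC⟩,
  List.forall_mem_cons.2 ⟨⟨by decide, by decide, h61 hC⟩,
  List.forall_mem_cons.2 ⟨⟨by decide, by decide, h62 hC⟩,
  List.forall_mem_cons.2 ⟨⟨by decide, by decide, h63 hC⟩,
  List.forall_mem_cons.2 ⟨⟨by decide, by decide, h64 hC⟩,
  List.forall_mem_nil _⟩⟩⟩⟩⟩⟩⟩⟩⟩⟩⟩⟩⟩⟩⟩⟩⟩⟩⟩

theorem hg7 : ∀ g ∈ gens7, Gn D (aa D BB av 7) g :=
  List.forall_mem_cons.2 ⟨hC.gn 7 g19 (by decide +kernel),
  List.forall_mem_cons.2 ⟨hC.gn 7 g20 (by decide +kernel),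
  List.forall_mem_cons.2 ⟨hC.gn 7 g21 (by decide +kernel),
  List.forall_mem_nil _⟩⟩⟩

end

end

end CfsgMO.Ck
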