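/-
The axes: representatives of the orbits on classes, part 1.
-/
import Cfsg.Agent.MO.Ax2
import Cfsg.Agent.MO.AxC0
import Cfsg.Agent.MO.AxC1
import Cfsg.Agent.MO.AxC2
import Cfsg.Agent.MO.AxC3
import Cfsg.Agent.MO.AxC4
import Cfsg.Agent.MO.AxC5
import Cfsg.Agent.MO.AxC6
import Cfsg.Agent.MO.AxC7
import Cfsg.Agent.MO.AxC8
import Cfsg.Agent.MO.AxC9
import Cfsg.Agent.MO.AxC10
import Cfsg.Agent.MO.AxC11

set_option autoImplicit false
set_option maxRecDepth 100000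

namespace CfsgMO.Ck

open Dat

noncomputable section

variable {D : Dat} {gel : ℕ → D.Γ} {p0 : D.I} (hC : Ctx D BB tab amat gel av p0)

def lf5 : ℕ → Fin 12 × Fin 12 := gdL (0, 0) [(0, 0), (2, 5), (3, 5), (6, 6), (4, 5), (6, 7), (5, 5), (8, 9), (9, 9), (8, 8), (5, 6), (9, 10), (6, 8), (5, 7), (8, 10), (10, 10), (11, 11), (5, 8), (5, 9), (5, 10)]
def reps5 : List (ℕ × ℕ) := [(8388608, 1), (15728640, 2), (11984896, 3), (13455360, 4), (12775424, 5), (12345344, 6), (3428354, 7), (4861955, 8), (7139356, 9), (9224419, 10), (15171615, 6), (4362494, 11), (9822461, 12), (12132382, 10), (4223301, 13), (12291, 9), (239563, 14), (119505, 15), (815624, 16), (643745, 9), (6697285, 17), (12512, 14), (94463, 7), (2065129, 17), (1106470, 7), (15373148, 14), (3257101, 9), (10720958, 18), (363041, 17), (502235, 18), (375455, 15), (211508, 14), (343146, 9), (14511986, 9), (285308, 19), (4172522, 17), (427615,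 19), (1171, 20), (8192, 20), (49379, 20), (81920, 20), (150618, 20), (172285, 20), (317791, 20), (880640, 20), (1814528, 20), (1846439, 20), (1990657, 20), (7028736, 20), (8540162, 20), (10817761, 20)]
def gens5 : List (List ℕ) := [[515, 2970, 958, 946, 3238, 719, 954, 2874, 3540, 952, 2986, 2048, 3410713, 5374166, 7625225, 1343521, 7346390, 3415565, 1045576, 6032650, 3152523, 5258266, 1116094, 14617277], [1, 2064, 8, 128, 3072, 32, 256, 2052, 4095, 2560, 2, 2048, 269844, 329342, 295547, 788163, 4460246, 395899, 1311928, 278697, 265400, 2359297, 270336, 15026022], [2932, 32, 726, 16, 1024, 2056, 3463, 512, 173, 373, 3868, 2048, 794170, 1461563, 1599211, 1124632, 5008358, 1868112, 1591431, 2120532, 533821, 1079910, 1319502, 10286101]]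

section
include hC

theorem f5_0 : Lab (gel 54) p0 (aa D BB av) 5 19 lf5 (cd 8388608) 1 :=
  lab_fr (hC.al.frl 5 2 5 (h := []) (by decide +kernel) (hC.al.chkR_sound hC.ok Ck.r24).2
    (hC.al.chkR_sound hC.ok Ck.r81).1) (by decide)

theorem f5_1 : Lab (gel 54) p0 (aa D BB av) 5 19 lf5 (cd 15728640) 2 :=
  lab_fr (hC.al.frl 5 5 3 (h := [53]) (by decide +kernel) (hC.al.chkR_sound hC.ok Ck.r82).1
    (hC.al.chkR_sound hC.ok Ck.r45).2).symm (by decide)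

theorem f5_2 : Lab (gel 54) p0 (aa D BB av) 5 19 lf5 (cd 11984896) 3 :=
  lab_fr (hC.al.frl 5 6 6 (h := [50, 53]) (by decide +kernel) (hC.al.chkR_sound hC.ok Ck.r83).1
    (hC.al.chkR_sound hC.ok Ck.r84).1) (by decide)

theorem f5_3 : Lab (gel 54) p0 (aa D BB av) 5 19 lf5 (cd 13455360) 4 :=
  lab_fr (hC.al.frl 5 5 4 (h := [46, 53]) (by decide +kernel) (hC.al.chkR_sound hC.ok Ck.r85).1
    (hC.al.chkR_sound hC.ok Ck.r67).2).symm (by decide)

theorem f5_4 : Lab (gel 54) p0 (aa D BB av) 5 19 lf5 (cd 12775424) 5 :=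
  lab_fr (hC.al.frl 5 6 7 (h := [48, 53]) (by decide +kernel) (hC.al.chkR_sound hC.ok Ck.r86).1
    (hC.al.chkR_sound hC.ok Ck.r87).1) (by decide)

theorem f5_5 : Lab (gel 54) p0 (aa D BB av) 5 19 lf5 (cd 12345344) 6 :=
  lab_fr (hC.al.frl 5 5 5 (h := [39, 53]) (by decide +kernel) (hC.al.chkR_sound hC.ok Ck.r88).1
    (hC.al.chkR_sound hC.ok Ck.r88).2) (by decide)

theorem f5_6 : Lab (gel 54) p0 (aa D BB av) 5 19 lf5 (cd 3428354) 7 :=
  lab_fr (hC.al.frl 5 9 8 (h := [53, 42, 53]) (by decide +kernel) (hC.al.chkR_sound hC.ok Ck.r89).1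
    (hC.al.chkR_sound hC.ok Ck.r90).1).symm (by decide)

theorem f5_7 : Lab (gel 54) p0 (aa D BB av) 5 19 lf5 (cd 4861955) 8 :=
  lab_fr (hC.al.frl 5 9 9 (h := [53, 51, 53]) (by decide +kernel) (hC.al.chkR_sound hC.ok Ck.r91).1
    (hC.al.chkR_sound hC.ok Ck.r92).1) (by decide)

theorem f5_8 : Lab (gel 54) p0 (aa D BB av) 5 19 lf5 (cd 7139356) 9 :=
  lab_fr (hC.al.frl 5 8 8 (h := [53, 48, 53]) (by decide +kernel) (hC.al.chkR_sound hC.ok Ck.r93).1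
    (hC.al.chkR_sound hC.ok Ck.r94).1) (by decide)

theorem f5_9 : Lab (gel 54) p0 (aa D BB av) 5 19 lf5 (cd 9224419) 10 :=
  lab_fr (hC.al.frl 5 6 5 (h := [53, 49, 53]) (by decide +kernel) (hC.al.chkR_sound hC.ok Ck.r95).1
    (hC.al.chkR_sound hC.ok Ck.r96).1).symm (by decide)

theorem f5_10 : Lab (gel 54) p0 (aa D BB av) 5 19 lf5 (cd 15171615) 6 :=
  lab_fr (hC.al.frl 5 5 5 (h := [53, 38, 53]) (by decide +kernel) (hC.al.chkR_sound hC.ok Ck.r97).1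
    (hC.al.chkR_sound hC.ok Ck.r97).2) (by decide)

theorem f5_11 : Lab (gel 54) p0 (aa D BB av) 5 19 lf5 (cd 4362494) 11 :=
  lab_fr (hC.al.frl 5 9 10 (h := [53, 46, 53]) (by decide +kernel) (hC.al.chkR_sound hC.ok Ck.r98).1
    (hC.al.chkR_sound hC.ok Ck.r99).1) (by decide)

theorem f5_12 : Lab (gel 54) p0 (aa D BB av) 5 19 lf5 (cd 9822461) 12 :=
  lab_fr (hC.al.frl 5 8 6 (h := [53, 47, 53]) (by decide +kernel) (hC.al.chkR_sound hC.ok Ck.r100).1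
    (hC.al.chkR_sound hC.ok Ck.r101).1).symm (by decide)

theorem f5_13 : Lab (gel 54) p0 (aa D BB av) 5 19 lf5 (cd 12132382) 10 :=
  lab_fr (hC.al.frl 5 6 5 (h := [53, 40, 53]) (by decide +kernel) (hC.al.chkR_sound hC.ok Ck.r102).1
    (hC.al.chkR_sound hC.ok Ck.r103).1).symm (by decide)

theorem f5_14 : Lab (gel 54) p0 (aa D BB av) 5 19 lf5 (cd 4223301) 13 :=
  lab_fr (hC.al.frl 5 7 5 (h := [42, 53, 40, 53]) (by decide +kernel) (hC.al.chkR_sound hC.ok Ck.r104).1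
    (hC.al.chkR_sound hC.ok Ck.r105).1).symm (by decide)

theorem f5_15 : Lab (gel 54) p0 (aa D BB av) 5 19 lf5 (cd 12291) 9 :=
  lab_fr (hC.al.frl 5 8 8 (h := [53, 40, 49, 53]) (by decide +kernel) (hC.al.chkR_sound hC.ok Ck.r106).1
    (hC.al.chkR_sound hC.ok Ck.r107).1) (by decide)

theorem f5_16 : Lab (gel 54) p0 (aa D BB av) 5 19 lf5 (cd 239563) 14 :=
  lab_fr (hC.al.frl 5 10 8 (h := [41, 53, 46, 53]) (by decide +kernel) (hC.al.chkR_sound hC.ok Ck.r108).1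
    (hC.al.chkR_sound hC.ok Ck.r109).1).symm (by decide)

theorem f5_17 : Lab (gel 54) p0 (aa D BB av) 5 19 lf5 (cd 119505) 15 :=
  lab_fr (hC.al.frl 5 10 10 (h := [46, 53, 41, 53]) (by decide +kernel) (hC.al.chkR_sound hC.ok Ck.r110).1
    (hC.al.chkR_sound hC.ok Ck.r111).1) (by decide)

theorem f5_18 : Lab (gel 54) p0 (aa D BB av) 5 19 lf5 (cd 815624) 16 :=
  lab_fr (hC.al.frl 5 11 11 (h := [51, 53, 45, 53]) (by decide +kernel) (hC.al.chkR_sound hC.ok Ck.r112).1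
    (hC.al.chkR_sound hC.ok Ck.r113).1) (by decide)

theorem f5_19 : Lab (gel 54) p0 (aa D BB av) 5 19 lf5 (cd 643745) 9 :=
  lab_fr (hC.al.frl 5 8 8 (h := [39, 53, 45, 53]) (by decide +kernel) (hC.al.chkR_sound hC.ok Ck.r114).1
    (hC.al.chkR_sound hC.ok Ck.r115).1) (by decide)

theorem f5_20 : Lab (gel 54) p0 (aa D BB av) 5 19 lf5 (cd 6697285) 17 :=
  lab_fr (hC.al.frl 5 8 5 (h := [42, 53, 39, 53]) (by decide +kernel) (hC.al.chkR_sound hC.ok Ck.r116).1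
    (hC.al.chkR_sound hC.ok Ck.r117).1).symm (by decide)

theorem f5_21 : Lab (gel 54) p0 (aa D BB av) 5 19 lf5 (cd 12512) 14 :=
  lab_fr (hC.al.frl 5 8 10 (h := [53, 42, 45, 53]) (by decide +kernel) (hC.al.chkR_sound hC.ok Ck.r118).1
    (hC.al.chkR_sound hC.ok Ck.r119).1) (by decide)

theorem f5_22 : Lab (gel 54) p0 (aa D BB av) 5 19 lf5 (cd 94463) 7 :=
  lab_fr (hC.al.frl 5 8 9 (h := [53, 44, 50, 53]) (by decide +kernel) (hC.al.chkR_sound hC.ok Ck.r120).1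
    (hC.al.chkR_sound hC.ok Ck.r121).1) (by decide)

theorem f5_23 : Lab (gel 54) p0 (aa D BB av) 5 19 lf5 (cd 2065129) 17 :=
  lab_fr (hC.al.frl 5 5 8 (h := [44, 53, 49, 53]) (by decide +kernel) (hC.al.chkR_sound hC.ok Ck.r117).2
    (hC.al.chkR_sound hC.ok Ck.r122).1) (by decide)

theorem f5_24 : Lab (gel 54) p0 (aa D BB av) 5 19 lf5 (cd 1106470) 7 :=
  lab_fr (hC.al.frl 5 9 8 (h := [50, 53, 44, 53]) (by decide +kernel) (hC.al.chkR_sound hC.ok Ck.r123).1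
    (hC.al.chkR_sound hC.ok Ck.r124).1).symm (by decide)

theorem f5_25 : Lab (gel 54) p0 (aa D BB av) 5 19 lf5 (cd 15373148) 14 :=
  lab_fr (hC.al.frl 5 10 8 (h := [53, 45, 53, 39, 53]) (by decide +kernel) (hC.al.chkR_sound hC.ok Ck.r125).1
    (hC.al.chkR_sound hC.ok Ck.r126).1).symm (by decide)

theorem f5_26 : Lab (gel 54) p0 (aa D BB av) 5 19 lf5 (cd 3257101) 9 :=
  lab_fr (hC.al.frl 5 8 8 (h := [53, 49, 53, 39, 53]) (by decide +kernel) (hC.al.chkR_sound hC.ok Ck.r127).1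
    (hC.al.chkR_sound hC.ok Ck.r128).1) (by decide)

theorem f5_27 : Lab (gel 54) p0 (aa D BB av) 5 19 lf5 (cd 10720958) 18 :=
  lab_fr (hC.al.frl 5 5 9 (h := [53, 47, 53, 41, 53]) (by decide +kernel) (hC.al.chkR_sound hC.ok Ck.r129).1
    (hC.al.chkR_sound hC.ok Ck.r130).1) (by decide)

theorem f5_28 : Lab (gel 54) p0 (aa D BB av) 5 19 lf5 (cd 363041) 17 :=
  lab_fr (hC.al.frl 5 5 8 (h := [53, 48, 53, 48, 53]) (by decide +kernel) (hC.al.chkR_sound hC.ok Ck.r131).1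
    (hC.al.chkR_sound hC.ok Ck.r132).1) (by decide)

theorem f5_29 : Lab (gel 54) p0 (aa D BB av) 5 19 lf5 (cd 502235) 18 :=
  lab_fr (hC.al.frl 5 5 9 (h := [53, 51, 53, 41, 53]) (by decide +kernel) (hC.al.chkR_sound hC.ok Ck.r133).1
    (hC.al.chkR_sound hC.ok Ck.r134).1) (by decide)

theorem f5_30 : Lab (gel 54) p0 (aa D BB av) 5 19 lf5 (cd 375455) 15 :=
  lab_fr (hC.al.frl 5 10 10 (h := [53, 50, 53, 48, 53]) (by decide +kernel) (hC.al.chkR_sound hC.ok Ck.r135).1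
    (hC.al.chkR_sound hC.ok Ck.r136).1) (by decide)

theorem f5_31 : Lab (gel 54) p0 (aa D BB av) 5 19 lf5 (cd 211508) 14 :=
  lab_fr (hC.al.frl 5 10 8 (h := [53, 43, 53, 45, 53]) (by decide +kernel) (hC.al.chkR_sound hC.ok Ck.r137).1
    (hC.al.chkR_sound hC.ok Ck.r138).1).symm (by decide)

theorem f5_32 : Lab (gel 54) p0 (aa D BB av) 5 19 lf5 (cd 343146) 9 :=
  lab_fr (hC.al.frl 5 8 8 (h := [53, 41, 53, 39, 53]) (by decide +kernel) (hC.al.chkR_sound hC.ok Ck.r139).1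
    (hC.al.chkR_sound hC.ok Ck.r140).1) (by decide)

theorem f5_33 : Lab (gel 54) p0 (aa D BB av) 5 19 lf5 (cd 14511986) 9 :=
  lab_fr (hC.al.frl 5 8 8 (h := [53, 51, 53, 38, 53]) (by decide +kernel) (hC.al.chkR_sound hC.ok Ck.r141).1
    (hC.al.chkR_sound hC.ok Ck.r142).1) (by decide)

theorem f5_34 : Lab (gel 54) p0 (aa D BB av) 5 19 lf5 (cd 285308) 19 :=
  lab_fr (hC.al.frl 5 5 10 (h := [53, 40, 53, 36, 53]) (by decide +kernel) (hC.al.chkR_sound hC.ok Ck.r143).1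
    (hC.al.chkR_sound hC.ok Ck.r144).1) (by decide)

theorem f5_35 : Lab (gel 54) p0 (aa D BB av) 5 19 lf5 (cd 4172522) 17 :=
  lab_fr (hC.al.frl 5 5 8 (h := [53, 51, 53, 40, 53]) (by decide +kernel) (hC.al.chkR_sound hC.ok Ck.r145).1
    (hC.al.chkR_sound hC.ok Ck.r146).1) (by decide)

theorem f5_36 : Lab (gel 54) p0 (aa D BB av) 5 19 lf5 (cd 427615) 19 :=
  lab_fr (hC.al.frl 5 10 5 (h := [53, 30, 47, 53, 41, 53]) (by decide +kernel) (hC.al.chkR_sound hC.ok Ck.r147).1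
    (hC.al.chkR_sound hC.ok Ck.r143).2).symm (by decide)

theorem h31 : Lab (gel 54) p0 (aa D BB av) 5 19 lf5 (cd 1171) 20 :=
  lab_sh (hC.shl 5 (n := 0) (by decide +kernel) s31 (zr_ne (by decide)) (zr_ne (by decide)) (by decide)) rfl

theorem h32 : Lab (gel 54) p0 (aa D BB av) 5 19 lf5 (cd 8192) 20 :=
  lab_sh (hC.shl 5 (n := 0) (by decide +kernel) s32 (zr_ne (by decide)) (zr_ne (by decide)) (by decide)) rfl

theorem h33 : Lab (gel 54) p0 (aa D BB av) 5 19 lf5 (cd 49379) 20 :=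
  lab_sh (hC.shl 5 (n := 0) (by decide +kernel) s33 (zr_ne (by decide)) (zr_ne (by decide)) (by decide)) rfl

theorem h34 : Lab (gel 54) p0 (aa D BB av) 5 19 lf5 (cd 81920) 20 :=
  lab_sh (hC.shl 5 (n := 0) (by decide +kernel) s34 (zr_ne (by decide)) (zr_ne (by decide)) (by decide)) rfl

theorem h35 : Lab (gel 54) p0 (aa D BB av) 5 19 lf5 (cd 150618) 20 :=
  lab_sh (hC.shl 5 (n := 0) (by decide +kernel) s35 (zr_ne (by decide)) (zr_ne (by decide)) (by decide)) rfl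

theorem h36 : Lab (gel 54) p0 (aa D BB av) 5 19 lf5 (cd 172285) 20 :=
  lab_sh (hC.shl 5 (n := 0) (by decide +kernel) s36 (zr_ne (by decide)) (zr_ne (by decide)) (by decide)) rfl

theorem h37 : Lab (gel 54) p0 (aa D BB av) 5 19 lf5 (cd 317791) 20 :=
  lab_sh (hC.shl 5 (n := 0) (by decide +kernel) s37 (zr_ne (by decide)) (zr_ne (by decide)) (by decide)) rfl

theorem h38 : Lab (gel 54) p0 (aa D BB av) 5 19 lf5 (cd 880640) 20 :=
  lab_sh (hC.shl 5 (n := 0) (by decide +kernel) s38 (zr_ne (by decide)) (zr_ne (by decide)) (by decide)) rfl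

theorem h39 : Lab (gel 54) p0 (aa D BB av) 5 19 lf5 (cd 1814528) 20 :=
  lab_sh (hC.shl 5 (n := 0) (by decide +kernel) s39 (zr_ne (by decide)) (zr_ne (by decide)) (by decide)) rfl

theorem h40 : Lab (gel 54) p0 (aa D BB av) 5 19 lf5 (cd 1846439) 20 :=
  lab_sh (hC.shl 5 (n := 0) (by decide +kernel) s40 (zr_ne (by decide)) (zr_ne (by decide)) (by decide)) rfl

theorem h41 : Lab (gel 54) p0 (aa D BB av) 5 19 lf5 (cd 1990657) 20 :=
  lab_sh (hC.shl 5 (n := 0) (by decide +kernel) s41 (zr_ne (by decide)) (zr_ne (by decide)) (by decide)) rfl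

theorem h42 : Lab (gel 54) p0 (aa D BB av) 5 19 lf5 (cd 7028736) 20 :=
  lab_sh (hC.shl 5 (n := 0) (by decide +kernel) s42 (zr_ne (by decide)) (zr_ne (by decide)) (by decide)) rfl

theorem h43 : Lab (gel 54) p0 (aa D BB av) 5 19 lf5 (cd 8540162) 20 :=
  lab_sh (hC.shl 5 (n := 0) (by decide +kernel) s43 (zr_ne (by decide)) (zr_ne (by decide)) (by decide)) rfl

theorem h44 : Lab (gel 54) p0 (aa D BB av) 5 19 lf5 (cd 10817761) 20 :=
  lab_sh (hC.shl 5 (n := 0) (by decide +kernel) s44 (zr_ne (by decide)) (zr_ne (by decide)) (by decide)) rfl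

theorem hr5 : ∀ x ∈ reps5, x.1 < 2 ^ 24 ∧ x.2 < 2 ^ 5 ∧ Lab (gel 54) p0 (aa D BB av) 5 19 lf5 (cd x.1) x.2 :=
  List.forall_mem_cons.2 ⟨⟨by decide, by decide, f5_0 hC⟩,
  List.forall_mem_cons.2 ⟨⟨by decide, by decide, f5_1 hC⟩,
  List.forall_mem_cons.2 ⟨⟨by decide, by decide, f5_2 hC⟩,
  List.forall_mem_cons.2 ⟨⟨by decide, by decide, f5_3 hC⟩,
  List.forall_mem_cons.2 ⟨⟨by decide, by decide, f5_4 hC⟩,
  List.forall_mem_cons.2 ⟨⟨by decide, by decide, f5_5 hC⟩,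
  List.forall_mem_cons.2 ⟨⟨by decide, by decide, f5_6 hC⟩,
  List.forall_mem_cons.2 ⟨⟨by decide, by decide, f5_7 hC⟩,
  List.forall_mem_cons.2 ⟨⟨by decide, by decide, f5_8 hC⟩,
  List.forall_mem_cons.2 ⟨⟨by decide, by decide, f5_9 hC⟩,
  List.forall_mem_cons.2 ⟨⟨by decide, by decide, f5_10 hC⟩,
  List.forall_mem_cons.2 ⟨⟨by decide, by decide, f5_11 hC⟩,
  List.forall_mem_cons.2 ⟨⟨by decide, by decide, f5_12 hC⟩,
  List.forall_mem_cons.2 ⟨⟨by decide, by decide, f5_13 hC⟩,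
  List.forall_mem_cons.2 ⟨⟨by decide, by decide, f5_14 hC⟩,
  List.forall_mem_cons.2 ⟨⟨by decide, by decide, f5_15 hC⟩,
  List.forall_mem_cons.2 ⟨⟨by decide, by decide, f5_16 hC⟩,
  List.forall_mem_cons.2 ⟨⟨by decide, by decide, f5_17 hC⟩,
  List.forall_mem_cons.2 ⟨⟨by decide, by decide, f5_18 hC⟩,
  List.forall_mem_cons.2 ⟨⟨by decide, by decide, f5_19 hC⟩,
  List.forall_mem_cons.2 ⟨⟨by decide, by decide, f5_20 hC⟩,
  List.forall_mem_cons.2 ⟨⟨by decide, by decide, f5_21 hC⟩,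
  List.forall_mem_cons.2 ⟨⟨by decide, by decide, f5_22 hC⟩,
  List.forall_mem_cons.2 ⟨⟨by decide, by decide, f5_23 hC⟩,
  List.forall_mem_cons.2 ⟨⟨by decide, by decide, f5_24 hC⟩,
  List.forall_mem_cons.2 ⟨⟨by decide, by decide, f5_25 hC⟩,
  List.forall_mem_cons.2 ⟨⟨by decide, by decide, f5_26 hC⟩,
  List.forall_mem_cons.2 ⟨⟨by decide, by decide, f5_27 hC⟩,
  List.forall_mem_cons.2 ⟨⟨by decide, by decide, f5_28 hC⟩,
  List.forall_mem_cons.2 ⟨⟨by decide, by decide, f5_29 hC⟩,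
  List.forall_mem_cons.2 ⟨⟨by decide, by decide, f5_30 hC⟩,
  List.forall_mem_cons.2 ⟨⟨by decide, by decide, f5_31 hC⟩,
  List.forall_mem_cons.2 ⟨⟨by decide, by decide, f5_32 hC⟩,
  List.forall_mem_cons.2 ⟨⟨by decide, by decide, f5_33 hC⟩,
  List.forall_mem_cons.2 ⟨⟨by decide, by decide, f5_34 hC⟩,
  List.forall_mem_cons.2 ⟨⟨by decide, by decide, f5_35 hC⟩,
  List.forall_mem_cons.2 ⟨⟨by decide, by decide, f5_36 hC⟩,
  List.forall_mem_cons.2 ⟨⟨by decide, by decide, h31 hC⟩,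
  List.forall_mem_cons.2 ⟨⟨by decide, by decide, h32 hC⟩,
  List.forall_mem_cons.2 ⟨⟨by decide, by decide, h33 hC⟩,
  List.forall_mem_cons.2 ⟨⟨by decide, by decide, h34 hC⟩,
  List.forall_mem_cons.2 ⟨⟨by decide, by decide, h35 hC⟩,
  List.forall_mem_cons.2 ⟨⟨by decide, by decide, h36 hC⟩,
  List.forall_mem_cons.2 ⟨⟨by decide, by decide, h37 hC⟩,
  List.forall_mem_cons.2 ⟨⟨by decide, by decide, h38 hC⟩,
  List.forall_mem_cons.2 ⟨⟨by decide, by decide, h39 hC⟩,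
  List.forall_mem_cons.2 ⟨⟨by decide, by decide, h40 hC⟩,
  List.forall_mem_cons.2 ⟨⟨by decide, by decide, h41 hC⟩,
  List.forall_mem_cons.2 ⟨⟨by decide, by decide, h42 hC⟩,
  List.forall_mem_cons.2 ⟨⟨by decide, by decide, h43 hC⟩,
  List.forall_mem_cons.2 ⟨⟨by decide, by decide, h44 hC⟩,
  List.forall_mem_nil _⟩⟩⟩⟩⟩⟩⟩⟩⟩⟩⟩⟩⟩⟩⟩⟩⟩⟩⟩⟩⟩⟩⟩⟩⟩⟩⟩⟩⟩⟩⟩⟩⟩⟩⟩⟩⟩⟩⟩⟩⟩⟩⟩⟩⟩⟩⟩⟩⟩⟩⟩

theorem hg5 : ∀ g ∈ gens5, Gn D (aa D BB av 5) g :=
  List.forall_mem_cons.2 ⟨hC.gn 5 g12 (by decide +kernel),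
  List.forall_mem_cons.2 ⟨hC.gn 5 g13 (by decide +kernel),
  List.forall_mem_cons.2 ⟨hC.gn 5 g14 (by decide +kernel),
  List.forall_mem_nil _⟩⟩⟩

end

def lf6 : ℕ → Fin 12 × Fin 12 := gdL (0, 0) [(0, 0), (2, 6), (5, 6), (4, 6), (5, 7), (3, 6), (3, 7), (8, 9), (8, 10), (6, 9), (5, 8), (8, 8), (9, 9), (10, 10), (6, 6), (5, 5)]
def reps6 : List (ℕ × ℕ) := [(8388608, 1), (11743232, 2), (12607488, 3), (12775424, 4), (12156928, 2), (10137600, 5), (8491008, 5), (9027584, 6), (1258001, 7), (356872, 8), (8626959, 9), (2065129, 10), (608184, 11), (239563, 11), (442580, 11), (6112644, 12), (119505, 13), (12641085, 14), (976480, 15), (767050, 13), (12489040, 14), (1135746, 15), (74195, 12), (1171, 16), (1955, 16), (9192, 16), (33697, 16), (81920, 16), (196608, 16), (217196, 16), (2228224, 16), (4419584, 16), (7028736, 16), (8781824, 17)]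
def gens6 : List (List ℕ) := [[2047, 1266, 1423, 3479, 615, 3527, 1287, 3495, 3921, 1415, 3370, 2048, 6299905, 5243529, 3198974, 3241989, 4224527, 7603281, 1585699, 2242794, 21445, 7316462, 5269743, 12025601], [4095, 3877, 323, 1623, 2395, 363, 267, 459, 3276, 3764, 1400, 2048, 1041404, 13932, 3210021, 5266587, 6388309, 3281059, 6565057, 5777029, 2113536, 8359290, 4212239, 11625295], [4728, 1038148, 128544, 931336, 930052, 127296, 130784, 128640, 1039612, 1043452, 1048368, 1792, 4186048, 6296087, 11678248, 6387096, 4172131, 12247515, 12515756, 15267372, 4114250, 6359270, 6357088, 16421889], [6302575, 12923, 12772653, 13443593, 12774709, 13444457, 12774757, 12772613, 4190762, 5258592, 7327662, 1034444, 1034035, 5258377, 4156910, 9241239, 6215596, 9091263, 1338675, 8235537, 10320991, 15892502, 12747812, 13285671]]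

section
include hC

theorem f6_0 : Lab (gel 54) p0 (aa D BB av) 6 15 lf6 (cd 8388608) 1 :=
  lab_fr (hC.al.frl 6 2 6 (h := []) (by decide +kernel) (hC.al.chkR_sound hC.ok Ck.r26).2
    (hC.al.chkR_sound hC.ok Ck.r148).1) (by decide)

theorem f6_1 : Lab (gel 54) p0 (aa D BB av) 6 15 lf6 (cd 11743232) 2 :=
  lab_fr (hC.al.frl 6 6 5 (h := [36, 53]) (by decide +kernel) (hC.al.chkR_sound hC.ok Ck.r149).1
    (hC.al.chkR_sound hC.ok Ck.r83).2).symm (by decide)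

theorem f6_2 : Lab (gel 54) p0 (aa D BB av) 6 15 lf6 (cd 12607488) 3 :=
  lab_fr (hC.al.frl 6 6 4 (h := [45, 53]) (by decide +kernel) (hC.al.chkR_sound hC.ok Ck.r150).1
    (hC.al.chkR_sound hC.ok Ck.r65).2).symm (by decide)

theorem f6_3 : Lab (gel 54) p0 (aa D BB av) 6 15 lf6 (cd 12775424) 4 :=
  lab_fr (hC.al.frl 6 7 5 (h := [48, 53]) (by decide +kernel) (hC.al.chkR_sound hC.ok Ck.r151).1
    (hC.al.chkR_sound hC.ok Ck.r86).2).symm (by decide)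

theorem f6_4 : Lab (gel 54) p0 (aa D BB av) 6 15 lf6 (cd 12156928) 2 :=
  lab_fr (hC.al.frl 6 5 6 (h := [38, 53]) (by decide +kernel) (hC.al.chkR_sound hC.ok Ck.r84).2
    (hC.al.chkR_sound hC.ok Ck.r149).2) (by decide)

theorem f6_5 : Lab (gel 54) p0 (aa D BB av) 6 15 lf6 (cd 10137600) 5 :=
  lab_fr (hC.al.frl 6 6 3 (h := [44, 53]) (by decide +kernel) (hC.al.chkR_sound hC.ok Ck.r152).1
    (hC.al.chkR_sound hC.ok Ck.r41).2).symm (by decide)

theorem f6_6 : Lab (gel 54) p0 (aa D BB av) 6 15 lf6 (cd 8491008) 5 :=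
  lab_fr (hC.al.frl 6 3 6 (h := [46, 44, 53]) (by decide +kernel) (hC.al.chkR_sound hC.ok Ck.r51).2
    (hC.al.chkR_sound hC.ok Ck.r153).1) (by decide)

theorem f6_7 : Lab (gel 54) p0 (aa D BB av) 6 15 lf6 (cd 9027584) 6 :=
  lab_fr (hC.al.frl 6 3 7 (h := [40, 36, 53]) (by decide +kernel) (hC.al.chkR_sound hC.ok Ck.r55).2
    (hC.al.chkR_sound hC.ok Ck.r154).1) (by decide)

theorem f6_8 : Lab (gel 54) p0 (aa D BB av) 6 15 lf6 (cd 1258001) 7 :=
  lab_fr (hC.al.frl 6 9 8 (h := [45, 53, 43, 53]) (by decide +kernel) (hC.al.chkR_sound hC.ok Ck.r155).1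
    (hC.al.chkR_sound hC.ok Ck.r156).1).symm (by decide)

theorem f6_9 : Lab (gel 54) p0 (aa D BB av) 6 15 lf6 (cd 356872) 8 :=
  lab_fr (hC.al.frl 6 8 10 (h := [51, 53, 39, 53]) (by decide +kernel) (hC.al.chkR_sound hC.ok Ck.r157).1
    (hC.al.chkR_sound hC.ok Ck.r158).1) (by decide)

theorem f6_10 : Lab (gel 54) p0 (aa D BB av) 6 15 lf6 (cd 8626959) 9 :=
  lab_fr (hC.al.frl 6 9 6 (h := [44, 53, 45, 53]) (by decide +kernel) (hC.al.chkR_sound hC.ok Ck.r159).1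
    (hC.al.chkR_sound hC.ok Ck.r160).1).symm (by decide)

theorem f6_11 : Lab (gel 54) p0 (aa D BB av) 6 15 lf6 (cd 2065129) 10 :=
  lab_fr (hC.al.frl 6 5 8 (h := [44, 53, 49, 53]) (by decide +kernel) (hC.al.chkR_sound hC.ok Ck.r101).2
    (hC.al.chkR_sound hC.ok Ck.r161).1) (by decide)

theorem f6_12 : Lab (gel 54) p0 (aa D BB av) 6 15 lf6 (cd 608184) 11 :=
  lab_fr (hC.al.frl 6 8 8 (h := [49, 53, 50, 53]) (by decide +kernel) (hC.al.chkR_sound hC.ok Ck.r162).1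
    (hC.al.chkR_sound hC.ok Ck.r163).1) (by decide)

theorem f6_13 : Lab (gel 54) p0 (aa D BB av) 6 15 lf6 (cd 239563) 11 :=
  lab_fr (hC.al.frl 6 8 8 (h := [41, 53, 46, 53]) (by decide +kernel) (hC.al.chkR_sound hC.ok Ck.r164).1
    (hC.al.chkR_sound hC.ok Ck.r165).1) (by decide)

theorem f6_14 : Lab (gel 54) p0 (aa D BB av) 6 15 lf6 (cd 442580) 11 :=
  lab_fr (hC.al.frl 6 8 8 (h := [43, 53, 36, 53]) (by decide +kernel) (hC.al.chkR_sound hC.ok Ck.r166).1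
    (hC.al.chkR_sound hC.ok Ck.r167).1) (by decide)

theorem f6_15 : Lab (gel 54) p0 (aa D BB av) 6 15 lf6 (cd 6112644) 12 :=
  lab_fr (hC.al.frl 6 9 9 (h := [38, 53, 48, 53]) (by decide +kernel) (hC.al.chkR_sound hC.ok Ck.r168).1
    (hC.al.chkR_sound hC.ok Ck.r169).1) (by decide)

theorem f6_16 : Lab (gel 54) p0 (aa D BB av) 6 15 lf6 (cd 119505) 13 :=
  lab_fr (hC.al.frl 6 10 10 (h := [46, 53, 41, 53]) (by decide +kernel) (hC.al.chkR_sound hC.ok Ck.r170).1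
    (hC.al.chkR_sound hC.ok Ck.r171).1) (by decide)

theorem f6_17 : Lab (gel 54) p0 (aa D BB av) 6 15 lf6 (cd 12641085) 14 :=
  lab_fr (hC.al.frl 6 6 6 (h := [48, 53, 38, 53]) (by decide +kernel) (hC.al.chkR_sound hC.ok Ck.r172).1
    (hC.al.chkR_sound hC.ok Ck.r173).1) (by decide)

theorem f6_18 : Lab (gel 54) p0 (aa D BB av) 6 15 lf6 (cd 976480) 15 :=
  lab_fr (hC.al.frl 6 5 5 (h := [39, 53, 47, 53]) (by decide +kernel) (hC.al.chkR_sound hC.ok Ck.r102).2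
    (hC.al.chkR_sound hC.ok Ck.r174).1) (by decide)

theorem f6_19 : Lab (gel 54) p0 (aa D BB av) 6 15 lf6 (cd 767050) 13 :=
  lab_fr (hC.al.frl 6 10 10 (h := [49, 53, 49, 53]) (by decide +kernel) (hC.al.chkR_sound hC.ok Ck.r175).1
    (hC.al.chkR_sound hC.ok Ck.r176).1) (by decide)

theorem f6_20 : Lab (gel 54) p0 (aa D BB av) 6 15 lf6 (cd 12489040) 14 :=
  lab_fr (hC.al.frl 6 6 6 (h := [45, 53, 49, 53]) (by decide +kernel) (hC.al.chkR_sound hC.ok Ck.r177).1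
    (hC.al.chkR_sound hC.ok Ck.r178).1) (by decide)

theorem f6_21 : Lab (gel 54) p0 (aa D BB av) 6 15 lf6 (cd 1135746) 15 :=
  lab_fr (hC.al.frl 6 5 5 (h := [48, 53, 49, 53]) (by decide +kernel) (hC.al.chkR_sound hC.ok Ck.r95).2
    (hC.al.chkR_sound hC.ok Ck.r179).1) (by decide)

theorem f6_22 : Lab (gel 54) p0 (aa D BB av) 6 15 lf6 (cd 74195) 12 :=
  lab_fr (hC.al.frl 6 9 9 (h := [47, 53, 51, 53]) (by decide +kernel) (hC.al.chkR_sound hC.ok Ck.r180).1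
    (hC.al.chkR_sound hC.ok Ck.r181).1) (by decide)

theorem h45 : Lab (gel 54) p0 (aa D BB av) 6 15 lf6 (cd 1171) 16 :=
  lab_sh (hC.shl 6 (n := 0) (by decide +kernel) s45 (zr_ne (by decide)) (zr_ne (by decide)) (by decide)) rfl

theorem h46 : Lab (gel 54) p0 (aa D BB av) 6 15 lf6 (cd 1955) 16 :=
  lab_sh (hC.shl 6 (n := 0) (by decide +kernel) s46 (zr_ne (by decide)) (zr_ne (by decide)) (by decide)) rfl

theorem h47 : Lab (gel 54) p0 (aa D BB av) 6 15 lf6 (cd 9192) 16 :=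
  lab_sh (hC.shl 6 (n := 0) (by decide +kernel) s47 (zr_ne (by decide)) (zr_ne (by decide)) (by decide)) rfl

theorem h48 : Lab (gel 54) p0 (aa D BB av) 6 15 lf6 (cd 33697) 16 :=
  lab_sh (hC.shl 6 (n := 0) (by decide +kernel) s48 (zr_ne (by decide)) (zr_ne (by decide)) (by decide)) rfl

theorem h49 : Lab (gel 54) p0 (aa D BB av) 6 15 lf6 (cd 81920) 16 :=
  lab_sh (hC.shl 6 (n := 0) (by decide +kernel) s49 (zr_ne (by decide)) (zr_ne (by decide)) (by decide)) rfl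

theorem h50 : Lab (gel 54) p0 (aa D BB av) 6 15 lf6 (cd 196608) 16 :=
  lab_sh (hC.shl 6 (n := 0) (by decide +kernel) s50 (zr_ne (by decide)) (zr_ne (by decide)) (by decide)) rfl

theorem h51 : Lab (gel 54) p0 (aa D BB av) 6 15 lf6 (cd 217196) 16 :=
  lab_sh (hC.shl 6 (n := 0) (by decide +kernel) s51 (zr_ne (by decide)) (zr_ne (by decide)) (by decide)) rfl

theorem h52 : Lab (gel 54) p0 (aa D BB av) 6 15 lf6 (cd 2228224) 16 :=
  lab_sh (hC.shl 6 (n := 0) (by decide +kernel) s52 (zr_ne (by decide)) (zr_ne (by decide)) (by decide)) rfl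

theorem h53 : Lab (gel 54) p0 (aa D BB av) 6 15 lf6 (cd 4419584) 16 :=
  lab_sh (hC.shl 6 (n := 0) (by decide +kernel) s53 (zr_ne (by decide)) (zr_ne (by decide)) (by decide)) rfl

theorem h54 : Lab (gel 54) p0 (aa D BB av) 6 15 lf6 (cd 7028736) 16 :=
  lab_sh (hC.shl 6 (n := 0) (by decide +kernel) s54 (zr_ne (by decide)) (zr_ne (by decide)) (by decide)) rfl

theorem h55 : Lab (gel 54) p0 (aa D BB av) 6 15 lf6 (cd 8781824) 17 :=
  lab_sh (hC.shl 6 (n := 1) (by decide +kernel) s55 (hC.zr x18 x19 (by decide +kernel)) (zr_ne (by decide)) (by decide)) rfl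

theorem hr6 : ∀ x ∈ reps6, x.1 < 2 ^ 24 ∧ x.2 < 2 ^ 5 ∧ Lab (gel 54) p0 (aa D BB av) 6 15 lf6 (cd x.1) x.2 :=
  List.forall_mem_cons.2 ⟨⟨by decide, by decide, f6_0 hC⟩,
  List.forall_mem_cons.2 ⟨⟨by decide, by decide, f6_1 hC⟩,
  List.forall_mem_cons.2 ⟨⟨by decide, by decide, f6_2 hC⟩,
  List.forall_mem_cons.2 ⟨⟨by decide, by decide, f6_3 hC⟩,
  List.forall_mem_cons.2 ⟨⟨by decide, by decide, f6_4 hC⟩,
  List.forall_mem_cons.2 ⟨⟨by decide, by decide, f6_5 hC⟩,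
  List.forall_mem_cons.2 ⟨⟨by decide, by decide, f6_6 hC⟩,
  List.forall_mem_cons.2 ⟨⟨by decide, by decide, f6_7 hC⟩,
  List.forall_mem_cons.2 ⟨⟨by decide, by decide, f6_8 hC⟩,
  List.forall_mem_cons.2 ⟨⟨by decide, by decide, f6_9 hC⟩,
  List.forall_mem_cons.2 ⟨⟨by decide, by decide, f6_10 hC⟩,
  List.forall_mem_cons.2 ⟨⟨by decide, by decide, f6_11 hC⟩,
  List.forall_mem_cons.2 ⟨⟨by decide, by decide, f6_12 hC⟩,
  List.forall_mem_cons.2 ⟨⟨by decide, by decide, f6_13 hC⟩,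
  List.forall_mem_cons.2 ⟨⟨by decide, by decide, f6_14 hC⟩,
  List.forall_mem_cons.2 ⟨⟨by decide, by decide, f6_15 hC⟩,
  List.forall_mem_cons.2 ⟨⟨by decide, by decide, f6_16 hC⟩,
  List.forall_mem_cons.2 ⟨⟨by decide, by decide, f6_17 hC⟩,
  List.forall_mem_cons.2 ⟨⟨by decide, by decide, f6_18 hC⟩,
  List.forall_mem_cons.2 ⟨⟨by decide, by decide, f6_19 hC⟩,
  List.forall_mem_cons.2 ⟨⟨by decide, by decide, f6_20 hC⟩,
  List.forall_mem_cons.2 ⟨⟨by decide, by decide, f6_21 hC⟩,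
  List.forall_mem_cons.2 ⟨⟨by decide, by decide, f6_22 hC⟩,
  List.forall_mem_cons.2 ⟨⟨by decide, by decide, h45 hC⟩,
  List.forall_mem_cons.2 ⟨⟨by decide, by decide, h46 hC⟩,
  List.forall_mem_cons.2 ⟨⟨by decide, by decide, h47 hC⟩,
  List.forall_mem_cons.2 ⟨⟨by decide, by decide, h48 hC⟩,
  List.forall_mem_cons.2 ⟨⟨by decide, by decide, h49 hC⟩,
  List.forall_mem_cons.2 ⟨⟨by decide, by decide, h50 hC⟩,
  List.forall_mem_cons.2 ⟨⟨by decide, by decide, h51 hC⟩,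
  List.forall_mem_cons.2 ⟨⟨by decide, by decide, h52 hC⟩,
  List.forall_mem_cons.2 ⟨⟨by decide, by decide, h53 hC⟩,
  List.forall_mem_cons.2 ⟨⟨by decide, by decide, h54 hC⟩,
  List.forall_mem_cons.2 ⟨⟨by decide, by decide, h55 hC⟩,
  List.forall_mem_nil _⟩⟩⟩⟩⟩⟩⟩⟩⟩⟩⟩⟩⟩⟩⟩⟩⟩⟩⟩⟩⟩⟩⟩⟩⟩⟩⟩⟩⟩⟩⟩⟩⟩⟩

theorem hg6 : ∀ g ∈ gens6, Gn D (aa D BB av 6) g :=
  List.forall_mem_cons.2 ⟨hC.gn 6 g15 (by decide +kernel),
  List.forall_mem_cons.2 ⟨hC.gn 6 g16 (by decide +kernel),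
  List.forall_mem_cons.2 ⟨hC.gn 6 g17 (by decide +kernel),
  List.forall_mem_cons.2 ⟨hC.gn 6 g18 (by decide +kernel),
  List.forall_mem_nil _⟩⟩⟩⟩

end

def lf11 : ℕ → Fin 12 × Fin 12 := gdL (0, 0) [(0, 0), (4, 11), (8, 8), (8, 10), (10, 10), (5, 11)]
def reps11 : List (ℕ × ℕ) := [(8388608, 1), (15728640, 1), (10137600, 2), (11743232, 3), (11984896, 4), (8531968, 4), (9195520, 5), (119505, 2), (8192, 6), (307200, 6), (655360, 6), (4669440, 6), (7028736, 6)]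
def gens11 : List (List ℕ) := [[2986, 2772, 2054, 66, 2018, 1073, 375, 4093, 2306, 3000, 514, 2048, 754066, 4186948, 8204074, 5112750, 3632225, 4363409, 7827610, 3535143, 5281807, 4126852, 2623366, 9623822], [117, 1026, 1040, 2265, 3245, 992, 1023, 3136, 1750, 3328, 1978, 2048, 678854, 5624737, 2329653, 8202913, 5581453, 7731550, 2247770, 5881456, 8221497, 5076823, 708114, 12372735], [2265, 2050, 2045, 2178, 34, 2018, 2377, 2114, 2306, 3074, 1644, 2048, 122712, 6187518, 53723, 2703625, 2228565, 2114802, 71063, 2409886, 3244593, 6293895, 40178, 8564389], [1043708, 724, 926672, 123776, 123800, 12468, 10912, 13248, 1208, 1036944, 1038736, 1792, 367885, 3513086, 13887133, 4005016, 15647065, 3250131, 13888910, 15075310, 15336404, 8518315, 5735707, 10503473], [8990121, 7062788, 8055952, 13825370, 13827630, 13827600, 4531224, 14197124, 7225624, 6018542, 3151688, 676696, 12831950, 14881533, 5084381,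 15369073, 14051788, 16318958, 1842202, 402716, 7855400, 2649668, 9261288, 6348154], [13731374, 927786, 2510889, 8790747, 5049170, 4850516, 2821591, 5132311, 12670092, 13534750, 13545693, 12625292, 11095520, 8136897, 2429285, 14956497, 12526367, 15160111, 7941651, 4478758, 12272056, 1175123, 12485575, 399039]]

section
include hC

theorem f11_0 : Lab (gel 54) p0 (aa D BB av) 11 5 lf11 (cd 8388608) 1 :=
  lab_fr (hC.al.frl 11 4 11 (h := []) (by decide +kernel) (hC.al.chkR_sound hC.ok Ck.r77).2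
    (hC.al.chkR_sound hC.ok Ck.r330).1) (by decide)

theorem f11_1 : Lab (gel 54) p0 (aa D BB av) 11 5 lf11 (cd 15728640) 1 :=
  lab_fr (hC.al.frl 11 11 4 (h := [53]) (by decide +kernel) (hC.al.chkR_sound hC.ok Ck.r331).1
    (hC.al.chkR_sound hC.ok Ck.r79).2).symm (by decide)

theorem f11_2 : Lab (gel 54) p0 (aa D BB av) 11 5 lf11 (cd 10137600) 2 :=
  lab_fr (hC.al.frl 11 8 8 (h := [44, 53]) (by decide +kernel) (hC.al.chkR_sound hC.ok Ck.r332).1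
    (hC.al.chkR_sound hC.ok Ck.r267).2) (by decide)

theorem f11_3 : Lab (gel 54) p0 (aa D BB av) 11 5 lf11 (cd 11743232) 3 :=
  lab_fr (hC.al.frl 11 8 10 (h := [36, 53]) (by decide +kernel) (hC.al.chkR_sound hC.ok Ck.r229).2
    (hC.al.chkR_sound hC.ok Ck.r327).2) (by decide)

theorem f11_4 : Lab (gel 54) p0 (aa D BB av) 11 5 lf11 (cd 11984896) 4 :=
  lab_fr (hC.al.frl 11 10 10 (h := [50, 53]) (by decide +kernel) (hC.al.chkR_sound hC.ok Ck.r311).2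
    (hC.al.chkR_sound hC.ok Ck.r333).1) (by decide)

theorem f11_5 : Lab (gel 54) p0 (aa D BB av) 11 5 lf11 (cd 8531968) 4 :=
  lab_fr (hC.al.frl 11 10 10 (h := [51, 44, 53]) (by decide +kernel) (hC.al.chkR_sound hC.ok Ck.r334).1
    (hC.al.chkR_sound hC.ok Ck.r328).2) (by decide)

theorem f11_6 : Lab (gel 54) p0 (aa D BB av) 11 5 lf11 (cd 9195520) 5 :=
  lab_fr (hC.al.frl 11 5 11 (h := [43, 48, 53]) (by decide +kernel) (hC.al.chkR_sound hC.ok Ck.r112).2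
    (hC.al.chkR_sound hC.ok Ck.r335).1) (by decide)

theorem f11_7 : Lab (gel 54) p0 (aa D BB av) 11 5 lf11 (cd 119505) 2 :=
  lab_fr (hC.al.frl 11 8 8 (h := [46, 53, 41, 53]) (by decide +kernel) (hC.al.chkR_sound hC.ok Ck.r336).1
    (hC.al.chkR_sound hC.ok Ck.r262).2) (by decide)

theorem h110 : Lab (gel 54) p0 (aa D BB av) 11 5 lf11 (cd 8192) 6 :=
  lab_sh (hC.shl 11 (n := 0) (by decide +kernel) s110 (zr_ne (by decide)) (zr_ne (by decide)) (by decide)) rfl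

theorem h111 : Lab (gel 54) p0 (aa D BB av) 11 5 lf11 (cd 307200) 6 :=
  lab_sh (hC.shl 11 (n := 0) (by decide +kernel) s111 (zr_ne (by decide)) (zr_ne (by decide)) (by decide)) rfl

theorem h112 : Lab (gel 54) p0 (aa D BB av) 11 5 lf11 (cd 655360) 6 :=
  lab_sh (hC.shl 11 (n := 0) (by decide +kernel) s112 (zr_ne (by decide)) (zr_ne (by decide)) (by decide)) rfl

theorem h113 : Lab (gel 54) p0 (aa D BB av) 11 5 lf11 (cd 4669440) 6 :=
  lab_sh (hC.shl 11 (n := 0) (by decide +kernel) s113 (zr_ne (by decide)) (zr_ne (by decide)) (by decide)) rfl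

theorem h114 : Lab (gel 54) p0 (aa D BB av) 11 5 lf11 (cd 7028736) 6 :=
  lab_sh (hC.shl 11 (n := 0) (by decide +kernel) s114 (zr_ne (by decide)) (zr_ne (by decide)) (by decide)) rfl

theorem hr11 : ∀ x ∈ reps11, x.1 < 2 ^ 24 ∧ x.2 < 2 ^ 4 ∧ Lab (gel 54) p0 (aa D BB av) 11 5 lf11 (cd x.1) x.2 :=
  List.forall_mem_cons.2 ⟨⟨by decide, by decide, f11_0 hC⟩,
  List.forall_mem_cons.2 ⟨⟨by decide, by decide, f11_1 hC⟩,
  List.forall_mem_cons.2 ⟨⟨by decide, by decide, f11_2 hC⟩,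
  List.forall_mem_cons.2 ⟨⟨by decide, by decide, f11_3 hC⟩,
  List.forall_mem_cons.2 ⟨⟨by decide, by decide, f11_4 hC⟩,
  List.forall_mem_cons.2 ⟨⟨by decide, by decide, f11_5 hC⟩,
  List.forall_mem_cons.2 ⟨⟨by decide, by decide, f11_6 hC⟩,
  List.forall_mem_cons.2 ⟨⟨by decide, by decide, f11_7 hC⟩,
  List.forall_mem_cons.2 ⟨⟨by decide, by decide, h110 hC⟩,
  List.forall_mem_cons.2 ⟨⟨by decide, by decide, h111 hC⟩,
  List.forall_mem_cons.2 ⟨⟨by decide, by decide, h112 hC⟩,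
  List.forall_mem_cons.2 ⟨⟨by decide, by decide, h113 hC⟩,
  List.forall_mem_cons.2 ⟨⟨by decide, by decide, h114 hC⟩,
  List.forall_mem_nil _⟩⟩⟩⟩⟩⟩⟩⟩⟩⟩⟩⟩⟩

theorem hg11 : ∀ g ∈ gens11, Gn D (aa D BB av 11) g :=
  List.forall_mem_cons.2 ⟨hC.gn 11 g31 (by decide +kernel),
  List.forall_mem_cons.2 ⟨hC.gn 11 g32 (by decide +kernel),
  List.forall_mem_cons.2 ⟨hC.gn 11 g33 (by decide +kernel),
  List.forall_mem_cons.2 ⟨hC.gn 11 g34 (by decide +kernel),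
  List.forall_mem_cons.2 ⟨hC.gn 11 g35 (by decide +kernel),
  List.forall_mem_cons.2 ⟨hC.gn 11 g36 (by decide +kernel),
  List.forall_mem_nil _⟩⟩⟩⟩⟩⟩

end

end

end CfsgMO.Ck
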