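/-
The axes: representatives of the orbits on classes, part 2.
-/
import Cfsg.Agent.MO.Ax2
import Cfsg.Agent.MO.AxC0
import Cfsg.Agent.MO.AxC1
import Cfsg.Agent.MO.AxC2
import Cfsg.Agent.MO.AxC3
import Cfsg.Agent.MO.AxC4
import Cfsg.Agent.MO.AxC5
import Cfsg.Agent.MO.AxC6
import Cfsg.Agent.MO.AxC7
import Cfsg.Agent.MO.AxC8
import Cfsg.Agent.MO.AxC9
import Cfsg.Agent.MO.AxC10
import Cfsg.Agent.MO.AxC11

set_option autoImplicit false
set_option maxRecDepth 100000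

namespace CfsgMO.Ck

open Dat

noncomputable section

variable {D : Dat} {gel : ℕ → D.Γ} {p0 : D.I} (hC : Ctx D BB tab amat gel av p0)

def lf8 : ℕ → Fin 12 × Fin 12 := gdL (0, 0) [(0, 0), (3, 8), (4, 8), (5, 8), (8, 8), (5, 10), (5, 9), (8, 10), (6, 9), (6, 8), (8, 9), (5, 6), (6, 10), (7, 8), (10, 10), (10, 11), (9, 10), (5, 5), (8, 11)]
def reps8 : List (ℕ × ℕ) := [(8388608, 1), (15728640, 2), (11984896, 3), (11743232, 4), (10137600, 5), (11816960, 3), (12607488, 6), (13250560, 4), (15147008, 7), (12345344, 8), (9121792, 9), (8589312, 9), (8531968, 5), (9383936, 4), (13156352, 3), (9834496, 10), (11300864, 11), (9510912, 12), (12472320, 6), (8626176, 6), (10059776, 13), (9560064, 1), (3993855, 7), (4861955, 14), (9822461, 7), (3428354, 4), (10379294, 14), (6230270, 15), (3895520, 9), (4358398, 7), (1589503, 16), (1847299, 7), (1258001, 10), (25062, 17), (5582936, 4), (5341584,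 4), (3813862, 17), (356872, 4), (815624, 7), (767050, 7), (1365692, 7), (2015905, 3), (1106470, 3), (6288770, 5), (1143106, 7), (2342914, 4), (754686, 4), (442580, 3), (239563, 7), (4117167, 14), (6623285, 5), (9057438, 18), (74195, 14), (61695, 18), (8750238, 3), (798748, 4), (1159392, 4), (2002946, 14), (1483077, 4), (8849, 10), (282878, 4), (2781857, 10), (8811585, 3), (7255681, 17), (1210014, 13), (1171, 19), (1955, 19), (8192, 19), (81920, 19), (262144, 19), (307200, 19), (1990656, 19), (3104768, 19), (3154029, 19), (4325641, 19), (5566483, 19), (6807552, 19), (7028736, 19), (7655424, 19), (8540162, 19), (9720033, 19), (10317852, 19), (10379264, 19), (10817761, 19), (11190272, 19), (12882145, 19)]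
def gens8 : List (List ℕ) := [[1534, 2592, 2088, 4032, 2084, 1447, 2389, 1852, 2080, 2015, 1043, 2048, 1382703, 2693628, 5344182, 5048479, 6115258, 1648505, 1387416, 863230, 2541826, 4797075, 4533812, 14366141], [3357, 2710, 2624, 4000, 3066, 64, 2144, 80, 2368, 1884, 2114, 2048, 7116, 4752488, 6347405, 575853, 4736260, 7823388, 4360559, 4784237, 1592655, 4774541, 59468, 11723759], [45, 3273, 806, 1233, 3801, 1497, 2398, 3291, 1273, 3161, 825, 2048, 8106368, 4105496, 4191084, 4494114, 2380588, 5264672, 4459158, 8117335, 8251723, 4721848, 3907632, 15542632], [8108579, 2700409, 436, 4196743, 1215609, 8103659, 8120, 4194313, 1216483, 8105711, 8102973, 2706, 9467850, 10109176, 9600159, 7901693, 7872446, 10174287, 1620626, 10058154, 10085713, 10428767, 6074076, 6035391]]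

section
include hC

theorem f8_0 : Lab (gel 54) p0 (aa D BB av) 8 18 lf8 (cd 8388608) 1 :=
  lab_fr (hC.al.frl 8 3 8 (h := []) (by decide +kernel) (hC.al.chkR_sound hC.ok Ck.r43).2
    (hC.al.chkR_sound hC.ok Ck.r195).1) (by decide)

theorem f8_1 : Lab (gel 54) p0 (aa D BB av) 8 18 lf8 (cd 15728640) 2 :=
  lab_fr (hC.al.frl 8 8 4 (h := [53]) (by decide +kernel) (hC.al.chkR_sound hC.ok Ck.r196).1
    (hC.al.chkR_sound hC.ok Ck.r73).2).symm (by decide)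

theorem f8_2 : Lab (gel 54) p0 (aa D BB av) 8 18 lf8 (cd 11984896) 3 :=
  lab_fr (hC.al.frl 8 5 8 (h := [50, 53]) (by decide +kernel) (hC.al.chkR_sound hC.ok Ck.r114).2
    (hC.al.chkR_sound hC.ok Ck.r197).1) (by decide)

theorem f8_3 : Lab (gel 54) p0 (aa D BB av) 8 18 lf8 (cd 11743232) 4 :=
  lab_fr (hC.al.frl 8 8 8 (h := [36, 53]) (by decide +kernel) (hC.al.chkR_sound hC.ok Ck.r198).1
    (hC.al.chkR_sound hC.ok Ck.r199).1) (by decide)

theorem f8_4 : Lab (gel 54) p0 (aa D BB av) 8 18 lf8 (cd 10137600) 5 :=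
  lab_fr (hC.al.frl 8 5 10 (h := [44, 53]) (by decide +kernel) (hC.al.chkR_sound hC.ok Ck.r109).2
    (hC.al.chkR_sound hC.ok Ck.r200).1) (by decide)

theorem f8_5 : Lab (gel 54) p0 (aa D BB av) 8 18 lf8 (cd 11816960) 3 :=
  lab_fr (hC.al.frl 8 8 5 (h := [42, 53]) (by decide +kernel) (hC.al.chkR_sound hC.ok Ck.r201).1
    (hC.al.chkR_sound hC.ok Ck.r106).2).symm (by decide)

theorem f8_6 : Lab (gel 54) p0 (aa D BB av) 8 18 lf8 (cd 12607488) 6 :=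
  lab_fr (hC.al.frl 8 9 5 (h := [45, 53]) (by decide +kernel) (hC.al.chkR_sound hC.ok Ck.r202).1
    (hC.al.chkR_sound hC.ok Ck.r120).2).symm (by decide)

theorem f8_7 : Lab (gel 54) p0 (aa D BB av) 8 18 lf8 (cd 13250560) 4 :=
  lab_fr (hC.al.frl 8 8 8 (h := [51, 53]) (by decide +kernel) (hC.al.chkR_sound hC.ok Ck.r203).1
    (hC.al.chkR_sound hC.ok Ck.r204).1) (by decide)

theorem f8_8 : Lab (gel 54) p0 (aa D BB av) 8 18 lf8 (cd 15147008) 7 :=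
  lab_fr (hC.al.frl 8 8 10 (h := [40, 53]) (by decide +kernel) (hC.al.chkR_sound hC.ok Ck.r205).1
    (hC.al.chkR_sound hC.ok Ck.r206).1) (by decide)

theorem f8_9 : Lab (gel 54) p0 (aa D BB av) 8 18 lf8 (cd 12345344) 8 :=
  lab_fr (hC.al.frl 8 9 6 (h := [39, 53]) (by decide +kernel) (hC.al.chkR_sound hC.ok Ck.r207).1
    (hC.al.chkR_sound hC.ok Ck.r156).2).symm (by decide)

theorem f8_10 : Lab (gel 54) p0 (aa D BB av) 8 18 lf8 (cd 9121792) 9 :=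
  lab_fr (hC.al.frl 8 8 6 (h := [44, 39, 53]) (by decide +kernel) (hC.al.chkR_sound hC.ok Ck.r208).1
    (hC.al.chkR_sound hC.ok Ck.r166).2).symm (by decide)

theorem f8_11 : Lab (gel 54) p0 (aa D BB av) 8 18 lf8 (cd 8589312) 9 :=
  lab_fr (hC.al.frl 8 6 8 (h := [43, 42, 53]) (by decide +kernel) (hC.al.chkR_sound hC.ok Ck.r164).2
    (hC.al.chkR_sound hC.ok Ck.r209).1) (by decide)

theorem f8_12 : Lab (gel 54) p0 (aa D BB av) 8 18 lf8 (cd 8531968) 5 :=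
  lab_fr (hC.al.frl 8 5 10 (h := [51, 44, 53]) (by decide +kernel) (hC.al.chkR_sound hC.ok Ck.r118).2
    (hC.al.chkR_sound hC.ok Ck.r210).1) (by decide)

theorem f8_13 : Lab (gel 54) p0 (aa D BB av) 8 18 lf8 (cd 9383936) 4 :=
  lab_fr (hC.al.frl 8 8 8 (h := [50, 44, 53]) (by decide +kernel) (hC.al.chkR_sound hC.ok Ck.r204).2
    (hC.al.chkR_sound hC.ok Ck.r211).1) (by decide)

theorem f8_14 : Lab (gel 54) p0 (aa D BB av) 8 18 lf8 (cd 13156352) 3 :=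
  lab_fr (hC.al.frl 8 8 5 (h := [50, 36, 53]) (by decide +kernel) (hC.al.chkR_sound hC.ok Ck.r212).1
    (hC.al.chkR_sound hC.ok Ck.r93).2).symm (by decide)

theorem f8_15 : Lab (gel 54) p0 (aa D BB av) 8 18 lf8 (cd 9834496) 10 :=
  lab_fr (hC.al.frl 8 8 9 (h := [45, 49, 53]) (by decide +kernel) (hC.al.chkR_sound hC.ok Ck.r213).1
    (hC.al.chkR_sound hC.ok Ck.r214).1) (by decide)

theorem f8_16 : Lab (gel 54) p0 (aa D BB av) 8 18 lf8 (cd 11300864) 11 :=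
  lab_fr (hC.al.frl 8 5 6 (h := [46, 41, 53]) (by decide +kernel) (hC.al.chkR_sound hC.ok Ck.r100).2
    (hC.al.chkR_sound hC.ok Ck.r161).2) (by decide)

theorem f8_17 : Lab (gel 54) p0 (aa D BB av) 8 18 lf8 (cd 9510912) 12 :=
  lab_fr (hC.al.frl 8 6 10 (h := [43, 50, 53]) (by decide +kernel) (hC.al.chkR_sound hC.ok Ck.r157).2
    (hC.al.chkR_sound hC.ok Ck.r215).1) (by decide)

theorem f8_18 : Lab (gel 54) p0 (aa D BB av) 8 18 lf8 (cd 12472320) 6 :=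
  lab_fr (hC.al.frl 8 9 5 (h := [51, 49, 53]) (by decide +kernel) (hC.al.chkR_sound hC.ok Ck.r216).1
    (hC.al.chkR_sound hC.ok Ck.r124).2).symm (by decide)

theorem f8_19 : Lab (gel 54) p0 (aa D BB av) 8 18 lf8 (cd 8626176) 6 :=
  lab_fr (hC.al.frl 8 5 9 (h := [44, 44, 53]) (by decide +kernel) (hC.al.chkR_sound hC.ok Ck.r90).2
    (hC.al.chkR_sound hC.ok Ck.r217).1) (by decide)

theorem f8_20 : Lab (gel 54) p0 (aa D BB av) 8 18 lf8 (cd 10059776) 13 :=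
  lab_fr (hC.al.frl 8 7 8 (h := [38, 43, 47, 53]) (by decide +kernel) (hC.al.chkR_sound hC.ok Ck.r191).2
    (hC.al.chkR_sound hC.ok Ck.r218).1) (by decide)

theorem f8_21 : Lab (gel 54) p0 (aa D BB av) 8 18 lf8 (cd 9560064) 1 :=
  lab_fr (hC.al.frl 8 8 3 (h := [43, 38, 39, 53]) (by decide +kernel) (hC.al.chkR_sound hC.ok Ck.r219).1
    (hC.al.chkR_sound hC.ok Ck.r53).2).symm (by decide)

theorem f8_22 : Lab (gel 54) p0 (aa D BB av) 8 18 lf8 (cd 3993855) 7 :=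
  lab_fr (hC.al.frl 8 8 10 (h := [53, 36, 53]) (by decide +kernel) (hC.al.chkR_sound hC.ok Ck.r220).1
    (hC.al.chkR_sound hC.ok Ck.r221).1) (by decide)

theorem f8_23 : Lab (gel 54) p0 (aa D BB av) 8 18 lf8 (cd 4861955) 14 :=
  lab_fr (hC.al.frl 8 10 10 (h := [53, 51, 53]) (by decide +kernel) (hC.al.chkR_sound hC.ok Ck.r222).1
    (hC.al.chkR_sound hC.ok Ck.r223).1) (by decide)

theorem f8_24 : Lab (gel 54) p0 (aa D BB av) 8 18 lf8 (cd 9822461) 7 :=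
  lab_fr (hC.al.frl 8 10 8 (h := [53, 47, 53]) (by decide +kernel) (hC.al.chkR_sound hC.ok Ck.r224).1
    (hC.al.chkR_sound hC.ok Ck.r225).1).symm (by decide)

theorem f8_25 : Lab (gel 54) p0 (aa D BB av) 8 18 lf8 (cd 3428354) 4 :=
  lab_fr (hC.al.frl 8 8 8 (h := [53, 42, 53]) (by decide +kernel) (hC.al.chkR_sound hC.ok Ck.r226).1
    (hC.al.chkR_sound hC.ok Ck.r226).2) (by decide)

theorem f8_26 : Lab (gel 54) p0 (aa D BB av) 8 18 lf8 (cd 10379294) 14 :=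
  lab_fr (hC.al.frl 8 10 10 (h := [53, 45, 53]) (by decide +kernel) (hC.al.chkR_sound hC.ok Ck.r227).1
    (hC.al.chkR_sound hC.ok Ck.r228).1) (by decide)

theorem f8_27 : Lab (gel 54) p0 (aa D BB av) 8 18 lf8 (cd 6230270) 15 :=
  lab_fr (hC.al.frl 8 11 10 (h := [53, 41, 53]) (by decide +kernel) (hC.al.chkR_sound hC.ok Ck.r229).1
    (hC.al.chkR_sound hC.ok Ck.r230).1).symm (by decide)

theorem f8_28 : Lab (gel 54) p0 (aa D BB av) 8 18 lf8 (cd 3895520) 9 :=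
  lab_fr (hC.al.frl 8 6 8 (h := [53, 44, 53]) (by decide +kernel) (hC.al.chkR_sound hC.ok Ck.r162).2
    (hC.al.chkR_sound hC.ok Ck.r231).1) (by decide)

theorem f8_29 : Lab (gel 54) p0 (aa D BB av) 8 18 lf8 (cd 4358398) 7 :=
  lab_fr (hC.al.frl 8 8 10 (h := [34, 53, 46, 53]) (by decide +kernel) (hC.al.chkR_sound hC.ok Ck.r225).2
    (hC.al.chkR_sound hC.ok Ck.r232).1) (by decide)

theorem f8_30 : Lab (gel 54) p0 (aa D BB av) 8 18 lf8 (cd 1589503) 16 :=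
  lab_fr (hC.al.frl 8 10 9 (h := [35, 53, 36, 53]) (by decide +kernel) (hC.al.chkR_sound hC.ok Ck.r233).1
    (hC.al.chkR_sound hC.ok Ck.r234).1).symm (by decide)

theorem f8_31 : Lab (gel 54) p0 (aa D BB av) 8 18 lf8 (cd 1847299) 7 :=
  lab_fr (hC.al.frl 8 8 10 (h := [27, 53, 51, 53]) (by decide +kernel) (hC.al.chkR_sound hC.ok Ck.r235).1
    (hC.al.chkR_sound hC.ok Ck.r236).1) (by decide)

theorem f8_32 : Lab (gel 54) p0 (aa D BB av) 8 18 lf8 (cd 1258001) 10 :=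
  lab_fr (hC.al.frl 8 8 9 (h := [45, 53, 43, 53]) (by decide +kernel) (hC.al.chkR_sound hC.ok Ck.r237).1
    (hC.al.chkR_sound hC.ok Ck.r238).1) (by decide)

theorem f8_33 : Lab (gel 54) p0 (aa D BB av) 8 18 lf8 (cd 25062) 17 :=
  lab_fr (hC.al.frl 8 5 5 (h := [44, 53, 43, 53]) (by decide +kernel) (hC.al.chkR_sound hC.ok Ck.r146).2
    (hC.al.chkR_sound hC.ok Ck.r239).1) (by decide)

theorem f8_34 : Lab (gel 54) p0 (aa D BB av) 8 18 lf8 (cd 5582936) 4 :=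
  lab_fr (hC.al.frl 8 8 8 (h := [50, 53, 46, 53]) (by decide +kernel) (hC.al.chkR_sound hC.ok Ck.r240).1
    (hC.al.chkR_sound hC.ok Ck.r240).2) (by decide)

theorem f8_35 : Lab (gel 54) p0 (aa D BB av) 8 18 lf8 (cd 5341584) 4 :=
  lab_fr (hC.al.frl 8 8 8 (h := [46, 53, 36, 53]) (by decide +kernel) (hC.al.chkR_sound hC.ok Ck.r241).1
    (hC.al.chkR_sound hC.ok Ck.r241).2) (by decide)

theorem f8_36 : Lab (gel 54) p0 (aa D BB av) 8 18 lf8 (cd 3813862) 17 :=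
  lab_fr (hC.al.frl 8 5 5 (h := [44, 53, 47, 53]) (by decide +kernel) (hC.al.chkR_sound hC.ok Ck.r132).2
    (hC.al.chkR_sound hC.ok Ck.r242).1) (by decide)

theorem f8_37 : Lab (gel 54) p0 (aa D BB av) 8 18 lf8 (cd 356872) 4 :=
  lab_fr (hC.al.frl 8 8 8 (h := [51, 53, 39, 53]) (by decide +kernel) (hC.al.chkR_sound hC.ok Ck.r243).1
    (hC.al.chkR_sound hC.ok Ck.r244).1) (by decide)

theorem f8_38 : Lab (gel 54) p0 (aa D BB av) 8 18 lf8 (cd 815624) 7 :=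
  lab_fr (hC.al.frl 8 8 10 (h := [51, 53, 45, 53]) (by decide +kernel) (hC.al.chkR_sound hC.ok Ck.r245).1
    (hC.al.chkR_sound hC.ok Ck.r246).1) (by decide)

theorem f8_39 : Lab (gel 54) p0 (aa D BB av) 8 18 lf8 (cd 767050) 7 :=
  lab_fr (hC.al.frl 8 8 10 (h := [49, 53, 49, 53]) (by decide +kernel) (hC.al.chkR_sound hC.ok Ck.r247).1
    (hC.al.chkR_sound hC.ok Ck.r248).1) (by decide)

theorem f8_40 : Lab (gel 54) p0 (aa D BB av) 8 18 lf8 (cd 1365692) 7 :=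
  lab_fr (hC.al.frl 8 8 10 (h := [47, 53, 41, 53]) (by decide +kernel) (hC.al.chkR_sound hC.ok Ck.r245).2
    (hC.al.chkR_sound hC.ok Ck.r249).1) (by decide)

theorem f8_41 : Lab (gel 54) p0 (aa D BB av) 8 18 lf8 (cd 2015905) 3 :=
  lab_fr (hC.al.frl 8 5 8 (h := [39, 53, 39, 53]) (by decide +kernel) (hC.al.chkR_sound hC.ok Ck.r128).2
    (hC.al.chkR_sound hC.ok Ck.r250).1) (by decide)

theorem f8_42 : Lab (gel 54) p0 (aa D BB av) 8 18 lf8 (cd 1106470) 3 :=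
  lab_fr (hC.al.frl 8 8 5 (h := [50, 53, 44, 53]) (by decide +kernel) (hC.al.chkR_sound hC.ok Ck.r251).1
    (hC.al.chkR_sound hC.ok Ck.r140).2).symm (by decide)

theorem f8_43 : Lab (gel 54) p0 (aa D BB av) 8 18 lf8 (cd 6288770) 5 :=
  lab_fr (hC.al.frl 8 5 10 (h := [48, 53, 41, 53]) (by decide +kernel) (hC.al.chkR_sound hC.ok Ck.r126).2
    (hC.al.chkR_sound hC.ok Ck.r252).1) (by decide)

theorem f8_44 : Lab (gel 54) p0 (aa D BB av) 8 18 lf8 (cd 1143106) 7 :=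
  lab_fr (hC.al.frl 8 8 10 (h := [49, 53, 38, 53]) (by decide +kernel) (hC.al.chkR_sound hC.ok Ck.r247).2
    (hC.al.chkR_sound hC.ok Ck.r253).1) (by decide)

theorem f8_45 : Lab (gel 54) p0 (aa D BB av) 8 18 lf8 (cd 2342914) 4 :=
  lab_fr (hC.al.frl 8 8 8 (h := [42, 53, 47, 53]) (by decide +kernel) (hC.al.chkR_sound hC.ok Ck.r254).1
    (hC.al.chkR_sound hC.ok Ck.r255).1) (by decide)

theorem f8_46 : Lab (gel 54) p0 (aa D BB av) 8 18 lf8 (cd 754686) 4 :=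
  lab_fr (hC.al.frl 8 8 8 (h := [47, 53, 36, 53]) (by decide +kernel) (hC.al.chkR_sound hC.ok Ck.r255).2
    (hC.al.chkR_sound hC.ok Ck.r256).1) (by decide)

theorem f8_47 : Lab (gel 54) p0 (aa D BB av) 8 18 lf8 (cd 442580) 3 :=
  lab_fr (hC.al.frl 8 8 5 (h := [43, 53, 36, 53]) (by decide +kernel) (hC.al.chkR_sound hC.ok Ck.r250).2
    (hC.al.chkR_sound hC.ok Ck.r127).2).symm (by decide)

theorem f8_48 : Lab (gel 54) p0 (aa D BB av) 8 18 lf8 (cd 239563) 7 :=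
  lab_fr (hC.al.frl 8 10 8 (h := [41, 53, 46, 53]) (by decide +kernel) (hC.al.chkR_sound hC.ok Ck.r257).1
    (hC.al.chkR_sound hC.ok Ck.r258).1).symm (by decide)

theorem f8_49 : Lab (gel 54) p0 (aa D BB av) 8 18 lf8 (cd 4117167) 14 :=
  lab_fr (hC.al.frl 8 10 10 (h := [39, 53, 46, 53]) (by decide +kernel) (hC.al.chkR_sound hC.ok Ck.r259).1
    (hC.al.chkR_sound hC.ok Ck.r260).1) (by decide)

theorem f8_50 : Lab (gel 54) p0 (aa D BB av) 8 18 lf8 (cd 6623285) 5 :=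
  lab_fr (hC.al.frl 8 5 10 (h := [50, 53, 38, 53]) (by decide +kernel) (hC.al.chkR_sound hC.ok Ck.r138).2
    (hC.al.chkR_sound hC.ok Ck.r261).1) (by decide)

theorem f8_51 : Lab (gel 54) p0 (aa D BB av) 8 18 lf8 (cd 9057438) 18 :=
  lab_fr (hC.al.frl 8 11 8 (h := [48, 53, 50, 53]) (by decide +kernel) (hC.al.chkR_sound hC.ok Ck.r262).1
    (hC.al.chkR_sound hC.ok Ck.r263).1).symm (by decide)

theorem f8_52 : Lab (gel 54) p0 (aa D BB av) 8 18 lf8 (cd 74195) 14 :=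
  lab_fr (hC.al.frl 8 10 10 (h := [47, 53, 51, 53]) (by decide +kernel) (hC.al.chkR_sound hC.ok Ck.r264).1
    (hC.al.chkR_sound hC.ok Ck.r265).1) (by decide)

theorem f8_53 : Lab (gel 54) p0 (aa D BB av) 8 18 lf8 (cd 61695) 18 :=
  lab_fr (hC.al.frl 8 8 11 (h := [53, 50, 44, 53]) (by decide +kernel) (hC.al.chkR_sound hC.ok Ck.r266).1
    (hC.al.chkR_sound hC.ok Ck.r267).1) (by decide)

theorem f8_54 : Lab (gel 54) p0 (aa D BB av) 8 18 lf8 (cd 8750238) 3 :=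
  lab_fr (hC.al.frl 8 8 5 (h := [48, 53, 47, 53]) (by decide +kernel) (hC.al.chkR_sound hC.ok Ck.r251).2
    (hC.al.chkR_sound hC.ok Ck.r139).2).symm (by decide)

theorem f8_55 : Lab (gel 54) p0 (aa D BB av) 8 18 lf8 (cd 798748) 4 :=
  lab_fr (hC.al.frl 8 8 8 (h := [53, 38, 51, 53]) (by decide +kernel) (hC.al.chkR_sound hC.ok Ck.r211).2
    (hC.al.chkR_sound hC.ok Ck.r203).2) (by decide)

theorem f8_56 : Lab (gel 54) p0 (aa D BB av) 8 18 lf8 (cd 1159392) 4 :=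
  lab_fr (hC.al.frl 8 8 8 (h := [53, 44, 51, 53]) (by decide +kernel) (hC.al.chkR_sound hC.ok Ck.r268).1
    (hC.al.chkR_sound hC.ok Ck.r268).2) (by decide)

theorem f8_57 : Lab (gel 54) p0 (aa D BB av) 8 18 lf8 (cd 2002946) 14 :=
  lab_fr (hC.al.frl 8 10 10 (h := [53, 44, 43, 53]) (by decide +kernel) (hC.al.chkR_sound hC.ok Ck.r269).1
    (hC.al.chkR_sound hC.ok Ck.r270).1) (by decide)

theorem f8_58 : Lab (gel 54) p0 (aa D BB av) 8 18 lf8 (cd 1483077) 4 :=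
  lab_fr (hC.al.frl 8 8 8 (h := [29, 42, 53, 45, 53]) (by decide +kernel) (hC.al.chkR_sound hC.ok Ck.r271).1
    (hC.al.chkR_sound hC.ok Ck.r244).2) (by decide)

theorem f8_59 : Lab (gel 54) p0 (aa D BB av) 8 18 lf8 (cd 8849) 10 :=
  lab_fr (hC.al.frl 8 8 9 (h := [43, 32, 53, 41, 53]) (by decide +kernel) (hC.al.chkR_sound hC.ok Ck.r272).1
    (hC.al.chkR_sound hC.ok Ck.r273).1) (by decide)

theorem f8_60 : Lab (gel 54) p0 (aa D BB av) 8 18 lf8 (cd 282878) 4 :=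
  lab_fr (hC.al.frl 8 8 8 (h := [30, 53, 45, 49, 53]) (by decide +kernel) (hC.al.chkR_sound hC.ok Ck.r198).2
    (hC.al.chkR_sound hC.ok Ck.r274).1) (by decide)

theorem f8_61 : Lab (gel 54) p0 (aa D BB av) 8 18 lf8 (cd 2781857) 10 :=
  lab_fr (hC.al.frl 8 8 9 (h := [39, 31, 53, 39, 53]) (by decide +kernel) (hC.al.chkR_sound hC.ok Ck.r275).1
    (hC.al.chkR_sound hC.ok Ck.r276).1) (by decide)

theorem f8_62 : Lab (gel 54) p0 (aa D BB av) 8 18 lf8 (cd 8811585) 3 :=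
  lab_fr (hC.al.frl 8 5 8 (h := [51, 53, 43, 42, 53]) (by decide +kernel) (hC.al.chkR_sound hC.ok Ck.r141).2
    (hC.al.chkR_sound hC.ok Ck.r277).1) (by decide)

theorem f8_63 : Lab (gel 54) p0 (aa D BB av) 8 18 lf8 (cd 7255681) 17 :=
  lab_fr (hC.al.frl 8 5 5 (h := [40, 53, 43, 36, 53]) (by decide +kernel) (hC.al.chkR_sound hC.ok Ck.r116).2
    (hC.al.chkR_sound hC.ok Ck.r122).2) (by decide)

theorem f8_64 : Lab (gel 54) p0 (aa D BB av) 8 18 lf8 (cd 1210014) 13 :=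
  lab_fr (hC.al.frl 8 7 8 (h := [50, 36, 35, 53, 51, 53]) (by decide +kernel) (hC.al.chkR_sound hC.ok Ck.r186).2
    (hC.al.chkR_sound hC.ok Ck.r278).1) (by decide)

theorem h65 : Lab (gel 54) p0 (aa D BB av) 8 18 lf8 (cd 1171) 19 :=
  lab_sh (hC.shl 8 (n := 0) (by decide +kernel) s65 (zr_ne (by decide)) (zr_ne (by decide)) (by decide)) rfl

theorem h66 : Lab (gel 54) p0 (aa D BB av) 8 18 lf8 (cd 1955) 19 :=
  lab_sh (hC.shl 8 (n := 0) (by decide +kernel) s66 (zr_ne (by decide)) (zr_ne (by decide)) (by decide)) rfl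

theorem h67 : Lab (gel 54) p0 (aa D BB av) 8 18 lf8 (cd 8192) 19 :=
  lab_sh (hC.shl 8 (n := 0) (by decide +kernel) s67 (zr_ne (by decide)) (zr_ne (by decide)) (by decide)) rfl

theorem h68 : Lab (gel 54) p0 (aa D BB av) 8 18 lf8 (cd 81920) 19 :=
  lab_sh (hC.shl 8 (n := 0) (by decide +kernel) s68 (zr_ne (by decide)) (zr_ne (by decide)) (by decide)) rfl

theorem h69 : Lab (gel 54) p0 (aa D BB av) 8 18 lf8 (cd 262144) 19 :=
  lab_sh (hC.shl 8 (n := 0) (by decide +kernel) s69 (zr_ne (by decide)) (zr_ne (by decide)) (by decide)) rfl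

theorem h70 : Lab (gel 54) p0 (aa D BB av) 8 18 lf8 (cd 307200) 19 :=
  lab_sh (hC.shl 8 (n := 0) (by decide +kernel) s70 (zr_ne (by decide)) (zr_ne (by decide)) (by decide)) rfl

theorem h71 : Lab (gel 54) p0 (aa D BB av) 8 18 lf8 (cd 1990656) 19 :=
  lab_sh (hC.shl 8 (n := 0) (by decide +kernel) s71 (zr_ne (by decide)) (zr_ne (by decide)) (by decide)) rfl

theorem h72 : Lab (gel 54) p0 (aa D BB av) 8 18 lf8 (cd 3104768) 19 :=
  lab_sh (hC.shl 8 (n := 0) (by decide +kernel) s72 (zr_ne (by decide)) (zr_ne (by decide)) (by decide)) rfl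

theorem h73 : Lab (gel 54) p0 (aa D BB av) 8 18 lf8 (cd 3154029) 19 :=
  lab_sh (hC.shl 8 (n := 0) (by decide +kernel) s73 (zr_ne (by decide)) (zr_ne (by decide)) (by decide)) rfl

theorem h74 : Lab (gel 54) p0 (aa D BB av) 8 18 lf8 (cd 4325641) 19 :=
  lab_sh (hC.shl 8 (n := 0) (by decide +kernel) s74 (zr_ne (by decide)) (zr_ne (by decide)) (by decide)) rfl

theorem h75 : Lab (gel 54) p0 (aa D BB av) 8 18 lf8 (cd 5566483) 19 :=
  lab_sh (hC.shl 8 (n := 0) (by decide +kernel) s75 (zr_ne (by decide)) (zr_ne (by decide)) (by decide)) rfl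

theorem h76 : Lab (gel 54) p0 (aa D BB av) 8 18 lf8 (cd 6807552) 19 :=
  lab_sh (hC.shl 8 (n := 0) (by decide +kernel) s76 (zr_ne (by decide)) (zr_ne (by decide)) (by decide)) rfl

theorem h77 : Lab (gel 54) p0 (aa D BB av) 8 18 lf8 (cd 7028736) 19 :=
  lab_sh (hC.shl 8 (n := 0) (by decide +kernel) s77 (zr_ne (by decide)) (zr_ne (by decide)) (by decide)) rfl

theorem h78 : Lab (gel 54) p0 (aa D BB av) 8 18 lf8 (cd 7655424) 19 :=
  lab_sh (hC.shl 8 (n := 0) (by decide +kernel) s78 (zr_ne (by decide)) (zr_ne (by decide)) (by decide)) rfl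

theorem h79 : Lab (gel 54) p0 (aa D BB av) 8 18 lf8 (cd 8540162) 19 :=
  lab_sh (hC.shl 8 (n := 0) (by decide +kernel) s79 (zr_ne (by decide)) (zr_ne (by decide)) (by decide)) rfl

theorem h80 : Lab (gel 54) p0 (aa D BB av) 8 18 lf8 (cd 9720033) 19 :=
  lab_sh (hC.shl 8 (n := 0) (by decide +kernel) s80 (zr_ne (by decide)) (zr_ne (by decide)) (by decide)) rfl

theorem h81 : Lab (gel 54) p0 (aa D BB av) 8 18 lf8 (cd 10317852) 19 :=
  lab_sh (hC.shl 8 (n := 0) (by decide +kernel) s81 (zr_ne (by decide)) (zr_ne (by decide)) (by decide)) rfl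

theorem h82 : Lab (gel 54) p0 (aa D BB av) 8 18 lf8 (cd 10379264) 19 :=
  lab_sh (hC.shl 8 (n := 0) (by decide +kernel) s82 (zr_ne (by decide)) (zr_ne (by decide)) (by decide)) rfl

theorem h83 : Lab (gel 54) p0 (aa D BB av) 8 18 lf8 (cd 10817761) 19 :=
  lab_sh (hC.shl 8 (n := 0) (by decide +kernel) s83 (zr_ne (by decide)) (zr_ne (by decide)) (by decide)) rfl

theorem h84 : Lab (gel 54) p0 (aa D BB av) 8 18 lf8 (cd 11190272) 19 :=
  lab_sh (hC.shl 8 (n := 0) (by decide +kernel) s84 (zr_ne (by decide)) (zr_ne (by decide)) (by decide)) rfl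

theorem h85 : Lab (gel 54) p0 (aa D BB av) 8 18 lf8 (cd 12882145) 19 :=
  lab_sh (hC.shl 8 (n := 0) (by decide +kernel) s85 (zr_ne (by decide)) (zr_ne (by decide)) (by decide)) rfl

theorem hr8 : ∀ x ∈ reps8, x.1 < 2 ^ 24 ∧ x.2 < 2 ^ 5 ∧ Lab (gel 54) p0 (aa D BB av) 8 18 lf8 (cd x.1) x.2 :=
  List.forall_mem_cons.2 ⟨⟨by decide, by decide, f8_0 hC⟩,
  List.forall_mem_cons.2 ⟨⟨by decide, by decide, f8_1 hC⟩,
  List.forall_mem_cons.2 ⟨⟨by decide, by decide, f8_2 hC⟩,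
  List.forall_mem_cons.2 ⟨⟨by decide, by decide, f8_3 hC⟩,
  List.forall_mem_cons.2 ⟨⟨by decide, by decide, f8_4 hC⟩,
  List.forall_mem_cons.2 ⟨⟨by decide, by decide, f8_5 hC⟩,
  List.forall_mem_cons.2 ⟨⟨by decide, by decide, f8_6 hC⟩,
  List.forall_mem_cons.2 ⟨⟨by decide, by decide, f8_7 hC⟩,
  List.forall_mem_cons.2 ⟨⟨by decide, by decide, f8_8 hC⟩,
  List.forall_mem_cons.2 ⟨⟨by decide, by decide, f8_9 hC⟩,
  List.forall_mem_cons.2 ⟨⟨by decide, by decide, f8_10 hC⟩,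
  List.forall_mem_cons.2 ⟨⟨by decide, by decide, f8_11 hC⟩,
  List.forall_mem_cons.2 ⟨⟨by decide, by decide, f8_12 hC⟩,
  List.forall_mem_cons.2 ⟨⟨by decide, by decide, f8_13 hC⟩,
  List.forall_mem_cons.2 ⟨⟨by decide, by decide, f8_14 hC⟩,
  List.forall_mem_cons.2 ⟨⟨by decide, by decide, f8_15 hC⟩,
  List.forall_mem_cons.2 ⟨⟨by decide, by decide, f8_16 hC⟩,
  List.forall_mem_cons.2 ⟨⟨by decide, by decide, f8_17 hC⟩,
  List.forall_mem_cons.2 ⟨⟨by decide, by decide, f8_18 hC⟩,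
  List.forall_mem_cons.2 ⟨⟨by decide, by decide, f8_19 hC⟩,
  List.forall_mem_cons.2 ⟨⟨by decide, by decide, f8_20 hC⟩,
  List.forall_mem_cons.2 ⟨⟨by decide, by decide, f8_21 hC⟩,
  List.forall_mem_cons.2 ⟨⟨by decide, by decide, f8_22 hC⟩,
  List.forall_mem_cons.2 ⟨⟨by decide, by decide, f8_23 hC⟩,
  List.forall_mem_cons.2 ⟨⟨by decide, by decide, f8_24 hC⟩,
  List.forall_mem_cons.2 ⟨⟨by decide, by decide, f8_25 hC⟩,
  List.forall_mem_cons.2 ⟨⟨by decide, by decide, f8_26 hC⟩,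
  List.forall_mem_cons.2 ⟨⟨by decide, by decide, f8_27 hC⟩,
  List.forall_mem_cons.2 ⟨⟨by decide, by decide, f8_28 hC⟩,
  List.forall_mem_cons.2 ⟨⟨by decide, by decide, f8_29 hC⟩,
  List.forall_mem_cons.2 ⟨⟨by decide, by decide, f8_30 hC⟩,
  List.forall_mem_cons.2 ⟨⟨by decide, by decide, f8_31 hC⟩,
  List.forall_mem_cons.2 ⟨⟨by decide, by decide, f8_32 hC⟩,
  List.forall_mem_cons.2 ⟨⟨by decide, by decide, f8_33 hC⟩,
  List.forall_mem_cons.2 ⟨⟨by decide, by decide, f8_34 hC⟩,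
  List.forall_mem_cons.2 ⟨⟨by decide, by decide, f8_35 hC⟩,
  List.forall_mem_cons.2 ⟨⟨by decide, by decide, f8_36 hC⟩,
  List.forall_mem_cons.2 ⟨⟨by decide, by decide, f8_37 hC⟩,
  List.forall_mem_cons.2 ⟨⟨by decide, by decide, f8_38 hC⟩,
  List.forall_mem_cons.2 ⟨⟨by decide, by decide, f8_39 hC⟩,
  List.forall_mem_cons.2 ⟨⟨by decide, by decide, f8_40 hC⟩,
  List.forall_mem_cons.2 ⟨⟨by decide, by decide, f8_41 hC⟩,
  List.forall_mem_cons.2 ⟨⟨by decide, by decide, f8_42 hC⟩,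
  List.forall_mem_cons.2 ⟨⟨by decide, by decide, f8_43 hC⟩,
  List.forall_mem_cons.2 ⟨⟨by decide, by decide, f8_44 hC⟩,
  List.forall_mem_cons.2 ⟨⟨by decide, by decide, f8_45 hC⟩,
  List.forall_mem_cons.2 ⟨⟨by decide, by decide, f8_46 hC⟩,
  List.forall_mem_cons.2 ⟨⟨by decide, by decide, f8_47 hC⟩,
  List.forall_mem_cons.2 ⟨⟨by decide, by decide, f8_48 hC⟩,
  List.forall_mem_cons.2 ⟨⟨by decide, by decide, f8_49 hC⟩,
  List.forall_mem_cons.2 ⟨⟨by decide, by decide, f8_50 hC⟩,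
  List.forall_mem_cons.2 ⟨⟨by decide, by decide, f8_51 hC⟩,
  List.forall_mem_cons.2 ⟨⟨by decide, by decide, f8_52 hC⟩,
  List.forall_mem_cons.2 ⟨⟨by decide, by decide, f8_53 hC⟩,
  List.forall_mem_cons.2 ⟨⟨by decide, by decide, f8_54 hC⟩,
  List.forall_mem_cons.2 ⟨⟨by decide, by decide, f8_55 hC⟩,
  List.forall_mem_cons.2 ⟨⟨by decide, by decide, f8_56 hC⟩,
  List.forall_mem_cons.2 ⟨⟨by decide, by decide, f8_57 hC⟩,
  List.forall_mem_cons.2 ⟨⟨by decide, by decide, f8_58 hC⟩,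
  List.forall_mem_cons.2 ⟨⟨by decide, by decide, f8_59 hC⟩,
  List.forall_mem_cons.2 ⟨⟨by decide, by decide, f8_60 hC⟩,
  List.forall_mem_cons.2 ⟨⟨by decide, by decide, f8_61 hC⟩,
  List.forall_mem_cons.2 ⟨⟨by decide, by decide, f8_62 hC⟩,
  List.forall_mem_cons.2 ⟨⟨by decide, by decide, f8_63 hC⟩,
  List.forall_mem_cons.2 ⟨⟨by decide, by decide, f8_64 hC⟩,
  List.forall_mem_cons.2 ⟨⟨by decide, by decide, h65 hC⟩,
  List.forall_mem_cons.2 ⟨⟨by decide, by decide, h66 hC⟩,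
  List.forall_mem_cons.2 ⟨⟨by decide, by decide, h67 hC⟩,
  List.forall_mem_cons.2 ⟨⟨by decide, by decide, h68 hC⟩,
  List.forall_mem_cons.2 ⟨⟨by decide, by decide, h69 hC⟩,
  List.forall_mem_cons.2 ⟨⟨by decide, by decide, h70 hC⟩,
  List.forall_mem_cons.2 ⟨⟨by decide, by decide, h71 hC⟩,
  List.forall_mem_cons.2 ⟨⟨by decide, by decide, h72 hC⟩,
  List.forall_mem_cons.2 ⟨⟨by decide, by decide, h73 hC⟩,
  List.forall_mem_cons.2 ⟨⟨by decide, by decide, h74 hC⟩,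
  List.forall_mem_cons.2 ⟨⟨by decide, by decide, h75 hC⟩,
  List.forall_mem_cons.2 ⟨⟨by decide, by decide, h76 hC⟩,
  List.forall_mem_cons.2 ⟨⟨by decide, by decide, h77 hC⟩,
  List.forall_mem_cons.2 ⟨⟨by decide, by decide, h78 hC⟩,
  List.forall_mem_cons.2 ⟨⟨by decide, by decide, h79 hC⟩,
  List.forall_mem_cons.2 ⟨⟨by decide, by decide, h80 hC⟩,
  List.forall_mem_cons.2 ⟨⟨by decide, by decide, h81 hC⟩,
  List.forall_mem_cons.2 ⟨⟨by decide, by decide, h82 hC⟩,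
  List.forall_mem_cons.2 ⟨⟨by decide, by decide, h83 hC⟩,
  List.forall_mem_cons.2 ⟨⟨by decide, by decide, h84 hC⟩,
  List.forall_mem_cons.2 ⟨⟨by decide, by decide, h85 hC⟩,
  List.forall_mem_nil _⟩⟩⟩⟩⟩⟩⟩⟩⟩⟩⟩⟩⟩⟩⟩⟩⟩⟩⟩⟩⟩⟩⟩⟩⟩⟩⟩⟩⟩⟩⟩⟩⟩⟩⟩⟩⟩⟩⟩⟩⟩⟩⟩⟩⟩⟩⟩⟩⟩⟩⟩⟩⟩⟩⟩⟩⟩⟩⟩⟩⟩⟩⟩⟩⟩⟩⟩⟩⟩⟩⟩⟩⟩⟩⟩⟩⟩⟩⟩⟩⟩⟩⟩⟩⟩⟩

theorem hg8 : ∀ g ∈ gens8, Gn D (aa D BB av 8) g :=
  List.forall_mem_cons.2 ⟨hC.gn 8 g22 (by decide +kernel),
  List.forall_mem_cons.2 ⟨hC.gn 8 g23 (by decide +kernel),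
  List.forall_mem_cons.2 ⟨hC.gn 8 g24 (by decide +kernel),
  List.forall_mem_cons.2 ⟨hC.gn 8 g25 (by decide +kernel),
  List.forall_mem_nil _⟩⟩⟩⟩

end

end

end CfsgMO.Ck
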