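/-
The axes: representatives of the orbits on classes, part 3.
-/
import Cfsg.Agent.MO.Ax2
import Cfsg.Agent.MO.AxC0
import Cfsg.Agent.MO.AxC1
import Cfsg.Agent.MO.AxC2
import Cfsg.Agent.MO.AxC3
import Cfsg.Agent.MO.AxC4
import Cfsg.Agent.MO.AxC5
import Cfsg.Agent.MO.AxC6
import Cfsg.Agent.MO.AxC7
import Cfsg.Agent.MO.AxC8
import Cfsg.Agent.MO.AxC9
import Cfsg.Agent.MO.AxC10
import Cfsg.Agent.MO.AxC11

set_option autoImplicit false
set_option maxRecDepth 100000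

namespace CfsgMO.Ck

open Dat

noncomputable section

variable {D : Dat} {gel : ℕ → D.Γ} {p0 : D.I} (hC : Ctx D BB tab amat gel av p0)

def lf9 : ℕ → Fin 12 × Fin 12 := gdL (0, 0) [(0, 0), (3, 9), (6, 8), (6, 9), (8, 10), (8, 8), (5, 8), (6, 6), (5, 9), (5, 10), (7, 9), (4, 9), (5, 5), (10, 10), (9, 9)]
def reps9 : List (ℕ × ℕ) := [(8388608, 1), (11743232, 2), (15147008, 3), (10137600, 4), (13639680, 5), (11984896, 6), (12775424, 7), (11816960, 8), (8777728, 3), (8654848, 6), (8589312, 9), (8491008, 6), (12627968, 10), (16703488, 10), (4083712, 11), (25062, 12), (372920, 13), (1065446, 5), (754686, 13), (239563, 5), (767050, 5), (5702155, 14), (3666021, 12), (8192, 15), (9192, 15), (24576, 15), (81920, 15), (221797, 15), (307200, 15), (876544, 15), (1249976, 15), (3899392, 15), (7028736, 15), (8351744, 15), (8437760, 16)]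
def gens9 : List (List ℕ) := [[7463082, 6301952, 6340940, 6341642, 1566686, 6301147, 7407338, 7407626, 3403, 6688034, 6686127, 3402, 3533881, 5374958, 1737420, 12190350, 14970249, 15043529, 12872856, 1256801, 6963020, 7063468, 10390415, 10547908], [65802, 4402452, 4377426, 4445106, 4395951, 9982097, 6757294, 16732309, 5899005, 4329199, 5968785, 69868, 4588403, 8373637, 12252789, 10669400, 1768767, 8009800, 2103688, 8009796, 4720035, 8256605, 3075905, 16059163]]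

section
include hC

theorem f9_0 : Lab (gel 54) p0 (aa D BB av) 9 14 lf9 (cd 8388608) 1 :=
  lab_fr (hC.al.frl 9 3 9 (h := []) (by decide +kernel) (hC.al.chkR_sound hC.ok Ck.r47).2
    (hC.al.chkR_sound hC.ok Ck.r279).1) (by decide)

theorem f9_1 : Lab (gel 54) p0 (aa D BB av) 9 14 lf9 (cd 11743232) 2 :=
  lab_fr (hC.al.frl 9 8 6 (h := [36, 53]) (by decide +kernel) (hC.al.chkR_sound hC.ok Ck.r207).2
    (hC.al.chkR_sound hC.ok Ck.r155).2).symm (by decide)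

theorem f9_2 : Lab (gel 54) p0 (aa D BB av) 9 14 lf9 (cd 15147008) 3 :=
  lab_fr (hC.al.frl 9 6 9 (h := [40, 53]) (by decide +kernel) (hC.al.chkR_sound hC.ok Ck.r180).2
    (hC.al.chkR_sound hC.ok Ck.r280).1) (by decide)

theorem f9_3 : Lab (gel 54) p0 (aa D BB av) 9 14 lf9 (cd 10137600) 4 :=
  lab_fr (hC.al.frl 9 10 8 (h := [44, 53]) (by decide +kernel) (hC.al.chkR_sound hC.ok Ck.r281).1
    (hC.al.chkR_sound hC.ok Ck.r234).2).symm (by decide)

theorem f9_4 : Lab (gel 54) p0 (aa D BB av) 9 14 lf9 (cd 13639680) 5 :=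
  lab_fr (hC.al.frl 9 8 8 (h := [43, 53]) (by decide +kernel) (hC.al.chkR_sound hC.ok Ck.r214).2
    (hC.al.chkR_sound hC.ok Ck.r282).1) (by decide)

theorem f9_5 : Lab (gel 54) p0 (aa D BB av) 9 14 lf9 (cd 11984896) 6 :=
  lab_fr (hC.al.frl 9 5 8 (h := [50, 53]) (by decide +kernel) (hC.al.chkR_sound hC.ok Ck.r121).2
    (hC.al.chkR_sound hC.ok Ck.r202).2) (by decide)

theorem f9_6 : Lab (gel 54) p0 (aa D BB av) 9 14 lf9 (cd 12775424) 7 :=
  lab_fr (hC.al.frl 9 6 6 (h := [48, 53]) (by decide +kernel) (hC.al.chkR_sound hC.ok Ck.r283).1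
    (hC.al.chkR_sound hC.ok Ck.r159).2) (by decide)

theorem f9_7 : Lab (gel 54) p0 (aa D BB av) 9 14 lf9 (cd 11816960) 8 :=
  lab_fr (hC.al.frl 9 5 9 (h := [42, 53]) (by decide +kernel) (hC.al.chkR_sound hC.ok Ck.r91).2
    (hC.al.chkR_sound hC.ok Ck.r284).1) (by decide)

theorem f9_8 : Lab (gel 54) p0 (aa D BB av) 9 14 lf9 (cd 8777728) 3 :=
  lab_fr (hC.al.frl 9 6 9 (h := [36, 47, 53]) (by decide +kernel) (hC.al.chkR_sound hC.ok Ck.r168).2
    (hC.al.chkR_sound hC.ok Ck.r285).1) (by decide)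

theorem f9_9 : Lab (gel 54) p0 (aa D BB av) 9 14 lf9 (cd 8654848) 6 :=
  lab_fr (hC.al.frl 9 5 8 (h := [51, 46, 53]) (by decide +kernel) (hC.al.chkR_sound hC.ok Ck.r89).2
    (hC.al.chkR_sound hC.ok Ck.r217).2) (by decide)

theorem f9_10 : Lab (gel 54) p0 (aa D BB av) 9 14 lf9 (cd 8589312) 9 :=
  lab_fr (hC.al.frl 9 5 10 (h := [43, 42, 53]) (by decide +kernel) (hC.al.chkR_sound hC.ok Ck.r98).2
    (hC.al.chkR_sound hC.ok Ck.r286).1) (by decide)

theorem f9_11 : Lab (gel 54) p0 (aa D BB av) 9 14 lf9 (cd 8491008) 6 :=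
  lab_fr (hC.al.frl 9 8 5 (h := [46, 44, 53]) (by decide +kernel) (hC.al.chkR_sound hC.ok Ck.r216).2
    (hC.al.chkR_sound hC.ok Ck.r123).2).symm (by decide)

theorem f9_12 : Lab (gel 54) p0 (aa D BB av) 9 14 lf9 (cd 12627968) 10 :=
  lab_fr (hC.al.frl 9 9 7 (h := [48, 42, 53]) (by decide +kernel) (hC.al.chkR_sound hC.ok Ck.r287).1
    (hC.al.chkR_sound hC.ok Ck.r188).2).symm (by decide)

theorem f9_13 : Lab (gel 54) p0 (aa D BB av) 9 14 lf9 (cd 16703488) 10 :=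
  lab_fr (hC.al.frl 9 7 9 (h := [50, 40, 53]) (by decide +kernel) (hC.al.chkR_sound hC.ok Ck.r193).2
    (hC.al.chkR_sound hC.ok Ck.r288).1) (by decide)

theorem f9_14 : Lab (gel 54) p0 (aa D BB av) 9 14 lf9 (cd 4083712) 11 :=
  lab_fr (hC.al.frl 9 4 9 (h := [51, 49, 33, 53]) (by decide +kernel) (hC.al.chkR_sound hC.ok Ck.r69).2
    (hC.al.chkR_sound hC.ok Ck.r289).1) (by decide)

theorem f9_15 : Lab (gel 54) p0 (aa D BB av) 9 14 lf9 (cd 25062) 12 :=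
  lab_fr (hC.al.frl 9 5 5 (h := [44, 53, 43, 53]) (by decide +kernel) (hC.al.chkR_sound hC.ok Ck.r134).2
    (hC.al.chkR_sound hC.ok Ck.r290).1) (by decide)

theorem f9_16 : Lab (gel 54) p0 (aa D BB av) 9 14 lf9 (cd 372920) 13 :=
  lab_fr (hC.al.frl 9 10 10 (h := [43, 53, 49, 53]) (by decide +kernel) (hC.al.chkR_sound hC.ok Ck.r291).1
    (hC.al.chkR_sound hC.ok Ck.r292).1) (by decide)

theorem f9_17 : Lab (gel 54) p0 (aa D BB av) 9 14 lf9 (cd 1065446) 5 :=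
  lab_fr (hC.al.frl 9 8 8 (h := [44, 53, 50, 53]) (by decide +kernel) (hC.al.chkR_sound hC.ok Ck.r273).2
    (hC.al.chkR_sound hC.ok Ck.r293).1) (by decide)

theorem f9_18 : Lab (gel 54) p0 (aa D BB av) 9 14 lf9 (cd 754686) 13 :=
  lab_fr (hC.al.frl 9 10 10 (h := [47, 53, 36, 53]) (by decide +kernel) (hC.al.chkR_sound hC.ok Ck.r294).1
    (hC.al.chkR_sound hC.ok Ck.r295).1) (by decide)

theorem f9_19 : Lab (gel 54) p0 (aa D BB av) 9 14 lf9 (cd 239563) 5 :=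
  lab_fr (hC.al.frl 9 8 8 (h := [41, 53, 46, 53]) (by decide +kernel) (hC.al.chkR_sound hC.ok Ck.r276).2
    (hC.al.chkR_sound hC.ok Ck.r296).1) (by decide)

theorem f9_20 : Lab (gel 54) p0 (aa D BB av) 9 14 lf9 (cd 767050) 5 :=
  lab_fr (hC.al.frl 9 8 8 (h := [49, 53, 49, 53]) (by decide +kernel) (hC.al.chkR_sound hC.ok Ck.r238).2
    (hC.al.chkR_sound hC.ok Ck.r297).1) (by decide)

theorem f9_21 : Lab (gel 54) p0 (aa D BB av) 9 14 lf9 (cd 5702155) 14 :=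
  lab_fr (hC.al.frl 9 9 9 (h := [51, 53, 49, 53]) (by decide +kernel) (hC.al.chkR_sound hC.ok Ck.r298).1
    (hC.al.chkR_sound hC.ok Ck.r299).1) (by decide)

theorem f9_22 : Lab (gel 54) p0 (aa D BB av) 9 14 lf9 (cd 3666021) 12 :=
  lab_fr (hC.al.frl 9 5 5 (h := [31, 36, 53, 49, 53]) (by decide +kernel) (hC.al.chkR_sound hC.ok Ck.r130).2
    (hC.al.chkR_sound hC.ok Ck.r300).1) (by decide)

theorem h86 : Lab (gel 54) p0 (aa D BB av) 9 14 lf9 (cd 8192) 15 :=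
  lab_sh (hC.shl 9 (n := 0) (by decide +kernel) s86 (zr_ne (by decide)) (zr_ne (by decide)) (by decide)) rfl

theorem h87 : Lab (gel 54) p0 (aa D BB av) 9 14 lf9 (cd 9192) 15 :=
  lab_sh (hC.shl 9 (n := 0) (by decide +kernel) s87 (zr_ne (by decide)) (zr_ne (by decide)) (by decide)) rfl

theorem h88 : Lab (gel 54) p0 (aa D BB av) 9 14 lf9 (cd 24576) 15 :=
  lab_sh (hC.shl 9 (n := 0) (by decide +kernel) s88 (zr_ne (by decide)) (zr_ne (by decide)) (by decide)) rfl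

theorem h89 : Lab (gel 54) p0 (aa D BB av) 9 14 lf9 (cd 81920) 15 :=
  lab_sh (hC.shl 9 (n := 0) (by decide +kernel) s89 (zr_ne (by decide)) (zr_ne (by decide)) (by decide)) rfl

theorem h90 : Lab (gel 54) p0 (aa D BB av) 9 14 lf9 (cd 221797) 15 :=
  lab_sh (hC.shl 9 (n := 0) (by decide +kernel) s90 (zr_ne (by decide)) (zr_ne (by decide)) (by decide)) rfl

theorem h91 : Lab (gel 54) p0 (aa D BB av) 9 14 lf9 (cd 307200) 15 :=
  lab_sh (hC.shl 9 (n := 0) (by decide +kernel) s91 (zr_ne (by decide)) (zr_ne (by decide)) (by decide)) rfl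

theorem h92 : Lab (gel 54) p0 (aa D BB av) 9 14 lf9 (cd 876544) 15 :=
  lab_sh (hC.shl 9 (n := 0) (by decide +kernel) s92 (zr_ne (by decide)) (zr_ne (by decide)) (by decide)) rfl

theorem h93 : Lab (gel 54) p0 (aa D BB av) 9 14 lf9 (cd 1249976) 15 :=
  lab_sh (hC.shl 9 (n := 0) (by decide +kernel) s93 (zr_ne (by decide)) (zr_ne (by decide)) (by decide)) rfl

theorem h94 : Lab (gel 54) p0 (aa D BB av) 9 14 lf9 (cd 3899392) 15 :=
  lab_sh (hC.shl 9 (n := 0) (by decide +kernel) s94 (zr_ne (by decide)) (zr_ne (by decide)) (by decide)) rfl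

theorem h95 : Lab (gel 54) p0 (aa D BB av) 9 14 lf9 (cd 7028736) 15 :=
  lab_sh (hC.shl 9 (n := 0) (by decide +kernel) s95 (zr_ne (by decide)) (zr_ne (by decide)) (by decide)) rfl

theorem h96 : Lab (gel 54) p0 (aa D BB av) 9 14 lf9 (cd 8351744) 15 :=
  lab_sh (hC.shl 9 (n := 0) (by decide +kernel) s96 (zr_ne (by decide)) (zr_ne (by decide)) (by decide)) rfl

theorem h97 : Lab (gel 54) p0 (aa D BB av) 9 14 lf9 (cd 8437760) 16 :=
  lab_sh (hC.shl 9 (n := 1) (by decide +kernel) s97 (hC.zr x22 x23 (by decide +kernel)) (zr_ne (by decide)) (by decide)) rfl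

theorem hr9 : ∀ x ∈ reps9, x.1 < 2 ^ 24 ∧ x.2 < 2 ^ 5 ∧ Lab (gel 54) p0 (aa D BB av) 9 14 lf9 (cd x.1) x.2 :=
  List.forall_mem_cons.2 ⟨⟨by decide, by decide, f9_0 hC⟩,
  List.forall_mem_cons.2 ⟨⟨by decide, by decide, f9_1 hC⟩,
  List.forall_mem_cons.2 ⟨⟨by decide, by decide, f9_2 hC⟩,
  List.forall_mem_cons.2 ⟨⟨by decide, by decide, f9_3 hC⟩,
  List.forall_mem_cons.2 ⟨⟨by decide, by decide, f9_4 hC⟩,
  List.forall_mem_cons.2 ⟨⟨by decide, by decide, f9_5 hC⟩,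
  List.forall_mem_cons.2 ⟨⟨by decide, by decide, f9_6 hC⟩,
  List.forall_mem_cons.2 ⟨⟨by decide, by decide, f9_7 hC⟩,
  List.forall_mem_cons.2 ⟨⟨by decide, by decide, f9_8 hC⟩,
  List.forall_mem_cons.2 ⟨⟨by decide, by decide, f9_9 hC⟩,
  List.forall_mem_cons.2 ⟨⟨by decide, by decide, f9_10 hC⟩,
  List.forall_mem_cons.2 ⟨⟨by decide, by decide, f9_11 hC⟩,
  List.forall_mem_cons.2 ⟨⟨by decide, by decide, f9_12 hC⟩,
  List.forall_mem_cons.2 ⟨⟨by decide, by decide, f9_13 hC⟩,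
  List.forall_mem_cons.2 ⟨⟨by decide, by decide, f9_14 hC⟩,
  List.forall_mem_cons.2 ⟨⟨by decide, by decide, f9_15 hC⟩,
  List.forall_mem_cons.2 ⟨⟨by decide, by decide, f9_16 hC⟩,
  List.forall_mem_cons.2 ⟨⟨by decide, by decide, f9_17 hC⟩,
  List.forall_mem_cons.2 ⟨⟨by decide, by decide, f9_18 hC⟩,
  List.forall_mem_cons.2 ⟨⟨by decide, by decide, f9_19 hC⟩,
  List.forall_mem_cons.2 ⟨⟨by decide, by decide, f9_20 hC⟩,
  List.forall_mem_cons.2 ⟨⟨by decide, by decide, f9_21 hC⟩,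
  List.forall_mem_cons.2 ⟨⟨by decide, by decide, f9_22 hC⟩,
  List.forall_mem_cons.2 ⟨⟨by decide, by decide, h86 hC⟩,
  List.forall_mem_cons.2 ⟨⟨by decide, by decide, h87 hC⟩,
  List.forall_mem_cons.2 ⟨⟨by decide, by decide, h88 hC⟩,
  List.forall_mem_cons.2 ⟨⟨by decide, by decide, h89 hC⟩,
  List.forall_mem_cons.2 ⟨⟨by decide, by decide, h90 hC⟩,
  List.forall_mem_cons.2 ⟨⟨by decide, by decide, h91 hC⟩,
  List.forall_mem_cons.2 ⟨⟨by decide, by decide, h92 hC⟩,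
  List.forall_mem_cons.2 ⟨⟨by decide, by decide, h93 hC⟩,
  List.forall_mem_cons.2 ⟨⟨by decide, by decide, h94 hC⟩,
  List.forall_mem_cons.2 ⟨⟨by decide, by decide, h95 hC⟩,
  List.forall_mem_cons.2 ⟨⟨by decide, by decide, h96 hC⟩,
  List.forall_mem_cons.2 ⟨⟨by decide, by decide, h97 hC⟩,
  List.forall_mem_nil _⟩⟩⟩⟩⟩⟩⟩⟩⟩⟩⟩⟩⟩⟩⟩⟩⟩⟩⟩⟩⟩⟩⟩⟩⟩⟩⟩⟩⟩⟩⟩⟩⟩⟩⟩

theorem hg9 : ∀ g ∈ gens9, Gn D (aa D BB av 9) g :=
  List.forall_mem_cons.2 ⟨hC.gn 9 g26 (by decide +kernel),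
  List.forall_mem_cons.2 ⟨hC.gn 9 g27 (by decide +kernel),
  List.forall_mem_nil _⟩⟩

end

def lf10 : ℕ → Fin 12 × Fin 12 := gdL (0, 0) [(0, 0), (3, 10), (4, 10), (8, 8), (6, 8), (5, 8), (8, 9), (6, 10), (5, 9), (8, 10), (10, 10), (10, 11), (5, 10), (9, 10), (5, 5), (8, 11)]
def reps10 : List (ℕ × ℕ) := [(8388608, 1), (15728640, 2), (12775424, 3), (15343616, 4), (11816960, 5), (11743232, 5), (12156928, 6), (12607488, 7), (10137600, 8), (8507392, 2), (8601600, 9), (4861955, 3), (3993855, 10), (3428354, 10), (3014684, 11), (6520862, 3), (1147932, 5), (25062, 9), (2383897, 9), (239563, 3), (74195, 10), (356872, 12), (1135746, 9), (2589201, 7), (976480, 3), (1365692, 9), (2342914, 3), (8364595, 3), (10248519, 10), (4117167, 12), (2413570, 13), (3274114, 9), (5702155, 10), (2339110, 5), (5370882, 14), (1258001, 13), (1221131, 15), (1995275, 11), (1955, 16), (8192, 16), (33697, 16), (307200, 16),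 (655391, 16), (958690, 16), (2228224, 16), (7028736, 16), (7491584, 16), (7655424, 16), (8396800, 16), (10579996, 16)]
def gens10 : List (List ℕ) := [[2624, 2746, 1791, 3207, 3379, 3545, 117, 2817, 3328, 2816, 2304, 2048, 1034356, 124394, 157868, 561113, 731087, 200387, 700044, 555161, 4378587, 2375091, 7778291, 9875420], [2688, 2772, 2563, 2045, 2423, 3870, 2018, 66, 2306, 514, 3000, 2048, 755062, 4189534, 4364939, 8185382, 4091357, 8203677, 4311609, 3714237, 7285189, 1554978, 84253, 14406557], [8178000, 3328, 7903050, 7602769, 7360640, 7362058, 7541377, 7603469, 1039870, 1038120, 1037458, 2414, 820931, 13866549, 10129044, 11978229, 5948625, 11754351, 9592151, 5277524, 11677154, 2968900, 8217937, 9891181]]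

section
include hC

theorem f10_0 : Lab (gel 54) p0 (aa D BB av) 10 15 lf10 (cd 8388608) 1 :=
  lab_fr (hC.al.frl 10 3 10 (h := []) (by decide +kernel) (hC.al.chkR_sound hC.ok Ck.r49).2
    (hC.al.chkR_sound hC.ok Ck.r301).1) (by decide)

theorem f10_1 : Lab (gel 54) p0 (aa D BB av) 10 15 lf10 (cd 15728640) 2 :=
  lab_fr (hC.al.frl 10 10 4 (h := [53]) (by decide +kernel) (hC.al.chkR_sound hC.ok Ck.r302).1
    (hC.al.chkR_sound hC.ok Ck.r71).2).symm (by decide)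

theorem f10_2 : Lab (gel 54) p0 (aa D BB av) 10 15 lf10 (cd 12775424) 3 :=
  lab_fr (hC.al.frl 10 8 8 (h := [48, 53]) (by decide +kernel) (hC.al.chkR_sound hC.ok Ck.r206).2
    (hC.al.chkR_sound hC.ok Ck.r303).1) (by decide)

theorem f10_3 : Lab (gel 54) p0 (aa D BB av) 10 15 lf10 (cd 15343616) 4 :=
  lab_fr (hC.al.frl 10 6 8 (h := [47, 53]) (by decide +kernel) (hC.al.chkR_sound hC.ok Ck.r158).2
    (hC.al.chkR_sound hC.ok Ck.r215).2) (by decide)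

theorem f10_4 : Lab (gel 54) p0 (aa D BB av) 10 15 lf10 (cd 11816960) 5 :=
  lab_fr (hC.al.frl 10 8 5 (h := [42, 53]) (by decide +kernel) (hC.al.chkR_sound hC.ok Ck.r210).2
    (hC.al.chkR_sound hC.ok Ck.r119).2).symm (by decide)

theorem f10_5 : Lab (gel 54) p0 (aa D BB av) 10 15 lf10 (cd 11743232) 5 :=
  lab_fr (hC.al.frl 10 5 8 (h := [36, 53]) (by decide +kernel) (hC.al.chkR_sound hC.ok Ck.r108).2
    (hC.al.chkR_sound hC.ok Ck.r200).2) (by decide)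

theorem f10_6 : Lab (gel 54) p0 (aa D BB av) 10 15 lf10 (cd 12156928) 6 :=
  lab_fr (hC.al.frl 10 9 8 (h := [38, 53]) (by decide +kernel) (hC.al.chkR_sound hC.ok Ck.r281).2
    (hC.al.chkR_sound hC.ok Ck.r233).2).symm (by decide)

theorem f10_7 : Lab (gel 54) p0 (aa D BB av) 10 15 lf10 (cd 12607488) 7 :=
  lab_fr (hC.al.frl 10 10 6 (h := [45, 53]) (by decide +kernel) (hC.al.chkR_sound hC.ok Ck.r304).1
    (hC.al.chkR_sound hC.ok Ck.r170).2).symm (by decide)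

theorem f10_8 : Lab (gel 54) p0 (aa D BB av) 10 15 lf10 (cd 10137600) 8 :=
  lab_fr (hC.al.frl 10 9 5 (h := [44, 53]) (by decide +kernel) (hC.al.chkR_sound hC.ok Ck.r286).2
    (hC.al.chkR_sound hC.ok Ck.r99).2).symm (by decide)

theorem f10_9 : Lab (gel 54) p0 (aa D BB av) 10 15 lf10 (cd 8507392) 2 :=
  lab_fr (hC.al.frl 10 10 4 (h := [47, 49, 53]) (by decide +kernel) (hC.al.chkR_sound hC.ok Ck.r305).1
    (hC.al.chkR_sound hC.ok Ck.r75).2).symm (by decide)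

theorem f10_10 : Lab (gel 54) p0 (aa D BB av) 10 15 lf10 (cd 8601600) 9 :=
  lab_fr (hC.al.frl 10 10 8 (h := [38, 49, 53]) (by decide +kernel) (hC.al.chkR_sound hC.ok Ck.r306).1
    (hC.al.chkR_sound hC.ok Ck.r269).2).symm (by decide)

theorem f10_11 : Lab (gel 54) p0 (aa D BB av) 10 15 lf10 (cd 4861955) 3 :=
  lab_fr (hC.al.frl 10 8 8 (h := [53, 51, 53]) (by decide +kernel) (hC.al.chkR_sound hC.ok Ck.r221).2
    (hC.al.chkR_sound hC.ok Ck.r307).1) (by decide)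

theorem f10_12 : Lab (gel 54) p0 (aa D BB av) 10 15 lf10 (cd 3993855) 10 :=
  lab_fr (hC.al.frl 10 10 10 (h := [53, 36, 53]) (by decide +kernel) (hC.al.chkR_sound hC.ok Ck.r308).1
    (hC.al.chkR_sound hC.ok Ck.r308).2) (by decide)

theorem f10_13 : Lab (gel 54) p0 (aa D BB av) 10 15 lf10 (cd 3428354) 10 :=
  lab_fr (hC.al.frl 10 10 10 (h := [53, 42, 53]) (by decide +kernel) (hC.al.chkR_sound hC.ok Ck.r309).1
    (hC.al.chkR_sound hC.ok Ck.r309).2) (by decide)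

theorem f10_14 : Lab (gel 54) p0 (aa D BB av) 10 15 lf10 (cd 3014684) 11 :=
  lab_fr (hC.al.frl 10 10 11 (h := [33, 53, 48, 53]) (by decide +kernel) (hC.al.chkR_sound hC.ok Ck.r310).1
    (hC.al.chkR_sound hC.ok Ck.r311).1) (by decide)

theorem f10_15 : Lab (gel 54) p0 (aa D BB av) 10 15 lf10 (cd 6520862) 3 :=
  lab_fr (hC.al.frl 10 8 8 (h := [34, 53, 39, 53]) (by decide +kernel) (hC.al.chkR_sound hC.ok Ck.r236).2
    (hC.al.chkR_sound hC.ok Ck.r312).1) (by decide)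

theorem f10_16 : Lab (gel 54) p0 (aa D BB av) 10 15 lf10 (cd 1147932) 5 :=
  lab_fr (hC.al.frl 10 5 8 (h := [40, 53, 42, 53]) (by decide +kernel) (hC.al.chkR_sound hC.ok Ck.r125).2
    (hC.al.chkR_sound hC.ok Ck.r252).2) (by decide)

theorem f10_17 : Lab (gel 54) p0 (aa D BB av) 10 15 lf10 (cd 25062) 9 :=
  lab_fr (hC.al.frl 10 8 10 (h := [44, 53, 43, 53]) (by decide +kernel) (hC.al.chkR_sound hC.ok Ck.r222).2
    (hC.al.chkR_sound hC.ok Ck.r313).1) (by decide)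

theorem f10_18 : Lab (gel 54) p0 (aa D BB av) 10 15 lf10 (cd 2383897) 9 :=
  lab_fr (hC.al.frl 10 8 10 (h := [38, 53, 41, 53]) (by decide +kernel) (hC.al.chkR_sound hC.ok Ck.r228).2
    (hC.al.chkR_sound hC.ok Ck.r314).1) (by decide)

theorem f10_19 : Lab (gel 54) p0 (aa D BB av) 10 15 lf10 (cd 239563) 3 :=
  lab_fr (hC.al.frl 10 8 8 (h := [41, 53, 46, 53]) (by decide +kernel) (hC.al.chkR_sound hC.ok Ck.r246).2
    (hC.al.chkR_sound hC.ok Ck.r249).2) (by decide)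

theorem f10_20 : Lab (gel 54) p0 (aa D BB av) 10 15 lf10 (cd 74195) 10 :=
  lab_fr (hC.al.frl 10 10 10 (h := [47, 53, 51, 53]) (by decide +kernel) (hC.al.chkR_sound hC.ok Ck.r315).1
    (hC.al.chkR_sound hC.ok Ck.r316).1) (by decide)

theorem f10_21 : Lab (gel 54) p0 (aa D BB av) 10 15 lf10 (cd 356872) 12 :=
  lab_fr (hC.al.frl 10 10 5 (h := [51, 53, 39, 53]) (by decide +kernel) (hC.al.chkR_sound hC.ok Ck.r317).1
    (hC.al.chkR_sound hC.ok Ck.r135).2).symm (by decide)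

theorem f10_22 : Lab (gel 54) p0 (aa D BB av) 10 15 lf10 (cd 1135746) 9 :=
  lab_fr (hC.al.frl 10 10 8 (h := [48, 53, 49, 53]) (by decide +kernel) (hC.al.chkR_sound hC.ok Ck.r318).1
    (hC.al.chkR_sound hC.ok Ck.r264).2).symm (by decide)

theorem f10_23 : Lab (gel 54) p0 (aa D BB av) 10 15 lf10 (cd 2589201) 7 :=
  lab_fr (hC.al.frl 10 6 10 (h := [45, 53, 50, 53]) (by decide +kernel) (hC.al.chkR_sound hC.ok Ck.r175).2
    (hC.al.chkR_sound hC.ok Ck.r319).1) (by decide)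

theorem f10_24 : Lab (gel 54) p0 (aa D BB av) 10 15 lf10 (cd 976480) 3 :=
  lab_fr (hC.al.frl 10 8 8 (h := [39, 53, 47, 53]) (by decide +kernel) (hC.al.chkR_sound hC.ok Ck.r224).2
    (hC.al.chkR_sound hC.ok Ck.r232).2) (by decide)

theorem f10_25 : Lab (gel 54) p0 (aa D BB av) 10 15 lf10 (cd 1365692) 9 :=
  lab_fr (hC.al.frl 10 8 10 (h := [47, 53, 41, 53]) (by decide +kernel) (hC.al.chkR_sound hC.ok Ck.r259).2
    (hC.al.chkR_sound hC.ok Ck.r320).1) (by decide)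

theorem f10_26 : Lab (gel 54) p0 (aa D BB av) 10 15 lf10 (cd 2342914) 3 :=
  lab_fr (hC.al.frl 10 8 8 (h := [42, 53, 47, 53]) (by decide +kernel) (hC.al.chkR_sound hC.ok Ck.r257).2
    (hC.al.chkR_sound hC.ok Ck.r321).1) (by decide)

theorem f10_27 : Lab (gel 54) p0 (aa D BB av) 10 15 lf10 (cd 8364595) 3 :=
  lab_fr (hC.al.frl 10 8 8 (h := [42, 53, 46, 53]) (by decide +kernel) (hC.al.chkR_sound hC.ok Ck.r248).2
    (hC.al.chkR_sound hC.ok Ck.r253).2) (by decide)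

theorem f10_28 : Lab (gel 54) p0 (aa D BB av) 10 15 lf10 (cd 10248519) 10 :=
  lab_fr (hC.al.frl 10 10 10 (h := [42, 53, 49, 53]) (by decide +kernel) (hC.al.chkR_sound hC.ok Ck.r322).1
    (hC.al.chkR_sound hC.ok Ck.r322).2) (by decide)

theorem f10_29 : Lab (gel 54) p0 (aa D BB av) 10 15 lf10 (cd 4117167) 12 :=
  lab_fr (hC.al.frl 10 10 5 (h := [39, 53, 46, 53]) (by decide +kernel) (hC.al.chkR_sound hC.ok Ck.r323).1
    (hC.al.chkR_sound hC.ok Ck.r110).2).symm (by decide)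

theorem f10_30 : Lab (gel 54) p0 (aa D BB av) 10 15 lf10 (cd 2413570) 13 :=
  lab_fr (hC.al.frl 10 10 9 (h := [40, 53, 39, 53]) (by decide +kernel) (hC.al.chkR_sound hC.ok Ck.r324).1
    (hC.al.chkR_sound hC.ok Ck.r291).2).symm (by decide)

theorem f10_31 : Lab (gel 54) p0 (aa D BB av) 10 15 lf10 (cd 3274114) 9 :=
  lab_fr (hC.al.frl 10 10 8 (h := [48, 53, 46, 53]) (by decide +kernel) (hC.al.chkR_sound hC.ok Ck.r314).2
    (hC.al.chkR_sound hC.ok Ck.r227).2).symm (by decide)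

theorem f10_32 : Lab (gel 54) p0 (aa D BB av) 10 15 lf10 (cd 5702155) 10 :=
  lab_fr (hC.al.frl 10 10 10 (h := [51, 53, 49, 53]) (by decide +kernel) (hC.al.chkR_sound hC.ok Ck.r325).1
    (hC.al.chkR_sound hC.ok Ck.r316).2) (by decide)

theorem f10_33 : Lab (gel 54) p0 (aa D BB av) 10 15 lf10 (cd 2339110) 5 :=
  lab_fr (hC.al.frl 10 8 5 (h := [51, 53, 46, 53]) (by decide +kernel) (hC.al.chkR_sound hC.ok Ck.r261).2
    (hC.al.chkR_sound hC.ok Ck.r137).2).symm (by decide)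

theorem f10_34 : Lab (gel 54) p0 (aa D BB av) 10 15 lf10 (cd 5370882) 14 :=
  lab_fr (hC.al.frl 10 5 5 (h := [40, 53, 45, 53]) (by decide +kernel) (hC.al.chkR_sound hC.ok Ck.r144).2
    (hC.al.chkR_sound hC.ok Ck.r147).2) (by decide)

theorem f10_35 : Lab (gel 54) p0 (aa D BB av) 10 15 lf10 (cd 1258001) 13 :=
  lab_fr (hC.al.frl 10 9 10 (h := [45, 53, 43, 53]) (by decide +kernel) (hC.al.chkR_sound hC.ok Ck.r294).2
    (hC.al.chkR_sound hC.ok Ck.r326).1) (by decide)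

theorem f10_36 : Lab (gel 54) p0 (aa D BB av) 10 15 lf10 (cd 1221131) 15 :=
  lab_fr (hC.al.frl 10 8 11 (h := [51, 33, 53, 49, 53]) (by decide +kernel) (hC.al.chkR_sound hC.ok Ck.r230).2
    (hC.al.chkR_sound hC.ok Ck.r327).1) (by decide)

theorem f10_37 : Lab (gel 54) p0 (aa D BB av) 10 15 lf10 (cd 1995275) 11 :=
  lab_fr (hC.al.frl 10 11 10 (h := [28, 51, 53, 49, 53]) (by decide +kernel) (hC.al.chkR_sound hC.ok Ck.r328).1
    (hC.al.chkR_sound hC.ok Ck.r329).1).symm (by decide)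

theorem h98 : Lab (gel 54) p0 (aa D BB av) 10 15 lf10 (cd 1955) 16 :=
  lab_sh (hC.shl 10 (n := 0) (by decide +kernel) s98 (zr_ne (by decide)) (zr_ne (by decide)) (by decide)) rfl

theorem h99 : Lab (gel 54) p0 (aa D BB av) 10 15 lf10 (cd 8192) 16 :=
  lab_sh (hC.shl 10 (n := 0) (by decide +kernel) s99 (zr_ne (by decide)) (zr_ne (by decide)) (by decide)) rfl

theorem h100 : Lab (gel 54) p0 (aa D BB av) 10 15 lf10 (cd 33697) 16 :=
  lab_sh (hC.shl 10 (n := 0) (by decide +kernel) s100 (zr_ne (by decide)) (zr_ne (by decide)) (by decide)) rfl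

theorem h101 : Lab (gel 54) p0 (aa D BB av) 10 15 lf10 (cd 307200) 16 :=
  lab_sh (hC.shl 10 (n := 0) (by decide +kernel) s101 (zr_ne (by decide)) (zr_ne (by decide)) (by decide)) rfl

theorem h102 : Lab (gel 54) p0 (aa D BB av) 10 15 lf10 (cd 655391) 16 :=
  lab_sh (hC.shl 10 (n := 0) (by decide +kernel) s102 (zr_ne (by decide)) (zr_ne (by decide)) (by decide)) rfl

theorem h103 : Lab (gel 54) p0 (aa D BB av) 10 15 lf10 (cd 958690) 16 :=
  lab_sh (hC.shl 10 (n := 0) (by decide +kernel) s103 (zr_ne (by decide)) (zr_ne (by decide)) (by decide)) rfl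

theorem h104 : Lab (gel 54) p0 (aa D BB av) 10 15 lf10 (cd 2228224) 16 :=
  lab_sh (hC.shl 10 (n := 0) (by decide +kernel) s104 (zr_ne (by decide)) (zr_ne (by decide)) (by decide)) rfl

theorem h105 : Lab (gel 54) p0 (aa D BB av) 10 15 lf10 (cd 7028736) 16 :=
  lab_sh (hC.shl 10 (n := 0) (by decide +kernel) s105 (zr_ne (by decide)) (zr_ne (by decide)) (by decide)) rfl

theorem h106 : Lab (gel 54) p0 (aa D BB av) 10 15 lf10 (cd 7491584) 16 :=
  lab_sh (hC.shl 10 (n := 0) (by decide +kernel) s106 (zr_ne (by decide)) (zr_ne (by decide)) (by decide)) rfl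

theorem h107 : Lab (gel 54) p0 (aa D BB av) 10 15 lf10 (cd 7655424) 16 :=
  lab_sh (hC.shl 10 (n := 0) (by decide +kernel) s107 (zr_ne (by decide)) (zr_ne (by decide)) (by decide)) rfl

theorem h108 : Lab (gel 54) p0 (aa D BB av) 10 15 lf10 (cd 8396800) 16 :=
  lab_sh (hC.shl 10 (n := 0) (by decide +kernel) s108 (zr_ne (by decide)) (zr_ne (by decide)) (by decide)) rfl

theorem h109 : Lab (gel 54) p0 (aa D BB av) 10 15 lf10 (cd 10579996) 16 :=
  lab_sh (hC.shl 10 (n := 0) (by decide +kernel) s109 (zr_ne (by decide)) (zr_ne (by decide)) (by decide)) rfl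

theorem hr10 : ∀ x ∈ reps10, x.1 < 2 ^ 24 ∧ x.2 < 2 ^ 5 ∧ Lab (gel 54) p0 (aa D BB av) 10 15 lf10 (cd x.1) x.2 :=
  List.forall_mem_cons.2 ⟨⟨by decide, by decide, f10_0 hC⟩,
  List.forall_mem_cons.2 ⟨⟨by decide, by decide, f10_1 hC⟩,
  List.forall_mem_cons.2 ⟨⟨by decide, by decide, f10_2 hC⟩,
  List.forall_mem_cons.2 ⟨⟨by decide, by decide, f10_3 hC⟩,
  List.forall_mem_cons.2 ⟨⟨by decide, by decide, f10_4 hC⟩,
  List.forall_mem_cons.2 ⟨⟨by decide, by decide, f10_5 hC⟩,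
  List.forall_mem_cons.2 ⟨⟨by decide, by decide, f10_6 hC⟩,
  List.forall_mem_cons.2 ⟨⟨by decide, by decide, f10_7 hC⟩,
  List.forall_mem_cons.2 ⟨⟨by decide, by decide, f10_8 hC⟩,
  List.forall_mem_cons.2 ⟨⟨by decide, by decide, f10_9 hC⟩,
  List.forall_mem_cons.2 ⟨⟨by decide, by decide, f10_10 hC⟩,
  List.forall_mem_cons.2 ⟨⟨by decide, by decide, f10_11 hC⟩,
  List.forall_mem_cons.2 ⟨⟨by decide, by decide, f10_12 hC⟩,
  List.forall_mem_cons.2 ⟨⟨by decide, by decide, f10_13 hC⟩,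
  List.forall_mem_cons.2 ⟨⟨by decide, by decide, f10_14 hC⟩,
  List.forall_mem_cons.2 ⟨⟨by decide, by decide, f10_15 hC⟩,
  List.forall_mem_cons.2 ⟨⟨by decide, by decide, f10_16 hC⟩,
  List.forall_mem_cons.2 ⟨⟨by decide, by decide, f10_17 hC⟩,
  List.forall_mem_cons.2 ⟨⟨by decide, by decide, f10_18 hC⟩,
  List.forall_mem_cons.2 ⟨⟨by decide, by decide, f10_19 hC⟩,
  List.forall_mem_cons.2 ⟨⟨by decide, by decide, f10_20 hC⟩,
  List.forall_mem_cons.2 ⟨⟨by decide, by decide, f10_21 hC⟩,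
  List.forall_mem_cons.2 ⟨⟨by decide, by decide, f10_22 hC⟩,
  List.forall_mem_cons.2 ⟨⟨by decide, by decide, f10_23 hC⟩,
  List.forall_mem_cons.2 ⟨⟨by decide, by decide, f10_24 hC⟩,
  List.forall_mem_cons.2 ⟨⟨by decide, by decide, f10_25 hC⟩,
  List.forall_mem_cons.2 ⟨⟨by decide, by decide, f10_26 hC⟩,
  List.forall_mem_cons.2 ⟨⟨by decide, by decide, f10_27 hC⟩,
  List.forall_mem_cons.2 ⟨⟨by decide, by decide, f10_28 hC⟩,
  List.forall_mem_cons.2 ⟨⟨by decide, by decide, f10_29 hC⟩,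
  List.forall_mem_cons.2 ⟨⟨by decide, by decide, f10_30 hC⟩,
  List.forall_mem_cons.2 ⟨⟨by decide, by decide, f10_31 hC⟩,
  List.forall_mem_cons.2 ⟨⟨by decide, by decide, f10_32 hC⟩,
  List.forall_mem_cons.2 ⟨⟨by decide, by decide, f10_33 hC⟩,
  List.forall_mem_cons.2 ⟨⟨by decide, by decide, f10_34 hC⟩,
  List.forall_mem_cons.2 ⟨⟨by decide, by decide, f10_35 hC⟩,
  List.forall_mem_cons.2 ⟨⟨by decide, by decide, f10_36 hC⟩,
  List.forall_mem_cons.2 ⟨⟨by decide, by decide, f10_37 hC⟩,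
  List.forall_mem_cons.2 ⟨⟨by decide, by decide, h98 hC⟩,
  List.forall_mem_cons.2 ⟨⟨by decide, by decide, h99 hC⟩,
  List.forall_mem_cons.2 ⟨⟨by decide, by decide, h100 hC⟩,
  List.forall_mem_cons.2 ⟨⟨by decide, by decide, h101 hC⟩,
  List.forall_mem_cons.2 ⟨⟨by decide, by decide, h102 hC⟩,
  List.forall_mem_cons.2 ⟨⟨by decide, by decide, h103 hC⟩,
  List.forall_mem_cons.2 ⟨⟨by decide, by decide, h104 hC⟩,
  List.forall_mem_cons.2 ⟨⟨by decide, by decide, h105 hC⟩,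
  List.forall_mem_cons.2 ⟨⟨by decide, by decide, h106 hC⟩,
  List.forall_mem_cons.2 ⟨⟨by decide, by decide, h107 hC⟩,
  List.forall_mem_cons.2 ⟨⟨by decide, by decide, h108 hC⟩,
  List.forall_mem_cons.2 ⟨⟨by decide, by decide, h109 hC⟩,
  List.forall_mem_nil _⟩⟩⟩⟩⟩⟩⟩⟩⟩⟩⟩⟩⟩⟩⟩⟩⟩⟩⟩⟩⟩⟩⟩⟩⟩⟩⟩⟩⟩⟩⟩⟩⟩⟩⟩⟩⟩⟩⟩⟩⟩⟩⟩⟩⟩⟩⟩⟩⟩⟩

theorem hg10 : ∀ g ∈ gens10, Gn D (aa D BB av 10) g :=
  List.forall_mem_cons.2 ⟨hC.gn 10 g28 (by decide +kernel),
  List.forall_mem_cons.2 ⟨hC.gn 10 g29 (by decide +kernel),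
  List.forall_mem_cons.2 ⟨hC.gn 10 g30 (by decide +kernel),
  List.forall_mem_nil _⟩⟩⟩

end

end

end CfsgMO.Ck
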