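/-
Orbit enumeration for the axis number 0.
-/
import Cfsg.Agent.MO.BF

set_option autoImplicit false
set_option maxRecDepth 100000
set_option Elab.async false
set_option exponentiation.threshold 100000000

namespace CfsgMO.Bf0

noncomputable section

def n : ℕ := 3
def gens : List (List ℕ) := [[6030496, 7387633, 130336, 7423025, 9284863, 9283310, 9285515, 3007471, 6072084, 1740759, 3579325, 87626, 8233033, 10035334, 14939616, 10651008, 8213033, 10932498, 11191877, 15585994, 15091329, 3270593, 1962113, 8236165], [2175937, 1884689, 5958369, 6187605, 11389487, 11390273, 11895666, 2472561, 8115017, 8151809, 209483, 1591988, 10209146, 9680309, 13079493, 450034, 16529091, 9607453, 3197255, 15792312, 10393289, 15298548, 11259725, 14392504]]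
def reps : List (ℕ × ℕ) := [(8388608, 1), (10137600, 2), (25062, 3), (1171, 4), (307200, 4), (7028736, 5), (15417344, 6)]
def ws : List (List ℕ) := [[0, 1, 1, 1, 1, 0, 0, 1, 1], [0, 0, 1, 1, 0, 1, 0, 0], [1, 1, 1, 1, 1, 0], [1, 0, 0, 0, 1, 1, 1, 0, 0, 1], [1, 0, 1, 1, 1, 0, 1], [1, 1, 0, 1, 0, 0, 1, 1, 0], [0, 0, 1, 0, 0, 0, 1, 1], [1, 0, 0, 0, 0, 0], [0, 0, 1, 1, 1, 1, 1, 1, 0, 0], [0, 1, 0, 0, 0, 0], [0, 0, 0, 0, 0, 1, 0, 0, 1, 0]]
def d0 : List ℕ × List (ℕ × ℕ) := ([1, 0, 0, 0, 0, 1, 1, 0, 0, 1, 1, 1], [(18, 7494709), (8, 10017319), (10, 13648597), (3, 11601974), (12, 8005782), (23, 7432406), (17, 1679395), (1, 4776517), (6, 2695860), (11, 533169), (21, 16432), (14, 4817040), (9, 5767217), (5, 4235397), (2, 5873808), (13, 5767184), (15, 5767296), (19, 65552), (7, 5308416), (16, 5242881), (0, 9775490), (22, 93128), (20, 10845790), (16, 305338), (4, 548322), (7, 696674), (19, 10501382), (15, 2253376), (13, 2114056), (2, 10620200), (5, 2359306), (9, 268608), (14, 2097216), (21, 394496), (11, 397378),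 (6, 8650754), (1, 136200), (17, 5128), (23, 1032)])
def d1 : List ℕ × List (ℕ × ℕ) := ([0, 1, 0, 1, 1, 1, 0, 0, 0, 0, 0, 1], [(0, 10998570), (4, 12694820), (20, 11023298), (9, 15266860), (10, 11477282), (2, 4702602), (21, 4251882), (15, 9386178), (1, 796800), (3, 13445152), (19, 4290848), (12, 8585280), (22, 8519744), (23, 395712), (6, 409760), (11, 139296), (13, 196896), (7, 458784), (5, 81920), (14, 393472), (18, 256), (8, 11291784), (18, 12617778), (17, 11111063), (16, 8955519), (14, 16265336), (5, 8398926), (7, 13671436), (13, 4755025), (11, 8388672), (6, 12059663), (23, 2626069), (22, 1573395), (12, 32770), (19, 1049607), (3, 32788), (1, 1082373), (15, 3146769), (21, 1048593), (2, 1049601), (9, 1)])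
def d2 : List ℕ × List (ℕ × ℕ) := ([1, 1, 0, 1, 0, 1, 1, 1, 0, 1, 0, 1], [(18, 12658408), (21, 12647960), (1, 8388812), (3, 14284580), (2, 1178113), (22, 10216321), (4, 8542304), (14, 666336), (23, 1585249), (5, 758785), (11, 98433), (0, 1245376), (6, 1254656), (16, 696320), (12, 1737728), (15, 1713024), (7, 139264), (8, 524288), (10, 532480), (19, 1179648), (20, 11051091), (17, 8415715), (19, 8724621), (13, 2394408), (10, 37518), (9, 14717214), (8, 378945), (7, 12599389), (15, 14762018), (12, 12601364), (16, 6291537), (6, 10502178), (0, 6570028), (11, 4472894), (5, 12861448), (23, 278544), (14, 6291456), (4, 6553614), (22, 262152), (2, 10), (1, 262144)])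
def d3 : List ℕ × List (ℕ × ℕ) := ([1, 0, 1, 0, 0, 1, 0, 0, 0], [(9, 4721885), (19, 4275627), (22, 11705674), (12, 204923), (3, 3409926), (7, 3408950), (4, 345380), (14, 142370), (5, 1256515), (0, 3148804), (6, 11570436), (11, 8880134), (1, 8421380), (16, 10912772), (23, 3310596), (2, 3538944), (17, 3416320), (18, 1024), (10, 3145984), (21, 1048576), (20, 40960), (15, 1576941), (13, 16533109), (20, 6573917), (21, 528096), (8, 8932909), (10, 13437149), (18, 8475293), (17, 8995005), (2, 4784833), (23, 4723403), (16, 4201097), (1, 543265), (11, 4712), (6, 4214961), (0, 4215480), (5, 4734976), (14, 4632), (4, 4723200), (7, 520), (3, 4194816), (2, 256)])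
def d4 : List ℕ × List (ℕ × ℕ) := ([0, 1, 0, 1, 0, 0, 0, 0, 0], [(21, 1435206), (19, 8507087), (4, 13831726), (17, 13698213), (9, 5560397), (6, 12592422), (12, 12961803), (20, 4271488), (7, 9479), (13, 8503328), (8, 3112), (23, 376875), (11, 4571179), (14, 4293673), (10, 98346), (2, 4456491), (18, 4292648), (1, 4292641), (0, 4292640), (15, 65544), (22, 40), (3, 65536), (5, 65536), (16, 8397024), (5, 5375899), (3, 3984832), (22, 9108177), (15, 8808599), (0, 1718018), (1, 544532), (18, 8407236), (2, 10621392), (10, 9590928), (14, 8923520), (11, 9966224), (23, 8576), (8, 143952), (13, 2752528), (7, 2621520), (20, 528464), (12, 2097664), (6, 2228240), (17, 524304), (4, 524288)])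
def d5 : List ℕ × List (ℕ × ℕ) := ([0, 0, 1, 1, 1, 0, 0, 1, 0, 0, 0, 0, 0], [(0, 5499844), (4, 10445410), (13, 16226798), (8, 6674464), (19, 9816580), (18, 15882856), (23, 4312194), (14, 7444174), (20, 6523532), (11, 6390468), (10, 33382), (22, 2199726), (5, 200832), (6, 37512), (17, 2167424), (15, 2097288), (2, 66178), (1, 2101768), (21, 66048), (9, 3486164), (7, 13608000), (16, 8288352), (3, 4741122), (21, 12720226), (12, 1206385), (1, 305173), (2, 13296961), (15, 272384), (17, 13657409), (6, 288033), (5, 13126929), (22, 9719040), (11, 1835009), (20, 9199889), (14, 8396816), (23, 786704), (19, 256), (8, 16), (13, 16)])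
def d6 : List ℕ × List (ℕ × ℕ) := ([1, 1, 1, 0, 0, 0, 1, 0, 0, 0, 1, 0, 1], [(17, 6074524), (21, 9992697), (15, 13456891), (16, 19433), (18, 1049237), (7, 8933459), (1, 1576), (3, 9978224), (20, 4222225), (0, 13133312), (6, 13126176), (22, 30768), (10, 16692), (5, 8708), (11, 512), (2, 256), (14, 8912896), (23, 256), (8, 537088), (19, 12304), (12, 8208), (4, 1372838), (13, 5905321), (12, 2738692), (9, 9733508), (19, 7621986), (8, 8490152), (23, 3262570), (14, 3180783), (2, 1442018), (11, 4423819), (5, 6358089), (10, 2588803), (22, 327809), (6, 1343489), (0, 1277952), (20, 2588680), (3, 294912), (1, 327680), (7, 32768), (18, 2228224), (16, 131072)])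
def d7 : List ℕ × List (ℕ × ℕ) := ([0, 0, 0, 1, 0, 0, 0, 1, 0, 0, 0], [(14, 3314891), (23, 8043033), (10, 2175717), (19, 146226), (20, 2195618), (1, 6293940), (7, 501804), (3, 500085), (18, 6336608), (6, 233732), (9, 4403221), (11, 6492181), (12, 2195744), (15, 2293777), (13, 2294065), (21, 196629), (16, 131365), (22, 131073), (2, 16), (17, 48), (4, 289), (5, 8839573), (0, 8527380), (8, 819736), (4, 15216838), (17, 7949318), (2, 6107842), (22, 3184264), (16, 3147914), (21, 8444938), (13, 8920768), (15, 10244232), (12, 9437376), (11, 1836040), (9, 8406082), (6, 9437320), (18, 1049728), (3, 1048706), (7, 9438210), (1, 525312), (20, 525312), (19, 17408)])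
def d8 : List ℕ × List (ℕ × ℕ) := ([1, 1, 0, 1, 0, 0, 1, 1, 1, 0, 0, 0], [(16, 10779497), (18, 5963597), (17, 526864), (7, 1599588), (19, 15739743), (20, 12599904), (22, 8438887), (13, 35906), (2, 33538), (10, 10492234), (12, 33355), (6, 8424219), (21, 289), (5, 8388609), (4, 49162), (11, 8438024), (0, 49666), (8, 32768), (14, 8421376), (3, 32768), (15, 927417), (3, 15685268), (23, 1866320), (14, 533076), (9, 7153732), (1, 8334433), (8, 3942465), (0, 462852), (11, 5181648), (4, 6303844), (5, 8328384), (21, 5121152), (6, 4599812), (12, 4727936), (10, 532484), (2, 1187968), (13, 5963776), (22, 458880), (17, 327680), (3, 32768)])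
def d9 : List ℕ × List (ℕ × ℕ) := ([1, 0, 0, 0, 1, 0, 1, 0, 1, 0, 0, 0, 1, 0], [(9, 13015135), (21, 8838403), (8, 5568532), (18, 13819980), (23, 45076), (6, 208014), (12, 567359), (15, 1269940), (16, 1573052), (13, 2204), (22, 541733), (4, 1707151), (17, 1576108), (20, 526501), (11, 540719), (19, 17418), (5, 1152), (1, 12), (2, 137), (7, 16385), (14, 15412078), (0, 7277530), (7, 8926494), (3, 1187158), (10, 2071124), (2, 11665424), (1, 12106352), (5, 7281472), (19, 5351696), (11, 3478080), (20, 15007824), (17, 8659200), (4, 4521984), (22, 368960), (13, 8491072), (16, 2097152), (15, 10486592), (12, 8651008), (6, 2359552), (18, 2097664)])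
def d10 : List ℕ × List (ℕ × ℕ) := ([1, 1, 1, 1, 1, 1, 0, 0], [(20, 2717152), (11, 2613455), (14, 8660467), (15, 15668665), (8, 6886527), (1, 173), (12, 9404), (4, 6293101), (7, 15147593), (16, 12584040), (17, 14951528), (6, 2629676), (21, 8652321), (22, 12), (18, 8388608), (2, 8921088), (5, 532489), (9, 533512), (10, 8921096), (19, 1), (0, 6909634), (19, 3537538), (13, 5756442), (3, 9477972), (23, 6496132), (10, 6445942), (9, 2345202), (5, 4248000), (2, 2508880), (18, 6297744), (22, 3246354), (21, 69840), (6, 4482), (17, 117136), (16, 36992), (7, 4112), (4, 6144), (12, 1048834), (8, 1048576), (15, 1064960), (14, 1048576)])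
def d11 : List ℕ × List (ℕ × ℕ) := ([1, 1, 1, 0, 0, 1, 0, 0, 1], [(8, 12063419), (14, 600629), (15, 5381302), (18, 2173169), (7, 4325458), (11, 13238824), (17, 15798371), (2, 5846099), (9, 1578048), (4, 9507841), (0, 2098216), (16, 5256232), (13, 4198504), (21, 4198410), (10, 8917064), (22, 9441346), (20, 8917056), (12, 8912936), (23, 524288), (19, 32), (1, 40), (5, 9473226), (3, 4494657), (1, 4151121), (19, 8440517), (23, 5591889), (12, 6316372), (6, 6570884), (20, 4409109), (22, 429717), (10, 344961), (21, 256516), (13, 67857), (16, 49413), (0, 34836), (4, 264708), (9, 295172), (2, 409856), (17, 16640), (11, 16512), (7, 256)])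
def d12 : List ℕ × List (ℕ × ℕ) := ([1, 1, 1, 0, 0, 1, 0, 0, 0, 0, 0, 1, 1, 0, 0], [(0, 14542324), (7, 10925682), (3, 4362790), (23, 4905570), (5, 5461526), (18, 5489940), (4, 7431748), (20, 2626560), (13, 6329606), (8, 4719106), (11, 4870724), (1, 4752896), (22, 737856), (9, 688196), (2, 49152), (10, 626688), (14, 2097216), (21, 626752), (12, 65600), (16, 688192), (17, 557056), (6, 524288), (19, 3414064), (15, 4277401), (6, 3499046), (17, 6570038), (16, 1322138), (12, 2109227), (21, 12872598), (14, 8972), (10, 272513), (2, 4195209), (9, 8651024), (22, 1058960), (1, 272441), (11, 8650937), (8, 161), (13, 9699369), (4, 262281), (5, 129)])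
def d13 : List ℕ × List (ℕ × ℕ) := ([1, 1, 0, 1, 0, 0, 1, 0, 0, 1, 1, 1], [(23, 1636900), (5, 3513688), (20, 345489), (0, 268632), (15, 6294602), (1, 7224084), (11, 2782016), (3, 1000848), (13, 5183444), (14, 4921104), (7, 2819652), (8, 329220), (17, 787028), (18, 590848), (21, 591428), (10, 594448), (2, 4784720), (19, 70144), (9, 4160), (6, 4096), (16, 4096), (12, 2646602), (16, 3722288), (6, 3442189), (22, 8659343), (9, 805283), (19, 52402), (4, 149922), (2, 2493568), (10, 8824840), (21, 1452171), (18, 8388737), (17, 57385), (8, 1097770), (7, 9437186), (14, 8421385), (13, 9439240), (3, 9439234), (11, 1081378), (1, 8421409), (15, 1048609)])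
def d14 : List ℕ × List (ℕ × ℕ) := ([0, 0, 1, 1, 0, 1, 0, 0, 0, 0, 0], [(13, 14029010), (0, 14417972), (1, 4116308), (6, 739496), (8, 16569860), (22, 9884344), (18, 3803676), (2, 1722528), (17, 2704936), (3, 101552), (14, 1149568), (15, 1645184), (21, 9443840), (4, 9962016), (11, 9437856), (9, 9438368), (7, 8983584), (10, 8916992), (12, 9961504), (20, 32), (23, 589824), (5, 12750916), (19, 10690887), (16, 8670735), (23, 1209733), (20, 2106066), (12, 4342218), (10, 6302150), (7, 2507280), (9, 2048), (11, 287056), (4, 6709579), (21, 188425), (15, 418062), (14, 131149), (3, 4194560), (17, 4464642), (2, 4194369), (18, 4202499), (22, 257), (8, 8259), (6, 2)])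
theorem ok0 : [d0].all (okStep gens) = true := by decide +kernel
theorem ok1 : [d1].all (okStep gens) = true := by decide +kernel
theorem ok2 : [d2].all (okStep gens) = true := by decide +kernel
theorem ok3 : [d3].all (okStep gens) = true := by decide +kernel
theorem ok4 : [d4].all (okStep gens) = true := by decide +kernel
theorem ok5 : [d5].all (okStep gens) = true := by decide +kernel
theorem ok6 : [d6].all (okStep gens) = true := by decide +kernel
theorem ok7 : [d7].all (okStep gens) = true := by decide +kernel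
theorem ok8 : [d8].all (okStep gens) = true := by decide +kernel
theorem ok9 : [d9].all (okStep gens) = true := by decide +kernel
theorem ok10 : [d10].all (okStep gens) = true := by decide +kernel
theorem ok11 : [d11].all (okStep gens) = true := by decide +kernel
theorem ok12 : [d12].all (okStep gens) = true := by decide +kernel
theorem ok13 : [d13].all (okStep gens) = true := by decide +kernel
theorem ok14 : [d14].all (okStep gens) = true := by decide +kernel

noncomputable def s0 : {v : ℕ // bfInitN 3 gens reps ws = v} := by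
  refine ⟨?_, ?_⟩
  rotate_left
  conv => lhs; whnf

noncomputable def s1 : {v : ℕ // bfStepsN 3 [d0] s0.1 = v} := by
  refine ⟨?_, ?_⟩
  rotate_left
  conv => lhs; whnf

noncomputable def s2 : {v : ℕ // bfStepsN 3 [d1] s1.1 = v} := by
  refine ⟨?_, ?_⟩
  rotate_left
  conv => lhs; whnf

noncomputable def s3 : {v : ℕ // bfStepsN 3 [d2] s2.1 = v} := by
  refine ⟨?_, ?_⟩
  rotate_left
  conv => lhs; whnf

noncomputable def s4 : {v : ℕ // bfStepsN 3 [d3] s3.1 = v} := by
  refine ⟨?_, ?_⟩
  rotate_left
  conv => lhs; whnf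

noncomputable def s5 : {v : ℕ // bfStepsN 3 [d4] s4.1 = v} := by
  refine ⟨?_, ?_⟩
  rotate_left
  conv => lhs; whnf

noncomputable def s6 : {v : ℕ // bfStepsN 3 [d5] s5.1 = v} := by
  refine ⟨?_, ?_⟩
  rotate_left
  conv => lhs; whnf

noncomputable def s7 : {v : ℕ // bfStepsN 3 [d6] s6.1 = v} := by
  refine ⟨?_, ?_⟩
  rotate_left
  conv => lhs; whnf

noncomputable def s8 : {v : ℕ // bfStepsN 3 [d7] s7.1 = v} := by
  refine ⟨?_, ?_⟩
  rotate_left
  conv => lhs; whnf

noncomputable def s9 : {v : ℕ // bfStepsN 3 [d8] s8.1 = v} := by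
  refine ⟨?_, ?_⟩
  rotate_left
  conv => lhs; whnf

noncomputable def s10 : {v : ℕ // bfStepsN 3 [d9] s9.1 = v} := by
  refine ⟨?_, ?_⟩
  rotate_left
  conv => lhs; whnf

noncomputable def s11 : {v : ℕ // bfStepsN 3 [d10] s10.1 = v} := by
  refine ⟨?_, ?_⟩
  rotate_left
  conv => lhs; whnf

noncomputable def s12 : {v : ℕ // bfStepsN 3 [d11] s11.1 = v} := by
  refine ⟨?_, ?_⟩
  rotate_left
  conv => lhs; whnf

noncomputable def s13 : {v : ℕ // bfStepsN 3 [d12] s12.1 = v} := by
  refine ⟨?_, ?_⟩
  rotate_left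
  conv => lhs; whnf

noncomputable def s14 : {v : ℕ // bfStepsN 3 [d13] s13.1 = v} := by
  refine ⟨?_, ?_⟩
  rotate_left
  conv => lhs; whnf

noncomputable def s15 : {v : ℕ // bfStepsN 3 [d14] s14.1 = v} := by
  refine ⟨?_, ?_⟩
  rotate_left
  conv => lhs; whnf

noncomputable def fin : ℕ := s15.1

theorem cnt_eq : (List.range 6).map (fun l => cntN n fin (l + 1)) = [46575, 4098600, 4147200, 51704, 1, 46575] := by
  decide +kernel

theorem inv {Gd : Cl → ℕ → Prop} (hg : Cls Gd gens)
    (hr : ∀ r ∈ reps, r.1 < 2 ^ 24 ∧ r.2 < 2 ^ n ∧ Gd (cd r.1) r.2) : InvN Gd n fin := by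
  have h0 : InvN Gd 3 s0.1 := s0.2 ▸ invN_init hg 3 hr ws
  have h1 : InvN Gd 3 s1.1 := s1.2 ▸ invN_steps hg ok0 h0
  have h2 : InvN Gd 3 s2.1 := s2.2 ▸ invN_steps hg ok1 h1
  have h3 : InvN Gd 3 s3.1 := s3.2 ▸ invN_steps hg ok2 h2
  have h4 : InvN Gd 3 s4.1 := s4.2 ▸ invN_steps hg ok3 h3
  have h5 : InvN Gd 3 s5.1 := s5.2 ▸ invN_steps hg ok4 h4
  have h6 : InvN Gd 3 s6.1 := s6.2 ▸ invN_steps hg ok5 h5
  have h7 : InvN Gd 3 s7.1 := s7.2 ▸ invN_steps hg ok6 h6
  have h8 : InvN Gd 3 s8.1 := s8.2 ▸ invN_steps hg ok7 h7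
  have h9 : InvN Gd 3 s9.1 := s9.2 ▸ invN_steps hg ok8 h8
  have h10 : InvN Gd 3 s10.1 := s10.2 ▸ invN_steps hg ok9 h9
  have h11 : InvN Gd 3 s11.1 := s11.2 ▸ invN_steps hg ok10 h10
  have h12 : InvN Gd 3 s12.1 := s12.2 ▸ invN_steps hg ok11 h11
  have h13 : InvN Gd 3 s13.1 := s13.2 ▸ invN_steps hg ok12 h12
  have h14 : InvN Gd 3 s14.1 := s14.2 ▸ invN_steps hg ok13 h13
  have h15 : InvN Gd 3 s15.1 := s15.2 ▸ invN_steps hg ok14 h14
  exact h15

end

end CfsgMO.Bf0
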