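/-
Orbit enumeration for the axis number 1.
-/
import Cfsg.Agent.MO.BF

set_option autoImplicit false
set_option maxRecDepth 100000
set_option Elab.async false
set_option exponentiation.threshold 100000000

namespace CfsgMO.Bf1

noncomputable section

def n : ℕ := 4
def gens : List (List ℕ) := [[3160341, 4190838, 4190466, 4009956, 4192725, 4178689, 3334144, 4180910, 1047043, 1046787, 3071, 4044, 7683790, 7506970, 4573826, 12074842, 11582386, 12350383, 12072870, 5146664, 6592211, 11112940, 8705826, 16238061], [1088, 1447, 1873, 3645, 667, 1411, 1001, 1413, 1415, 2439, 2680, 2048, 3414539, 3805018, 2129920, 2659507, 3704308, 3756553, 2165093, 2697753, 5665419, 7178761, 3249603, 16026997]]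
def reps : List (ℕ × ℕ) := [(8388608, 1), (10137600, 2), (12345344, 3), (25062, 4), (1135746, 5), (1171, 6), (8192, 6), (81920, 8), (7028736, 7)]
def ws : List (List ℕ) := [[1, 0, 1, 1, 0, 0], [0, 1, 1, 1, 1, 1, 1], [0, 0, 0, 1, 1, 1, 1, 1, 1, 0], [0, 1, 1, 1, 0, 1], [0, 1, 1, 0, 0, 1, 1], [1, 1, 1, 0, 0, 0, 1, 1], [1, 1, 1, 0, 0, 0, 0, 1], [0, 0, 1, 1, 1, 0, 0, 1, 0], [1, 1, 1, 0, 0, 1, 0, 1], [1, 0, 1, 0, 1, 1], [0, 1, 1, 1, 1, 0, 0, 0]]
def d0 : List ℕ × List (ℕ × ℕ) := ([0, 1, 0, 0, 0, 0, 1, 0, 1, 0, 1, 0, 0, 1, 0], [(0, 16267112), (6, 16250370), (4, 16549932), (22, 1349028), (7, 10801926), (5, 11435522), (10, 420110), (1, 10705152), (19, 11004424), (2, 508168), (21, 1107976), (8, 354824), (3, 9572864), (20, 333824), (9, 8544256), (11, 8544256), (14, 503808), (12, 368640), (23, 131072), (13, 163840), (15, 131072), (17, 2216615), (16, 7374009), (15, 2098710), (13, 11816566), (18, 4739626), (23, 3152392), (12, 4211109), (14, 1573775), (11, 3670371), (9, 7864449), (20, 524408), (3, 2098645),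 (8, 4194530), (21, 524339), (2, 4719811), (19, 4195507), (1, 4195393), (10, 4194352), (5, 4194369), (7, 4194384), (22, 17)])
def d1 : List ℕ × List (ℕ × ℕ) := ([1, 0, 0, 1, 0, 0, 0, 0, 0, 1, 0, 1, 0], [(16, 9571437), (7, 8569124), (2, 9320531), (10, 2379), (6, 1243393), (0, 698634), (14, 793370), (9, 1325096), (11, 8651058), (5, 1736962), (13, 14979328), (17, 16551944), (23, 5541914), (12, 262146), (15, 3145752), (18, 1048842), (20, 4718608), (19, 274), (21, 2), (22, 18), (8, 24), (4, 10825892), (3, 12420257), (8, 1684645), (1, 10511073), (22, 3267136), (21, 9821377), (19, 1368133), (20, 262340), (18, 26720), (15, 8411780), (12, 11492), (23, 214240), (17, 90144), (13, 3781), (5, 84097), (11, 82117), (9, 81925), (14, 133), (0, 65600), (6, 66692)])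
def d2 : List ℕ × List (ℕ × ℕ) := ([0, 1, 0, 1, 1, 1, 0, 1], [(18, 13230868), (6, 7077123), (1, 6535845), (15, 13307436), (2, 14641), (21, 5274113), (12, 5908240), (17, 13201280), (3, 8980752), (10, 8915361), (23, 532641), (13, 606881), (14, 1639200), (20, 590097), (16, 4195232), (0, 4721184), (19, 4196512), (5, 2192), (11, 784), (8, 656), (9, 10165614), (7, 447787), (4, 12966178), (8, 8398954), (11, 4059233), (5, 6198287), (22, 9838605), (19, 10625101), (0, 401422), (16, 1340420), (20, 320526), (14, 2109512), (13, 10522702), (23, 425996), (10, 393294), (3, 2396160), (17, 266240), (12, 2359300), (2, 32770), (15, 66), (1, 262144), (6, 262144)])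
def d3 : List ℕ × List (ℕ × ℕ) := ([0, 0, 0, 1, 0, 1, 1, 1, 0, 0], [(8, 1045636), (20, 2495678), (5, 129536), (9, 917724), (6, 924816), (10, 2048), (15, 15081611), (4, 15292423), (18, 161806), (3, 14753793), (17, 92288), (12, 14682245), (0, 14745604), (19, 65536), (13, 2054), (2, 16514), (7, 67584), (21, 12664832), (16, 2050), (23, 4194306), (1, 127573), (22, 12121577), (14, 2920016), (23, 1087593), (11, 559045), (16, 140472), (21, 562937), (7, 299529), (2, 562528), (13, 1315073), (19, 264048), (0, 263472), (12, 1049168), (17, 262720), (3, 295776), (18, 1082880), (4, 33280), (15, 1050400), (6, 768), (9, 32), (20, 256)])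
def d4 : List ℕ × List (ℕ × ℕ) := ([1, 1, 1, 0, 1, 1, 1, 1, 0, 0], [(22, 10877544), (0, 8717820), (5, 297238), (11, 1045892), (14, 8552640), (18, 3311494), (19, 3186708), (20, 210690), (4, 8393358), (1, 2241408), (7, 10556928), (2, 10621184), (8, 2134016), (15, 8532032), (13, 8524808), (3, 10486784), (16, 132096), (9, 8393792), (17, 4096), (6, 8392704), (12, 3637549), (23, 1288531), (21, 4583399), (6, 797610), (17, 6115122), (10, 1354255), (9, 1630363), (16, 6086949), (3, 1320993), (13, 1343510), (15, 1048995), (8, 161), (2, 1589249), (7, 1327105), (1, 1572897), (4, 18465), (20, 540704), (19, 4474912), (18, 2049), (14, 4196352), (5, 1)])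
def d5 : List ℕ × List (ℕ × ℕ) := ([1, 0, 1, 1, 1, 1, 0, 1, 1, 1, 1, 0, 0], [(5, 12032732), (0, 12382086), (10, 204), (20, 14916056), (2, 4857928), (3, 4426448), (19, 14796816), (23, 143440), (22, 2521680), (16, 434256), (7, 2363472), (14, 2495042), (21, 432146), (9, 436288), (11, 430400), (8, 397328), (18, 172050), (1, 12368), (12, 139328), (13, 131088), (15, 131072), (6, 1183781), (4, 144940), (17, 13385861), (15, 13174145), (13, 8134273), (12, 14746382), (1, 5508224), (18, 65933), (8, 11094693), (11, 5243564), (9, 7356576), (21, 5325965), (14, 9437225), (7, 4194340), (16, 1029), (22, 9438217), (23, 1573925), (19, 1060), (3, 1049600), (2, 1048609), (20, 32)])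
def d6 : List ℕ × List (ℕ × ℕ) := ([1, 1, 1, 1, 0, 0, 1, 1, 1, 0, 0], [(14, 12270915), (23, 5410973), (17, 7154783), (21, 1613211), (13, 5805721), (9, 3072), (4, 4718752), (5, 4300238), (12, 5605510), (0, 1117580), (6, 1870976), (16, 819456), (2, 298122), (10, 4720898), (15, 1048714), (7, 1310986), (18, 5767178), (19, 1050890), (1, 2056), (8, 5242888), (3, 5242880), (20, 6920712), (22, 2984729), (3, 2738656), (11, 8810723), (8, 9336547), (1, 935621), (19, 381105), (18, 2139189), (7, 8421488), (15, 8417844), (10, 65617), (2, 160305), (16, 2257504), (6, 2114065), (0, 147504), (12, 10485808), (5, 10617344), (4, 10617344), (13, 10485760), (17, 8388608)])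
def d7 : List ℕ × List (ℕ × ℕ) := ([0, 0, 0, 0, 1, 0, 1, 0], [(17, 15227867), (10, 2559), (18, 6410963), (9, 331), (19, 1122368), (0, 2118052), (7, 4249664), (20, 14784610), (1, 2119792), (22, 10602600), (3, 8472608), (6, 8470800), (8, 79888), (14, 2101264), (23, 65536), (21, 65572), (5, 71684), (16, 10240), (12, 40964), (2, 40960), (13, 32768), (15, 4676401), (13, 7413367), (2, 333715), (12, 7226051), (11, 10502259), (16, 264032), (5, 10486848), (21, 16520), (23, 395072), (4, 16896), (14, 1311042), (8, 393224), (6, 5899904), (3, 5899907), (22, 1049601), (20, 918656), (7, 263680), (0, 1024), (19, 1024)])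
def d8 : List ℕ × List (ℕ × ℕ) := ([0, 0, 1, 1, 1, 0, 1, 1, 1], [(7, 12738940), (23, 4171803), (17, 3983450), (8, 2635), (21, 4788779), (18, 5246068), (15, 1592862), (6, 1645608), (2, 4275729), (3, 5777969), (11, 1642531), (13, 1115681), (14, 1118739), (12, 5244466), (9, 4784145), (20, 18), (16, 524322), (22, 525329), (19, 16), (10, 13076874), (5, 10771014), (1, 15206404), (4, 49537), (19, 4194889), (0, 14684416), (22, 10738244), (16, 8392896), (20, 10916812), (9, 4160), (12, 8437772), (14, 8562892), (13, 8388932), (11, 2228296), (3, 8781828), (2, 10780736), (6, 33152), (15, 2228224), (18, 10486144), (21, 131072), (23, 128)])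
def d9 : List ℕ × List (ℕ × ℕ) := ([0, 0, 1, 1, 1, 1, 0, 1, 0, 1, 0, 0, 0, 0, 1], [(12, 8119315), (2, 13247378), (17, 13971160), (14, 5547538), (22, 1049674), (9, 2168), (23, 2957363), (19, 2163161), (10, 1050625), (7, 1056825), (15, 2099203), (21, 1386835), (18, 1050970), (4, 1048641), (8, 2123), (1, 65545), (11, 8264), (16, 32), (13, 1048577), (3, 96), (5, 1), (6, 11518142), (0, 381500), (5, 14113292), (3, 12446978), (20, 5154706), (13, 12865286), (16, 8522902), (11, 6296834), (1, 448128), (8, 4855300), (4, 10765952), (18, 2785796), (21, 8523904), (15, 8929796), (7, 4724228), (10, 4854276), (19, 12734464), (23, 4211204), (22, 151556), (14, 4096), (17, 4096)])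
def d10 : List ℕ × List (ℕ × ℕ) := ([0, 1, 1, 1, 0, 1, 1, 0, 0, 0, 1], [(9, 3123), (0, 8446154), (17, 7645504), (19, 8412260), (1, 15846852), (10, 8448504), (23, 7422384), (6, 7340076), (21, 5585320), (12, 4235704), (14, 10536), (22, 1310744), (16, 1310748), (2, 41344), (3, 305200), (8, 1048576), (11, 1318960), (18, 176), (20, 32816), (13, 48), (5, 5437769), (4, 4927503), (13, 5310978), (7, 1903873), (15, 8326669), (20, 13254734), (18, 10705926), (11, 737861), (8, 6968832), (3, 14897667), (2, 6378499), (16, 6296131), (22, 11162113), (14, 2229248), (12, 2228801), (21, 576), (6, 656385), (10, 513), (1, 131072), (17, 512), (0, 512)])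
def d11 : List ℕ × List (ℕ × ℕ) := ([1, 0, 1, 1, 0, 1, 1, 1, 1, 1, 1, 1, 0, 0], [(2, 9291832), (15, 10173337), (17, 8219057), (10, 331), (19, 8388875), (23, 5261659), (16, 4488089), (6, 4199328), (11, 266770), (9, 7610402), (21, 1073427), (18, 1048713), (20, 8505), (13, 20521), (14, 4198579), (0, 304), (3, 48), (8, 4198562), (1, 48), (12, 4194464), (22, 3183625), (5, 1383429), (7, 8624726), (4, 9035843), (12, 8686411), (1, 10890560), (8, 8423433), (3, 1925121), (0, 9334276), (14, 1613892), (13, 12158020), (20, 2883588), (18, 200260), (21, 8946180), (9, 724036), (11, 8421440), (6, 65540), (16, 9076736), (23, 557056), (17, 4)])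
def d12 : List ℕ × List (ℕ × ℕ) := ([1, 0, 1, 0, 1, 0, 0, 0, 0, 0, 1, 1], [(13, 4720787), (16, 8423895), (20, 10654572), (17, 9193903), (6, 11047949), (21, 579994), (19, 8651572), (18, 8441857), (11, 1204), (7, 37902), (9, 4216088), (8, 4215832), (23, 32778), (1, 4199444), (22, 4116), (2, 21537), (0, 36872), (10, 32800), (12, 32784), (3, 49152), (14, 48), (15, 32), (5, 12189323), (4, 5482435), (15, 6839115), (14, 9765451), (3, 5847111), (12, 4204547), (10, 5186308), (0, 8069636), (2, 15936386), (22, 2304066), (1, 9513664), (23, 3484160), (8, 512), (9, 993408), (7, 1646656), (18, 2687040), (19, 3211264), (21, 204864), (6, 1253376)])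
def d13 : List ℕ × List (ℕ × ℕ) := ([1, 1, 0, 1, 0, 0, 1, 0, 0, 0, 0, 1, 0, 0], [(20, 2747212), (13, 7028736), (21, 13375693), (14, 12947104), (0, 101434), (15, 9377676), (16, 13501658), (2, 4195170), (7, 8918122), (11, 9310536), (12, 132720), (17, 4720240), (4, 13370976), (6, 4981762), (22, 1544), (23, 263714), (1, 262944), (3, 788224), (5, 525312), (19, 512), (9, 263168), (18, 11129378), (10, 7058268), (9, 6891939), (19, 8573222), (8, 34817), (5, 8482948), (3, 6438912), (1, 14862357), (23, 3162129), (22, 243904), (6, 258065), (4, 2152581), (17, 61440), (12, 24708), (11, 32769), (7, 40964), (2, 8192), (16, 2146305), (15, 8193), (0, 2113536)])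
def d14 : List ℕ × List (ℕ × ℕ) := ([0, 0, 0, 0, 0, 0, 0, 0], [(22, 587), (18, 3764), (17, 3020), (21, 1535), (19, 2680), (15, 3764), (20, 563), (12, 1792), (23, 91208), (16, 3020), (13, 1792), (7, 2048), (14, 2680), (6, 2048), (3, 2048), (2, 2048), (1, 2048), (5, 2048), (23, 954880), (0, 2048), (4, 2048)])
theorem ok0 : [d0].all (okStep gens) = true := by decide +kernel
theorem ok1 : [d1].all (okStep gens) = true := by decide +kernel
theorem ok2 : [d2].all (okStep gens) = true := by decide +kernel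
theorem ok3 : [d3].all (okStep gens) = true := by decide +kernel
theorem ok4 : [d4].all (okStep gens) = true := by decide +kernel
theorem ok5 : [d5].all (okStep gens) = true := by decide +kernel
theorem ok6 : [d6].all (okStep gens) = true := by decide +kernel
theorem ok7 : [d7].all (okStep gens) = true := by decide +kernel
theorem ok8 : [d8].all (okStep gens) = true := by decide +kernel
theorem ok9 : [d9].all (okStep gens) = true := by decide +kernel
theorem ok10 : [d10].all (okStep gens) = true := by decide +kernel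
theorem ok11 : [d11].all (okStep gens) = true := by decide +kernel
theorem ok12 : [d12].all (okStep gens) = true := by decide +kernel
theorem ok13 : [d13].all (okStep gens) = true := by decide +kernel
theorem ok14 : [d14].all (okStep gens) = true := by decide +kernel

noncomputable def s0 : {v : ℕ // bfInitN 4 gens reps ws = v} := by
  refine ⟨?_, ?_⟩
  rotate_left
  conv => lhs; whnf

noncomputable def s1 : {v : ℕ // bfStepsN 4 [d0] s0.1 = v} := by
  refine ⟨?_, ?_⟩
  rotate_left
  conv => lhs; whnf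

noncomputable def s2 : {v : ℕ // bfStepsN 4 [d1] s1.1 = v} := by
  refine ⟨?_, ?_⟩
  rotate_left
  conv => lhs; whnf

noncomputable def s3 : {v : ℕ // bfStepsN 4 [d2] s2.1 = v} := by
  refine ⟨?_, ?_⟩
  rotate_left
  conv => lhs; whnf

noncomputable def s4 : {v : ℕ // bfStepsN 4 [d3] s3.1 = v} := by
  refine ⟨?_, ?_⟩
  rotate_left
  conv => lhs; whnf

noncomputable def s5 : {v : ℕ // bfStepsN 4 [d4] s4.1 = v} := by
  refine ⟨?_, ?_⟩
  rotate_left
  conv => lhs; whnf

noncomputable def s6 : {v : ℕ // bfStepsN 4 [d5] s5.1 = v} := by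
  refine ⟨?_, ?_⟩
  rotate_left
  conv => lhs; whnf

noncomputable def s7 : {v : ℕ // bfStepsN 4 [d6] s6.1 = v} := by
  refine ⟨?_, ?_⟩
  rotate_left
  conv => lhs; whnf

noncomputable def s8 : {v : ℕ // bfStepsN 4 [d7] s7.1 = v} := by
  refine ⟨?_, ?_⟩
  rotate_left
  conv => lhs; whnf

noncomputable def s9 : {v : ℕ // bfStepsN 4 [d8] s8.1 = v} := by
  refine ⟨?_, ?_⟩
  rotate_left
  conv => lhs; whnf

noncomputable def s10 : {v : ℕ // bfStepsN 4 [d9] s9.1 = v} := by
  refine ⟨?_, ?_⟩
  rotate_left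
  conv => lhs; whnf

noncomputable def s11 : {v : ℕ // bfStepsN 4 [d10] s10.1 = v} := by
  refine ⟨?_, ?_⟩
  rotate_left
  conv => lhs; whnf

noncomputable def s12 : {v : ℕ // bfStepsN 4 [d11] s11.1 = v} := by
  refine ⟨?_, ?_⟩
  rotate_left
  conv => lhs; whnf

noncomputable def s13 : {v : ℕ // bfStepsN 4 [d12] s12.1 = v} := by
  refine ⟨?_, ?_⟩
  rotate_left
  conv => lhs; whnf

noncomputable def s14 : {v : ℕ // bfStepsN 4 [d13] s13.1 = v} := by
  refine ⟨?_, ?_⟩
  rotate_left
  conv => lhs; whnf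

noncomputable def s15 : {v : ℕ // bfStepsN 4 [d14] s14.1 = v} := by
  refine ⟨?_, ?_⟩
  rotate_left
  conv => lhs; whnf

noncomputable def fin : ℕ := s15.1

theorem cnt_eq : (List.range 8).map (fun l => cntN n fin (l + 1)) = [135, 241920, 32400, 3870720, 4147200, 96000, 120, 2160] := by
  decide +kernel

theorem inv {Gd : Cl → ℕ → Prop} (hg : Cls Gd gens)
    (hr : ∀ r ∈ reps, r.1 < 2 ^ 24 ∧ r.2 < 2 ^ n ∧ Gd (cd r.1) r.2) : InvN Gd n fin := by
  have h0 : InvN Gd 4 s0.1 := s0.2 ▸ invN_init hg 4 hr ws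
  have h1 : InvN Gd 4 s1.1 := s1.2 ▸ invN_steps hg ok0 h0
  have h2 : InvN Gd 4 s2.1 := s2.2 ▸ invN_steps hg ok1 h1
  have h3 : InvN Gd 4 s3.1 := s3.2 ▸ invN_steps hg ok2 h2
  have h4 : InvN Gd 4 s4.1 := s4.2 ▸ invN_steps hg ok3 h3
  have h5 : InvN Gd 4 s5.1 := s5.2 ▸ invN_steps hg ok4 h4
  have h6 : InvN Gd 4 s6.1 := s6.2 ▸ invN_steps hg ok5 h5
  have h7 : InvN Gd 4 s7.1 := s7.2 ▸ invN_steps hg ok6 h6
  have h8 : InvN Gd 4 s8.1 := s8.2 ▸ invN_steps hg ok7 h7
  have h9 : InvN Gd 4 s9.1 := s9.2 ▸ invN_steps hg ok8 h8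
  have h10 : InvN Gd 4 s10.1 := s10.2 ▸ invN_steps hg ok9 h9
  have h11 : InvN Gd 4 s11.1 := s11.2 ▸ invN_steps hg ok10 h10
  have h12 : InvN Gd 4 s12.1 := s12.2 ▸ invN_steps hg ok11 h11
  have h13 : InvN Gd 4 s13.1 := s13.2 ▸ invN_steps hg ok12 h12
  have h14 : InvN Gd 4 s14.1 := s14.2 ▸ invN_steps hg ok13 h13
  have h15 : InvN Gd 4 s15.1 := s15.2 ▸ invN_steps hg ok14 h14
  exact h15

end

end CfsgMO.Bf1
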