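/-
Orbit enumeration for the axis number 10.
-/
import Cfsg.Agent.MO.BF

set_option autoImplicit false
set_option maxRecDepth 100000
set_option Elab.async false
set_option exponentiation.threshold 100000000

namespace CfsgMO.Bf10

noncomputable section

def n : ℕ := 5
def gens : List (List ℕ) := [[2624, 2746, 1791, 3207, 3379, 3545, 117, 2817, 3328, 2816, 2304, 2048, 1034356, 124394, 157868, 561113, 731087, 200387, 700044, 555161, 4378587, 2375091, 7778291, 9875420], [2688, 2772, 2563, 2045, 2423, 3870, 2018, 66, 2306, 514, 3000, 2048, 755062, 4189534, 4364939, 8185382, 4091357, 8203677, 4311609, 3714237, 7285189, 1554978, 84253, 14406557], [8178000, 3328, 7903050, 7602769, 7360640, 7362058, 7541377, 7603469, 1039870, 1038120, 1037458, 2414, 820931, 13866549, 10129044, 11978229, 5948625, 11754351, 9592151, 5277524, 11677154, 2968900, 8217937, 9891181]]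
def reps : List (ℕ × ℕ) := [(8388608, 1), (15728640, 2), (12775424, 3), (15343616, 4), (11816960, 5), (11743232, 5), (12156928, 6), (12607488, 7), (10137600, 8), (8507392, 2), (8601600, 9), (4861955, 3), (3993855, 10), (3428354, 10), (3014684, 11), (6520862, 3), (1147932, 5), (25062, 9), (2383897, 9), (239563, 3), (74195, 10), (356872, 12), (1135746, 9), (2589201, 7), (976480, 3), (1365692, 9), (2342914, 3), (8364595, 3), (10248519, 10), (4117167, 12), (2413570, 13), (3274114, 9), (5702155, 10), (2339110, 5), (5370882, 14), (1258001, 13), (1221131, 15), (1995275, 11), (1955, 16), (8192, 16), (33697, 16), (307200, 16), (655391, 16), (958690, 16), (2228224, 16), (7028736, 16), (7491584, 16), (7655424, 16), (8396800, 16), (10579996, 16)]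
def ws : List (List ℕ) := [[2, 0, 2, 0, 1, 1, 1, 2, 1], [2, 1, 0, 0, 2, 0, 2, 2, 2, 2], [1, 2, 0, 1, 2, 0, 0, 2], [0, 0, 1, 2, 2, 1, 2, 2, 2], [2, 2, 0, 1, 0, 2, 1, 2], [0, 1, 0, 2, 0, 0, 1, 2, 0], [2, 0, 0, 0, 2, 2, 2, 0], [0, 0, 2, 0, 0, 1]]
def d0 : List ℕ × List (ℕ × ℕ) := ([0, 0, 2, 2, 0, 1, 2, 2, 2, 1, 2], [(21, 13568939), (4, 13345612), (0, 13514314), (1, 1038404), (22, 8710792), (6, 722084), (13, 1687812), (5, 446724), (7, 167684), (8, 1032704), (11, 32768), (18, 8606220), (2, 8949768), (15, 10044936), (19, 147464), (10, 1183744), (12, 8536072), (20, 8388616), (17, 8470528), (16, 16392), (3, 8404992), (23, 7384185), (14, 7973269), (3, 6195814), (16, 7997475), (17, 1615187), (20, 2916819), (12, 5017334), (10, 4751830), (9, 264676), (19, 6326548), (15, 272452), (2, 262563), (18, 6299744), (11, 4194578), (8, 4194546), (7, 4194419), (5, 4194385), (13, 2097217), (6, 4194306), (22, 2)])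
def d1 : List ℕ × List (ℕ × ℕ) := ([1, 0, 2, 0, 2, 2, 1, 1], [(21, 4443091), (18, 12747357), (22, 1674239), (16, 42016), (19, 42830), (23, 8761), (20, 153137), (10, 174164), (11, 172930), (17, 36908), (14, 888), (12, 466), (13, 33689), (15, 566), (3, 689), (7, 256), (0, 608), (5, 68), (1, 20), (4, 8041862), (2, 7494539), (1, 7493792), (9, 14072865), (6, 10942752), (5, 8042505), (0, 7358472), (8, 13895680), (7, 8002560), (3, 7906304), (15, 10501120), (13, 351232), (12, 14434304), (14, 14289920), (17, 8195072), (11, 1024), (10, 13893632), (20, 786432), (23, 6291456), (1, 4), (0, 2)])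
def d2 : List ℕ × List (ℕ × ℕ) := ([0, 2, 2, 1, 1, 2, 2, 0, 2, 2, 2, 0], [(3, 4063104), (6, 4153479), (21, 5202449), (22, 10108291), (12, 115232), (10, 8825104), (15, 665636), (7, 745520), (16, 10362884), (1, 512), (17, 8390704), (9, 1075505), (19, 9725972), (4, 1073444), (13, 1067008), (14, 262432), (5, 9437440), (8, 9437189), (11, 9437184), (23, 1310725), (2, 262144), (18, 2751951), (2, 8502571), (0, 627112), (20, 10562954), (23, 2228864), (11, 602730), (8, 7038616), (5, 7000792), (14, 4764754), (13, 2332378), (4, 627338), (19, 6460482), (9, 103498), (17, 4232392), (1, 6296584), (16, 6291520), (7, 32832), (15, 4194376), (10, 6295560), (21, 64)])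
def d3 : List ℕ × List (ℕ × ℕ) := ([0, 0, 0, 2, 2, 2, 1, 0, 0, 2, 0, 2, 0, 1, 0], [(4, 5238951), (7, 4646254), (3, 5240129), (9, 1036358), (17, 10804579), (8, 11076645), (0, 4796486), (14, 11110470), (23, 7668832), (5, 1844230), (13, 6065154), (10, 2050), (12, 1869830), (2, 5341250), (1, 294976), (22, 360512), (18, 1146944), (20, 2162752), (6, 2195456), (15, 589824), (21, 4483289), (19, 4452126), (16, 4233016), (15, 1202548), (6, 13795074), (20, 141696), (18, 152217), (22, 2966), (11, 143663), (1, 145197), (2, 8417928), (12, 139545), (10, 8519720), (13, 147897), (5, 8519680), (23, 648), (14, 131584), (8, 131584), (17, 512), (3, 144)])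
def d4 : List ℕ × List (ℕ × ℕ) := ([0, 1, 1, 1, 2, 0, 1, 0, 1, 2, 1, 0, 0], [(1, 1038404), (23, 704448), (6, 1124153), (21, 1728432), (9, 1024), (0, 215452), (20, 4223392), (13, 4195472), (16, 295300), (18, 4365344), (19, 4228396), (17, 32788), (10, 4215188), (12, 4227108), (15, 4196408), (11, 4210736), (8, 184), (5, 16512), (3, 16384), (14, 10064732), (3, 13602644), (7, 5669415), (5, 4559685), (4, 1871107), (8, 39938), (2, 66112), (22, 428098), (11, 757762), (15, 13889), (12, 2031683), (10, 721410), (17, 336451), (19, 9708098), (18, 9437250), (16, 9445954), (13, 2), (20, 10486339), (0, 66), (9, 2), (3, 16384)])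
def d5 : List ℕ × List (ℕ × ℕ) := ([0, 0, 1, 2, 0, 2, 0, 1, 1], [(20, 15487862), (22, 2102257), (17, 9195862), (10, 2516), (11, 8487696), (18, 2703394), (0, 11117138), (8, 698), (2, 8945802), (1, 590576), (4, 8491048), (23, 528896), (12, 2154504), (5, 647296), (14, 65536), (3, 128), (19, 2162752), (7, 64), (15, 2170944), (16, 2105344), (6, 2097152), (21, 1701106), (13, 13567374), (6, 13994282), (16, 4855356), (15, 542374), (7, 6029354), (19, 4330297), (3, 5246002), (14, 9837569), (5, 5246995), (12, 133383), (9, 133376), (23, 395282), (4, 5508357), (1, 131076), (2, 5505025), (0, 5508096), (18, 1048576), (11, 131072), (22, 1048576)])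
def d6 : List ℕ × List (ℕ × ℕ) := ([1, 0, 0, 0, 2, 0, 1, 0, 0, 1, 1, 2, 0], [(22, 8868953), (0, 3121956), (7, 462160), (18, 2803030), (2, 2663536), (19, 11724338), (20, 8614930), (23, 2111802), (4, 2180160), (15, 227682), (16, 8768), (9, 4168), (3, 139520), (5, 2230530), (6, 146434), (12, 156928), (17, 2113792), (21, 19714), (1, 24576), (11, 256), (14, 7909232), (13, 16064182), (8, 1904312), (11, 2557070), (10, 3801214), (1, 2490904), (21, 8585368), (17, 4755676), (12, 99013), (6, 1573529), (5, 66176), (3, 328209), (9, 65684), (16, 1310725), (15, 4980736), (4, 1572868), (23, 786437), (20, 262272), (19, 262148), (18, 4194433), (7, 1)])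
def d7 : List ℕ × List (ℕ × ℕ) := ([0, 0, 2, 2, 0, 1, 1, 1, 0, 0, 1, 0], [(22, 3254400), (23, 3216777), (21, 1724564), (20, 677093), (8, 3770), (1, 1024), (3, 3237), (19, 7861), (5, 3156), (13, 401029), (6, 1169), (9, 3072), (14, 71684), (7, 2053), (4, 4), (12, 196608), (16, 262144), (18, 163840), (17, 32768), (15, 1181175), (17, 1835620), (18, 82049), (16, 1055334), (12, 1066708), (2, 3088), (4, 1929), (0, 2914), (7, 800), (14, 525128), (6, 40), (13, 1572866), (5, 8), (19, 1048584), (12, 65536)])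
def d8 : List ℕ × List (ℕ × ℕ) := ([2, 0, 1, 1, 2, 2, 2, 1], [(23, 460777), (6, 4029), (9, 2), (19, 6759440), (17, 7645465), (15, 6318346), (18, 6381992), (10, 297), (5, 21), (3, 23), (13, 6307973), (4, 388), (16, 1065223), (20, 4194433), (21, 4214913), (8, 1), (22, 16517), (14, 4096), (0, 134), (2, 130), (1, 700), (7, 1292), (2, 513), (0, 1064), (12, 6154256), (14, 5516288), (22, 1977448), (8, 1064), (21, 1934856), (20, 729128), (16, 429640), (4, 1632), (13, 294976), (3, 2112), (5, 3584), (10, 2112), (18, 131072), (15, 655872), (0, 4)])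
def d9 : List ℕ × List (ℕ × ℕ) := ([1, 0, 0, 2, 1, 2, 0, 2, 0, 1, 0, 1, 0, 1, 1], [(14, 10228610), (5, 5910476), (22, 8949135), (7, 10041631), (15, 2570309), (1, 76829), (2, 75784), (3, 2237712), (4, 12261697), (6, 9910785), (8, 3072), (23, 3550721), (17, 2950144), (10, 2891777), (12, 2433025), (0, 2162688), (20, 2097152), (16, 524288), (19, 4524865), (16, 8558472), (21, 321372), (20, 160437), (18, 4219503), (0, 180532), (13, 4215866), (12, 51156), (11, 4227694), (10, 4227384), (17, 8438300), (9, 4211130), (23, 49438), (6, 16572), (4, 4227078), (3, 4243460), (2, 34), (1, 4210720), (15, 128), (7, 4194304), (22, 16384), (16, 524288)])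
def d10 : List ℕ × List (ℕ × ℕ) := ([0, 2, 2, 0, 1, 2, 2, 0, 0, 2, 1, 0], [(3, 5778135), (5, 5651714), (6, 5651607), (10, 1038738), (1, 5893009), (11, 5763072), (19, 8671873), (7, 5648404), (9, 13922577), (0, 446468), (8, 13803540), (18, 9474048), (23, 7364608), (13, 5459968), (20, 249876), (21, 4440064), (12, 4358148), (14, 4358160), (16, 4358164), (2, 16), (4, 4325376), (22, 131072), (17, 10845961), (15, 870371), (22, 1057465), (4, 1385897), (2, 11025408), (16, 1851713), (14, 12060355), (12, 10495682), (21, 10235784), (20, 8653163), (13, 9176811), (23, 525059), (18, 524777), (8, 3627), (0, 527010), (9, 527360), (7, 1130), (19, 2050), (11, 1128), (1, 64), (6, 40)])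
def d11 : List ℕ × List (ℕ × ℕ) := ([1, 0, 0, 2, 2, 1, 2, 1, 2, 1, 2, 0, 1, 1], [(4, 3241833), (9, 1039430), (16, 9096197), (1, 8655169), (18, 8059236), (11, 1388), (23, 8025249), (19, 7348268), (20, 2244608), (3, 4215908), (22, 5316), (6, 45472), (17, 49313), (8, 24736), (10, 16421), (12, 57476), (14, 128), (15, 8229), (13, 2097185), (21, 5), (5, 129), (0, 128), (7, 10726921), (0, 12828964), (5, 2340114), (2, 15924050), (21, 9053960), (13, 9868378), (15, 149576), (14, 66584), (12, 985154), (10, 4524562), (8, 12913224), (17, 4522522), (6, 13895690), (22, 8456704), (3, 264704), (20, 8718866), (19, 262658), (18, 66048), (1, 66048), (16, 512)])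
def d12 : List ℕ × List (ℕ × ℕ) := ([2, 2, 0, 2, 0, 0, 0, 0, 0], [(15, 9896116), (19, 14970136), (20, 2581747), (9, 2518), (11, 110), (17, 333024), (6, 8397237), (22, 8655028), (5, 26001), (13, 2430233), (2, 2445584), (10, 10817920), (21, 8650904), (18, 82187), (3, 4099), (0, 69904), (1, 256), (14, 8393088), (16, 144), (23, 4112), (8, 4112), (12, 3384682), (4, 2261423), (8, 5956682), (7, 1183328), (23, 1140844), (16, 5516320), (14, 6335529), (1, 5931624), (0, 3156044), (3, 1057860), (18, 6456932), (21, 5284900), (10, 10816), (2, 1180160), (13, 35360), (5, 5900800), (22, 1704448), (6, 166400), (17, 35328), (19, 32768)])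
def d13 : List ℕ × List (ℕ × ℕ) := ([1, 2, 2, 0, 0, 2, 0, 2], [(13, 3000118), (10, 1036868), (17, 12178038), (5, 5034452), (22, 8442587), (1, 3670813), (8, 9175105), (9, 9177237), (15, 8667152), (21, 8984788), (12, 1902804), (0, 1654868), (2, 9961560), (18, 8407040), (14, 1638400), (11, 9961472), (23, 1638480), (16, 524480), (7, 1048664), (19, 1048600), (6, 8), (20, 8), (4, 14233159), (3, 5370055), (20, 328199), (6, 11037856), (19, 2216964), (7, 11003431), (16, 6610212), (23, 2152448), (11, 6297382), (14, 2532643), (18, 139553), (2, 4235267), (0, 176672), (12, 6456352), (21, 140066), (15, 4326432), (9, 4194336), (8, 131074), (1, 4325408), (5, 140288)])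
def d14 : List ℕ × List (ℕ × ℕ) := ([0, 0, 1, 0, 0, 0, 2, 2], [(7, 3685), (6, 3384), (14, 1278260), (16, 5903153), (20, 2662452), (5, 30), (9, 1037), (10, 15), (21, 524552), (12, 925704), (23, 5013525), (0, 20), (1, 12), (15, 794908), (3, 272), (18, 4849920), (22, 532480), (19, 8192), (13, 131072), (17, 3256546), (13, 4769667), (8, 1214), (4, 3755), (19, 4250766), (22, 3430113), (18, 67087), (3, 3111), (2, 3234), (15, 3214915), (1, 3137), (0, 3264), (23, 69824), (12, 3165376), (21, 68608), (10, 2208), (9, 160), (5, 2240), (6, 128)])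
def d15 : List ℕ × List (ℕ × ℕ) := ([2, 2, 0, 0, 0, 0, 0, 2, 2, 0], [(22, 9), (23, 672576), (18, 2854), (16, 9), (21, 2275), (17, 833), (19, 779), (15, 1175), (14, 74), (12, 1976), (13, 3020), (20, 2275), (7, 2048), (5, 2048), (2, 2048), (23, 2)])
theorem ok0 : [d0].all (okStep gens) = true := by decide +kernel
theorem ok1 : [d1].all (okStep gens) = true := by decide +kernel
theorem ok2 : [d2].all (okStep gens) = true := by decide +kernel
theorem ok3 : [d3].all (okStep gens) = true := by decide +kernel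
theorem ok4 : [d4].all (okStep gens) = true := by decide +kernel
theorem ok5 : [d5].all (okStep gens) = true := by decide +kernel
theorem ok6 : [d6].all (okStep gens) = true := by decide +kernel
theorem ok7 : [d7].all (okStep gens) = true := by decide +kernel
theorem ok8 : [d8].all (okStep gens) = true := by decide +kernel
theorem ok9 : [d9].all (okStep gens) = true := by decide +kernel
theorem ok10 : [d10].all (okStep gens) = true := by decide +kernel
theorem ok11 : [d11].all (okStep gens) = true := by decide +kernel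
theorem ok12 : [d12].all (okStep gens) = true := by decide +kernel
theorem ok13 : [d13].all (okStep gens) = true := by decide +kernel
theorem ok14 : [d14].all (okStep gens) = true := by decide +kernel
theorem ok15 : [d15].all (okStep gens) = true := by decide +kernel

noncomputable def s0 : {v : ℕ // bfInitN 5 gens reps ws = v} := by
  refine ⟨?_, ?_⟩
  rotate_left
  conv => lhs; whnf

noncomputable def s1 : {v : ℕ // bfStepsN 5 [d0] s0.1 = v} := by
  refine ⟨?_, ?_⟩
  rotate_left
  conv => lhs; whnf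

noncomputable def s2 : {v : ℕ // bfStepsN 5 [d1] s1.1 = v} := by
  refine ⟨?_, ?_⟩
  rotate_left
  conv => lhs; whnf

noncomputable def s3 : {v : ℕ // bfStepsN 5 [d2] s2.1 = v} := by
  refine ⟨?_, ?_⟩
  rotate_left
  conv => lhs; whnf

noncomputable def s4 : {v : ℕ // bfStepsN 5 [d3] s3.1 = v} := by
  refine ⟨?_, ?_⟩
  rotate_left
  conv => lhs; whnf

noncomputable def s5 : {v : ℕ // bfStepsN 5 [d4] s4.1 = v} := by
  refine ⟨?_, ?_⟩
  rotate_left
  conv => lhs; whnf

noncomputable def s6 : {v : ℕ // bfStepsN 5 [d5] s5.1 = v} := by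
  refine ⟨?_, ?_⟩
  rotate_left
  conv => lhs; whnf

noncomputable def s7 : {v : ℕ // bfStepsN 5 [d6] s6.1 = v} := by
  refine ⟨?_, ?_⟩
  rotate_left
  conv => lhs; whnf

noncomputable def s8 : {v : ℕ // bfStepsN 5 [d7] s7.1 = v} := by
  refine ⟨?_, ?_⟩
  rotate_left
  conv => lhs; whnf

noncomputable def s9 : {v : ℕ // bfStepsN 5 [d8] s8.1 = v} := by
  refine ⟨?_, ?_⟩
  rotate_left
  conv => lhs; whnf

noncomputable def s10 : {v : ℕ // bfStepsN 5 [d9] s9.1 = v} := by
  refine ⟨?_, ?_⟩
  rotate_left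
  conv => lhs; whnf

noncomputable def s11 : {v : ℕ // bfStepsN 5 [d10] s10.1 = v} := by
  refine ⟨?_, ?_⟩
  rotate_left
  conv => lhs; whnf

noncomputable def s12 : {v : ℕ // bfStepsN 5 [d11] s11.1 = v} := by
  refine ⟨?_, ?_⟩
  rotate_left
  conv => lhs; whnf

noncomputable def s13 : {v : ℕ // bfStepsN 5 [d12] s12.1 = v} := by
  refine ⟨?_, ?_⟩
  rotate_left
  conv => lhs; whnf

noncomputable def s14 : {v : ℕ // bfStepsN 5 [d13] s13.1 = v} := by
  refine ⟨?_, ?_⟩
  rotate_left
  conv => lhs; whnf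

noncomputable def s15 : {v : ℕ // bfStepsN 5 [d14] s14.1 = v} := by
  refine ⟨?_, ?_⟩
  rotate_left
  conv => lhs; whnf

noncomputable def s16 : {v : ℕ // bfStepsN 5 [d15] s15.1 = v} := by
  refine ⟨?_, ?_⟩
  rotate_left
  conv => lhs; whnf

noncomputable def fin : ℕ := s16.1

theorem cnt_eq : (List.range 18).map (fun l => cntN n fin (l + 1)) = [60, 1275, 2232000, 9600, 733440, 19200, 49920, 4800, 2929920, 1372800, 117600, 483840, 107520, 76800, 153600, 98280, 0, 0] := by
  decide +kernel

theorem inv {Gd : Cl → ℕ → Prop} (hg : Cls Gd gens)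
    (hr : ∀ r ∈ reps, r.1 < 2 ^ 24 ∧ r.2 < 2 ^ n ∧ Gd (cd r.1) r.2) : InvN Gd n fin := by
  have h0 : InvN Gd 5 s0.1 := s0.2 ▸ invN_init hg 5 hr ws
  have h1 : InvN Gd 5 s1.1 := s1.2 ▸ invN_steps hg ok0 h0
  have h2 : InvN Gd 5 s2.1 := s2.2 ▸ invN_steps hg ok1 h1
  have h3 : InvN Gd 5 s3.1 := s3.2 ▸ invN_steps hg ok2 h2
  have h4 : InvN Gd 5 s4.1 := s4.2 ▸ invN_steps hg ok3 h3
  have h5 : InvN Gd 5 s5.1 := s5.2 ▸ invN_steps hg ok4 h4
  have h6 : InvN Gd 5 s6.1 := s6.2 ▸ invN_steps hg ok5 h5
  have h7 : InvN Gd 5 s7.1 := s7.2 ▸ invN_steps hg ok6 h6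
  have h8 : InvN Gd 5 s8.1 := s8.2 ▸ invN_steps hg ok7 h7
  have h9 : InvN Gd 5 s9.1 := s9.2 ▸ invN_steps hg ok8 h8
  have h10 : InvN Gd 5 s10.1 := s10.2 ▸ invN_steps hg ok9 h9
  have h11 : InvN Gd 5 s11.1 := s11.2 ▸ invN_steps hg ok10 h10
  have h12 : InvN Gd 5 s12.1 := s12.2 ▸ invN_steps hg ok11 h11
  have h13 : InvN Gd 5 s13.1 := s13.2 ▸ invN_steps hg ok12 h12
  have h14 : InvN Gd 5 s14.1 := s14.2 ▸ invN_steps hg ok13 h13
  have h15 : InvN Gd 5 s15.1 := s15.2 ▸ invN_steps hg ok14 h14
  have h16 : InvN Gd 5 s16.1 := s16.2 ▸ invN_steps hg ok15 h15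
  exact h16

end

end CfsgMO.Bf10
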