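/-
Orbit enumeration for the axis number 11.
-/
import Cfsg.Agent.MO.BF

set_option autoImplicit false
set_option maxRecDepth 100000
set_option Elab.async false
set_option exponentiation.threshold 100000000

namespace CfsgMO.Bf11

noncomputable section

def n : ℕ := 4
def gens : List (List ℕ) := [[2986, 2772, 2054, 66, 2018, 1073, 375, 4093, 2306, 3000, 514, 2048, 754066, 4186948, 8204074, 5112750, 3632225, 4363409, 7827610, 3535143, 5281807, 4126852, 2623366, 9623822], [117, 1026, 1040, 2265, 3245, 992, 1023, 3136, 1750, 3328, 1978, 2048, 678854, 5624737, 2329653, 8202913, 5581453, 7731550, 2247770, 5881456, 8221497, 5076823, 708114, 12372735], [2265, 2050, 2045, 2178, 34, 2018, 2377, 2114, 2306, 3074, 1644, 2048, 122712, 6187518, 53723, 2703625, 2228565, 2114802, 71063, 2409886, 3244593, 6293895, 40178, 8564389], [1043708, 724, 926672, 123776, 123800, 12468, 10912, 13248, 1208, 1036944, 1038736, 1792, 367885, 3513086, 13887133, 4005016, 15647065, 3250131, 13888910, 15075310, 15336404, 8518315,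 5735707, 10503473], [8990121, 7062788, 8055952, 13825370, 13827630, 13827600, 4531224, 14197124, 7225624, 6018542, 3151688, 676696, 12831950, 14881533, 5084381, 15369073, 14051788, 16318958, 1842202, 402716, 7855400, 2649668, 9261288, 6348154], [13731374, 927786, 2510889, 8790747, 5049170, 4850516, 2821591, 5132311, 12670092, 13534750, 13545693, 12625292, 11095520, 8136897, 2429285, 14956497, 12526367, 15160111, 7941651, 4478758, 12272056, 1175123, 12485575, 399039]]
def reps : List (ℕ × ℕ) := [(8388608, 1), (15728640, 1), (10137600, 2), (11743232, 3), (11984896, 4), (8531968, 4), (9195520, 5), (119505, 2), (8192, 6), (307200, 6), (655360, 6), (4669440, 6), (7028736, 6)]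
def ws : List (List ℕ) := [[2, 2, 4, 1, 3, 5], [2, 4, 2, 4, 5, 5, 3, 1, 1, 0], [1, 5, 2, 3, 2, 5], [2, 3, 3, 5, 0, 3], [1, 0, 4, 0, 5, 1, 3, 0, 0], [4, 0, 4, 2, 3, 0], [1, 2, 4, 3, 5, 1, 5], [0, 4, 2, 1, 0, 3, 3, 0, 5, 4], [5, 1, 0, 4, 4, 0, 5, 1], [3, 1, 4, 1, 2, 0, 2]]
def d0 : List ℕ × List (ℕ × ℕ) := ([4, 0, 5, 2, 4, 5, 0, 1, 1], [(15, 7801560), (10, 4748213), (11, 4994000), (13, 14373533), (19, 3604482), (14, 12849249), (22, 2495136), (12, 2425071), (16, 10748485), (18, 9437339), (17, 10486160), (21, 8389208), (7, 9437521), (8, 539), (4, 614), (20, 623), (0, 522), (2, 74), (5, 2), (6, 8388608), (9, 2675953), (23, 3015752), (1, 549333), (6, 1480125), (5, 4367516), (3, 1691664), (2, 4555137), (0, 2029568), (20, 2164864), (4, 397312), (8, 6410368), (7, 4557824), (21, 4718592), (17, 293888), (18, 93184), (16, 4756480), (12, 4720640), (22, 533504), (14, 532480), (19, 34816), (11, 1024), (10, 32768)])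
def d1 : List ℕ × List (ℕ × ℕ) := ([2, 0, 4, 0, 3, 4, 4, 2, 3, 3, 3], [(5, 12532563), (16, 3690633), (15, 530828), (20, 4998557), (11, 283459), (12, 6955145), (23, 7210242), (21, 5138323), (9, 410774), (3, 394512), (19, 394501), (8, 8210), (13, 4474051), (10, 4341762), (17, 4210757), (2, 16529), (0, 4472898), (14, 4194322), (18, 82), (4, 66), (1, 128), (7, 4213306), (6, 6558766), (1, 10694960), (4, 6690345), (22, 11942181), (18, 9508105), (14, 3354117), (0, 1222692), (2, 10685952), (17, 1611776), (10, 12106272), (13, 9966376), (8, 2723840), (19, 11599872), (3, 10553344), (9, 3145728), (21, 1116160), (23, 100384), (12, 2048), (20, 65536), (0, 16)])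
def d2 : List ℕ × List (ℕ × ℕ) := ([1, 5, 1, 0, 1, 1, 2, 4, 3, 1, 5], [(9, 3510614), (20, 2990202), (13, 8817683), (22, 3114329), (5, 268639), (12, 10602651), (8, 2706564), (2, 2983937), (17, 9260113), (23, 380107), (15, 2181121), (4, 2359425), (16, 540681), (11, 2637961), (0, 2097152), (3, 541698), (1, 2359424), (18, 525504), (7, 2621504), (6, 2621440), (14, 524288), (19, 3623451), (14, 2169853), (21, 4458120), (6, 67976), (7, 328960), (10, 12819256), (18, 8597567), (1, 5443644), (3, 13838608), (0, 13671200), (11, 5280004), (16, 143908), (4, 8565024), (15, 13771524), (23, 1180452), (17, 800), (2, 256), (8, 12800), (22, 1056768), (20, 512)])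
def d3 : List ℕ × List (ℕ × ℕ) := ([0, 1, 3, 1, 2, 5, 0, 4, 2, 0, 0], [(14, 2926474), (8, 12631562), (22, 2755722), (7, 9974826), (4, 1738306), (19, 1116746), (17, 1151502), (1, 274029), (0, 10851916), (23, 67168), (2, 263688), (9, 267336), (6, 2176008), (11, 3511304), (10, 1413160), (3, 1421312), (5, 45056), (13, 2097152), (21, 1114112), (20, 4096), (12, 360448), (18, 13234593), (16, 8557877), (15, 10622522), (12, 1722129), (20, 2254494), (21, 9069421), (13, 674281), (5, 13239646), (3, 674195), (10, 9046023), (11, 4341843), (6, 4342406), (9, 13238548), (2, 4718849), (23, 4210819), (0, 4194306), (1, 671888), (17, 524672), (19, 16384), (7, 4210944)])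
def d4 : List ℕ × List (ℕ × ℕ) := ([0, 5, 1, 4, 4, 0, 0, 0, 5, 3, 5, 3, 0, 5], [(23, 1692226), (14, 2627888), (16, 794042), (18, 4328215), (22, 1193196), (7, 1225737), (12, 34324), (15, 2623559), (19, 1058129), (1, 2304), (8, 3156549), (6, 1189412), (21, 131600), (2, 131105), (4, 1190401), (5, 2056), (3, 1190401), (13, 1025), (0, 1051136), (10, 1049088), (9, 1179648), (20, 6718084), (17, 4241281), (11, 13115623), (9, 4506089), (10, 15212956), (0, 12710048), (13, 12698060), (3, 6635808), (5, 4837568), (4, 15208576), (2, 835648), (21, 5083330), (6, 8655106), (19, 12701824), (15, 86016), (12, 8650880), (7, 4259840), (22, 262144), (18, 65536), (14, 8388608)])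
def d5 : List ℕ × List (ℕ × ℕ) := ([5, 1, 5, 3, 0, 1, 3, 5, 0, 1, 0], [(2, 3124898), (14, 13745473), (15, 13115073), (17, 14947065), (22, 11016018), (9, 442), (16, 8233), (23, 264314), (11, 533857), (20, 2634155), (13, 791602), (7, 2883963), (3, 2887762), (19, 2097505), (0, 263456), (1, 4208), (5, 267536), (4, 4160), (18, 1280), (6, 4096), (12, 5713784), (6, 929208), (21, 9743257), (10, 5226634), (8, 4516352), (18, 166452), (4, 5972129), (5, 4899465), (1, 4366337), (0, 5431944), (19, 1302540), (3, 4309632), (7, 1222656), (13, 9521668), (20, 4393472), (11, 4358656), (23, 4276740), (16, 180228), (22, 4), (17, 32772), (6, 4096)])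
def d6 : List ℕ × List (ℕ × ℕ) := ([1, 3, 0, 2, 2, 2, 1, 0, 5, 4], [(10, 6322444), (0, 16332872), (12, 2804128), (13, 2001666), (14, 6850674), (5, 7734146), (22, 9240962), (21, 9373712), (17, 9241162), (19, 9440012), (23, 101342), (15, 1116318), (6, 65796), (16, 262418), (1, 1049484), (20, 2316), (2, 264472), (9, 128), (7, 262144), (18, 272), (8, 7104727), (4, 2038884), (18, 2279594), (11, 7430767), (7, 4941390), (3, 2630663), (9, 1811521), (2, 6500449), (20, 4300803), (1, 701536), (16, 10634241), (6, 2098209), (15, 12587041), (23, 2629632), (19, 6292513), (17, 2117665), (21, 4218913), (22, 8224), (5, 28673)])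
def d7 : List ℕ × List (ℕ × ℕ) := ([4, 1, 0, 0, 4, 0, 0, 5, 0], [(14, 15501678), (11, 9507735), (13, 15795789), (12, 9961761), (5, 15270151), (17, 14484113), (18, 15795842), (9, 11044113), (16, 4751364), (22, 9962762), (20, 8947018), (23, 557504), (3, 524292), (7, 32853), (4, 2622530), (1, 2129984), (19, 1024), (6, 1281), (10, 2097409), (15, 2097409), (21, 9225991), (8, 9953437), (0, 9021976), (15, 13391094), (10, 12992590), (6, 9847432), (19, 13912246), (2, 4270240), (1, 9851448), (4, 4604584), (7, 9773608), (3, 12980224), (23, 5259296), (20, 4332032), (22, 67616), (16, 393760), (9, 139296), (18, 14336), (17, 20480), (5, 14336)])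
def d8 : List ℕ × List (ℕ × ℕ) := ([5, 0, 3, 0, 4, 2, 4, 1, 2, 2], [(14, 69866), (11, 13542711), (5, 9150681), (3, 13571908), (9, 668944), (22, 10065287), (15, 9123092), (18, 201811), (16, 2232535), (23, 3150929), (12, 1056961), (13, 3802130), (17, 390), (7, 525653), (4, 3145795), (19, 2097411), (8, 2097216), (21, 1049666), (20, 5), (10, 66), (6, 2), (1, 5), (0, 4), (2, 13502817), (0, 922706), (1, 19296), (6, 4650168), (10, 3164704), (20, 11381640), (21, 8839696), (8, 9343648), (19, 13025928), (4, 8552576), (7, 8851456), (17, 12863488), (13, 4545024), (12, 8733216), (23, 4311592), (16, 32808), (18, 51232), (15, 18976), (22, 552), (9, 2056)])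
def d9 : List ℕ × List (ℕ × ℕ) := ([0, 0, 1, 1, 3, 5, 4, 1, 4, 3], [(20, 8810445), (21, 8649813), (16, 9358999), (0, 552206), (10, 13299874), (6, 8822936), (1, 4231680), (7, 845880), (9, 4471060), (2, 8448), (4, 4602152), (18, 4208648), (11, 32), (12, 12623872), (17, 4759592), (22, 16680), (14, 524288), (15, 8397096), (19, 8232), (5, 8396808), (13, 8388864), (3, 8388864), (23, 639421), (8, 1223416), (3, 165457), (13, 1050720), (5, 4378128), (19, 7423552), (15, 5443792), (14, 6297287), (22, 2425492), (17, 2165334), (12, 3148870), (11, 581), (18, 2097812), (4, 1159), (2, 66049), (9, 1115331), (7, 66), (1, 3212288), (6, 66561), (0, 65536)])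
def d10 : List ℕ × List (ℕ × ℕ) := ([4, 5, 5, 1, 2, 0, 2, 4, 3, 4, 1, 0], [(22, 593782), (1, 10175181), (17, 1412057), (4, 2149000), (0, 12061960), (23, 1414596), (16, 1886180), (18, 3697132), (21, 1596356), (5, 1067336), (19, 48644), (2, 1081160), (7, 51712), (8, 46656), (6, 1098248), (3, 1090048), (11, 1107456), (15, 9216), (20, 20992), (9, 24576), (12, 16384), (14, 12985224), (13, 5607730), (12, 11865860), (10, 1706886), (9, 15009810), (20, 4194492), (15, 14680091), (11, 9371656), (3, 393703), (6, 2490787), (8, 6684672), (7, 9043985), (2, 11206656), (19, 8454192), (5, 10747921), (21, 12976147), (18, 12582931), (16, 131072), (23, 17), (0, 18), (4, 131074), (17, 4194306)])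
def d11 : List ℕ × List (ℕ × ℕ) := ([2, 1, 3, 3, 0, 3, 0, 3, 0, 5, 2, 1], [(1, 7068), (16, 4211800), (6, 6816684), (8, 672264), (14, 15635617), (0, 4892332), (10, 2502676), (5, 15501324), (21, 13142528), (11, 5517960), (15, 921620), (4, 6165120), (7, 1056776), (3, 5251588), (9, 4730880), (19, 8519680), (12, 393216), (22, 8790016), (13, 393216), (17, 8650752), (2, 9699328), (20, 11322554), (18, 12802983), (23, 2171127), (2, 6348218), (17, 25928), (13, 2162714), (22, 2114194), (12, 2655744), (19, 35737), (9, 1040), (3, 19938), (7, 19811), (4, 116802), (15, 2115873), (11, 66851), (21, 82018), (5, 81922), (10, 16450), (0, 82178), (14, 2)])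
def d12 : List ℕ × List (ℕ × ℕ) := ([3, 4, 4, 4, 4, 1, 3, 2, 4, 0, 0], [(14, 4030730), (21, 13905090), (20, 4723497), (15, 8599868), (17, 858035), (0, 9189944), (12, 77788), (16, 8399454), (19, 8398506), (1, 4197696), (5, 8661460), (22, 8397200), (3, 8391104), (6, 273296), (13, 8388612), (23, 3732), (7, 262400), (4, 263940), (8, 2052), (18, 3588), (11, 492705), (10, 8262220), (9, 2519143), (2, 3281352), (18, 4338059), (8, 14401626), (4, 14737579), (7, 2797642), (23, 1671178), (13, 557096), (6, 6520833), (3, 167938), (22, 1245187), (5, 2691075), (1, 3756033), (19, 36865), (16, 3198976), (12, 2277377), (0, 2097152), (17, 3145728), (20, 2113536)])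
def d13 : List ℕ × List (ℕ × ℕ) := ([4, 2, 1, 5, 4, 0, 0, 3, 1, 1, 0, 2, 4, 1], [(16, 5683103), (2, 3152307), (21, 14311642), (11, 6222313), (5, 5637248), (12, 548936), (14, 9446337), (6, 10266497), (17, 4235648), (15, 1836681), (23, 1311515), (0, 5505418), (10, 5775888), (18, 524696), (7, 770), (1, 5775616), (13, 520), (20, 4194328), (8, 524288), (3, 4194304), (19, 4194816), (9, 4488380), (22, 129372), (19, 413165), (4, 2284869), (3, 8596935), (8, 12049538), (20, 11001923), (13, 10961090), (1, 8897541), (7, 182337), (18, 102465), (10, 2277441), (0, 8601600), (23, 2246752), (15, 2117732), (17, 83968), (6, 2115584), (14, 69668), (12, 2099200), (11, 2097152)])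
def d14 : List ℕ × List (ℕ × ℕ) := ([0, 1, 5, 2, 0, 3, 3, 5, 3, 5, 1, 4, 2, 5, 5], [(7, 12294431), (2, 805457), (12, 3827561), (17, 4194570), (20, 13225322), (23, 6325763), (4, 2673192), (10, 2459979), (14, 2400259), (8, 852544), (11, 2097673), (9, 2654304), (19, 32802), (21, 11), (6, 4562952), (15, 4530177), (13, 4194337), (18, 65537), (16, 10), (22, 9), (0, 8), (5, 15333918), (3, 9629185), (1, 8886613), (0, 4960192), (22, 11616464), (16, 394640), (18, 665408), (13, 12229760), (15, 3149248), (6, 8394644), (21, 2688), (19, 133892), (9, 8407184), (11, 9438612), (8, 21508), (14, 1053696), (10, 135312), (4, 9572480), (23, 1052672), (20, 4224), (12, 132)])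
def d15 : List ℕ × List (ℕ × ℕ) := ([2, 2, 2, 3, 2, 0, 3, 2, 2, 3, 3, 2], [(23, 3433010), (16, 15806), (17, 14842), (22, 3991186), (14, 5912), (19, 9722), (15, 8638), (0, 116), (18, 6048), (5, 1024), (6, 3072), (3, 1024), (1, 3984), (7, 1024), (2, 3072), (4, 1024), (8, 512), (20, 2097152), (21, 1059908), (20, 3256), (9, 3328), (13, 3256), (1, 40), (22, 196608), (20, 2097152), (8, 512)])
theorem ok0 : [d0].all (okStep gens) = true := by decide +kernel
theorem ok1 : [d1].all (okStep gens) = true := by decide +kernel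
theorem ok2 : [d2].all (okStep gens) = true := by decide +kernel
theorem ok3 : [d3].all (okStep gens) = true := by decide +kernel
theorem ok4 : [d4].all (okStep gens) = true := by decide +kernel
theorem ok5 : [d5].all (okStep gens) = true := by decide +kernel
theorem ok6 : [d6].all (okStep gens) = true := by decide +kernel
theorem ok7 : [d7].all (okStep gens) = true := by decide +kernel
theorem ok8 : [d8].all (okStep gens) = true := by decide +kernel
theorem ok9 : [d9].all (okStep gens) = true := by decide +kernel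
theorem ok10 : [d10].all (okStep gens) = true := by decide +kernel
theorem ok11 : [d11].all (okStep gens) = true := by decide +kernel
theorem ok12 : [d12].all (okStep gens) = true := by decide +kernel
theorem ok13 : [d13].all (okStep gens) = true := by decide +kernel
theorem ok14 : [d14].all (okStep gens) = true := by decide +kernel
theorem ok15 : [d15].all (okStep gens) = true := by decide +kernel

noncomputable def s0 : {v : ℕ // bfInitN 4 gens reps ws = v} := by
  refine ⟨?_, ?_⟩
  rotate_left
  conv => lhs; whnf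

noncomputable def s1 : {v : ℕ // bfStepsN 4 [d0] s0.1 = v} := by
  refine ⟨?_, ?_⟩
  rotate_left
  conv => lhs; whnf

noncomputable def s2 : {v : ℕ // bfStepsN 4 [d1] s1.1 = v} := by
  refine ⟨?_, ?_⟩
  rotate_left
  conv => lhs; whnf

noncomputable def s3 : {v : ℕ // bfStepsN 4 [d2] s2.1 = v} := by
  refine ⟨?_, ?_⟩
  rotate_left
  conv => lhs; whnf

noncomputable def s4 : {v : ℕ // bfStepsN 4 [d3] s3.1 = v} := by
  refine ⟨?_, ?_⟩
  rotate_left
  conv => lhs; whnf

noncomputable def s5 : {v : ℕ // bfStepsN 4 [d4] s4.1 = v} := by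
  refine ⟨?_, ?_⟩
  rotate_left
  conv => lhs; whnf

noncomputable def s6 : {v : ℕ // bfStepsN 4 [d5] s5.1 = v} := by
  refine ⟨?_, ?_⟩
  rotate_left
  conv => lhs; whnf

noncomputable def s7 : {v : ℕ // bfStepsN 4 [d6] s6.1 = v} := by
  refine ⟨?_, ?_⟩
  rotate_left
  conv => lhs; whnf

noncomputable def s8 : {v : ℕ // bfStepsN 4 [d7] s7.1 = v} := by
  refine ⟨?_, ?_⟩
  rotate_left
  conv => lhs; whnf

noncomputable def s9 : {v : ℕ // bfStepsN 4 [d8] s8.1 = v} := by
  refine ⟨?_, ?_⟩
  rotate_left
  conv => lhs; whnf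

noncomputable def s10 : {v : ℕ // bfStepsN 4 [d9] s9.1 = v} := by
  refine ⟨?_, ?_⟩
  rotate_left
  conv => lhs; whnf

noncomputable def s11 : {v : ℕ // bfStepsN 4 [d10] s10.1 = v} := by
  refine ⟨?_, ?_⟩
  rotate_left
  conv => lhs; whnf

noncomputable def s12 : {v : ℕ // bfStepsN 4 [d11] s11.1 = v} := by
  refine ⟨?_, ?_⟩
  rotate_left
  conv => lhs; whnf

noncomputable def s13 : {v : ℕ // bfStepsN 4 [d12] s12.1 = v} := by
  refine ⟨?_, ?_⟩
  rotate_left
  conv => lhs; whnf

noncomputable def s14 : {v : ℕ // bfStepsN 4 [d13] s13.1 = v} := by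
  refine ⟨?_, ?_⟩
  rotate_left
  conv => lhs; whnf

noncomputable def s15 : {v : ℕ // bfStepsN 4 [d14] s14.1 = v} := by
  refine ⟨?_, ?_⟩
  rotate_left
  conv => lhs; whnf

noncomputable def s16 : {v : ℕ // bfStepsN 4 [d15] s15.1 = v} := by
  refine ⟨?_, ?_⟩
  rotate_left
  conv => lhs; whnf

noncomputable def fin : ℕ := s16.1

theorem cnt_eq : (List.range 8).map (fun l => cntN n fin (l + 1)) = [2295, 2453760, 3870720, 1481760, 483840, 98280, 0, 0] := by
  decide +kernel

theorem inv {Gd : Cl → ℕ → Prop} (hg : Cls Gd gens)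
    (hr : ∀ r ∈ reps, r.1 < 2 ^ 24 ∧ r.2 < 2 ^ n ∧ Gd (cd r.1) r.2) : InvN Gd n fin := by
  have h0 : InvN Gd 4 s0.1 := s0.2 ▸ invN_init hg 4 hr ws
  have h1 : InvN Gd 4 s1.1 := s1.2 ▸ invN_steps hg ok0 h0
  have h2 : InvN Gd 4 s2.1 := s2.2 ▸ invN_steps hg ok1 h1
  have h3 : InvN Gd 4 s3.1 := s3.2 ▸ invN_steps hg ok2 h2
  have h4 : InvN Gd 4 s4.1 := s4.2 ▸ invN_steps hg ok3 h3
  have h5 : InvN Gd 4 s5.1 := s5.2 ▸ invN_steps hg ok4 h4
  have h6 : InvN Gd 4 s6.1 := s6.2 ▸ invN_steps hg ok5 h5
  have h7 : InvN Gd 4 s7.1 := s7.2 ▸ invN_steps hg ok6 h6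
  have h8 : InvN Gd 4 s8.1 := s8.2 ▸ invN_steps hg ok7 h7
  have h9 : InvN Gd 4 s9.1 := s9.2 ▸ invN_steps hg ok8 h8
  have h10 : InvN Gd 4 s10.1 := s10.2 ▸ invN_steps hg ok9 h9
  have h11 : InvN Gd 4 s11.1 := s11.2 ▸ invN_steps hg ok10 h10
  have h12 : InvN Gd 4 s12.1 := s12.2 ▸ invN_steps hg ok11 h11
  have h13 : InvN Gd 4 s13.1 := s13.2 ▸ invN_steps hg ok12 h12
  have h14 : InvN Gd 4 s14.1 := s14.2 ▸ invN_steps hg ok13 h13
  have h15 : InvN Gd 4 s15.1 := s15.2 ▸ invN_steps hg ok14 h14
  have h16 : InvN Gd 4 s16.1 := s16.2 ▸ invN_steps hg ok15 h15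
  exact h16

end

end CfsgMO.Bf11
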