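/-
Orbit enumeration for the axis number 2.
-/
import Cfsg.Agent.MO.BF

set_option autoImplicit false
set_option maxRecDepth 100000
set_option Elab.async false
set_option exponentiation.threshold 100000000

namespace CfsgMO.Bf2

noncomputable section

def n : ℕ := 4
def gens : List (List ℕ) := [[3722, 2, 1415, 256, 3289, 513, 331, 8, 173, 2047, 16, 2048, 2382636, 929704, 148235, 3825164, 2889610, 5135475, 6429203, 6869920, 4721417, 4853640, 6757192, 8933158], [4000, 2377, 1716, 75, 2371, 2383, 1829, 2395, 1228, 267, 925, 2048, 2093820, 4734725, 7863228, 1043492, 2661804, 8238853, 6950288, 5568788, 4329276, 924676, 2228494, 14031624]]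
def reps : List (ℕ × ℕ) := [(8388608, 1), (15728640, 2), (3895520, 3), (3428354, 4), (9822461, 5), (4362494, 3), (3257101, 6), (211508, 7), (630685, 8), (8192, 9), (150618, 9), (172285, 9), (298020, 9), (655391, 9), (7028736, 10)]
def ws : List (List ℕ) := [[1, 0, 0, 1, 0, 0, 0], [1, 1, 0, 1, 0, 0], [0, 1, 0, 1, 0, 1, 0, 1, 1, 0], [1, 0, 1, 0, 1, 0, 0], [1, 1, 0, 1, 0, 1, 1], [0, 0, 0, 1, 0, 1, 0, 0], [1, 0, 0, 1, 0, 0], [1, 0, 0, 0, 0, 1], [0, 0, 0, 1, 1, 1, 1, 0], [1, 0, 0, 0, 0, 0, 0, 0, 0, 1]]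
def d0 : List ℕ × List (ℕ × ℕ) := ([0, 1, 1, 0, 0, 0, 1, 1, 1, 0, 0, 1, 1, 1], [(23, 339613), (1, 2176), (7, 3868), (8, 1548), (12, 3147305), (4, 2052), (10, 2665), (5, 8), (6, 2568), (13, 393728), (14, 7045128), (16, 8159232), (20, 6816256), (22, 2654208), (15, 2359816), (21, 918016), (19, 262144), (3, 512), (17, 262144), (18, 5376560), (17, 4594), (9, 1533), (3, 1120), (19, 2137589), (21, 4194576), (15, 5245282), (22, 1050737), (20, 66852), (16, 19910), (14, 12560), (13, 1235), (6, 1159), (0, 1074), (5, 1286), (2, 400), (10, 128), (4, 384), (8, 128), (17, 262144), (3, 512)])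
def d1 : List ℕ × List (ℕ × ℕ) := ([0, 1, 1, 0, 0, 0, 1, 1, 1, 0, 0, 0, 1, 0], [(13, 4343060), (23, 3563268), (19, 4393169), (8, 173), (14, 335508), (15, 3284651), (5, 653), (0, 656), (10, 540), (9, 2126), (2, 218), (1, 144), (4, 8), (12, 3211264), (16, 4456448), (21, 5636096), (17, 1310720), (22, 2119074), (20, 132993), (18, 2120456), (17, 2641218), (21, 22500), (16, 38952), (12, 560716), (6, 2604), (3, 948), (4, 932), (7, 804), (1, 804), (2, 801), (9, 1281), (0, 288), (5, 256), (15, 24832), (14, 524288), (12, 65536)])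
def d2 : List ℕ × List (ℕ × ℕ) := ([0, 1, 1, 0, 0, 1, 1, 1], [(5, 2397), (19, 4265934), (21, 331548), (23, 53527), (22, 465935), (3, 2048), (16, 1051987), (6, 400), (2, 785), (7, 1793), (8, 529), (4, 513), (10, 512), (12, 1441792), (13, 1310720), (15, 1196032), (20, 409600), (18, 16384), (14, 131072), (17, 2903729), (14, 7869572), (18, 7933633), (20, 528838), (15, 77002), (13, 2688306), (12, 4786122), (0, 1890), (9, 1240), (10, 244), (4, 264), (8, 2060), (7, 2150), (2, 106), (6, 40), (1, 8), (16, 524328), (22, 2621472), (21, 524320)])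
def d3 : List ℕ × List (ℕ × ℕ) := ([0, 1, 1, 0, 1, 1, 0, 1], [(23, 3343910), (12, 3212055), (0, 3644), (1, 8), (2, 1904), (7, 3944), (17, 2098456), (8, 3680), (20, 2883672), (21, 591376), (3, 1024), (10, 16), (13, 786464), (6, 544), (9, 32), (16, 4243456), (19, 4243456), (14, 4489216), (22, 32768), (15, 6180119), (22, 3557741), (18, 218204), (5, 1807), (14, 2754569), (19, 2168580), (16, 3289297), (9, 3267), (6, 2197), (13, 1186951), (4, 1032), (10, 2316), (21, 1185925), (20, 4228), (8, 128), (17, 3), (2, 3)])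
def d4 : List ℕ × List (ℕ × ℕ) := ([0, 0, 1, 0, 1, 1, 0, 0, 1, 0, 1, 1, 1, 1, 0], [(19, 6575777), (3, 2115), (22, 3384481), (4, 1700), (15, 96128), (21, 1532480), (12, 1057412), (17, 1377185), (18, 1130759), (13, 1130852), (6, 1314), (16, 1953), (1, 256), (0, 1540), (2, 1280), (14, 1049984), (7, 1536), (8, 32), (9, 1349), (5, 3467), (8, 1), (20, 7067656), (10, 2250), (7, 2133), (14, 6397952), (2, 2057), (0, 2130), (23, 7286810), (1, 8), (16, 2920512), (6, 24), (13, 3053568), (18, 4753424), (17, 32784), (12, 6815760), (21, 4718608), (15, 4196352), (4, 2048)])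
def d5 : List ℕ × List (ℕ × ℕ) := ([1, 1, 1, 0, 0, 1, 1, 1, 1, 0, 0, 1], [(21, 957343), (18, 5372644), (9, 3420), (2, 248), (19, 5370146), (23, 1059297), (0, 266), (8, 2112), (4, 64), (10, 64), (5, 200), (15, 5468298), (1, 64), (7, 8), (17, 5316616), (16, 16384), (14, 5242880), (20, 4194304), (22, 3484699), (20, 2629483), (14, 467099), (16, 917890), (13, 2396796), (12, 821987), (3, 3987), (17, 296982), (7, 3701), (6, 2337), (1, 2560), (15, 2362389), (5, 532), (10, 512), (4, 512), (8, 512), (23, 2621956), (19, 2359300), (20, 4194304)])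
def d6 : List ℕ × List (ℕ × ℕ) := ([0, 0, 1, 0, 0, 1, 0, 1, 0], [(2, 3667), (18, 8005666), (6, 267), (8, 698), (23, 7433881), (9, 1064), (13, 1064992), (10, 2088), (20, 116880), (19, 215075), (14, 131203), (5, 8), (0, 16), (15, 6357016), (16, 6426768), (21, 4198400), (22, 135296), (17, 4232), (3, 128), (12, 656542), (7, 104), (4, 1601), (3, 3873), (17, 7931238), (22, 2198372), (21, 1130566), (16, 1097986), (15, 1337089), (0, 2916), (1, 2112), (5, 1088), (14, 526084), (19, 1049344), (20, 260), (10, 576), (9, 256), (23, 68), (8, 64)])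
def d7 : List ℕ × List (ℕ × ℕ) := ([0, 0, 1, 0, 0, 1, 1, 1, 1], [(13, 1117377), (3, 3988), (16, 1048853), (9, 1457), (22, 4118979), (14, 2790801), (17, 3965318), (20, 2920642), (15, 2625863), (23, 790950), (1, 128), (18, 2622933), (0, 500), (4, 1120), (7, 1092), (10, 68), (6, 292), (2, 288), (5, 256), (12, 2621440), (21, 524288), (19, 7456221), (21, 69992), (12, 4540898), (8, 3232), (5, 1156), (2, 1216), (6, 1561), (10, 2176), (7, 2561), (4, 2051), (0, 2568), (18, 1048584), (23, 4401672), (15, 5326856), (20, 196616), (17, 4259848), (14, 4196352), (22, 8192), (9, 8), (12, 2097152)])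
def d8 : List ℕ × List (ℕ × ℕ) := ([1, 1, 0, 0, 0, 0, 0, 1, 0, 1, 0, 0, 1, 0], [(13, 744523), (6, 4031), (7, 2093), (14, 3021857), (21, 4661021), (18, 138501), (9, 3356), (16, 36906), (15, 1573127), (10, 51), (23, 5374225), (0, 50), (1, 2048), (2, 8), (5, 2328), (8, 2072), (3, 16), (12, 1179648), (17, 5767168), (22, 1048576), (19, 1048576), (20, 2492029), (19, 2248473), (22, 133227), (17, 2366780), (12, 2461349), (4, 8), (3, 256), (8, 101), (5, 711), (2, 706), (0, 1536), (23, 2122304), (15, 66048), (16, 279040), (18, 16448), (21, 16448)])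
def d9 : List ℕ × List (ℕ × ℕ) := ([0, 1, 1, 0, 0, 0, 1, 0, 1, 1, 1, 1, 1, 1], [(20, 346725), (3, 711), (16, 2360820), (22, 269249), (23, 65268), (7, 2866), (10, 2915), (1, 2421), (12, 2638644), (0, 580), (4, 868), (2, 96), (13, 2376256), (14, 655360), (17, 786976), (21, 819520), (5, 512), (6, 768), (19, 3621305), (18, 7379781), (9, 61), (8, 3177), (6, 3201), (15, 7494790), (5, 1164), (21, 92183), (17, 5326867), (14, 5315598), (13, 5244034), (2, 25), (4, 8), (0, 130), (12, 1051784), (1, 8), (23, 4194304), (22, 1114120), (16, 1048584)])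
def d10 : List ℕ × List (ℕ × ℕ) := ([0, 1, 0, 1, 1, 1, 0, 0], [(5, 3602), (18, 6328576), (14, 1749018), (10, 902), (23, 3748383), (19, 3386312), (1, 2561), (7, 2644), (0, 2892), (2, 344), (4, 776), (3, 512), (12, 6520832), (13, 4227072), (16, 3145728), (20, 2228224), (17, 32768), (15, 2097152), (21, 1688144), (15, 5507998), (22, 414427), (17, 1658696), (20, 593962), (16, 31507), (13, 525737), (9, 3198), (12, 19635), (8, 3099), (6, 1178), (3, 21), (4, 2177), (2, 1), (0, 130), (7, 2), (19, 262176), (14, 262144), (15, 2097152)])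
def d11 : List ℕ × List (ℕ × ℕ) := ([0, 0, 1, 0, 0, 0, 0, 0, 1, 0, 0, 1, 1, 1, 1], [(6, 1952), (22, 1774364), (15, 1974030), (19, 332178), (23, 2249235), (7, 1557), (16, 1330489), (17, 2098955), (21, 1053466), (13, 1315840), (2, 1321), (14, 1311288), (18, 4896), (0, 1544), (8, 536), (9, 1056), (5, 1024), (12, 1049600), (20, 16), (4, 3373), (20, 2267435), (10, 2080), (12, 2607687), (5, 2560), (9, 334), (3, 2434), (8, 2247), (0, 2054), (18, 4227074), (14, 6490304), (2, 130), (13, 4751360), (21, 4851840), (17, 4718720), (7, 64), (23, 4751424), (15, 4194304)])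
def d12 : List ℕ × List (ℕ × ℕ) := ([1, 1, 0, 1, 1, 1, 1, 0, 1, 0, 1, 1], [(22, 3089424), (23, 3096537), (1, 3072), (5, 1365), (18, 2218001), (2, 2385), (15, 1659840), (4, 3264), (0, 1416), (9, 3520), (6, 384), (19, 1117184), (7, 3080), (20, 2103296), (21, 2048), (16, 18432), (12, 16384), (14, 131072), (17, 1400557), (14, 2983138), (13, 623811), (12, 6064707), (16, 6063218), (10, 29), (21, 1048632), (20, 819921), (8, 699), (3, 128), (7, 610), (19, 4227697), (6, 512), (9, 36), (0, 32), (4, 6), (15, 4194308), (2, 32), (18, 4194304)])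
def d13 : List ℕ × List (ℕ × ℕ) := ([1, 1, 0, 1, 1, 1, 1, 1, 1, 1, 0, 0, 1, 0], [(20, 5153026), (5, 1302), (15, 4414472), (13, 742607), (8, 669), (14, 3019416), (17, 4241), (18, 6298643), (23, 6361690), (4, 1669), (0, 4), (2, 1026), (1, 64), (6, 512), (7, 1032), (9, 1032), (12, 6881280), (19, 4194304), (22, 4115742), (19, 1366359), (21, 376614), (16, 170904), (12, 1484130), (10, 2458), (3, 597), (9, 2404), (7, 114), (6, 2353), (1, 2069), (2, 17), (0, 2080), (4, 32), (23, 1091840), (18, 1229056), (17, 1048832), (12, 65536)])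
def d14 : List ℕ × List (ℕ × ℕ) := ([1, 0, 0, 0, 1, 1, 0, 1, 1, 0, 0, 0, 1], [(17, 7647219), (7, 844), (20, 6418299), (21, 643337), (19, 298547), (23, 4309034), (14, 4206672), (6, 1029), (4, 1570), (22, 276007), (5, 1285), (18, 33030), (8, 1540), (1, 513), (0, 1548), (10, 12), (13, 98308), (3, 4), (2, 512), (15, 4096), (16, 6707978), (12, 5162835), (15, 811495), (9, 1358), (2, 281), (3, 2065), (13, 7226515), (10, 2480), (0, 2386), (1, 16), (8, 2096), (18, 6310000), (5, 208), (22, 149568), (6, 128), (14, 1572864), (23, 1181696), (19, 2097152), (20, 131072)])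
def d15 : List ℕ × List (ℕ × ℕ) := ([1, 1, 1, 1, 1, 1, 1, 1, 1, 1, 1], [(15, 1778), (23, 2517600), (1, 2048), (6, 2048), (2, 2048), (22, 512), (19, 1916), (14, 2272), (20, 2768), (18, 925), (13, 553), (17, 3230), (12, 82), (21, 3530), (9, 2048), (16, 2537), (22, 168), (5, 2048)])
theorem ok0 : [d0].all (okStep gens) = true := by decide +kernel
theorem ok1 : [d1].all (okStep gens) = true := by decide +kernel
theorem ok2 : [d2].all (okStep gens) = true := by decide +kernel
theorem ok3 : [d3].all (okStep gens) = true := by decide +kernel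
theorem ok4 : [d4].all (okStep gens) = true := by decide +kernel
theorem ok5 : [d5].all (okStep gens) = true := by decide +kernel
theorem ok6 : [d6].all (okStep gens) = true := by decide +kernel
theorem ok7 : [d7].all (okStep gens) = true := by decide +kernel
theorem ok8 : [d8].all (okStep gens) = true := by decide +kernel
theorem ok9 : [d9].all (okStep gens) = true := by decide +kernel
theorem ok10 : [d10].all (okStep gens) = true := by decide +kernel
theorem ok11 : [d11].all (okStep gens) = true := by decide +kernel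
theorem ok12 : [d12].all (okStep gens) = true := by decide +kernel
theorem ok13 : [d13].all (okStep gens) = true := by decide +kernel
theorem ok14 : [d14].all (okStep gens) = true := by decide +kernel
theorem ok15 : [d15].all (okStep gens) = true := by decide +kernel

noncomputable def s0 : {v : ℕ // bfInitN 4 gens reps ws = v} := by
  refine ⟨?_, ?_⟩
  rotate_left
  conv => lhs; whnf

noncomputable def s1 : {v : ℕ // bfStepsN 4 [d0] s0.1 = v} := by
  refine ⟨?_, ?_⟩
  rotate_left
  conv => lhs; whnf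

noncomputable def s2 : {v : ℕ // bfStepsN 4 [d1] s1.1 = v} := by
  refine ⟨?_, ?_⟩
  rotate_left
  conv => lhs; whnf

noncomputable def s3 : {v : ℕ // bfStepsN 4 [d2] s2.1 = v} := by
  refine ⟨?_, ?_⟩
  rotate_left
  conv => lhs; whnf

noncomputable def s4 : {v : ℕ // bfStepsN 4 [d3] s3.1 = v} := by
  refine ⟨?_, ?_⟩
  rotate_left
  conv => lhs; whnf

noncomputable def s5 : {v : ℕ // bfStepsN 4 [d4] s4.1 = v} := by
  refine ⟨?_, ?_⟩
  rotate_left
  conv => lhs; whnf

noncomputable def s6 : {v : ℕ // bfStepsN 4 [d5] s5.1 = v} := by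
  refine ⟨?_, ?_⟩
  rotate_left
  conv => lhs; whnf

noncomputable def s7 : {v : ℕ // bfStepsN 4 [d6] s6.1 = v} := by
  refine ⟨?_, ?_⟩
  rotate_left
  conv => lhs; whnf

noncomputable def s8 : {v : ℕ // bfStepsN 4 [d7] s7.1 = v} := by
  refine ⟨?_, ?_⟩
  rotate_left
  conv => lhs; whnf

noncomputable def s9 : {v : ℕ // bfStepsN 4 [d8] s8.1 = v} := by
  refine ⟨?_, ?_⟩
  rotate_left
  conv => lhs; whnf

noncomputable def s10 : {v : ℕ // bfStepsN 4 [d9] s9.1 = v} := by
  refine ⟨?_, ?_⟩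
  rotate_left
  conv => lhs; whnf

noncomputable def s11 : {v : ℕ // bfStepsN 4 [d10] s10.1 = v} := by
  refine ⟨?_, ?_⟩
  rotate_left
  conv => lhs; whnf

noncomputable def s12 : {v : ℕ // bfStepsN 4 [d11] s11.1 = v} := by
  refine ⟨?_, ?_⟩
  rotate_left
  conv => lhs; whnf

noncomputable def s13 : {v : ℕ // bfStepsN 4 [d12] s12.1 = v} := by
  refine ⟨?_, ?_⟩
  rotate_left
  conv => lhs; whnf

noncomputable def s14 : {v : ℕ // bfStepsN 4 [d13] s13.1 = v} := by
  refine ⟨?_, ?_⟩
  rotate_left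
  conv => lhs; whnf

noncomputable def s15 : {v : ℕ // bfStepsN 4 [d14] s14.1 = v} := by
  refine ⟨?_, ?_⟩
  rotate_left
  conv => lhs; whnf

noncomputable def s16 : {v : ℕ // bfStepsN 4 [d15] s15.1 = v} := by
  refine ⟨?_, ?_⟩
  rotate_left
  conv => lhs; whnf

noncomputable def fin : ℕ := s16.1

theorem cnt_eq : (List.range 11).map (fun l => cntN n fin (l + 1)) = [1, 3542, 1003904, 16192, 485760, 2637824, 3627008, 518144, 97774, 506, 0] := by
  decide +kernel

theorem inv {Gd : Cl → ℕ → Prop} (hg : Cls Gd gens)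
    (hr : ∀ r ∈ reps, r.1 < 2 ^ 24 ∧ r.2 < 2 ^ n ∧ Gd (cd r.1) r.2) : InvN Gd n fin := by
  have h0 : InvN Gd 4 s0.1 := s0.2 ▸ invN_init hg 4 hr ws
  have h1 : InvN Gd 4 s1.1 := s1.2 ▸ invN_steps hg ok0 h0
  have h2 : InvN Gd 4 s2.1 := s2.2 ▸ invN_steps hg ok1 h1
  have h3 : InvN Gd 4 s3.1 := s3.2 ▸ invN_steps hg ok2 h2
  have h4 : InvN Gd 4 s4.1 := s4.2 ▸ invN_steps hg ok3 h3
  have h5 : InvN Gd 4 s5.1 := s5.2 ▸ invN_steps hg ok4 h4
  have h6 : InvN Gd 4 s6.1 := s6.2 ▸ invN_steps hg ok5 h5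
  have h7 : InvN Gd 4 s7.1 := s7.2 ▸ invN_steps hg ok6 h6
  have h8 : InvN Gd 4 s8.1 := s8.2 ▸ invN_steps hg ok7 h7
  have h9 : InvN Gd 4 s9.1 := s9.2 ▸ invN_steps hg ok8 h8
  have h10 : InvN Gd 4 s10.1 := s10.2 ▸ invN_steps hg ok9 h9
  have h11 : InvN Gd 4 s11.1 := s11.2 ▸ invN_steps hg ok10 h10
  have h12 : InvN Gd 4 s12.1 := s12.2 ▸ invN_steps hg ok11 h11
  have h13 : InvN Gd 4 s13.1 := s13.2 ▸ invN_steps hg ok12 h12
  have h14 : InvN Gd 4 s14.1 := s14.2 ▸ invN_steps hg ok13 h13
  have h15 : InvN Gd 4 s15.1 := s15.2 ▸ invN_steps hg ok14 h14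
  have h16 : InvN Gd 4 s16.1 := s16.2 ▸ invN_steps hg ok15 h15
  exact h16

end

end CfsgMO.Bf2
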