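/-
Orbit enumeration for the axis number 3.
-/
import Cfsg.Agent.MO.BF

set_option autoImplicit false
set_option maxRecDepth 100000
set_option Elab.async false
set_option exponentiation.threshold 100000000

namespace CfsgMO.Bf3

noncomputable section

def n : ℕ := 4
def gens : List (List ℕ) := [[1190, 141, 1447, 40, 160, 2411, 32, 2144, 3091, 3900, 2592, 2048, 1125712, 1120656, 5251490, 5355802, 5774911, 1080708, 7253962, 1339650, 5330742, 5266074, 7363349, 16079563], [1534, 1869, 3808, 2300, 3552, 992, 4072, 2016, 4032, 2079, 979, 2048, 800451, 789271, 1385405, 74994, 2693484, 4745021, 51058, 8094568, 475658, 89748, 870883, 12305582], [4342374, 1323218, 7037328, 7040632, 4004099, 7038576, 4004627, 4001880, 5652871, 5653112, 3932, 987, 1208248, 1207671, 14934168, 10700934, 1647746, 7331023, 14522366, 12434541, 14470292, 14470954, 9215421, 5908046]]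
def reps : List (ℕ × ℕ) := [(8388608, 1), (15728640, 2), (12345344, 3), (11743232, 4), (11816960, 5), (10137600, 2), (8671232, 3), (3428354, 6), (2342914, 7), (1365692, 8), (372920, 9), (74195, 10), (119505, 6), (4777278, 7), (1065446, 11), (25062, 12), (1955, 13), (8192, 13), (9192, 13), (172285, 13), (876544, 13), (880640, 14), (2109440, 13), (4719774, 13), (7028736, 13), (9105408, 13)]
def ws : List (List ℕ) := [[2, 1, 2, 1, 1, 0, 1], [0, 1, 2, 0, 2, 1, 0], [1, 0, 0, 0, 2, 1], [2, 2, 2, 0, 1, 1, 1, 0, 2], [0, 1, 1, 0, 0, 1, 1, 2, 0, 0], [1, 2, 0, 1, 1, 1, 2, 1, 1], [1, 1, 2, 1, 2, 1, 0], [0, 0, 1, 1, 2, 2], [0, 0, 0, 1, 1, 0]]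
def d0 : List ℕ × List (ℕ × ℕ) := ([1, 1, 1, 1, 1, 1, 2, 2, 0, 2, 0, 1], [(7, 919588), (15, 1004348), (10, 918031), (18, 14370828), (11, 536), (5, 64), (13, 3212059), (21, 9453569), (8, 13713947), (2, 14225418), (12, 541202), (4, 5783560), (19, 12665345), (16, 13647873), (0, 16456), (14, 64), (6, 4194818), (9, 2), (20, 10), (23, 8), (3, 17073), (23, 3187938), (22, 3251250), (1, 2438805), (20, 2466981), (9, 21925), (17, 2884916), (6, 597397), (14, 276517), (0, 65700), (16, 305184), (19, 264336), (4, 267428), (12, 8612), (2, 2106528), (8, 265376), (21, 42016), (13, 3072), (15, 128)])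
def d1 : List ℕ × List (ℕ × ℕ) := ([0, 0, 0, 0, 2, 1, 2, 0, 0, 0, 0, 1], [(10, 5654852), (2, 2435), (17, 6149025), (13, 105393), (11, 451), (3, 627153), (20, 12615890), (23, 2642450), (8, 627234), (14, 4194545), (7, 2429505), (6, 528928), (0, 365090), (9, 2428962), (12, 524288), (19, 360498), (21, 262178), (18, 50), (5, 4259840), (16, 1736823), (22, 10259745), (5, 3982342), (4, 540867), (1, 2555464), (18, 2262537), (15, 29440), (21, 9590669), (19, 136197), (12, 11328), (9, 1152), (0, 155660), (6, 25984), (7, 18436), (14, 1060096), (8, 134148), (23, 1190924), (20, 3076), (3, 133120), (13, 1024), (17, 1028), (5, 65536), (4, 32)])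
def d2 : List ℕ × List (ℕ × ℕ) := ([1, 2, 2, 1, 0, 2, 0, 1, 1, 0, 0], [(22, 1138125), (16, 11410426), (14, 39902), (11, 12824), (6, 3814677), (18, 8951484), (21, 9056679), (13, 9966233), (17, 8947336), (2, 8422795), (1, 1574329), (3, 1605633), (10, 8913457), (7, 9994512), (20, 8945920), (5, 8950288), (12, 524304), (4, 33025), (15, 769), (8, 524288), (19, 8389121), (0, 10382568), (23, 4915592), (9, 944252), (19, 3312040), (8, 7718116), (15, 2371608), (4, 5648582), (12, 280750), (5, 7760068), (20, 4482246), (7, 204802), (10, 6488074), (3, 6309956), (1, 2099264), (2, 2310144), (17, 2162688), (13, 280576), (21, 81984), (18, 2048), (6, 4194304)])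
def d3 : List ℕ × List (ℕ × ℕ) := ([1, 1, 2, 0, 0, 1, 1, 1, 2, 1, 1], [(21, 14341023), (11, 12731), (17, 13661301), (22, 9474187), (8, 860734), (20, 8664824), (7, 128576), (9, 8663085), (10, 860230), (5, 114779), (12, 8429583), (13, 852049), (23, 901138), (15, 540703), (6, 344065), (18, 606219), (16, 524312), (19, 19), (0, 16402), (2, 16408), (4, 2), (3, 11717955), (1, 1285588), (4, 15937541), (14, 4458052), (2, 3445473), (0, 5384320), (19, 8462528), (16, 6686048), (18, 1063456), (6, 4201632), (15, 2107424), (23, 2103072), (13, 8096), (12, 1536), (10, 133888), (9, 4194560), (7, 4327680), (20, 4196608), (8, 4327424), (22, 2228224), (17, 2099200)])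
def d4 : List ℕ × List (ℕ × ℕ) := ([0, 1, 0, 1, 2, 0, 1, 1, 0], [(21, 1050622), (3, 5665968), (17, 1069653), (18, 4205159), (0, 1648806), (13, 1658550), (14, 8913746), (19, 8389936), (1, 1076), (20, 12654288), (4, 2212), (23, 4196704), (8, 3808), (5, 68164), (10, 68096), (16, 4233920), (9, 128), (15, 4196416), (6, 4198532), (7, 4200448), (11, 4), (12, 5130654), (2, 395546), (11, 5236059), (22, 2499977), (7, 10773827), (6, 12444170), (15, 65536), (9, 943395), (16, 11945010), (10, 942371), (5, 10772739), (23, 147467), (4, 393226), (20, 2490379), (1, 2097161), (19, 286729), (14, 270344), (13, 1), (0, 2490376), (18, 131080)])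
def d5 : List ℕ × List (ℕ × ℕ) := ([2, 2, 1, 2, 0, 0, 0, 0, 2, 2, 0, 2, 2, 2, 1], [(9, 1504), (12, 2631035), (11, 1403), (0, 8373638), (5, 7037252), (6, 256), (7, 4400152), (17, 9445636), (13, 12944656), (19, 14976022), (8, 13714432), (10, 12877846), (22, 3457040), (15, 2375696), (20, 10485768), (16, 2375682), (2, 16410), (4, 10747914), (18, 10485770), (21, 10), (23, 16394), (1, 8), (3, 16384), (14, 5775273), (3, 139463), (1, 270644), (23, 1617077), (21, 493317), (18, 5341776), (4, 1150244), (2, 5246081), (16, 4734464), (20, 662528), (15, 4733248), (22, 670561), (10, 531105), (8, 135297), (19, 135201), (13, 135905), (17, 704), (7, 2049), (6, 32)])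
def d6 : List ℕ × List (ℕ × ℕ) := ([2, 0, 2, 1, 2, 1, 0, 1, 0, 1, 2], [(9, 118156), (21, 1111454), (13, 8519730), (15, 6228332), (5, 395331), (8, 527391), (10, 8654941), (4, 137357), (17, 10246208), (2, 10242242), (6, 14172160), (23, 6117376), (16, 1048587), (0, 5511306), (18, 4224), (1, 5783688), (19, 22536), (3, 5245056), (7, 4216832), (12, 4196352), (20, 4196352), (22, 4170908), (14, 8489084), (11, 13715), (20, 657149), (12, 271414), (7, 103), (3, 11215889), (19, 8815958), (1, 2533205), (18, 75600), (0, 2107216), (16, 8520256), (23, 2138644), (6, 1072), (2, 2228512), (17, 1312), (4, 2139136), (10, 41760), (8, 32768), (5, 32768)])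
def d7 : List ℕ × List (ℕ × ℕ) := ([0, 2, 1, 2, 2, 2, 0, 1, 0, 0], [(17, 8225081), (13, 1116483), (10, 2332), (9, 5020102), (6, 2621477), (8, 2063), (2, 6129833), (12, 6588443), (22, 11880586), (3, 19), (11, 11059235), (15, 8912912), (18, 8405152), (19, 8388752), (4, 8405121), (21, 8470658), (0, 8470658), (23, 1114112), (16, 1048576), (5, 1048704), (7, 2215800), (20, 551521), (5, 6545432), (16, 10791687), (1, 4252160), (23, 2097420), (14, 2662993), (0, 2228736), (21, 4207708), (4, 4753156), (19, 4227656), (18, 4336456), (15, 131392), (11, 4195340), (3, 140100), (22, 13380), (12, 9024), (2, 141120), (8, 131584), (6, 512), (9, 132096), (5, 128)])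
def d8 : List ℕ × List (ℕ × ℕ) := ([0, 1, 2, 1, 2, 1, 2, 2, 0], [(8, 5866215), (19, 4196950), (16, 9700911), (11, 13007), (21, 12850), (22, 8656545), (9, 1234001), (14, 1352811), (2, 8791162), (3, 406674), (18, 8533043), (12, 131106), (23, 1056866), (13, 1081554), (6, 165009), (17, 1171), (10, 128), (1, 1081392), (15, 1048625), (4, 1048608), (5, 1), (7, 1), (0, 6461472), (7, 6084402), (5, 12783878), (20, 13312276), (4, 216142), (15, 415238), (1, 13593860), (10, 2838604), (17, 8415816), (6, 15475204), (13, 10750724), (23, 2883840), (12, 2689544), (18, 2624008), (3, 2179588), (2, 66304), (14, 592384), (9, 2097152), (22, 2099200), (21, 590080), (16, 524544)])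
def d9 : List ℕ × List (ℕ × ℕ) := ([1, 1, 1, 2, 2, 2, 1, 2, 2], [(2, 6986528), (4, 1034048), (6, 6986528), (7, 1033760), (20, 7172362), (16, 11309312), (17, 10765099), (10, 14379), (18, 541226), (5, 551690), (8, 13170688), (22, 2642433), (19, 2099723), (11, 8450059), (3, 8450051), (9, 12291), (15, 8417280), (13, 2117634), (12, 2113538), (14, 2097153), (21, 8388610), (1, 4823424), (0, 552852), (23, 3565204), (21, 4759028), (14, 534224), (12, 1976372), (13, 1147572), (15, 1966468), (9, 4718888), (3, 5177812), (11, 4720116), (19, 4261168), (22, 1508564), (8, 394400), (5, 459844), (18, 1114320), (10, 192), (17, 148), (7, 80), (6, 20)])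
def d10 : List ℕ × List (ℕ × ℕ) := ([2, 0, 0, 1, 1, 2, 1, 1, 1, 2, 1, 2], [(17, 4005083), (13, 4218799), (19, 11587962), (6, 568), (7, 3903), (5, 10539266), (23, 2479640), (16, 5527811), (14, 7186), (3, 6561045), (8, 6558741), (4, 4201474), (10, 4200450), (0, 2052), (18, 4194306), (22, 2101250), (1, 4100), (2, 2097152), (15, 3145728), (21, 1558211), (20, 8633275), (15, 4872493), (12, 20299), (2, 4407832), (1, 13526016), (22, 8675904), (18, 8612233), (11, 1816), (0, 8536680), (10, 984), (4, 721376), (8, 533160), (3, 213184), (9, 532640), (14, 8462368), (16, 8388768), (23, 663712), (5, 532608), (19, 139264), (15, 1048576)])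
def d11 : List ℕ × List (ℕ × ℕ) := ([2, 1, 2, 0, 0, 0, 0, 2, 1, 1, 2], [(3, 3987968), (17, 9285570), (20, 15469492), (6, 12637187), (19, 2213763), (4, 2364293), (16, 12898470), (9, 15520), (10, 12640515), (22, 8407202), (11, 132), (8, 36869), (0, 307364), (12, 2130086), (21, 8413216), (5, 40966), (7, 270342), (1, 270336), (13, 262144), (14, 8650756), (23, 294912), (2, 294912), (18, 9000047), (15, 9000665), (2, 7501586), (23, 748288), (14, 1258241), (13, 4784507), (1, 4785385), (7, 1184000), (5, 5375000), (21, 138841), (12, 4784712), (0, 5966104), (8, 5244480), (11, 1048648), (22, 720904), (10, 1180248), (9, 1179664), (16, 1572944), (4, 1179656), (19, 1048640), (6, 1048576), (20, 8)])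
def d12 : List ℕ × List (ℕ × ℕ) := ([0, 0, 1, 2, 1, 2, 1, 1, 2, 0, 0], [(21, 277174), (9, 5666299), (22, 1834464), (0, 9455668), (5, 9696278), (8, 1033432), (1, 9684096), (23, 1403968), (2, 2064400), (18, 1790096), (3, 1252416), (6, 1138704), (7, 1088528), (10, 1181696), (11, 126976), (12, 1056768), (15, 196624), (17, 1114112), (20, 540688), (16, 548864), (13, 524304), (4, 16507589), (19, 15194023), (14, 15177932), (13, 493409), (16, 12720292), (20, 3815), (17, 14950088), (15, 6560872), (12, 4197632), (11, 262633), (10, 4194895), (7, 809), (6, 809), (3, 14942500), (18, 14680836), (2, 10486560), (23, 2), (1, 4194337), (8, 4194337), (5, 4194817), (0, 4194816)])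
def d13 : List ℕ × List (ℕ × ℕ) := ([2, 1, 1, 0, 2, 2, 2, 1, 0, 1, 0], [(12, 7794188), (22, 12525765), (5, 115416), (20, 10891019), (15, 787869), (23, 2302152), (0, 2780682), (2, 2778944), (8, 803008), (11, 1216), (3, 2500224), (13, 2769424), (4, 2753088), (10, 2572354), (6, 803456), (16, 2097152), (17, 2638338), (9, 2883584), (18, 2), (19, 2097152), (21, 16386), (14, 7112721), (1, 14694973), (21, 1063812), (19, 4194448), (18, 13734548), (9, 9635108), (7, 5250157), (17, 43316), (16, 9478252), (6, 5290256), (10, 43060), (4, 5287936), (13, 6413), (3, 292), (8, 9437220), (2, 33), (0, 9469952), (23, 4194304), (15, 1048608), (20, 4096)])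
def d14 : List ℕ × List (ℕ × ℕ) := ([1, 2, 2, 2, 2, 0, 2, 1, 0, 0, 1], [(1, 6335412), (6, 6594216), (2, 792), (15, 6694176), (3, 669217), (0, 394528), (8, 800256), (9, 3232), (7, 930848), (17, 1864704), (12, 609296), (13, 609296), (16, 11274256), (21, 9964544), (20, 4734976), (14, 13110272), (19, 4197424), (11, 1072), (4, 1056), (5, 4195328), (22, 1024), (10, 4227380), (22, 2425530), (5, 1454356), (4, 2317), (11, 1704845), (23, 1774093), (19, 1355845), (14, 3244677), (20, 2134857), (18, 136), (21, 205771), (16, 168714), (13, 164303), (12, 131083), (17, 33415), (7, 516), (9, 263), (8, 9), (0, 32778), (3, 2), (15, 6)])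
def d15 : List ℕ × List (ℕ × ℕ) := ([2, 0, 2, 0, 0, 2, 2, 1, 1, 0, 0, 1, 0], [(6, 3968), (10, 423), (15, 7827641), (13, 4723003), (0, 688), (19, 4215042), (21, 4200714), (9, 2080), (1, 2080), (23, 4212900), (5, 256), (12, 16400), (20, 458904), (8, 8), (17, 4522116), (4, 132), (2, 128), (14, 4521984), (22, 875388), (18, 610421), (16, 542752), (14, 5461), (7, 1644), (2, 312), (4, 1091), (17, 1576459), (3, 288), (8, 32), (20, 2138656), (12, 524354), (23, 2630210), (21, 525312), (0, 1088), (13, 1088), (15, 64), (14, 65536)])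
theorem ok0 : [d0].all (okStep gens) = true := by decide +kernel
theorem ok1 : [d1].all (okStep gens) = true := by decide +kernel
theorem ok2 : [d2].all (okStep gens) = true := by decide +kernel
theorem ok3 : [d3].all (okStep gens) = true := by decide +kernel
theorem ok4 : [d4].all (okStep gens) = true := by decide +kernel
theorem ok5 : [d5].all (okStep gens) = true := by decide +kernel
theorem ok6 : [d6].all (okStep gens) = true := by decide +kernel
theorem ok7 : [d7].all (okStep gens) = true := by decide +kernel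
theorem ok8 : [d8].all (okStep gens) = true := by decide +kernel
theorem ok9 : [d9].all (okStep gens) = true := by decide +kernel
theorem ok10 : [d10].all (okStep gens) = true := by decide +kernel
theorem ok11 : [d11].all (okStep gens) = true := by decide +kernel
theorem ok12 : [d12].all (okStep gens) = true := by decide +kernel
theorem ok13 : [d13].all (okStep gens) = true := by decide +kernel
theorem ok14 : [d14].all (okStep gens) = true := by decide +kernel
theorem ok15 : [d15].all (okStep gens) = true := by decide +kernel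

noncomputable def s0 : {v : ℕ // bfInitN 4 gens reps ws = v} := by
  refine ⟨?_, ?_⟩
  rotate_left
  conv => lhs; whnf

noncomputable def s1 : {v : ℕ // bfStepsN 4 [d0] s0.1 = v} := by
  refine ⟨?_, ?_⟩
  rotate_left
  conv => lhs; whnf

noncomputable def s2 : {v : ℕ // bfStepsN 4 [d1] s1.1 = v} := by
  refine ⟨?_, ?_⟩
  rotate_left
  conv => lhs; whnf

noncomputable def s3 : {v : ℕ // bfStepsN 4 [d2] s2.1 = v} := by
  refine ⟨?_, ?_⟩
  rotate_left
  conv => lhs; whnf

noncomputable def s4 : {v : ℕ // bfStepsN 4 [d3] s3.1 = v} := by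
  refine ⟨?_, ?_⟩
  rotate_left
  conv => lhs; whnf

noncomputable def s5 : {v : ℕ // bfStepsN 4 [d4] s4.1 = v} := by
  refine ⟨?_, ?_⟩
  rotate_left
  conv => lhs; whnf

noncomputable def s6 : {v : ℕ // bfStepsN 4 [d5] s5.1 = v} := by
  refine ⟨?_, ?_⟩
  rotate_left
  conv => lhs; whnf

noncomputable def s7 : {v : ℕ // bfStepsN 4 [d6] s6.1 = v} := by
  refine ⟨?_, ?_⟩
  rotate_left
  conv => lhs; whnf

noncomputable def s8 : {v : ℕ // bfStepsN 4 [d7] s7.1 = v} := by
  refine ⟨?_, ?_⟩
  rotate_left
  conv => lhs; whnf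

noncomputable def s9 : {v : ℕ // bfStepsN 4 [d8] s8.1 = v} := by
  refine ⟨?_, ?_⟩
  rotate_left
  conv => lhs; whnf

noncomputable def s10 : {v : ℕ // bfStepsN 4 [d9] s9.1 = v} := by
  refine ⟨?_, ?_⟩
  rotate_left
  conv => lhs; whnf

noncomputable def s11 : {v : ℕ // bfStepsN 4 [d10] s10.1 = v} := by
  refine ⟨?_, ?_⟩
  rotate_left
  conv => lhs; whnf

noncomputable def s12 : {v : ℕ // bfStepsN 4 [d11] s11.1 = v} := by
  refine ⟨?_, ?_⟩
  rotate_left
  conv => lhs; whnf

noncomputable def s13 : {v : ℕ // bfStepsN 4 [d12] s12.1 = v} := by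
  refine ⟨?_, ?_⟩
  rotate_left
  conv => lhs; whnf

noncomputable def s14 : {v : ℕ // bfStepsN 4 [d13] s13.1 = v} := by
  refine ⟨?_, ?_⟩
  rotate_left
  conv => lhs; whnf

noncomputable def s15 : {v : ℕ // bfStepsN 4 [d14] s14.1 = v} := by
  refine ⟨?_, ?_⟩
  rotate_left
  conv => lhs; whnf

noncomputable def s16 : {v : ℕ // bfStepsN 4 [d15] s15.1 = v} := by
  refine ⟨?_, ?_⟩
  rotate_left
  conv => lhs; whnf

noncomputable def fin : ℕ := s16.1

theorem cnt_eq : (List.range 15).map (fun l => cntN n fin (l + 1)) = [63, 2232, 52416, 30240, 60480, 1096704, 3244032, 1935360, 1032192, 774144, 32256, 32256, 98217, 63, 0] := by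
  decide +kernel

theorem inv {Gd : Cl → ℕ → Prop} (hg : Cls Gd gens)
    (hr : ∀ r ∈ reps, r.1 < 2 ^ 24 ∧ r.2 < 2 ^ n ∧ Gd (cd r.1) r.2) : InvN Gd n fin := by
  have h0 : InvN Gd 4 s0.1 := s0.2 ▸ invN_init hg 4 hr ws
  have h1 : InvN Gd 4 s1.1 := s1.2 ▸ invN_steps hg ok0 h0
  have h2 : InvN Gd 4 s2.1 := s2.2 ▸ invN_steps hg ok1 h1
  have h3 : InvN Gd 4 s3.1 := s3.2 ▸ invN_steps hg ok2 h2
  have h4 : InvN Gd 4 s4.1 := s4.2 ▸ invN_steps hg ok3 h3
  have h5 : InvN Gd 4 s5.1 := s5.2 ▸ invN_steps hg ok4 h4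
  have h6 : InvN Gd 4 s6.1 := s6.2 ▸ invN_steps hg ok5 h5
  have h7 : InvN Gd 4 s7.1 := s7.2 ▸ invN_steps hg ok6 h6
  have h8 : InvN Gd 4 s8.1 := s8.2 ▸ invN_steps hg ok7 h7
  have h9 : InvN Gd 4 s9.1 := s9.2 ▸ invN_steps hg ok8 h8
  have h10 : InvN Gd 4 s10.1 := s10.2 ▸ invN_steps hg ok9 h9
  have h11 : InvN Gd 4 s11.1 := s11.2 ▸ invN_steps hg ok10 h10
  have h12 : InvN Gd 4 s12.1 := s12.2 ▸ invN_steps hg ok11 h11
  have h13 : InvN Gd 4 s13.1 := s13.2 ▸ invN_steps hg ok12 h12
  have h14 : InvN Gd 4 s14.1 := s14.2 ▸ invN_steps hg ok13 h13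
  have h15 : InvN Gd 4 s15.1 := s15.2 ▸ invN_steps hg ok14 h14
  have h16 : InvN Gd 4 s16.1 := s16.2 ▸ invN_steps hg ok15 h15
  exact h16

end

end CfsgMO.Bf3
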