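/-
Orbit enumeration for the axis number 4.
-/
import Cfsg.Agent.MO.BF

set_option autoImplicit false
set_option maxRecDepth 100000
set_option Elab.async false
set_option exponentiation.threshold 100000000

namespace CfsgMO.Bf4

noncomputable section

def n : ℕ := 4
def gens : List (List ℕ) := [[267, 2050, 175, 258, 3870, 2178, 515, 34, 2058, 2377, 4066, 2048, 2383248, 6291272, 83392, 3232146, 65545, 4735232, 6291846, 4342861, 6397551, 4524290, 4262279, 15935235], [237, 2262, 722, 734, 364, 2646, 1765, 1208, 726, 662, 982, 2048, 4275136, 6359576, 214465, 4432702, 211034, 596180, 4268370, 76736, 3990995, 460369, 1257520, 15209845], [3209713, 6282765, 1075, 331, 8186373, 7859417, 7283958, 8186955, 3930650, 7284222, 6282971, 2465, 10008477, 4340312, 13667477, 7731838, 9473335, 2006247, 9719520, 14339222, 5406847, 698127, 9490036, 13950182]]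
def reps : List (ℕ × ℕ) := [(8388608, 1), (15728640, 2), (11984896, 3), (11743232, 4), (10137600, 5), (12607488, 4), (3993855, 6), (14835742, 7), (2015905, 8), (239563, 9), (976480, 10), (372920, 9), (356872, 11), (767050, 11), (8192, 12), (9192, 12), (49152, 13), (172285, 12), (1249976, 12), (2588672, 12), (7028736, 12)]
def ws : List (List ℕ) := [[2, 0, 0, 2, 1, 2], [2, 2, 0, 1, 1, 1, 0, 1], [1, 2, 0, 1, 0, 2, 0, 2, 1, 2], [1, 0, 1, 1, 1, 1, 0, 2, 1], [0, 0, 0, 1, 1, 0, 2, 2], [2, 2, 1, 2, 0, 1, 2, 0], [0, 2, 1, 1, 1, 1, 2, 0, 0, 2], [2, 2, 0, 2, 1, 1, 2], [0, 2, 0, 1, 2, 1]]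
def d0 : List ℕ × List (ℕ × ℕ) := ([0, 1, 2, 0, 2, 0, 1, 1, 1, 1, 2, 1], [(18, 15405809), (21, 9625692), (13, 9442948), (17, 1609130), (0, 4757026), (2, 12684896), (10, 12682000), (19, 4280834), (4, 4201128), (5, 13633794), (12, 4210760), (22, 9455754), (1, 1067080), (14, 8390984), (11, 384), (20, 98632), (9, 128), (23, 65608), (7, 65536), (8, 32768), (16, 64), (6, 5837499), (16, 7482636), (3, 6851236), (15, 6453008), (8, 3936912), (7, 12353060), (23, 4618247), (9, 2622502), (20, 925702), (11, 4198448), (14, 922659), (1, 7083060), (22, 2105393), (12, 655381), (5, 3022864), (4, 2892800), (19, 140288), (10, 393216), (2, 2097153), (0, 2490368), (17, 262144), (13, 2097152)])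
def d1 : List ℕ × List (ℕ × ℕ) := ([2, 2, 2, 2, 0, 0, 2, 2], [(23, 5979378), (9, 4133893), (0, 7286102), (20, 27908), (19, 6419536), (22, 70934), (17, 4546), (1, 83348), (5, 2195608), (15, 2168196), (21, 332820), (7, 92224), (2, 23896), (8, 74816), (6, 25608), (10, 67600), (4, 96256), (12, 278528), (18, 2179965), (16, 7480926), (14, 1049095), (13, 4756217), (12, 12619688), (11, 2785665), (4, 5801033), (3, 3146179), (10, 2752740), (6, 259), (8, 4882947), (2, 4850339), (7, 6816289), (21, 655395), (15, 5243395), (5, 524802), (1, 5242881), (17, 9961472), (22, 1049089), (19, 8388609), (20, 8388609), (0, 512)])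
def d2 : List ℕ × List (ℕ × ℕ) := ([0, 2, 0, 0, 1, 1, 0, 2, 1, 1, 0], [(16, 11506), (6, 3414069), (19, 12609805), (7, 14710585), (2, 6343216), (9, 4387842), (10, 1450243), (14, 1445914), (21, 1454338), (13, 48), (11, 5668898), (5, 13897745), (8, 4358162), (20, 13008915), (3, 131075), (15, 12582913), (4, 12718083), (22, 8392705), (0, 8388608), (23, 135170), (17, 13201551), (1, 3770900), (12, 9520892), (23, 5359841), (0, 624976), (22, 1895128), (18, 3196728), (4, 3246784), (15, 2097600), (3, 2106880), (20, 77572), (8, 2099712), (5, 83652), (11, 2114564), (21, 591552), (14, 525444), (10, 516), (9, 590016), (7, 524288)])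
def d3 : List ℕ × List (ℕ × ℕ) := ([1, 1, 0, 2, 1, 0, 2, 1, 2, 0, 0, 0, 1, 0], [(17, 6902143), (23, 4761101), (21, 628021), (5, 3289), (3, 3217), (4, 711), (7, 1351), (6, 1541), (15, 5845248), (14, 4260608), (2, 515), (20, 534016), (1, 256), (13, 66304), (8, 513), (16, 262145), (19, 4460544), (12, 262145), (0, 512), (18, 4194816), (22, 512), (9, 1045), (22, 3617173), (18, 3366082), (0, 330), (12, 771380), (19, 3279326), (16, 180522), (8, 1102), (13, 1049830), (1, 1100), (10, 2124), (20, 2146476), (2, 160), (14, 32), (15, 131216), (6, 176), (7, 2056), (4, 40)])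
def d4 : List ℕ × List (ℕ × ℕ) := ([0, 2, 0, 2, 1, 1, 1, 0, 1, 2], [(12, 11101266), (16, 4090551), (13, 7736611), (2, 6342002), (14, 13927856), (3, 3440), (5, 657298), (20, 8685842), (23, 7209555), (19, 4620802), (18, 6325634), (7, 2232147), (0, 33810), (22, 2133008), (1, 166912), (8, 2264080), (4, 166976), (9, 2231360), (15, 2048), (11, 132096), (6, 2097152), (21, 8574825), (6, 1639208), (10, 1198987), (17, 1632906), (11, 1884604), (15, 6115500), (9, 8925574), (4, 872704), (8, 9785506), (1, 1065092), (22, 602153), (0, 9990148), (7, 1847296), (18, 9961508), (19, 8), (23, 1142820), (20, 90148), (5, 86016), (3, 4), (6, 2097152)])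
def d5 : List ℕ × List (ℕ × ℕ) := ([2, 2, 0, 2, 1, 2, 1, 1, 0, 1, 2], [(16, 1193470), (9, 3301), (19, 8525113), (23, 3434703), (20, 4476949), (17, 2107447), (22, 2376787), (0, 320754), (6, 321812), (11, 320954), (1, 288168), (3, 286980), (10, 33152), (18, 37040), (12, 16768), (4, 32800), (13, 33056), (14, 2097188), (15, 36), (5, 4), (21, 1732856), (2, 309522), (5, 9409745), (15, 9531856), (14, 8722627), (8, 10434073), (13, 269312), (7, 9379392), (4, 9378883), (12, 14615616), (18, 3082), (10, 10160131), (3, 515), (1, 1051200), (11, 513), (0, 10158080), (22, 8454144), (17, 9437696), (20, 8454656), (23, 589824), (19, 512)])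
def d6 : List ℕ × List (ℕ × ℕ) := ([1, 0, 1, 0, 2, 2, 1, 0, 1], [(1, 6279581), (14, 11646280), (22, 9349849), (4, 2309640), (13, 234756), (8, 8456365), (11, 8454156), (17, 4325), (15, 8651368), (20, 8459872), (12, 591405), (5, 10748101), (23, 2949832), (6, 1028), (18, 2622084), (19, 2163333), (7, 525), (9, 2098176), (0, 2097164), (21, 66568), (2, 1032), (16, 6321809), (3, 152838), (10, 13115703), (2, 8802883), (21, 1229107), (0, 8667776), (9, 5005746), (7, 12896306), (19, 4489536), (18, 8577298), (6, 153602), (23, 1071120), (5, 40960), (12, 1189888), (15, 155904), (17, 16386), (11, 256), (8, 4202514), (13, 4210706), (14, 2)])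
def d7 : List ℕ × List (ℕ × ℕ) := ([0, 1, 1, 0, 2, 2, 0, 0, 0, 0, 2, 0, 1, 2, 1], [(23, 1418702), (7, 1190716), (2, 2282057), (9, 4331586), (12, 1444107), (20, 2941290), (1, 6343024), (8, 6342721), (22, 2670593), (0, 526448), (4, 205824), (14, 926752), (3, 532576), (6, 2048), (10, 2664480), (16, 401408), (17, 262176), (18, 2662432), (5, 2654208), (13, 2621440), (15, 524288), (21, 524288), (19, 16178364), (21, 9529351), (15, 9592240), (13, 411660), (5, 5575124), (18, 12605149), (17, 4214343), (16, 13648007), (11, 1053258), (10, 4215690), (6, 1052948), (3, 5247361), (14, 4998), (4, 5247111), (0, 4194946), (22, 902), (8, 642), (1, 640), (12, 640), (9, 128), (2, 128)])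
def d8 : List ℕ × List (ℕ × ℕ) := ([2, 0, 1, 0, 2, 0, 2, 2], [(3, 5979328), (23, 1197750), (6, 6344499), (17, 54023), (1, 6886805), (16, 1599508), (21, 568213), (0, 304), (5, 4729364), (9, 5823764), (22, 44164), (20, 849936), (10, 305556), (8, 24708), (19, 280724), (15, 26628), (7, 278548), (2, 278528), (14, 16), (12, 8192), (13, 262144), (18, 5995822), (13, 7953473), (12, 15417737), (4, 6344039), (14, 7539468), (11, 8029610), (2, 3277954), (7, 688225), (15, 7405600), (19, 15794531), (8, 5309546), (10, 1245768), (20, 12780105), (22, 520), (9, 2293768), (5, 2293834), (0, 131146), (21, 196618), (1, 131080), (17, 8388608)])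
def d9 : List ℕ × List (ℕ × ℕ) := ([2, 0, 1, 2, 2, 2, 1, 2, 1, 1], [(17, 1640513), (20, 331580), (23, 2217346), (1, 2772), (9, 4510796), (7, 6931480), (10, 591941), (4, 2167085), (8, 2166785), (21, 641029), (22, 864320), (0, 647180), (2, 57416), (6, 905224), (3, 864256), (13, 905216), (12, 639008), (14, 327712), (18, 32), (5, 4653969), (18, 7918940), (16, 2237657), (15, 11679630), (14, 16386184), (19, 6300618), (12, 15871709), (13, 7475037), (11, 4194893), (3, 4325570), (6, 3277970), (2, 4325506), (0, 4195970), (22, 11667218), (21, 9569298), (8, 1180162), (4, 132608), (10, 131714), (7, 1048576), (9, 131072), (23, 1179648)])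
def d10 : List ℕ × List (ℕ × ℕ) := ([2, 2, 2, 0, 1, 1, 0, 0, 0, 2, 0], [(14, 143076), (2, 5256369), (15, 10423424), (5, 5249032), (22, 9445523), (13, 2954059), (18, 2232010), (17, 3740763), (0, 10034456), (10, 11082522), (4, 1645122), (7, 1645122), (11, 10027336), (12, 3145800), (19, 10486080), (9, 8388866), (8, 8388682), (6, 8388608), (20, 2097152), (23, 2097160), (21, 2), (3, 1450209), (1, 10940401), (21, 9030933), (23, 1068197), (20, 4624753), (6, 593153), (8, 454321), (9, 4598820), (16, 138405), (19, 423072), (12, 4342785), (11, 4194436), (7, 4326436), (4, 4326436), (10, 180224), (0, 319520), (17, 303104), (18, 4202500), (13, 32), (22, 49156)])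
def d11 : List ℕ × List (ℕ × ℕ) := ([2, 1, 0, 2, 0, 0, 1, 2, 2, 2], [(22, 625241), (3, 3413360), (2, 3413201), (4, 2299936), (19, 3554240), (16, 8574146), (5, 8583618), (20, 8678785), (21, 8696769), (6, 8816386), (18, 8525313), (10, 8534272), (8, 8532481), (23, 39043), (17, 53378), (11, 20993), (14, 36993), (0, 4738), (9, 32896), (13, 130), (15, 2), (1, 4549588), (15, 13708340), (7, 1401961), (13, 16468069), (9, 262213), (12, 12011528), (0, 5850376), (14, 3015000), (11, 263276), (17, 8389680), (23, 1835112), (8, 7405692), (10, 5832736), (18, 589916), (6, 2162748), (21, 1048616), (5, 589848), (16, 4718592), (19, 8)])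
def d12 : List ℕ × List (ℕ × ℕ) := ([0, 0, 0, 0, 0, 2, 0, 0], [(14, 14854147), (16, 4194607), (11, 417), (17, 1872449), (8, 6562548), (12, 8684720), (21, 4498483), (10, 1868478), (2, 1835018), (19, 12878379), (15, 4464666), (13, 13893633), (4, 13893707), (22, 9437890), (20, 8388675), (23, 262817), (1, 262185), (6, 262280), (0, 262144), (3, 544), (9, 3034575), (18, 5895291), (7, 2628708), (5, 1813788), (3, 3), (0, 8107090), (6, 2770182), (1, 2710548), (23, 610324), (20, 4302868), (22, 2274304), (4, 2101252), (13, 52228), (15, 2823424), (19, 2163716), (2, 2098432), (10, 88320), (21, 2048), (12, 133120), (16, 16384)])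
def d13 : List ℕ × List (ℕ × ℕ) := ([1, 1, 1, 0, 1, 2, 1, 0, 1], [(16, 4090125), (11, 1549), (10, 5546608), (9, 5558696), (4, 1835040), (17, 6091106), (21, 8445988), (12, 1859979), (23, 5013767), (2, 233), (6, 1089707), (5, 827785), (7, 1835018), (18, 540937), (0, 5767432), (19, 5242888), (22, 1073152), (3, 1064960), (14, 1089792), (8, 1048576), (15, 3108759), (13, 10639765), (20, 11275765), (8, 10572845), (14, 7278149), (3, 853091), (22, 2300501), (19, 10684640), (0, 1618), (18, 137284), (1, 5760), (7, 10487888), (5, 68672), (6, 10557444), (2, 66560), (23, 2169344), (12, 2166288), (21, 197136), (17, 65536), (4, 68608), (9, 66560), (10, 67584)])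
def d14 : List ℕ × List (ℕ × ℕ) := ([0, 0, 2, 0, 2, 0, 2, 1, 1, 1], [(23, 4437610), (5, 2743759), (19, 5379212), (6, 1245459), (8, 3207814), (14, 3154048), (13, 4425857), (9, 4), (21, 4198417), (0, 1245312), (7, 1285124), (10, 26), (12, 4622342), (1, 4358148), (2, 5341184), (15, 4456464), (22, 458768), (16, 1050632), (3, 1443840), (18, 131072), (4, 131072), (20, 13241690), (17, 12896548), (4, 909827), (11, 4847275), (18, 4843337), (3, 4321925), (16, 4220165), (22, 8950212), (15, 8409954), (2, 24578), (1, 550336), (12, 18081), (10, 532641), (7, 17185), (0, 320), (21, 8405856), (13, 16736), (14, 8388960), (6, 524320), (19, 8388640)])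
def d15 : List ℕ × List (ℕ × ℕ) := ([1, 1, 1, 2, 0, 2, 0, 2, 2, 2, 0], [(4, 2634538), (23, 7197962), (9, 7859266), (10, 1294688), (22, 1690087), (1, 3207552), (2, 399625), (11, 417), (3, 3207361), (7, 4055296), (18, 3850240), (5, 1294592), (21, 528385), (8, 729153), (0, 8192), (6, 1818624), (20, 671744), (12, 16384), (14, 565248), (15, 65536), (19, 8192), (13, 2036289), (19, 4312590), (17, 11637915), (16, 14998276), (15, 8408727), (14, 3147197), (12, 8388656), (20, 8651208), (6, 6555535), (0, 4196156), (8, 2099242), (21, 12848802), (5, 2), (18, 8388738), (7, 3086), (3, 2578), (2, 4194304), (22, 1040), (10, 512), (9, 16)])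
def d16 : List ℕ × List (ℕ × ℕ) := ([0, 1, 2, 1, 2, 1, 2, 0], [(15, 661715), (22, 723947), (18, 662665), (21, 659616), (23, 660570), (0, 2890), (14, 721562), (5, 1168), (7, 2578), (4, 1026), (16, 528130), (10, 2304), (12, 524546), (19, 131074), (1, 256), (13, 1048576), (20, 211092), (13, 4786668), (8, 2), (17, 4787937), (19, 65781), (12, 4194832), (10, 249), (16, 4194477), (4, 205), (7, 108), (5, 5), (23, 4194304), (13, 1048576), (1, 256)])
theorem ok0 : [d0].all (okStep gens) = true := by decide +kernel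
theorem ok1 : [d1].all (okStep gens) = true := by decide +kernel
theorem ok2 : [d2].all (okStep gens) = true := by decide +kernel
theorem ok3 : [d3].all (okStep gens) = true := by decide +kernel
theorem ok4 : [d4].all (okStep gens) = true := by decide +kernel
theorem ok5 : [d5].all (okStep gens) = true := by decide +kernel
theorem ok6 : [d6].all (okStep gens) = true := by decide +kernel
theorem ok7 : [d7].all (okStep gens) = true := by decide +kernel
theorem ok8 : [d8].all (okStep gens) = true := by decide +kernel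
theorem ok9 : [d9].all (okStep gens) = true := by decide +kernel
theorem ok10 : [d10].all (okStep gens) = true := by decide +kernel
theorem ok11 : [d11].all (okStep gens) = true := by decide +kernel
theorem ok12 : [d12].all (okStep gens) = true := by decide +kernel
theorem ok13 : [d13].all (okStep gens) = true := by decide +kernel
theorem ok14 : [d14].all (okStep gens) = true := by decide +kernel
theorem ok15 : [d15].all (okStep gens) = true := by decide +kernel
theorem ok16 : [d16].all (okStep gens) = true := by decide +kernel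

noncomputable def s0 : {v : ℕ // bfInitN 4 gens reps ws = v} := by
  refine ⟨?_, ?_⟩
  rotate_left
  conv => lhs; whnf

noncomputable def s1 : {v : ℕ // bfStepsN 4 [d0] s0.1 = v} := by
  refine ⟨?_, ?_⟩
  rotate_left
  conv => lhs; whnf

noncomputable def s2 : {v : ℕ // bfStepsN 4 [d1] s1.1 = v} := by
  refine ⟨?_, ?_⟩
  rotate_left
  conv => lhs; whnf

noncomputable def s3 : {v : ℕ // bfStepsN 4 [d2] s2.1 = v} := by
  refine ⟨?_, ?_⟩
  rotate_left
  conv => lhs; whnf

noncomputable def s4 : {v : ℕ // bfStepsN 4 [d3] s3.1 = v} := by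
  refine ⟨?_, ?_⟩
  rotate_left
  conv => lhs; whnf

noncomputable def s5 : {v : ℕ // bfStepsN 4 [d4] s4.1 = v} := by
  refine ⟨?_, ?_⟩
  rotate_left
  conv => lhs; whnf

noncomputable def s6 : {v : ℕ // bfStepsN 4 [d5] s5.1 = v} := by
  refine ⟨?_, ?_⟩
  rotate_left
  conv => lhs; whnf

noncomputable def s7 : {v : ℕ // bfStepsN 4 [d6] s6.1 = v} := by
  refine ⟨?_, ?_⟩
  rotate_left
  conv => lhs; whnf

noncomputable def s8 : {v : ℕ // bfStepsN 4 [d7] s7.1 = v} := by
  refine ⟨?_, ?_⟩
  rotate_left
  conv => lhs; whnf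

noncomputable def s9 : {v : ℕ // bfStepsN 4 [d8] s8.1 = v} := by
  refine ⟨?_, ?_⟩
  rotate_left
  conv => lhs; whnf

noncomputable def s10 : {v : ℕ // bfStepsN 4 [d9] s9.1 = v} := by
  refine ⟨?_, ?_⟩
  rotate_left
  conv => lhs; whnf

noncomputable def s11 : {v : ℕ // bfStepsN 4 [d10] s10.1 = v} := by
  refine ⟨?_, ?_⟩
  rotate_left
  conv => lhs; whnf

noncomputable def s12 : {v : ℕ // bfStepsN 4 [d11] s11.1 = v} := by
  refine ⟨?_, ?_⟩
  rotate_left
  conv => lhs; whnf

noncomputable def s13 : {v : ℕ // bfStepsN 4 [d12] s12.1 = v} := by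
  refine ⟨?_, ?_⟩
  rotate_left
  conv => lhs; whnf

noncomputable def s14 : {v : ℕ // bfStepsN 4 [d13] s13.1 = v} := by
  refine ⟨?_, ?_⟩
  rotate_left
  conv => lhs; whnf

noncomputable def s15 : {v : ℕ // bfStepsN 4 [d14] s14.1 = v} := by
  refine ⟨?_, ?_⟩
  rotate_left
  conv => lhs; whnf

noncomputable def s16 : {v : ℕ // bfStepsN 4 [d15] s15.1 = v} := by
  refine ⟨?_, ?_⟩
  rotate_left
  conv => lhs; whnf

noncomputable def s17 : {v : ℕ // bfStepsN 4 [d16] s16.1 = v} := by
  refine ⟨?_, ?_⟩
  rotate_left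
  conv => lhs; whnf

noncomputable def fin : ℕ := s17.1

theorem cnt_eq : (List.range 14).map (fun l => cntN n fin (l + 1)) = [15, 240, 26880, 13560, 3360, 430080, 215040, 245760, 3655680, 3440640, 261120, 98264, 16, 0] := by
  decide +kernel

theorem inv {Gd : Cl → ℕ → Prop} (hg : Cls Gd gens)
    (hr : ∀ r ∈ reps, r.1 < 2 ^ 24 ∧ r.2 < 2 ^ n ∧ Gd (cd r.1) r.2) : InvN Gd n fin := by
  have h0 : InvN Gd 4 s0.1 := s0.2 ▸ invN_init hg 4 hr ws
  have h1 : InvN Gd 4 s1.1 := s1.2 ▸ invN_steps hg ok0 h0
  have h2 : InvN Gd 4 s2.1 := s2.2 ▸ invN_steps hg ok1 h1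
  have h3 : InvN Gd 4 s3.1 := s3.2 ▸ invN_steps hg ok2 h2
  have h4 : InvN Gd 4 s4.1 := s4.2 ▸ invN_steps hg ok3 h3
  have h5 : InvN Gd 4 s5.1 := s5.2 ▸ invN_steps hg ok4 h4
  have h6 : InvN Gd 4 s6.1 := s6.2 ▸ invN_steps hg ok5 h5
  have h7 : InvN Gd 4 s7.1 := s7.2 ▸ invN_steps hg ok6 h6
  have h8 : InvN Gd 4 s8.1 := s8.2 ▸ invN_steps hg ok7 h7
  have h9 : InvN Gd 4 s9.1 := s9.2 ▸ invN_steps hg ok8 h8
  have h10 : InvN Gd 4 s10.1 := s10.2 ▸ invN_steps hg ok9 h9
  have h11 : InvN Gd 4 s11.1 := s11.2 ▸ invN_steps hg ok10 h10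
  have h12 : InvN Gd 4 s12.1 := s12.2 ▸ invN_steps hg ok11 h11
  have h13 : InvN Gd 4 s13.1 := s13.2 ▸ invN_steps hg ok12 h12
  have h14 : InvN Gd 4 s14.1 := s14.2 ▸ invN_steps hg ok13 h13
  have h15 : InvN Gd 4 s15.1 := s15.2 ▸ invN_steps hg ok14 h14
  have h16 : InvN Gd 4 s16.1 := s16.2 ▸ invN_steps hg ok15 h15
  have h17 : InvN Gd 4 s17.1 := s17.2 ▸ invN_steps hg ok16 h16
  exact h17

end

end CfsgMO.Bf4
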