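/-
Orbit enumeration for the axis number 5.
-/
import Cfsg.Agent.MO.BF

set_option autoImplicit false
set_option maxRecDepth 100000
set_option Elab.async false
set_option exponentiation.threshold 100000000

namespace CfsgMO.Bf5

noncomputable section

def n : ℕ := 5
def gens : List (List ℕ) := [[515, 2970, 958, 946, 3238, 719, 954, 2874, 3540, 952, 2986, 2048, 3410713, 5374166, 7625225, 1343521, 7346390, 3415565, 1045576, 6032650, 3152523, 5258266, 1116094, 14617277], [1, 2064, 8, 128, 3072, 32, 256, 2052, 4095, 2560, 2, 2048, 269844, 329342, 295547, 788163, 4460246, 395899, 1311928, 278697, 265400, 2359297, 270336, 15026022], [2932, 32, 726, 16, 1024, 2056, 3463, 512, 173, 373, 3868, 2048, 794170, 1461563, 1599211, 1124632, 5008358, 1868112, 1591431, 2120532, 533821, 1079910, 1319502, 10286101]]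
def reps : List (ℕ × ℕ) := [(8388608, 1), (15728640, 2), (11984896, 3), (13455360, 4), (12775424, 5), (12345344, 6), (3428354, 7), (4861955, 8), (7139356, 9), (9224419, 10), (15171615, 6), (4362494, 11), (9822461, 12), (12132382, 10), (4223301, 13), (12291, 9), (239563, 14), (119505, 15), (815624, 16), (643745, 9), (6697285, 17), (12512, 14), (94463, 7), (2065129, 17), (1106470, 7), (15373148, 14), (3257101, 9), (10720958, 18), (363041, 17), (502235, 18), (375455, 15), (211508, 14), (343146, 9), (14511986, 9), (285308, 19), (4172522, 17), (427615, 19), (1171, 20), (8192, 20), (49379, 20), (81920, 20), (150618, 20), (172285, 20), (317791, 20), (880640, 20), (1814528, 20), (1846439, 20), (1990657, 20), (7028736, 20), (8540162, 20), (10817761, 20)]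
def ws : List (List ℕ) := [[1, 1, 2, 2, 2, 1, 0], [1, 0, 0, 2, 1, 0, 1], [0, 0, 1, 0, 0, 1, 2], [1, 1, 1, 1, 2, 1, 2], [1, 2, 2, 1, 0, 2, 1], [0, 1, 2, 0, 2, 1, 2, 0], [1, 1, 0, 0, 1, 1], [1, 2, 0, 0, 1, 2]]
def d0 : List ℕ × List (ℕ × ℕ) := ([1, 2, 0, 2, 1, 0, 0, 0, 0, 1], [(13, 5199853), (20, 788499), (23, 2301063), (10, 219), (18, 2101824), (9, 212), (21, 2412), (1, 8), (3, 373), (22, 245857), (17, 82228), (2, 337), (14, 594129), (4, 353), (6, 160), (7, 289), (16, 557056), (19, 36864), (15, 3933531), (12, 2631224), (19, 2163730), (16, 3434887), (8, 1263), (5, 157), (0, 138), (7, 3166), (6, 2050), (4, 1034), (14, 2229760), (2, 3082), (17, 5516800), (22, 3149320), (3, 3074), (1, 1024), (9, 1024), (18, 1048576)])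
def d1 : List ℕ × List (ℕ × ℕ) := ([0, 2, 1, 0, 1, 0, 0, 1, 2, 0, 1, 1, 0], [(23, 6398199), (12, 1377235), (6, 2963), (13, 395417), (20, 7127052), (21, 5229357), (9, 3221), (10, 442), (14, 458809), (5, 19), (8, 2185), (18, 2177), (15, 196632), (19, 4194448), (7, 17), (17, 4194304), (22, 3607591), (17, 3147805), (16, 3671745), (4, 1409), (0, 2276), (7, 2596), (19, 2151946), (3, 3328), (1, 3328), (15, 3407876), (18, 3146308), (2, 1280), (8, 1024), (14, 576), (10, 512), (9, 64), (21, 1052736), (20, 8192), (17, 4194304), (16, 131072)])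
def d2 : List ℕ × List (ℕ × ℕ) := ([2, 2, 2, 2, 1, 1, 1, 2, 1, 1, 0, 2, 1, 2], [(23, 4728508), (18, 49769), (22, 3795172), (7, 331), (14, 173915), (12, 164211), (3, 835), (19, 41222), (9, 373), (16, 3318805), (13, 33872), (20, 164212), (1, 288), (17, 2131236), (21, 34164), (2, 80), (5, 272), (8, 16), (4, 1024), (15, 2390754), (10, 2845), (6, 2576), (4, 557), (8, 2605), (5, 2573), (2, 523), (21, 399874), (17, 1394691), (1, 2689), (20, 4197001), (13, 4213377), (0, 512), (16, 4997640), (9, 2056), (19, 4210816), (3, 2048), (12, 4196480), (14, 4196352)])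
def d3 : List ℕ × List (ℕ × ℕ) := ([2, 1, 2, 0, 1, 2, 1, 0, 1, 0], [(17, 5896231), (18, 524), (19, 6415582), (3, 181), (6, 1667), (16, 61696), (20, 4196245), (21, 4202770), (23, 4214915), (4, 128), (2, 161), (7, 32), (15, 4224288), (22, 29185), (13, 20736), (12, 16641), (0, 514), (14, 1536), (1, 1312), (10, 768), (8, 32), (5, 4044), (9, 1178), (8, 3081), (10, 2079), (1, 17), (14, 3440645), (0, 2048), (12, 3418332), (13, 5242904), (22, 3538972), (15, 327816), (7, 24), (4, 2056), (23, 2033736), (21, 393288), (20, 393224), (16, 524288), (18, 131072)])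
def d4 : List ℕ × List (ℕ × ℕ) := ([1, 2, 2, 2, 2, 2, 1, 1, 1, 2, 2], [(23, 1430773), (16, 1370372), (0, 214), (12, 1329540), (6, 1952), (18, 49166), (15, 5270938), (20, 27296), (13, 4341820), (17, 4735638), (19, 6294422), (8, 3738), (9, 172), (7, 44), (5, 12), (21, 4197388), (10, 20), (22, 18460), (2, 2050), (14, 2050), (1, 2056), (3, 16), (4, 2058), (3, 1030), (1, 36), (14, 4556161), (2, 416), (22, 3908576), (10, 929), (21, 734113), (5, 128), (7, 512), (9, 320), (8, 65), (19, 176193), (17, 1056769), (13, 32769), (20, 327680), (15, 65537)])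
def d5 : List ℕ × List (ℕ × ℕ) := ([0, 2, 2, 0, 1, 0, 1, 2], [(8, 64), (22, 3632339), (19, 2135140), (6, 11), (14, 1490057), (9, 3100), (23, 1381386), (15, 2101264), (16, 2109585), (17, 1315842), (1, 41), (0, 1084), (3, 148), (4, 1060), (5, 4), (12, 8192), (13, 1310720), (18, 1122631), (20, 4301165), (13, 4857332), (12, 4787284), (2, 3426), (10, 2522), (7, 2139), (5, 2370), (4, 2369), (3, 771), (0, 2370), (21, 559104), (1, 2368), (17, 116992), (16, 559360), (15, 524288), (23, 832), (14, 320), (19, 4194304), (22, 256)])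
def d6 : List ℕ × List (ℕ × ℕ) := ([2, 0, 0, 0, 1, 0, 1, 1, 0], [(15, 7496072), (5, 1165), (8, 2583), (21, 5910666), (2, 1746), (12, 593497), (19, 5728336), (18, 4402200), (22, 1142403), (4, 3081), (1, 3072), (3, 1), (9, 192), (10, 2176), (6, 2177), (7, 2049), (13, 147456), (20, 212993), (14, 131072), (17, 5269454), (16, 6869931), (14, 3971601), (0, 3294), (23, 8170068), (20, 4491496), (13, 6820952), (7, 1632), (6, 292), (10, 534), (9, 62), (3, 48), (1, 32), (4, 260), (22, 524324), (18, 2625828), (19, 37124), (12, 33056), (2, 32), (21, 32800)])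
def d7 : List ℕ × List (ℕ × ℕ) := ([2, 1, 2, 2, 2, 2, 1, 2, 1, 2, 2], [(12, 272710), (18, 1091440), (16, 44536), (9, 1308), (20, 33166), (2, 3336), (23, 2130209), (13, 50314), (14, 2098378), (15, 2622560), (19, 6291466), (1, 192), (3, 1408), (8, 64), (5, 128), (7, 1024), (17, 6291456), (22, 2097152), (21, 6070013), (22, 132699), (17, 584925), (10, 160), (7, 32), (5, 2570), (6, 2304), (8, 2073), (3, 2562), (1, 516), (19, 35328), (15, 1335313), (14, 1325072), (13, 1312785), (0, 20), (23, 262164), (2, 528), (20, 262144), (17, 4194304), (7, 1024), (5, 1024), (3, 32), (1, 32)])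
def d8 : List ℕ × List (ℕ × ℕ) := ([0, 2, 2, 1, 1, 0, 2, 1, 1], [(22, 1012671), (4, 2341), (16, 3151044), (19, 2549346), (0, 2688), (23, 3591374), (1, 64), (12, 1049060), (8, 712), (3, 672), (13, 3146404), (6, 1572), (2, 1536), (21, 411136), (5, 1536), (17, 1344512), (9, 1152), (15, 1064960), (14, 262144), (20, 4507471), (18, 4309534), (14, 230624), (15, 2235460), (7, 1636), (10, 2636), (9, 2148), (17, 6297630), (5, 64), (21, 4792333), (2, 64), (6, 267), (13, 71961), (3, 275), (8, 2051), (12, 2065), (1, 2048), (23, 4718593)])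
def d9 : List ℕ × List (ℕ × ℕ) := ([2, 1, 0, 1, 2, 0, 2, 1, 1], [(16, 4464818), (23, 1352062), (14, 4465708), (7, 331), (8, 75), (3, 54), (0, 544), (12, 262722), (18, 5244484), (19, 612), (22, 41060), (5, 1090), (6, 514), (13, 2130434), (9, 1024), (15, 1049602), (20, 132098), (1, 1024), (17, 2097152), (21, 4364121), (17, 308910), (10, 2942), (1, 2172), (20, 4844088), (15, 4459160), (9, 352), (13, 4200572), (6, 436), (5, 21), (2, 256), (22, 262280), (19, 262528), (18, 2432), (12, 2177), (4, 256), (17, 2097152), (1, 1024)])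
def d10 : List ℕ × List (ℕ × ℕ) := ([2, 2, 2, 1, 2, 2, 0, 2, 0, 1], [(12, 8085935), (23, 2539593), (9, 2304), (8, 3123), (13, 7980254), (19, 7850067), (15, 5721098), (4, 2149), (14, 1117376), (10, 2083), (17, 5310541), (22, 1050854), (5, 64), (16, 1048774), (6, 10), (18, 128), (1, 12), (2, 8), (3, 128), (7, 3387), (3, 3381), (2, 336), (1, 1361), (20, 4253009), (18, 248096), (6, 1), (16, 181281), (5, 1297), (22, 140561), (17, 33808), (10, 256), (14, 40976), (15, 2621440)])
def d11 : List ℕ × List (ℕ × ℕ) := ([0, 0, 2, 2, 2, 0, 0, 2, 1, 2, 2], [(23, 7651450), (14, 4468694), (6, 3775), (9, 3210), (2, 256), (13, 3899833), (22, 34073), (12, 263200), (17, 1672353), (0, 1418), (1, 400), (3, 1328), (5, 256), (8, 144), (15, 3473408), (16, 3932160), (19, 3145728), (21, 262144), (18, 2236778), (21, 5898083), (20, 4966342), (19, 93750), (16, 4253166), (15, 11484), (10, 424), (7, 2304), (4, 2304), (8, 588), (5, 2570), (3, 514), (1, 2564), (0, 2112), (17, 20992), (12, 576), (13, 16964),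 (9, 64), (15, 65536), (3, 32)])
def d12 : List ℕ × List (ℕ × ℕ) := ([2, 1, 2, 1, 0, 1, 0, 0, 2, 0], [(14, 5747414), (8, 3289), (22, 4173000), (10, 2269), (12, 262777), (2, 128), (15, 1515562), (23, 1179755), (13, 786648), (16, 4063242), (7, 16), (18, 524305), (19, 1179705), (20, 131665), (0, 544), (1, 16), (3, 608), (4, 608), (9, 64), (6, 32), (17, 2097152), (21, 417124), (17, 2853), (5, 3793), (6, 2714), (9, 1428), (4, 3468), (3, 385), (1, 3460), (20, 786688), (19, 71808), (18, 19456), (7, 3332), (16, 48128), (13, 18432), (23, 4215044), (15, 4217856), (2, 1280), (12, 2304), (10, 256), (17, 2097152)])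
def d13 : List ℕ × List (ℕ × ℕ) := ([2, 2, 1, 1, 2, 0, 1, 0, 1, 0, 2, 2, 2], [(21, 1706274), (8, 3207), (19, 1344226), (23, 4448994), (0, 2592), (4, 2758), (20, 439396), (1, 708), (5, 588), (3, 1088), (6, 1668), (7, 516), (9, 1028), (12, 271360), (17, 303104), (2, 1024), (13, 98304), (15, 327680), (14, 4194304), (22, 3037980), (14, 1808199), (18, 1807333), (16, 2241804), (15, 3679790), (13, 3149467), (10, 2052), (17, 1053361), (12, 2585), (9, 2088), (7, 2120), (6, 2082), (3, 2352), (5, 2321), (1, 16), (20, 2621441), (14, 4194304), (13, 32768), (2, 1024)])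
def d14 : List ℕ × List (ℕ × ℕ) := ([2, 1, 2, 1, 2, 2, 2, 0, 1], [(15, 8061473), (1, 1672), (20, 2110276), (22, 3089113), (3, 2037), (8, 1157), (2, 720), (21, 524977), (5, 1216), (0, 640), (18, 17040), (4, 1216), (10, 640), (14, 536576), (23, 131072), (19, 208896), (13, 770220), (12, 3113357), (17, 1622116), (16, 2656555), (19, 5539024), (9, 3570), (23, 4457664), (14, 2393165), (7, 2418), (6, 3079), (10, 10), (4, 258), (18, 1081637), (5, 2306), (21, 1081348), (2, 2056), (8, 8), (3, 2048), (22, 2050), (20, 32770)])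
def d15 : List ℕ × List (ℕ × ℕ) := ([1, 0, 1, 2, 2, 1, 2, 1, 1, 2, 0, 2, 1], [(17, 3532661), (9, 1075), (4, 3115), (12, 5246051), (23, 5080367), (10, 326), (19, 6676904), (6, 2218), (20, 6414378), (18, 6414507), (13, 6389920), (21, 43), (2, 395), (3, 2), (14, 4259872), (22, 65536), (1, 384), (7, 256), (15, 65536), (16, 819885), (8, 2162), (15, 3026564), (7, 2106), (5, 1117), (1, 2069), (22, 1075280), (14, 1189897), (3, 2064), (0, 2048), (2, 1088), (21, 2048), (13, 1048576), (18, 525312), (20, 524288), (23, 4624), (12, 131584)])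
def d16 : List ℕ × List (ℕ × ℕ) := ([0, 0, 0, 1, 1, 0, 1, 0, 1, 1, 0, 1], [(19, 2398), (14, 1408), (16, 672), (17, 3867), (15, 1248), (12, 352), (13, 672), (20, 677), (18, 649), (21, 2418), (22, 44), (23, 160), (4, 2048), (1, 2048), (23, 74240)])
theorem ok0 : [d0].all (okStep gens) = true := by decide +kernel
theorem ok1 : [d1].all (okStep gens) = true := by decide +kernel
theorem ok2 : [d2].all (okStep gens) = true := by decide +kernel
theorem ok3 : [d3].all (okStep gens) = true := by decide +kernel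
theorem ok4 : [d4].all (okStep gens) = true := by decide +kernel
theorem ok5 : [d5].all (okStep gens) = true := by decide +kernel
theorem ok6 : [d6].all (okStep gens) = true := by decide +kernel
theorem ok7 : [d7].all (okStep gens) = true := by decide +kernel
theorem ok8 : [d8].all (okStep gens) = true := by decide +kernel
theorem ok9 : [d9].all (okStep gens) = true := by decide +kernel
theorem ok10 : [d10].all (okStep gens) = true := by decide +kernel
theorem ok11 : [d11].all (okStep gens) = true := by decide +kernel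
theorem ok12 : [d12].all (okStep gens) = true := by decide +kernel
theorem ok13 : [d13].all (okStep gens) = true := by decide +kernel
theorem ok14 : [d14].all (okStep gens) = true := by decide +kernel
theorem ok15 : [d15].all (okStep gens) = true := by decide +kernel
theorem ok16 : [d16].all (okStep gens) = true := by decide +kernel

noncomputable def s0 : {v : ℕ // bfInitN 5 gens reps ws = v} := by
  refine ⟨?_, ?_⟩
  rotate_left
  conv => lhs; whnf

noncomputable def s1 : {v : ℕ // bfStepsN 5 [d0] s0.1 = v} := by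
  refine ⟨?_, ?_⟩
  rotate_left
  conv => lhs; whnf

noncomputable def s2 : {v : ℕ // bfStepsN 5 [d1] s1.1 = v} := by
  refine ⟨?_, ?_⟩
  rotate_left
  conv => lhs; whnf

noncomputable def s3 : {v : ℕ // bfStepsN 5 [d2] s2.1 = v} := by
  refine ⟨?_, ?_⟩
  rotate_left
  conv => lhs; whnf

noncomputable def s4 : {v : ℕ // bfStepsN 5 [d3] s3.1 = v} := by
  refine ⟨?_, ?_⟩
  rotate_left
  conv => lhs; whnf

noncomputable def s5 : {v : ℕ // bfStepsN 5 [d4] s4.1 = v} := by
  refine ⟨?_, ?_⟩
  rotate_left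
  conv => lhs; whnf

noncomputable def s6 : {v : ℕ // bfStepsN 5 [d5] s5.1 = v} := by
  refine ⟨?_, ?_⟩
  rotate_left
  conv => lhs; whnf

noncomputable def s7 : {v : ℕ // bfStepsN 5 [d6] s6.1 = v} := by
  refine ⟨?_, ?_⟩
  rotate_left
  conv => lhs; whnf

noncomputable def s8 : {v : ℕ // bfStepsN 5 [d7] s7.1 = v} := by
  refine ⟨?_, ?_⟩
  rotate_left
  conv => lhs; whnf

noncomputable def s9 : {v : ℕ // bfStepsN 5 [d8] s8.1 = v} := by
  refine ⟨?_, ?_⟩
  rotate_left
  conv => lhs; whnf

noncomputable def s10 : {v : ℕ // bfStepsN 5 [d9] s9.1 = v} := by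
  refine ⟨?_, ?_⟩
  rotate_left
  conv => lhs; whnf

noncomputable def s11 : {v : ℕ // bfStepsN 5 [d10] s10.1 = v} := by
  refine ⟨?_, ?_⟩
  rotate_left
  conv => lhs; whnf

noncomputable def s12 : {v : ℕ // bfStepsN 5 [d11] s11.1 = v} := by
  refine ⟨?_, ?_⟩
  rotate_left
  conv => lhs; whnf

noncomputable def s13 : {v : ℕ // bfStepsN 5 [d12] s12.1 = v} := by
  refine ⟨?_, ?_⟩
  rotate_left
  conv => lhs; whnf

noncomputable def s14 : {v : ℕ // bfStepsN 5 [d13] s13.1 = v} := by
  refine ⟨?_, ?_⟩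
  rotate_left
  conv => lhs; whnf

noncomputable def s15 : {v : ℕ // bfStepsN 5 [d14] s14.1 = v} := by
  refine ⟨?_, ?_⟩
  rotate_left
  conv => lhs; whnf

noncomputable def s16 : {v : ℕ // bfStepsN 5 [d15] s15.1 = v} := by
  refine ⟨?_, ?_⟩
  rotate_left
  conv => lhs; whnf

noncomputable def s17 : {v : ℕ // bfStepsN 5 [d16] s16.1 = v} := by
  refine ⟨?_, ?_⟩
  rotate_left
  conv => lhs; whnf

noncomputable def fin : ℕ := s17.1

theorem cnt_eq : (List.range 22).map (fun l => cntN n fin (l + 1)) = [1, 660, 1320, 330, 440, 254232, 95744, 10560, 1823360, 88704, 21120, 42240, 1408, 3227136, 1064448, 42240, 805376, 137216, 675840, 98280, 0, 0] := by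
  decide +kernel

theorem inv {Gd : Cl → ℕ → Prop} (hg : Cls Gd gens)
    (hr : ∀ r ∈ reps, r.1 < 2 ^ 24 ∧ r.2 < 2 ^ n ∧ Gd (cd r.1) r.2) : InvN Gd n fin := by
  have h0 : InvN Gd 5 s0.1 := s0.2 ▸ invN_init hg 5 hr ws
  have h1 : InvN Gd 5 s1.1 := s1.2 ▸ invN_steps hg ok0 h0
  have h2 : InvN Gd 5 s2.1 := s2.2 ▸ invN_steps hg ok1 h1
  have h3 : InvN Gd 5 s3.1 := s3.2 ▸ invN_steps hg ok2 h2
  have h4 : InvN Gd 5 s4.1 := s4.2 ▸ invN_steps hg ok3 h3
  have h5 : InvN Gd 5 s5.1 := s5.2 ▸ invN_steps hg ok4 h4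
  have h6 : InvN Gd 5 s6.1 := s6.2 ▸ invN_steps hg ok5 h5
  have h7 : InvN Gd 5 s7.1 := s7.2 ▸ invN_steps hg ok6 h6
  have h8 : InvN Gd 5 s8.1 := s8.2 ▸ invN_steps hg ok7 h7
  have h9 : InvN Gd 5 s9.1 := s9.2 ▸ invN_steps hg ok8 h8
  have h10 : InvN Gd 5 s10.1 := s10.2 ▸ invN_steps hg ok9 h9
  have h11 : InvN Gd 5 s11.1 := s11.2 ▸ invN_steps hg ok10 h10
  have h12 : InvN Gd 5 s12.1 := s12.2 ▸ invN_steps hg ok11 h11
  have h13 : InvN Gd 5 s13.1 := s13.2 ▸ invN_steps hg ok12 h12
  have h14 : InvN Gd 5 s14.1 := s14.2 ▸ invN_steps hg ok13 h13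
  have h15 : InvN Gd 5 s15.1 := s15.2 ▸ invN_steps hg ok14 h14
  have h16 : InvN Gd 5 s16.1 := s16.2 ▸ invN_steps hg ok15 h15
  have h17 : InvN Gd 5 s17.1 := s17.2 ▸ invN_steps hg ok16 h16
  exact h17

end

end CfsgMO.Bf5
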