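/-
Orbit enumeration for the axis number 6.
-/
import Cfsg.Agent.MO.BF

set_option autoImplicit false
set_option maxRecDepth 100000
set_option Elab.async false
set_option exponentiation.threshold 100000000

namespace CfsgMO.Bf6

noncomputable section

def n : ℕ := 5
def gens : List (List ℕ) := [[2047, 1266, 1423, 3479, 615, 3527, 1287, 3495, 3921, 1415, 3370, 2048, 6299905, 5243529, 3198974, 3241989, 4224527, 7603281, 1585699, 2242794, 21445, 7316462, 5269743, 12025601], [4095, 3877, 323, 1623, 2395, 363, 267, 459, 3276, 3764, 1400, 2048, 1041404, 13932, 3210021, 5266587, 6388309, 3281059, 6565057, 5777029, 2113536, 8359290, 4212239, 11625295], [4728, 1038148, 128544, 931336, 930052, 127296, 130784, 128640, 1039612, 1043452, 1048368, 1792, 4186048, 6296087, 11678248, 6387096, 4172131, 12247515, 12515756, 15267372, 4114250, 6359270, 6357088, 16421889], [6302575, 12923, 12772653, 13443593, 12774709, 13444457, 12774757, 12772613, 4190762, 5258592, 7327662, 1034444, 1034035, 5258377, 4156910, 9241239,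 6215596, 9091263, 1338675, 8235537, 10320991, 15892502, 12747812, 13285671]]
def reps : List (ℕ × ℕ) := [(8388608, 1), (11743232, 2), (12607488, 3), (12775424, 4), (12156928, 2), (10137600, 5), (8491008, 5), (9027584, 6), (1258001, 7), (356872, 8), (8626959, 9), (2065129, 10), (608184, 11), (239563, 11), (442580, 11), (6112644, 12), (119505, 13), (12641085, 14), (976480, 15), (767050, 13), (12489040, 14), (1135746, 15), (74195, 12), (1171, 16), (1955, 16), (9192, 16), (33697, 16), (81920, 16), (196608, 16), (217196, 16), (2228224, 16), (4419584, 16), (7028736, 16), (8781824, 17)]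
def ws : List (List ℕ) := [[0, 3, 0, 0, 1, 0, 1], [1, 2, 3, 1, 2, 0], [2, 1, 1, 0, 3, 3, 1, 2], [3, 2, 2, 1, 1, 2, 2, 1], [1, 0, 2, 3, 0, 1, 1, 1, 1, 2], [3, 2, 3, 3, 0, 1, 2], [1, 3, 1, 1, 2, 3], [3, 2, 1, 3, 0, 2, 0, 2], [1, 1, 0, 3, 1, 3, 2, 2, 0]]
def d0 : List ℕ × List (ℕ × ℕ) := ([2, 2, 3, 2, 1, 1, 0, 1], [(1, 6305965), (17, 14470885), (2, 6158689), (6, 13697297), (20, 9197848), (7, 5068809), (12, 9728), (9, 5062697), (10, 10520), (19, 12601601), (3, 2336), (11, 12689681), (5, 16), (13, 4489489), (4, 12681473), (14, 14778368), (16, 14712832), (18, 10518529), (21, 8421377), (22, 8421377), (0, 6030940), (23, 3395942), (15, 4199622), (22, 272502), (21, 1326652), (18, 553242), (16, 3854), (14, 534474), (8, 1581168), (4, 536194), (13, 1711144), (5, 138818), (11, 131212), (3, 5830), (19, 5312), (10, 4096), (9, 1052736), (7, 1048582), (20, 131138), (6, 6), (2, 131074)])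
def d1 : List ℕ × List (ℕ × ℕ) := ([3, 1, 0, 2, 2, 2, 2, 3], [(9, 5254186), (10, 3152179), (14, 12790038), (13, 10258928), (7, 1015876), (15, 6295837), (8, 16519197), (16, 8257590), (1, 16517221), (18, 9574468), (17, 8917009), (11, 1048677), (2, 112), (20, 524337), (5, 524368), (3, 524288), (6, 524288), (22, 8916992), (23, 2625552), (21, 9258236), (19, 1254328), (4, 9843403), (12, 5721312), (0, 5661698), (23, 214218), (22, 1355328), (6, 117538), (3, 117538), (5, 1083780), (20, 132612), (2, 117506), (11, 82562), (17, 321410), (18, 83328), (1, 50688), (16, 17792), (8, 50176), (15, 18048), (7, 16896), (13, 17408)])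
def d2 : List ℕ × List (ℕ × ℕ) := ([2, 1, 3, 2, 3, 0, 3, 3, 3, 1, 3, 0, 0, 1], [(16, 3174750), (17, 12325785), (18, 5250925), (19, 10122), (3, 11535445), (13, 8424343), (1, 3147761), (0, 6295376), (2, 13632112), (20, 14703808), (23, 50304), (5, 2117840), (4, 2120064), (6, 2118016), (8, 6326400), (15, 4200448), (10, 2099328), (7, 16384), (9, 6144), (14, 2099200), (21, 4194304), (22, 12555228), (21, 1281582), (11, 1307129), (14, 2078606), (12, 1279007), (9, 8539), (7, 819493), (10, 1286516), (15, 1245534), (8, 1245231), (6, 786469), (4, 786469), (5, 2039820), (23, 139277), (20, 786432), (2, 991233), (13, 196608), (3, 786432), (21, 4194304)])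
def d3 : List ℕ × List (ℕ × ℕ) := ([1, 3, 0, 2, 2, 2, 0, 0], [(15, 16602026), (20, 4262058), (14, 1481), (21, 4263783), (12, 3502), (0, 162), (19, 13045446), (18, 134700), (17, 8390592), (23, 994), (2, 67552), (9, 4196656), (22, 68784), (11, 232), (3, 66848), (5, 64), (6, 128), (13, 66560), (16, 1408), (4, 1024), (10, 4364791), (4, 4278373), (8, 6522884), (7, 7424005), (16, 2663), (13, 4360236), (6, 7356461), (5, 7358477), (3, 7358469), (22, 512), (9, 1212420), (2, 184322), (23, 1839104), (17, 278529), (18, 3674113), (0, 3145728), (12, 3145728), (4, 1024)])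
def d4 : List ℕ × List (ℕ × ℕ) := ([0, 0, 0, 0, 1, 0, 3, 3, 2, 1, 2, 1, 3], [(6, 3052457), (3, 2186113), (22, 3078166), (14, 9643170), (7, 10265634), (18, 9603095), (2, 666641), (16, 9967616), (17, 2131968), (4, 12063778), (0, 2107392), (21, 9475586), (9, 8426498), (11, 256), (19, 40992), (8, 9250), (10, 8224), (1, 9474080), (5, 9474048), (20, 4096), (15, 8392704), (12, 7981259), (23, 1886545), (15, 674534), (13, 3952552), (20, 82733), (5, 2245963), (1, 5049804), (10, 4653952), (8, 5195792), (19, 344132), (11, 2490437), (9, 2097152), (21, 4587589), (0, 4260036), (4, 16388), (17, 4194444), (16, 204), (2, 262336), (18, 4194368), (7, 16392), (14, 72)])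
def d5 : List ℕ × List (ℕ × ℕ) := ([3, 0, 1, 1, 1, 1, 0, 2, 1, 1, 2], [(7, 128352), (12, 6278219), (13, 7324695), (8, 5244431), (2, 3261048), (16, 6179865), (3, 4063824), (20, 3031043), (17, 8962130), (22, 2131970), (5, 64), (9, 19520), (18, 575505), (4, 8932355), (10, 8962114), (14, 8390659), (15, 8388608), (11, 8912962), (23, 2621441), (19, 2097152), (6, 2097155), (0, 16737268), (1, 15688176), (21, 9835664), (6, 8390816), (19, 9957016), (23, 489608), (11, 115004), (15, 5652504), (14, 275480), (10, 1511592), (4, 5713956), (18, 5386504), (9, 5308588), (5, 12292), (22, 1060864), (17, 4480), (20, 77836), (3, 12288), (16, 128), (2, 12288), (8, 4096)])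
def d6 : List ℕ × List (ℕ × ℕ) := ([1, 2, 2, 0, 1, 3, 1, 3, 3, 1], [(9, 6295849), (21, 2053622), (8, 37029), (23, 504063), (0, 45256), (15, 2051122), (13, 2054366), (1, 6248492), (14, 5119048), (19, 1055860), (11, 65640), (16, 4325384), (4, 4457484), (17, 196), (3, 4199588), (22, 1314880), (18, 1052832), (20, 4324), (6, 32), (12, 132), (10, 2300236), (7, 10496021), (5, 10543191), (2, 11857995), (12, 6351123), (6, 15147025), (20, 4245778), (18, 4270337), (22, 2105873), (3, 8413971), (17, 8505345), (4, 10496001), (16, 8915459), (11, 49154), (19, 1), (14, 8962), (1, 2138880), (13, 2130177), (0, 2097152), (8, 2097664)])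
def d7 : List ℕ × List (ℕ × ℕ) := ([3, 2, 0, 1, 2, 0, 3, 3, 1, 0, 0, 2, 1], [(17, 7959462), (3, 2184887), (9, 2467), (16, 1349697), (1, 6295888), (22, 11283921), (20, 9199809), (21, 295109), (23, 546960), (10, 286917), (2, 288848), (0, 315392), (19, 51536), (4, 6624), (7, 37120), (11, 286784), (14, 32800), (18, 12544), (8, 36896), (12, 32768), (13, 32768), (15, 14944975), (13, 11883053), (12, 12584258), (5, 9571658), (8, 12864578), (6, 2574870), (18, 608922), (14, 7408145), (11, 11601436), (7, 2294294), (4, 7406598), (19, 11665934), (0, 11535872), (2, 12583434), (10, 12583426), (23, 6422538), (21, 1114114), (20, 197120), (22, 520), (16, 131584)])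
def d8 : List ℕ × List (ℕ × ℕ) := ([2, 1, 1, 0, 2, 3, 0, 1, 0, 3, 2, 1, 1, 1], [(21, 999988), (7, 9612862), (17, 4550926), (12, 9000), (4, 10317350), (1, 13454413), (14, 5275908), (6, 2080), (15, 5835300), (18, 1050881), (23, 592648), (16, 4726824), (10, 5769989), (8, 10784), (20, 4194341), (11, 533024), (2, 532992), (19, 8736), (0, 8192), (3, 8736), (13, 32), (5, 14579868), (13, 14009934), (9, 14540182), (3, 1573014), (0, 14013828), (22, 9425154), (19, 10604566), (2, 1090), (11, 1154), (20, 132304), (8, 2199570), (10, 2232464), (16, 8699968), (23, 2490368), (18, 49280), (15, 131280), (6, 128), (14, 2101394), (1, 128)])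
def d9 : List ℕ × List (ℕ × ℕ) := ([3, 2, 3, 0, 3, 0, 0, 0, 2, 1, 1, 1, 3], [(15, 3086528), (23, 5198380), (2, 6117691), (5, 8193739), (8, 5057618), (6, 16), (16, 5143058), (20, 2239123), (7, 16), (3, 2252306), (10, 6453776), (1, 4196368), (17, 4202497), (12, 2115585), (0, 2121744), (18, 4204560), (19, 4219408), (13, 4196880), (14, 4196352), (4, 4196864), (21, 2048), (22, 3235952), (11, 1294413), (9, 3281174), (21, 1303794), (4, 9659459), (14, 9273548), (13, 37896), (19, 201804), (18, 234827), (0, 1213928), (12, 1081388), (17, 9535906), (1, 65992), (10, 98372), (3, 9437668), (7, 8421380), (20, 98336), (6, 8421380), (8, 32772), (5, 8388608), (2, 8421376)])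
def d10 : List ℕ × List (ℕ × ℕ) := ([3, 0, 0, 1, 2, 2, 1, 3, 3, 0, 1, 1, 3, 1, 3], [(1, 6295480), (8, 6286548), (22, 4125793), (13, 3071668), (12, 2017817), (11, 1032232), (16, 3032773), (19, 11715713), (5, 410636), (7, 64), (15, 9715792), (14, 3146332), (6, 8651777), (18, 8520193), (23, 2098189), (21, 1041), (0, 1180696), (2, 1180680), (10, 520), (17, 24), (4, 5119080), (3, 14390400), (20, 4572678), (17, 12711812), (9, 9282722), (10, 911686), (2, 11372865), (0, 12607840), (21, 8755680), (23, 4833344), (18, 4845602), (6, 4837536), (14, 628992), (15, 4796416), (7, 4724768), (5, 4722688), (19, 4265986), (16, 12288), (12, 8448), (13, 4194304)])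
def d11 : List ℕ × List (ℕ × ℕ) := ([2, 1, 2, 2, 1, 3, 2, 3, 2, 2, 0], [(2, 10237827), (22, 10723203), (5, 10238107), (1, 3148824), (20, 3132609), (11, 1034176), (17, 13704), (21, 8504832), (18, 8491409), (8, 8930376), (15, 8918040), (13, 4169), (9, 1169), (4, 4224), (23, 20480), (10, 528384), (0, 594048), (3, 4224), (12, 524480), (6, 128), (7, 589824), (16, 524288), (19, 7840048), (16, 12766082), (7, 2228299), (14, 15776533), (12, 10617606), (3, 2370306), (0, 13929510), (10, 9440018), (23, 6458166), (4, 2368258), (9, 1058818), (13, 3276832), (15, 3279106), (8, 395264), (18, 4325378), (21, 4325412), (17, 1048580), (20, 4194310), (22, 4), (6, 128)])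
def d12 : List ℕ × List (ℕ × ℕ) := ([2, 3, 0, 3, 3, 2, 3, 1], [(7, 8599364), (23, 7706235), (4, 1036132), (18, 1636201), (6, 2080), (19, 7536420), (8, 3150336), (0, 6298662), (20, 142374), (21, 4425732), (22, 207876), (1, 2060), (9, 176168), (5, 11272), (15, 71680), (17, 83976), (16, 30724), (13, 22540), (2, 23560), (10, 8), (3, 4096), (12, 26963), (11, 25720), (14, 4563005), (3, 11174517), (10, 3572004), (2, 8416), (13, 2163538), (16, 12321105), (17, 15761520), (15, 3146017), (5, 14156611), (9, 14156162), (1, 4456705), (22, 12058880), (21, 10223952), (20, 262529), (0, 272), (19, 16), (6, 128), (4, 128)])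
def d13 : List ℕ × List (ℕ × ℕ) := ([1, 3, 0, 1, 1, 3, 3, 0, 3, 1], [(21, 13765708), (20, 9290502), (3, 4252822), (11, 240), (16, 13390884), (18, 145127), (23, 50610), (19, 4244901), (2, 2016), (4, 4252802), (1, 4216800), (12, 41761), (5, 131457), (13, 4375232), (6, 128), (22, 50944), (14, 164609), (8, 1), (17, 129), (0, 33920), (7, 1024), (10, 141524), (7, 8489079), (15, 6381855), (0, 2165508), (17, 11014974), (8, 8752), (9, 4182), (14, 12662830), (22, 77856), (6, 8458276), (13, 4130), (5, 8460292), (12, 10), (1, 1116176), (4, 2052), (2, 2056), (19, 9699328), (23, 1312776), (18, 3147776), (16, 2097160)])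
def d14 : List ℕ × List (ℕ × ℕ) := ([3, 2, 0, 3, 0, 0, 2, 3, 1, 2, 2], [(9, 3155201), (3, 10332230), (11, 10633367), (6, 10633363), (4, 4186241), (13, 7328160), (5, 15880450), (17, 12075271), (22, 9212037), (7, 8683524), (2, 11370499), (16, 37890), (8, 8687616), (12, 2621441), (19, 2409475), (18, 9454594), (20, 10503168), (14, 10518531), (23, 32768), (0, 1024), (1, 2129920), (21, 8799747), (15, 8417970), (10, 1202742), (1, 5393237), (0, 5775396), (23, 989208), (14, 5321060), (20, 526432), (18, 537376), (19, 4337768), (12, 131704), (8, 4333600), (16, 10752), (2, 4333760), (7, 4325416), (22, 8752), (17, 10840), (5, 8720), (13, 72), (4, 2632), (6, 2056), (11, 520)])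
def d15 : List ℕ × List (ℕ × ℕ) := ([1, 3, 3, 3, 0, 2, 3, 2, 2, 0, 3, 0, 0, 3], [(23, 7296729), (16, 47089), (18, 3161127), (10, 10776), (19, 2668), (21, 5433703), (11, 4235489), (13, 4231661), (9, 280), (1, 1081485), (8, 4227321), (2, 1069257), (20, 16624), (3, 16), (0, 4378848), (12, 4374704), (4, 4374720), (5, 4227264), (14, 192), (15, 4325376), (22, 87781), (17, 8445669), (7, 11584513), (6, 11584513), (15, 12348725), (14, 2176829), (5, 9250077), (4, 10292233), (12, 4009733), (0, 3154188), (3, 10486788), (20, 2886662), (2, 9240832), (8, 2959872), (1, 8192), (9, 2957312), (13, 2949120), (11, 2949120), (21, 787456), (19, 1024)])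
theorem ok0 : [d0].all (okStep gens) = true := by decide +kernel
theorem ok1 : [d1].all (okStep gens) = true := by decide +kernel
theorem ok2 : [d2].all (okStep gens) = true := by decide +kernel
theorem ok3 : [d3].all (okStep gens) = true := by decide +kernel
theorem ok4 : [d4].all (okStep gens) = true := by decide +kernel
theorem ok5 : [d5].all (okStep gens) = true := by decide +kernel
theorem ok6 : [d6].all (okStep gens) = true := by decide +kernel
theorem ok7 : [d7].all (okStep gens) = true := by decide +kernel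
theorem ok8 : [d8].all (okStep gens) = true := by decide +kernel
theorem ok9 : [d9].all (okStep gens) = true := by decide +kernel
theorem ok10 : [d10].all (okStep gens) = true := by decide +kernel
theorem ok11 : [d11].all (okStep gens) = true := by decide +kernel
theorem ok12 : [d12].all (okStep gens) = true := by decide +kernel
theorem ok13 : [d13].all (okStep gens) = true := by decide +kernel
theorem ok14 : [d14].all (okStep gens) = true := by decide +kernel
theorem ok15 : [d15].all (okStep gens) = true := by decide +kernel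

noncomputable def s0 : {v : ℕ // bfInitN 5 gens reps ws = v} := by
  refine ⟨?_, ?_⟩
  rotate_left
  conv => lhs; whnf

noncomputable def s1 : {v : ℕ // bfStepsN 5 [d0] s0.1 = v} := by
  refine ⟨?_, ?_⟩
  rotate_left
  conv => lhs; whnf

noncomputable def s2 : {v : ℕ // bfStepsN 5 [d1] s1.1 = v} := by
  refine ⟨?_, ?_⟩
  rotate_left
  conv => lhs; whnf

noncomputable def s3 : {v : ℕ // bfStepsN 5 [d2] s2.1 = v} := by
  refine ⟨?_, ?_⟩
  rotate_left
  conv => lhs; whnf

noncomputable def s4 : {v : ℕ // bfStepsN 5 [d3] s3.1 = v} := by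
  refine ⟨?_, ?_⟩
  rotate_left
  conv => lhs; whnf

noncomputable def s5 : {v : ℕ // bfStepsN 5 [d4] s4.1 = v} := by
  refine ⟨?_, ?_⟩
  rotate_left
  conv => lhs; whnf

noncomputable def s6 : {v : ℕ // bfStepsN 5 [d5] s5.1 = v} := by
  refine ⟨?_, ?_⟩
  rotate_left
  conv => lhs; whnf

noncomputable def s7 : {v : ℕ // bfStepsN 5 [d6] s6.1 = v} := by
  refine ⟨?_, ?_⟩
  rotate_left
  conv => lhs; whnf

noncomputable def s8 : {v : ℕ // bfStepsN 5 [d7] s7.1 = v} := by
  refine ⟨?_, ?_⟩
  rotate_left
  conv => lhs; whnf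

noncomputable def s9 : {v : ℕ // bfStepsN 5 [d8] s8.1 = v} := by
  refine ⟨?_, ?_⟩
  rotate_left
  conv => lhs; whnf

noncomputable def s10 : {v : ℕ // bfStepsN 5 [d9] s9.1 = v} := by
  refine ⟨?_, ?_⟩
  rotate_left
  conv => lhs; whnf

noncomputable def s11 : {v : ℕ // bfStepsN 5 [d10] s10.1 = v} := by
  refine ⟨?_, ?_⟩
  rotate_left
  conv => lhs; whnf

noncomputable def s12 : {v : ℕ // bfStepsN 5 [d11] s11.1 = v} := by
  refine ⟨?_, ?_⟩
  rotate_left
  conv => lhs; whnf

noncomputable def s13 : {v : ℕ // bfStepsN 5 [d12] s12.1 = v} := by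
  refine ⟨?_, ?_⟩
  rotate_left
  conv => lhs; whnf

noncomputable def s14 : {v : ℕ // bfStepsN 5 [d13] s13.1 = v} := by
  refine ⟨?_, ?_⟩
  rotate_left
  conv => lhs; whnf

noncomputable def s15 : {v : ℕ // bfStepsN 5 [d14] s14.1 = v} := by
  refine ⟨?_, ?_⟩
  rotate_left
  conv => lhs; whnf

noncomputable def s16 : {v : ℕ // bfStepsN 5 [d15] s15.1 = v} := by
  refine ⟨?_, ?_⟩
  rotate_left
  conv => lhs; whnf

noncomputable def fin : ℕ := s16.1

theorem cnt_eq : (List.range 18).map (fun l => cntN n fin (l + 1)) = [27, 51840, 12960, 8640, 7344, 108, 276480, 829440, 55296, 829440, 3006720, 89856, 2156544, 96768, 870912, 98277, 3, 0] := by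
  decide +kernel

theorem inv {Gd : Cl → ℕ → Prop} (hg : Cls Gd gens)
    (hr : ∀ r ∈ reps, r.1 < 2 ^ 24 ∧ r.2 < 2 ^ n ∧ Gd (cd r.1) r.2) : InvN Gd n fin := by
  have h0 : InvN Gd 5 s0.1 := s0.2 ▸ invN_init hg 5 hr ws
  have h1 : InvN Gd 5 s1.1 := s1.2 ▸ invN_steps hg ok0 h0
  have h2 : InvN Gd 5 s2.1 := s2.2 ▸ invN_steps hg ok1 h1
  have h3 : InvN Gd 5 s3.1 := s3.2 ▸ invN_steps hg ok2 h2
  have h4 : InvN Gd 5 s4.1 := s4.2 ▸ invN_steps hg ok3 h3
  have h5 : InvN Gd 5 s5.1 := s5.2 ▸ invN_steps hg ok4 h4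
  have h6 : InvN Gd 5 s6.1 := s6.2 ▸ invN_steps hg ok5 h5
  have h7 : InvN Gd 5 s7.1 := s7.2 ▸ invN_steps hg ok6 h6
  have h8 : InvN Gd 5 s8.1 := s8.2 ▸ invN_steps hg ok7 h7
  have h9 : InvN Gd 5 s9.1 := s9.2 ▸ invN_steps hg ok8 h8
  have h10 : InvN Gd 5 s10.1 := s10.2 ▸ invN_steps hg ok9 h9
  have h11 : InvN Gd 5 s11.1 := s11.2 ▸ invN_steps hg ok10 h10
  have h12 : InvN Gd 5 s12.1 := s12.2 ▸ invN_steps hg ok11 h11
  have h13 : InvN Gd 5 s13.1 := s13.2 ▸ invN_steps hg ok12 h12
  have h14 : InvN Gd 5 s14.1 := s14.2 ▸ invN_steps hg ok13 h13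
  have h15 : InvN Gd 5 s15.1 := s15.2 ▸ invN_steps hg ok14 h14
  have h16 : InvN Gd 5 s16.1 := s16.2 ▸ invN_steps hg ok15 h15
  exact h16

end

end CfsgMO.Bf6
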