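/-
Orbit enumeration for the axis number 7.
-/
import Cfsg.Agent.MO.BF

set_option autoImplicit false
set_option maxRecDepth 100000
set_option Elab.async false
set_option exponentiation.threshold 100000000

namespace CfsgMO.Bf7

noncomputable section

def n : ℕ := 4
def gens : List (List ℕ) := [[384, 758, 3900, 2189, 363, 1056, 1043, 48, 4032, 2208, 2970, 2048, 7289096, 8080139, 6258962, 2395658, 2390538, 4477393, 58924, 8048706, 5977521, 3947091, 6290321, 12843713], [3634, 3382, 4000, 1504, 3755, 1114, 4068, 2024, 3808, 3027, 3733, 2048, 3534880, 7850306, 404687, 1963280, 4730387, 723880, 4098070, 4435772, 7269009, 81664, 4784237, 9724684], [1333616, 4235413, 5558849, 3245, 6525776, 4228857, 165, 6524965, 6527541, 5559109, 4230989, 837, 13315660, 1082, 13840432, 13340326, 9822159, 10790344, 7568485, 3024190, 16480248, 1578237, 791167, 7990269]]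
def reps : List (ℕ × ℕ) := [(8388608, 1), (10137600, 2), (13250560, 3), (11984896, 4), (815624, 5), (25062, 6), (1147932, 7), (239563, 8), (1106470, 6), (2061890, 7), (1171, 9), (1955, 9), (8192, 9), (9192, 9), (132162, 9), (2965504, 10), (6733824, 9), (7028736, 9), (7491584, 9)]
def ws : List (List ℕ) := [[0, 0, 2, 0, 1, 1, 2], [2, 2, 0, 2, 0, 2], [1, 1, 2, 0, 2, 2, 2, 0], [1, 2, 0, 2, 2, 2, 1, 1, 1, 1], [2, 1, 2, 1, 2, 0, 0, 1, 0, 0], [1, 2, 2, 1, 2, 0], [0, 2, 0, 1, 0, 0], [2, 0, 2, 0, 1, 2], [2, 1, 1, 0, 0, 1, 0, 1, 2, 1], [2, 1, 1, 1, 2, 0, 1, 1, 2, 2]]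
def d0 : List ℕ × List (ℕ × ℕ) := ([1, 0, 1, 1, 2, 0, 2, 0, 1, 0, 0, 0, 0, 0], [(18, 215598), (20, 9174801), (7, 6449269), (2, 4940136), (8, 2703970), (0, 12715578), (1, 7036432), (14, 6916136), (19, 14727736), (21, 4339736), (4, 4240448), (6, 12793376), (23, 4308488), (16, 4240424), (22, 2592), (13, 134696), (17, 36864), (5, 6656), (10, 6144), (11, 37376), (9, 32768), (15, 1325482), (12, 16665461), (9, 1134021), (11, 599359), (10, 13787231), (5, 2048030), (3, 4481044), (17, 1900610), (13, 8454468), (22, 11026834), (16, 1589312), (23, 1048645), (6, 2637842), (4, 256), (21, 386), (19, 1048704), (14, 1310724), (1, 1048836), (0, 262404), (8, 262148), (2, 1048704), (20, 262144)])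
def d1 : List ℕ × List (ℕ × ℕ) := ([1, 2, 0, 2, 2, 1, 0, 0, 0, 2, 1, 1, 1, 1], [(1, 373), (22, 12203444), (6, 9562424), (15, 10975404), (17, 10312756), (21, 1932049), (23, 596644), (16, 1074325), (2, 818824), (3, 1602864), (9, 550192), (20, 812465), (11, 549008), (18, 529408), (0, 12320), (12, 533664), (4, 524544), (5, 524288), (10, 524416), (13, 128), (7, 256), (8, 12317409), (7, 10809414), (14, 4340294), (13, 71171), (19, 8394284), (10, 11768440), (5, 1179678), (4, 6455298), (12, 67589), (0, 7539264), (18, 5441600), (11, 11764290), (20, 12681798), (9, 10715214), (3, 12582978), (2, 6389826), (16, 14811136), (23, 163906), (21, 4325378), (7, 256)])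
def d2 : List ℕ × List (ℕ × ℕ) := ([0, 0, 2, 2, 2, 0, 0, 2, 1, 2, 1, 2, 0], [(23, 6363608), (21, 330442), (14, 4961597), (22, 166697), (12, 4024), (0, 460758), (2, 491896), (18, 36752), (4, 667114), (1, 722688), (5, 633152), (6, 600960), (8, 197760), (10, 196616), (3, 128), (17, 74368), (9, 532608), (7, 526336), (15, 1581056), (13, 1048576), (16, 1572864), (19, 1048576), (20, 3133002), (19, 12750829), (16, 8396880), (13, 10666660), (15, 8653366), (11, 131792), (7, 6701675), (9, 6705518), (17, 12599615), (3, 1280), (10, 2359617), (8, 6311985), (6, 4472834), (5, 6570003), (1, 4210708), (4, 2097157), (18, 8388609), (2, 6311936), (12, 2113536), (22, 8388608)])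
def d3 : List ℕ × List (ℕ × ℕ) := ([0, 2, 2, 0, 1, 0, 2, 2, 2, 1, 1, 1, 1, 1, 0], [(9, 10973676), (6, 10976432), (7, 11740164), (19, 15909927), (20, 8761371), (14, 10531074), (8, 10761270), (2, 13088803), (21, 12714019), (23, 4593674), (11, 4301859), (10, 4657208), (22, 274450), (12, 106512), (1, 32817), (15, 131104), (16, 262152), (0, 270344), (17, 270384), (4, 40), (5, 8192), (13, 9799400), (5, 13894103), (3, 13636563), (4, 1262023), (18, 13277764), (17, 1577669), (0, 4309954), (16, 10505154), (15, 528966), (1, 24128), (12, 3688896), (22, 1067588), (10, 2099588), (11, 2113668), (23, 1572996), (21, 17156), (2, 1048896), (8, 1049216), (14, 1573504), (20, 704), (19, 128), (7, 64)])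
def d4 : List ℕ × List (ℕ × ℕ) := ([2, 1, 1, 1, 0, 2, 2, 1, 0, 1], [(2, 12395024), (15, 12015242), (19, 14754627), (5, 344457), (10, 11804689), (8, 397395), (6, 12007424), (18, 5397017), (3, 11694099), (12, 16531), (13, 14745600), (1, 12665345), (16, 14830097), (4, 7358465), (9, 9586817), (23, 1196161), (21, 128), (7, 147457), (0, 5392384), (20, 4212736), (11, 4210688), (14, 4174333), (22, 2603674), (11, 9802921), (20, 11178331), (17, 2633788), (0, 2433396), (7, 2360440), (21, 8721458), (23, 272200), (9, 623668), (4, 589922), (16, 36896), (1, 823628), (13, 263496), (12, 296192), (3, 263488), (18, 356), (6, 557348), (8, 525316), (5, 524288), (19, 4)])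
def d5 : List ℕ × List (ℕ × ℕ) := ([2, 2, 0, 2, 1, 1, 1, 0, 2, 0, 2, 2, 2, 1, 2], [(10, 16072878), (16, 14317959), (11, 9314541), (17, 4235537), (4, 7913579), (8, 3408416), (18, 16302308), (9, 9486510), (7, 12607502), (14, 3702890), (3, 1605633), (1, 5775364), (2, 8917025), (19, 15773696), (20, 6328321), (21, 4206624), (22, 36960), (15, 8256), (23, 4128), (5, 1), (0, 12352), (6, 8192), (13, 16648865), (12, 9653492), (6, 3672127), (0, 16238654), (5, 10158234), (23, 786586), (15, 7866896), (22, 3228046), (21, 593796), (20, 722692), (19, 413212), (2, 197018), (1, 263936), (3, 215312), (14, 67072), (7, 393232), (9, 395536), (18, 134160), (8, 196624), (4, 196608)])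
def d6 : List ℕ × List (ℕ × ℕ) := ([1, 0, 0, 0, 1, 0, 2, 0, 2, 2, 0, 0, 0, 0, 2], [(4, 3927949), (14, 14946123), (20, 14979048), (22, 8455144), (23, 2524044), (17, 2728170), (21, 68069), (15, 795779), (2, 262601), (16, 15753), (3, 527809), (11, 262275), (18, 533219), (19, 1379), (0, 12418), (8, 8352), (5, 12354), (12, 8258), (9, 9410), (1, 9280), (13, 1024), (10, 7252860), (13, 1310927), (6, 364839), (1, 14437148), (7, 772664), (9, 11817256), (12, 7915789), (5, 1786125), (8, 13533188), (0, 5982220), (19, 509968), (18, 14794780), (11, 11583504), (3, 7471124), (16, 11534336), (2, 10534928), (15, 10485776), (21, 12582928), (17, 8405008), (22, 1064960)])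
def d7 : List ℕ × List (ℕ × ℕ) := ([0, 0, 2, 2, 2, 1, 0, 0, 0, 2, 0, 1, 1], [(1, 15320045), (8, 462948), (2, 5653600), (15, 1513032), (14, 4199536), (22, 9317905), (21, 9779792), (9, 9778232), (6, 9911313), (3, 8395952), (17, 331793), (4, 1115297), (0, 266240), (7, 8716320), (5, 858112), (11, 10298368), (10, 1912832), (18, 9441280), (12, 8912896), (19, 8388608), (23, 599857), (20, 2308292), (19, 192298), (12, 501847), (18, 4204518), (16, 4214370), (13, 6439664), (10, 149619), (11, 6471865), (5, 2261589), (7, 163852), (0, 856), (4, 4342276), (17, 6341390), (3, 6308418), (6, 2147072), (9, 6308096), (21, 4227334), (22, 260), (14, 4)])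
def d8 : List ℕ × List (ℕ × ℕ) := ([0, 0, 1, 1, 0, 2, 0, 1, 0, 1, 0, 1], [(18, 9611801), (0, 5785338), (3, 8091538), (22, 3754838), (2, 3219088), (10, 3222512), (6, 2164754), (19, 3224208), (9, 2308274), (7, 14608), (14, 2171184), (8, 1056818), (17, 8454146), (1, 2164768), (15, 1126432), (13, 10555408), (16, 1052672), (21, 9441280), (5, 2064), (23, 1048592), (4, 1048576), (12, 11289259), (20, 642175), (4, 10626959), (23, 2443278), (11, 4194401), (5, 74), (21, 4285504), (16, 4735298), (13, 935494), (15, 918671), (1, 1092), (17, 525824), (8, 4194948), (14, 4196041), (7, 4195916), (9, 4194316), (19, 65), (6, 4195340), (10, 13), (2, 4194305), (22, 8)])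
def d9 : List ℕ × List (ℕ × ℕ) := ([2, 2, 2, 1, 2, 1, 2, 1, 1, 1, 0], [(18, 8119712), (13, 13668843), (8, 14828593), (23, 2201243), (3, 6362658), (10, 1641028), (19, 2169474), (20, 4341907), (9, 2119684), (16, 4231191), (5, 6291667), (4, 2131971), (11, 6422595), (14, 6328455), (21, 4227077), (2, 168002), (12, 32835), (17, 65), (0, 4194498), (7, 4227074), (15, 2), (1, 2219288), (22, 2345708), (15, 8748188), (7, 12328045), (6, 12351280), (0, 9248048), (17, 1378572), (12, 3745288), (2, 12323088), (21, 853544), (14, 1639424), (11, 1122856), (4, 10233352), (5, 67072), (16, 9185032), (9, 1024), (20, 8912904), (19, 8397824), (3, 8192), (23, 256)])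
def d10 : List ℕ × List (ℕ × ℕ) := ([2, 1, 2, 0, 0, 2, 0, 2], [(10, 13496946), (9, 678392), (13, 2117949), (14, 3414300), (2, 12718474), (21, 5734891), (19, 13664488), (11, 5476442), (3, 12652672), (12, 5636497), (15, 5702003), (17, 5570609), (16, 8388642), (8, 1048737), (18, 9437377), (20, 12582945), (22, 8388608), (4, 8388707), (0, 8388706), (6, 32), (7, 1384564), (1, 234308), (23, 4366597), (5, 6437448), (6, 4183829), (0, 6821400), (4, 243204), (22, 2579200), (20, 2939652), (18, 633352), (8, 2797580), (16, 687616), (17, 2150920), (15, 536580), (12, 2117124), (3, 2117120), (11, 26112), (2, 1024), (14, 8192), (9, 1024)])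
def d11 : List ℕ × List (ℕ × ℕ) := ([1, 1, 0, 2, 2, 2, 0, 0], [(1, 13079365), (23, 6151745), (18, 166660), (14, 6995477), (21, 4434557), (0, 5769708), (2, 570680), (15, 1640880), (9, 5966000), (13, 5441760), (7, 138616), (12, 134192), (3, 4849696), (17, 1574256), (20, 4785264), (8, 4785168), (22, 525392), (5, 527360), (10, 589840), (4, 591872), (6, 2048), (11, 12211173), (6, 1369117), (19, 5624627), (16, 4634529), (4, 13986), (10, 7508653), (5, 9588993), (22, 8573571), (8, 139269), (20, 8704014), (17, 299022), (3, 33286), (12, 645), (7, 10510848), (13, 311297), (9, 8667141), (15, 10747910), (2, 2113538), (0, 10502144), (21, 8650752), (14, 8388610), (18, 2)])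
def d12 : List ℕ × List (ℕ × ℕ) := ([0, 2, 2, 1, 0, 0, 2, 0, 1, 0, 2, 2, 0, 2], [(10, 870736), (3, 7035875), (8, 575571), (12, 14420213), (17, 6644385), (18, 12140708), (23, 2714339), (0, 4246034), (1, 2204224), (2, 7372864), (4, 7424512), (9, 4843520), (13, 32992), (14, 2162816), (22, 622752), (5, 2654272), (15, 1048768), (7, 3147776), (19, 2097152), (16, 1048576), (20, 15181645), (16, 6334949), (11, 9237944), (21, 430908), (19, 12849746), (7, 168508), (6, 8802597), (15, 4347667), (5, 12850190), (22, 8660500), (14, 8785944), (13, 8524819), (9, 8651801), (4, 8393731), (2, 8392963), (1, 4360), (0, 8650760), (23, 8), (18, 256), (17, 5120), (12, 1280)])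
def d13 : List ℕ × List (ℕ × ℕ) := ([2, 1, 2, 0, 1, 2, 1, 2, 1, 2, 1, 1, 2, 0, 0], [(15, 14839635), (22, 11432826), (14, 8990526), (23, 1514014), (9, 8312), (3, 15780), (11, 4308), (16, 2098596), (4, 3944513), (17, 800096), (12, 524516), (18, 3146213), (2, 1120), (10, 8320), (6, 8320), (8, 532640), (5, 532608), (7, 532480), (13, 1572865), (0, 1048576), (19, 1048576), (20, 2097154), (1, 3683021), (21, 1675665), (20, 1036944), (19, 4466044), (0, 277492), (13, 8701784), (7, 1064), (5, 12698384), (8, 264784), (6, 400400), (10, 268828), (2, 12830744), (18, 8493568), (12, 180736), (17, 8454656), (4, 12699656), (16, 12599304), (11, 520), (3, 512), (14, 4194304)])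
def d14 : List ℕ × List (ℕ × ℕ) := ([2, 1, 2, 2, 0, 0, 0, 2, 0, 1, 1, 0, 1, 1, 2], [(2, 10870616), (5, 9799058), (21, 6282448), (12, 4228698), (4, 1049674), (22, 9562178), (15, 614657), (10, 663936), (6, 131586), (14, 1771528), (18, 9054720), (3, 1638400), (7, 1255680), (13, 68354), (9, 589827), (1, 1116417), (19, 1179904), (8, 9570304), (20, 2048), (11, 65537), (16, 131073), (0, 7157148), (17, 12919494), (23, 1126866), (16, 2676998), (11, 6046824), (20, 529654), (8, 792242), (19, 2142230), (1, 2098816), (9, 266264), (13, 208), (7, 6557704), (3, 6307936), (18, 5232), (14, 4232228), (6, 33812), (10, 6295584), (15, 6295556), (22, 4132), (4, 4), (21, 4)])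
def d15 : List ℕ × List (ℕ × ℕ) := ([1, 1, 1, 0, 0, 1, 1, 0], [(17, 4006321), (14, 3416654), (7, 2154), (10, 2355), (0, 614), (5, 2816), (18, 4231428), (15, 1126468), (6, 518), (13, 2689800), (1, 2304), (9, 2328), (3, 2064), (8, 20), (19, 2166804), (20, 6361092), (12, 65536), (16, 2097152), (23, 4861928), (21, 4263402), (16, 4250092), (12, 1485737), (22, 27296), (2, 3896), (20, 43947), (4, 2466), (19, 183299), (8, 579), (3, 1536), (9, 193), (1, 1024), (13, 311393), (6, 1057), (15, 147584), (5, 1153)])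
theorem ok0 : [d0].all (okStep gens) = true := by decide +kernel
theorem ok1 : [d1].all (okStep gens) = true := by decide +kernel
theorem ok2 : [d2].all (okStep gens) = true := by decide +kernel
theorem ok3 : [d3].all (okStep gens) = true := by decide +kernel
theorem ok4 : [d4].all (okStep gens) = true := by decide +kernel
theorem ok5 : [d5].all (okStep gens) = true := by decide +kernel
theorem ok6 : [d6].all (okStep gens) = true := by decide +kernel
theorem ok7 : [d7].all (okStep gens) = true := by decide +kernel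
theorem ok8 : [d8].all (okStep gens) = true := by decide +kernel
theorem ok9 : [d9].all (okStep gens) = true := by decide +kernel
theorem ok10 : [d10].all (okStep gens) = true := by decide +kernel
theorem ok11 : [d11].all (okStep gens) = true := by decide +kernel
theorem ok12 : [d12].all (okStep gens) = true := by decide +kernel
theorem ok13 : [d13].all (okStep gens) = true := by decide +kernel
theorem ok14 : [d14].all (okStep gens) = true := by decide +kernel
theorem ok15 : [d15].all (okStep gens) = true := by decide +kernel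

noncomputable def s0 : {v : ℕ // bfInitN 4 gens reps ws = v} := by
  refine ⟨?_, ?_⟩
  rotate_left
  conv => lhs; whnf

noncomputable def s1 : {v : ℕ // bfStepsN 4 [d0] s0.1 = v} := by
  refine ⟨?_, ?_⟩
  rotate_left
  conv => lhs; whnf

noncomputable def s2 : {v : ℕ // bfStepsN 4 [d1] s1.1 = v} := by
  refine ⟨?_, ?_⟩
  rotate_left
  conv => lhs; whnf

noncomputable def s3 : {v : ℕ // bfStepsN 4 [d2] s2.1 = v} := by
  refine ⟨?_, ?_⟩
  rotate_left
  conv => lhs; whnf

noncomputable def s4 : {v : ℕ // bfStepsN 4 [d3] s3.1 = v} := by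
  refine ⟨?_, ?_⟩
  rotate_left
  conv => lhs; whnf

noncomputable def s5 : {v : ℕ // bfStepsN 4 [d4] s4.1 = v} := by
  refine ⟨?_, ?_⟩
  rotate_left
  conv => lhs; whnf

noncomputable def s6 : {v : ℕ // bfStepsN 4 [d5] s5.1 = v} := by
  refine ⟨?_, ?_⟩
  rotate_left
  conv => lhs; whnf

noncomputable def s7 : {v : ℕ // bfStepsN 4 [d6] s6.1 = v} := by
  refine ⟨?_, ?_⟩
  rotate_left
  conv => lhs; whnf

noncomputable def s8 : {v : ℕ // bfStepsN 4 [d7] s7.1 = v} := by
  refine ⟨?_, ?_⟩
  rotate_left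
  conv => lhs; whnf

noncomputable def s9 : {v : ℕ // bfStepsN 4 [d8] s8.1 = v} := by
  refine ⟨?_, ?_⟩
  rotate_left
  conv => lhs; whnf

noncomputable def s10 : {v : ℕ // bfStepsN 4 [d9] s9.1 = v} := by
  refine ⟨?_, ?_⟩
  rotate_left
  conv => lhs; whnf

noncomputable def s11 : {v : ℕ // bfStepsN 4 [d10] s10.1 = v} := by
  refine ⟨?_, ?_⟩
  rotate_left
  conv => lhs; whnf

noncomputable def s12 : {v : ℕ // bfStepsN 4 [d11] s11.1 = v} := by
  refine ⟨?_, ?_⟩
  rotate_left
  conv => lhs; whnf

noncomputable def s13 : {v : ℕ // bfStepsN 4 [d12] s12.1 = v} := by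
  refine ⟨?_, ?_⟩
  rotate_left
  conv => lhs; whnf

noncomputable def s14 : {v : ℕ // bfStepsN 4 [d13] s13.1 = v} := by
  refine ⟨?_, ?_⟩
  rotate_left
  conv => lhs; whnf

noncomputable def s15 : {v : ℕ // bfStepsN 4 [d14] s14.1 = v} := by
  refine ⟨?_, ?_⟩
  rotate_left
  conv => lhs; whnf

noncomputable def s16 : {v : ℕ // bfStepsN 4 [d15] s15.1 = v} := by
  refine ⟨?_, ?_⟩
  rotate_left
  conv => lhs; whnf

noncomputable def fin : ℕ := s16.1

theorem cnt_eq : (List.range 11).map (fun l => cntN n fin (l + 1)) = [891, 1995840, 49896, 24948, 41472, 2509056, 476928, 3193344, 98279, 1, 0] := by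
  decide +kernel

theorem inv {Gd : Cl → ℕ → Prop} (hg : Cls Gd gens)
    (hr : ∀ r ∈ reps, r.1 < 2 ^ 24 ∧ r.2 < 2 ^ n ∧ Gd (cd r.1) r.2) : InvN Gd n fin := by
  have h0 : InvN Gd 4 s0.1 := s0.2 ▸ invN_init hg 4 hr ws
  have h1 : InvN Gd 4 s1.1 := s1.2 ▸ invN_steps hg ok0 h0
  have h2 : InvN Gd 4 s2.1 := s2.2 ▸ invN_steps hg ok1 h1
  have h3 : InvN Gd 4 s3.1 := s3.2 ▸ invN_steps hg ok2 h2
  have h4 : InvN Gd 4 s4.1 := s4.2 ▸ invN_steps hg ok3 h3
  have h5 : InvN Gd 4 s5.1 := s5.2 ▸ invN_steps hg ok4 h4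
  have h6 : InvN Gd 4 s6.1 := s6.2 ▸ invN_steps hg ok5 h5
  have h7 : InvN Gd 4 s7.1 := s7.2 ▸ invN_steps hg ok6 h6
  have h8 : InvN Gd 4 s8.1 := s8.2 ▸ invN_steps hg ok7 h7
  have h9 : InvN Gd 4 s9.1 := s9.2 ▸ invN_steps hg ok8 h8
  have h10 : InvN Gd 4 s10.1 := s10.2 ▸ invN_steps hg ok9 h9
  have h11 : InvN Gd 4 s11.1 := s11.2 ▸ invN_steps hg ok10 h10
  have h12 : InvN Gd 4 s12.1 := s12.2 ▸ invN_steps hg ok11 h11
  have h13 : InvN Gd 4 s13.1 := s13.2 ▸ invN_steps hg ok12 h12
  have h14 : InvN Gd 4 s14.1 := s14.2 ▸ invN_steps hg ok13 h13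
  have h15 : InvN Gd 4 s15.1 := s15.2 ▸ invN_steps hg ok14 h14
  have h16 : InvN Gd 4 s16.1 := s16.2 ▸ invN_steps hg ok15 h15
  exact h16

end

end CfsgMO.Bf7
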