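/-
Orbit enumeration for the axis number 8.
-/
import Cfsg.Agent.MO.BF

set_option autoImplicit false
set_option maxRecDepth 100000
set_option Elab.async false
set_option exponentiation.threshold 100000000

namespace CfsgMO.Bf8

noncomputable section

def n : ℕ := 5
def gens : List (List ℕ) := [[1534, 2592, 2088, 4032, 2084, 1447, 2389, 1852, 2080, 2015, 1043, 2048, 1382703, 2693628, 5344182, 5048479, 6115258, 1648505, 1387416, 863230, 2541826, 4797075, 4533812, 14366141], [3357, 2710, 2624, 4000, 3066, 64, 2144, 80, 2368, 1884, 2114, 2048, 7116, 4752488, 6347405, 575853, 4736260, 7823388, 4360559, 4784237, 1592655, 4774541, 59468, 11723759], [45, 3273, 806, 1233, 3801, 1497, 2398, 3291, 1273, 3161, 825, 2048, 8106368, 4105496, 4191084, 4494114, 2380588, 5264672, 4459158, 8117335, 8251723, 4721848, 3907632, 15542632], [8108579, 2700409, 436, 4196743, 1215609, 8103659, 8120, 4194313, 1216483, 8105711, 8102973, 2706, 9467850, 10109176, 9600159, 7901693, 7872446, 10174287, 1620626, 10058154, 10085713,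 10428767, 6074076, 6035391]]
def reps : List (ℕ × ℕ) := [(8388608, 1), (15728640, 2), (11984896, 3), (11743232, 4), (10137600, 5), (11816960, 3), (12607488, 6), (13250560, 4), (15147008, 7), (12345344, 8), (9121792, 9), (8589312, 9), (8531968, 5), (9383936, 4), (13156352, 3), (9834496, 10), (11300864, 11), (9510912, 12), (12472320, 6), (8626176, 6), (10059776, 13), (9560064, 1), (3993855, 7), (4861955, 14), (9822461, 7), (3428354, 4), (10379294, 14), (6230270, 15), (3895520, 9), (4358398, 7), (1589503, 16), (1847299, 7), (1258001, 10), (25062, 17), (5582936, 4), (5341584, 4), (3813862, 17), (356872, 4), (815624, 7), (767050, 7), (1365692, 7), (2015905, 3), (1106470, 3), (6288770, 5), (1143106, 7), (2342914, 4), (754686, 4), (442580, 3), (239563, 7), (4117167, 14), (6623285, 5), (9057438, 18), (74195, 14), (61695, 18), (8750238, 3), (798748, 4), (1159392, 4), (2002946, 14), (1483077, 4), (8849, 10), (282878, 4), (2781857, 10), (8811585, 3), (7255681, 17), (1210014, 13), (1171, 19), (1955, 19), (8192,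 19), (81920, 19), (262144, 19), (307200, 19), (1990656, 19), (3104768, 19), (3154029, 19), (4325641, 19), (5566483, 19), (6807552, 19), (7028736, 19), (7655424, 19), (8540162, 19), (9720033, 19), (10317852, 19), (10379264, 19), (10817761, 19), (11190272, 19), (12882145, 19)]
def ws : List (List ℕ) := [[2, 3, 1, 0, 3, 1], [3, 1, 3, 2, 1, 3], [2, 3, 1, 3, 2, 0, 2, 1], [0, 1, 0, 1, 0, 3, 2], [0, 3, 3, 1, 0, 3, 3, 0], [1, 0, 3, 2, 2, 1], [2, 1, 1, 3, 3, 2, 3, 0, 0, 2]]
def d0 : List ℕ × List (ℕ × ℕ) := ([3, 0, 2, 1, 2, 0, 1, 3, 1, 1, 3, 3], [(5, 6322461), (23, 5191941), (20, 2330251), (4, 2309453), (3, 4345606), (6, 6394757), (15, 4863365), (0, 6774144), (2, 6906752), (7, 2366464), (12, 4915458), (13, 540674), (1, 2903808), (10, 2245120), (16, 6684672), (19, 4326144), (22, 18944), (9, 2377728), (14, 2228224), (21, 262144), (18, 33427), (17, 9502210), (21, 4848788), (14, 1055629), (11, 374), (9, 78857), (22, 9515010), (8, 46300), (19, 1049806), (16, 13456), (10, 12377), (1, 4177), (13, 8425528), (12,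 32904), (7, 9), (2, 32800), (0, 8388624), (15, 9437208), (20, 8388640)])
def d1 : List ℕ × List (ℕ × ℕ) := ([3, 3, 1, 1, 2, 3, 0, 2, 0, 2], [(19, 10557841), (5, 1213455), (14, 5314264), (9, 11605376), (16, 1318294), (15, 2361620), (22, 9701783), (23, 274831), (21, 13521), (1, 1456285), (7, 266565), (3, 1317905), (20, 135232), (4, 407873), (10, 143616), (17, 8513), (18, 6405), (0, 320), (11, 260), (12, 8192), (8, 8196), (13, 16009610), (2, 12769227), (8, 317539), (12, 15467058), (11, 164400), (6, 11224723), (0, 8849080), (18, 15270458), (17, 4244146), (10, 2703418), (4, 12140680), (20, 6374056), (3, 8388770), (7, 12697602), (1, 589856), (21, 4243488), (23, 4210688), (22, 49664), (15, 82464), (16, 540672)])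
def d2 : List ℕ × List (ℕ × ℕ) := ([3, 0, 1, 1, 3, 2, 1, 2, 0, 2, 0, 1, 0], [(16, 4505624), (7, 3680), (5, 793), (8, 2142), (20, 6742044), (9, 3100), (15, 6308938), (4, 3150), (18, 4870153), (10, 2), (21, 131080), (22, 532491), (23, 532545), (3, 66), (0, 64), (14, 8258), (17, 532480), (19, 5330327), (13, 3489847), (12, 3393229), (17, 2114551), (6, 3623), (1, 57), (14, 5278612), (0, 2444), (3, 3632), (23, 5311492), (22, 3407876), (21, 329360), (10, 272), (18, 33572), (2, 144), (4, 256), (15, 65568), (8, 160), (5, 128)])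
def d3 : List ℕ × List (ℕ × ℕ) := ([0, 3, 2, 1, 1, 3, 1, 2, 1, 1], [(9, 3551), (23, 4828182), (14, 8357030), (4, 2080), (21, 2468), (16, 1584546), (15, 5646345), (5, 325), (12, 1584591), (2, 2371), (19, 4205954), (20, 4467713), (1, 8), (0, 3208), (3, 3520), (7, 2304), (10, 2304), (13, 4325376), (17, 262144), (22, 2505889), (18, 2781744), (17, 3176398), (13, 1607500), (8, 1198), (10, 125), (7, 110), (6, 17), (3, 33), (0, 20), (1, 36), (20, 2641956), (19, 2101760), (2, 32), (12, 16384), (5, 16), (15, 2179072), (16, 16400)])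
def d4 : List ℕ × List (ℕ × ℕ) := ([0, 0, 0, 2, 0, 1, 2, 0, 3, 3, 3, 1, 0, 3], [(20, 2441486), (15, 8477997), (19, 10817021), (16, 6310649), (21, 12854100), (2, 8533801), (17, 8677339), (13, 4474176), (22, 8668537), (14, 8394978), (6, 8654466), (11, 8652585), (5, 9), (23, 266522), (10, 266649), (18, 4106), (0, 4376), (12, 272), (1, 536), (4, 384), (9, 128), (7, 13816703), (9, 8879391), (8, 11106331), (4, 1702957), (3, 16215075), (1, 8503301), (12, 11545665), (0, 10972192), (18, 1239076), (10, 14796896), (23, 5457956), (5, 4384772), (11, 8118340), (6, 5808128), (14, 7372800), (22, 2654212), (13, 3178496), (17, 2097156), (2, 1671168), (21, 524288), (16, 1048576)])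
def d5 : List ℕ × List (ℕ × ℕ) := ([1, 3, 0, 3, 1, 2, 0, 2, 1, 3, 1, 1, 1, 3, 0], [(2, 8294362), (9, 2889034), (20, 11474314), (4, 4800650), (17, 15488330), (14, 4231360), (19, 8464808), (7, 15023145), (5, 10590531), (18, 14746633), (8, 10590208), (21, 4260867), (10, 12648512), (23, 47107), (11, 73738), (3, 4239425), (22, 45057), (12, 65), (13, 65537), (0, 64), (15, 65538), (1, 64), (6, 45082), (1, 8450989), (16, 1505713), (15, 1450524), (0, 12218152), (13, 11030688), (12, 6048568), (22, 8405420), (3, 10620720), (11, 9437696), (23, 3278336), (10, 802848), (21, 917664), (8, 671748), (18, 1065088), (5, 147584), (7, 524800), (19, 1180176), (14, 1180176)])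
def d6 : List ℕ × List (ℕ × ℕ) := ([3, 1, 2, 2, 2, 3, 2, 0, 1, 2, 0, 0, 0, 0], [(18, 14170650), (7, 6436679), (5, 15457109), (11, 8106259), (8, 9462355), (17, 13170246), (12, 15327750), (9, 15287296), (10, 2621506), (19, 3145807), (14, 9510922), (3, 3219527), (6, 7413766), (16, 2138133), (13, 7372821), (15, 12582928), (21, 9437201), (20, 4194327), (2, 17), (0, 4194306), (1, 16), (4, 8388608), (23, 5673428), (4, 2715854), (1, 4935337), (22, 3781417), (0, 2285220), (2, 1588544), (20, 770784), (21, 629920), (15, 532904), (13, 203336), (16, 267840), (6, 137992), (3, 656384), (14, 269344), (19, 4352), (10, 2720), (9, 135424), (12, 393216), (17, 264352)])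
def d7 : List ℕ × List (ℕ × ℕ) := ([0, 3, 2, 0, 1, 2, 1, 3, 1, 3, 1, 2, 3], [(10, 13379727), (2, 13818443), (15, 1974592), (19, 11948467), (16, 6553866), (6, 3285768), (8, 15884329), (1, 12599833), (14, 7748272), (18, 1190456), (3, 13774897), (4, 10498721), (13, 2592), (9, 14684289), (11, 7471136), (12, 7471136), (5, 13762561), (20, 2097153), (21, 12713985), (17, 12582913), (0, 128), (7, 15104281), (0, 10164030), (23, 6877750), (22, 2047252), (17, 2487422), (21, 1879042), (20, 115506), (5, 841224), (12, 385358), (11, 287300), (9, 99406), (13, 50520), (4, 589892), (3, 377090), (18, 17414), (14, 590148), (1, 98304), (8, 68), (6, 590852), (16, 32768)])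
def d8 : List ℕ × List (ℕ × ℕ) := ([3, 1, 3, 1, 0, 3, 3, 3], [(11, 16222166), (1, 1607217), (22, 3888045), (16, 422041), (23, 4265), (2, 2282833), (5, 1628113), (19, 2548944), (0, 3463104), (4, 1193280), (7, 406592), (8, 57856), (13, 3166784), (20, 2261000), (21, 135240), (9, 136192), (3, 414784), (15, 266240), (17, 267328), (18, 16448), (12, 17408), (10, 64), (14, 13219838), (6, 2197260), (10, 45981), (12, 8258052), (18, 10095506), (17, 14164511), (15, 8389176), (3, 1575060), (9, 10561542), (21, 1646610), (20, 8914947), (13, 12648484), (8, 8914998), (7, 13172768), (4, 526340), (0, 8978470), (19, 8454176), (5, 8388608), (23, 2048), (16, 4194306), (22, 2050), (1, 2048)])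
def d9 : List ℕ × List (ℕ × ℕ) := ([2, 1, 2, 3, 1, 2, 1, 1, 2, 0, 2, 1, 3, 1, 2], [(19, 2550146), (6, 6692151), (11, 6812451), (8, 492544), (12, 6390333), (0, 12665870), (23, 2359984), (14, 3482640), (10, 2556056), (1, 65580), (15, 7471272), (22, 1515672), (20, 467460), (13, 393276), (2, 2294328), (4, 197288), (18, 66176), (9, 2162856), (21, 196768), (16, 136), (3, 128), (5, 128), (7, 5251876), (5, 1073744), (3, 8512083), (17, 7875844), (16, 15257940), (21, 13902150), (9, 1343570), (18, 5268816), (4, 12630083), (2, 8450115), (13, 1053952), (20, 4758592), (22, 8422465), (15, 3328), (1, 8391745), (10, 8394753), (14, 8919104), (23, 524353), (0, 2112), (12, 320), (8, 64)])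
def d10 : List ℕ × List (ℕ × ℕ) := ([3, 0, 0, 2, 2, 3, 0, 1, 3, 3, 0, 2, 2, 0, 2], [(21, 1200504), (4, 4916001), (13, 9625581), (16, 8949188), (20, 263339), (5, 13520448), (18, 13141379), (10, 9044812), (8, 559756), (3, 9048257), (22, 34945), (9, 557187), (1, 9080836), (17, 49349), (11, 193), (15, 528449), (6, 8929409), (7, 8929281), (14, 8916993), (12, 1), (23, 1), (0, 13210566), (23, 4695732), (12, 7497334), (19, 3288198), (14, 5320018), (7, 6299990), (6, 5547520), (15, 3408944), (11, 3350572), (2, 7405626), (17, 329482), (1, 5252912), (9, 336952), (22, 2367496), (3, 1057840), (8, 1376272), (10, 2424864), (18, 3153936), (5, 3211264), (20, 8192), (16, 2105344)])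
def d11 : List ℕ × List (ℕ × ℕ) := ([0, 0, 0, 2, 1, 1, 1, 2, 2, 0, 3, 1, 0, 1, 2], [(7, 7810365), (12, 9291881), (16, 566126), (21, 9334640), (3, 1058833), (8, 1058423), (9, 4228134), (4, 10013798), (2, 1058818), (11, 9462818), (18, 13287424), (10, 12632066), (23, 5824579), (0, 5808194), (5, 4751360), (15, 4202496), (1, 1056768), (17, 532480), (13, 540672), (20, 4734976), (19, 16448), (6, 16349099), (22, 1743499), (14, 922260), (19, 1449498), (20, 467884), (13, 8849933), (17, 327742), (1, 4), (15, 3616), (5, 73629), (0, 10488336), (23, 2103428), (10, 2169228), (18, 70548), (11, 2163328), (2, 2163472), (4, 2163464), (9, 2167176), (8, 65664), (3, 65664)])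
def d12 : List ℕ × List (ℕ × ℕ) := ([3, 1, 1, 1, 3, 2, 1, 2, 1, 0, 1, 3], [(1, 15237065), (17, 3800400), (0, 10495120), (10, 9190248), (18, 16360220), (23, 6325240), (9, 5312824), (12, 7414240), (16, 5783680), (15, 1056772), (22, 3162272), (14, 1581232), (2, 192), (19, 3156096), (21, 1050864), (5, 8600), (11, 400), (3, 8640), (6, 272), (13, 1048960), (8, 16705641), (7, 13464155), (20, 13284466), (13, 2430542), (4, 12588105), (6, 6752802), (3, 14981122), (11, 1017378), (5, 8836097), (21, 4249090), (19, 4507142), (2, 8683522), (14, 12845569), (22, 8394241), (15, 463361), (16, 135170), (12, 393219), (9, 262144), (23, 1026), (10, 3), (0, 2)])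
def d13 : List ℕ × List (ℕ × ℕ) := ([2, 1, 3, 2, 2, 3, 3, 3, 3, 2, 2, 0, 0, 1], [(20, 12984875), (21, 392340), (18, 12708540), (9, 9013287), (22, 7341), (14, 167348), (23, 4468), (4, 7424), (8, 173065), (2, 194), (6, 531467), (7, 77857), (12, 756771), (3, 731168), (13, 65570), (5, 230403), (16, 1027), (1, 557056), (15, 524288), (19, 131073), (17, 4761744), (0, 1593754), (19, 12583938), (10, 2113976), (15, 10834542), (1, 6361348), (16, 11553720), (5, 8419848), (13, 5249800), (11, 9716376), (3, 7344708), (12, 1327188), (7, 10486356), (6, 11550996), (2, 4194320), (8, 10764304), (4, 4456960), (23, 5259776), (14, 7340544), (9, 262144), (18, 2097152)])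
def d14 : List ℕ × List (ℕ × ℕ) := ([2, 3, 0, 1, 0, 2, 0, 2, 3, 0, 2, 0, 0, 2, 2], [(21, 124923), (17, 6076259), (23, 4828182), (12, 1854), (0, 1504), (9, 1472), (1, 1156), (2, 216), (3, 1168), (4, 384), (6, 256), (7, 1024), (13, 16384), (14, 98304), (15, 65536), (18, 1048576), (19, 4194304), (22, 2710320), (19, 43347), (20, 2397950), (18, 42159), (16, 43941), (15, 3266), (14, 10675), (13, 936), (10, 2208), (8, 96), (4, 2570), (3, 32), (2, 514), (1, 2080), (19, 4194304), (18, 1048576), (15, 65536), (13, 16384), (7, 1024), (6, 256), (3, 16), (1, 4)])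
def d15 : List ℕ × List (ℕ × ℕ) := ([2, 2, 0, 3, 3, 0, 0, 0, 2, 0], [(9, 14324812), (15, 6694362), (14, 8593849), (19, 11613233), (20, 12727619), (22, 2370994), (6, 8859815), (13, 8852766), (18, 2167945), (2, 3331), (3, 8456241), (8, 69666), (10, 4273), (12, 8585218), (11, 128), (16, 10616993), (21, 8519731), (23, 147), (0, 146), (5, 130), (1, 128), (7, 131088), (4, 5104778), (17, 15796940), (7, 8688166), (1, 2637381), (5, 635148), (0, 8392456), (23, 5276480), (21, 829772), (16, 1072644), (11, 541252), (12, 5554240), (10, 33612), (8, 4473352), (3, 581696), (18, 1065024), (13, 49152), (6, 541184), (22, 524800), (20, 49152), (1, 16)])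
def d16 : List ℕ × List (ℕ × ℕ) := ([2, 1, 1, 1, 2, 1, 2, 2, 2, 2], [(19, 66122), (20, 66092), (4, 938), (15, 67456), (0, 1536), (3, 1638), (1, 4), (5, 64), (9, 1024), (13, 16384), (17, 262144), (21, 4194304), (22, 2201514), (21, 66466), (18, 230658), (17, 65920), (14, 107680), (13, 65920), (10, 512), (6, 32), (2, 2), (21, 4194304), (17, 262144), (13, 16384), (9, 1024), (5, 64), (1, 4)])
theorem ok0 : [d0].all (okStep gens) = true := by decide +kernel
theorem ok1 : [d1].all (okStep gens) = true := by decide +kernel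
theorem ok2 : [d2].all (okStep gens) = true := by decide +kernel
theorem ok3 : [d3].all (okStep gens) = true := by decide +kernel
theorem ok4 : [d4].all (okStep gens) = true := by decide +kernel
theorem ok5 : [d5].all (okStep gens) = true := by decide +kernel
theorem ok6 : [d6].all (okStep gens) = true := by decide +kernel
theorem ok7 : [d7].all (okStep gens) = true := by decide +kernel
theorem ok8 : [d8].all (okStep gens) = true := by decide +kernel
theorem ok9 : [d9].all (okStep gens) = true := by decide +kernel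
theorem ok10 : [d10].all (okStep gens) = true := by decide +kernel
theorem ok11 : [d11].all (okStep gens) = true := by decide +kernel
theorem ok12 : [d12].all (okStep gens) = true := by decide +kernel
theorem ok13 : [d13].all (okStep gens) = true := by decide +kernel
theorem ok14 : [d14].all (okStep gens) = true := by decide +kernel
theorem ok15 : [d15].all (okStep gens) = true := by decide +kernel
theorem ok16 : [d16].all (okStep gens) = true := by decide +kernel

noncomputable def s0 : {v : ℕ // bfInitN 5 gens reps ws = v} := by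
  refine ⟨?_, ?_⟩
  rotate_left
  conv => lhs; whnf

noncomputable def s1 : {v : ℕ // bfStepsN 5 [d0] s0.1 = v} := by
  refine ⟨?_, ?_⟩
  rotate_left
  conv => lhs; whnf

noncomputable def s2 : {v : ℕ // bfStepsN 5 [d1] s1.1 = v} := by
  refine ⟨?_, ?_⟩
  rotate_left
  conv => lhs; whnf

noncomputable def s3 : {v : ℕ // bfStepsN 5 [d2] s2.1 = v} := by
  refine ⟨?_, ?_⟩
  rotate_left
  conv => lhs; whnf

noncomputable def s4 : {v : ℕ // bfStepsN 5 [d3] s3.1 = v} := by
  refine ⟨?_, ?_⟩
  rotate_left
  conv => lhs; whnf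

noncomputable def s5 : {v : ℕ // bfStepsN 5 [d4] s4.1 = v} := by
  refine ⟨?_, ?_⟩
  rotate_left
  conv => lhs; whnf

noncomputable def s6 : {v : ℕ // bfStepsN 5 [d5] s5.1 = v} := by
  refine ⟨?_, ?_⟩
  rotate_left
  conv => lhs; whnf

noncomputable def s7 : {v : ℕ // bfStepsN 5 [d6] s6.1 = v} := by
  refine ⟨?_, ?_⟩
  rotate_left
  conv => lhs; whnf

noncomputable def s8 : {v : ℕ // bfStepsN 5 [d7] s7.1 = v} := by
  refine ⟨?_, ?_⟩
  rotate_left
  conv => lhs; whnf

noncomputable def s9 : {v : ℕ // bfStepsN 5 [d8] s8.1 = v} := by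
  refine ⟨?_, ?_⟩
  rotate_left
  conv => lhs; whnf

noncomputable def s10 : {v : ℕ // bfStepsN 5 [d9] s9.1 = v} := by
  refine ⟨?_, ?_⟩
  rotate_left
  conv => lhs; whnf

noncomputable def s11 : {v : ℕ // bfStepsN 5 [d10] s10.1 = v} := by
  refine ⟨?_, ?_⟩
  rotate_left
  conv => lhs; whnf

noncomputable def s12 : {v : ℕ // bfStepsN 5 [d11] s11.1 = v} := by
  refine ⟨?_, ?_⟩
  rotate_left
  conv => lhs; whnf

noncomputable def s13 : {v : ℕ // bfStepsN 5 [d12] s12.1 = v} := by
  refine ⟨?_, ?_⟩
  rotate_left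
  conv => lhs; whnf

noncomputable def s14 : {v : ℕ // bfStepsN 5 [d13] s13.1 = v} := by
  refine ⟨?_, ?_⟩
  rotate_left
  conv => lhs; whnf

noncomputable def s15 : {v : ℕ // bfStepsN 5 [d14] s14.1 = v} := by
  refine ⟨?_, ?_⟩
  rotate_left
  conv => lhs; whnf

noncomputable def s16 : {v : ℕ // bfStepsN 5 [d15] s15.1 = v} := by
  refine ⟨?_, ?_⟩
  rotate_left
  conv => lhs; whnf

noncomputable def s17 : {v : ℕ // bfStepsN 5 [d16] s16.1 = v} := by
  refine ⟨?_, ?_⟩
  rotate_left
  conv => lhs; whnf

noncomputable def fin : ℕ := s17.1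

theorem cnt_eq : (List.range 21).map (fun l => cntN n fin (l + 1)) = [198, 945, 652680, 1868400, 577584, 17136, 3515400, 2520, 54810, 72216, 7560, 7560, 198, 1153656, 120960, 15120, 72072, 153360, 98280, 0, 0] := by
  decide +kernel

theorem inv {Gd : Cl → ℕ → Prop} (hg : Cls Gd gens)
    (hr : ∀ r ∈ reps, r.1 < 2 ^ 24 ∧ r.2 < 2 ^ n ∧ Gd (cd r.1) r.2) : InvN Gd n fin := by
  have h0 : InvN Gd 5 s0.1 := s0.2 ▸ invN_init hg 5 hr ws
  have h1 : InvN Gd 5 s1.1 := s1.2 ▸ invN_steps hg ok0 h0
  have h2 : InvN Gd 5 s2.1 := s2.2 ▸ invN_steps hg ok1 h1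
  have h3 : InvN Gd 5 s3.1 := s3.2 ▸ invN_steps hg ok2 h2
  have h4 : InvN Gd 5 s4.1 := s4.2 ▸ invN_steps hg ok3 h3
  have h5 : InvN Gd 5 s5.1 := s5.2 ▸ invN_steps hg ok4 h4
  have h6 : InvN Gd 5 s6.1 := s6.2 ▸ invN_steps hg ok5 h5
  have h7 : InvN Gd 5 s7.1 := s7.2 ▸ invN_steps hg ok6 h6
  have h8 : InvN Gd 5 s8.1 := s8.2 ▸ invN_steps hg ok7 h7
  have h9 : InvN Gd 5 s9.1 := s9.2 ▸ invN_steps hg ok8 h8
  have h10 : InvN Gd 5 s10.1 := s10.2 ▸ invN_steps hg ok9 h9
  have h11 : InvN Gd 5 s11.1 := s11.2 ▸ invN_steps hg ok10 h10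
  have h12 : InvN Gd 5 s12.1 := s12.2 ▸ invN_steps hg ok11 h11
  have h13 : InvN Gd 5 s13.1 := s13.2 ▸ invN_steps hg ok12 h12
  have h14 : InvN Gd 5 s14.1 := s14.2 ▸ invN_steps hg ok13 h13
  have h15 : InvN Gd 5 s15.1 := s15.2 ▸ invN_steps hg ok14 h14
  have h16 : InvN Gd 5 s16.1 := s16.2 ▸ invN_steps hg ok15 h15
  have h17 : InvN Gd 5 s17.1 := s17.2 ▸ invN_steps hg ok16 h16
  exact h17

end

end CfsgMO.Bf8
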