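/-
Orbit enumeration for the axis number 9.
-/
import Cfsg.Agent.MO.BF

set_option autoImplicit false
set_option maxRecDepth 100000
set_option Elab.async false
set_option exponentiation.threshold 100000000

namespace CfsgMO.Bf9

noncomputable section

def n : ℕ := 5
def gens : List (List ℕ) := [[7463082, 6301952, 6340940, 6341642, 1566686, 6301147, 7407338, 7407626, 3403, 6688034, 6686127, 3402, 3533881, 5374958, 1737420, 12190350, 14970249, 15043529, 12872856, 1256801, 6963020, 7063468, 10390415, 10547908], [65802, 4402452, 4377426, 4445106, 4395951, 9982097, 6757294, 16732309, 5899005, 4329199, 5968785, 69868, 4588403, 8373637, 12252789, 10669400, 1768767, 8009800, 2103688, 8009796, 4720035, 8256605, 3075905, 16059163]]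
def reps : List (ℕ × ℕ) := [(8388608, 1), (11743232, 2), (15147008, 3), (10137600, 4), (13639680, 5), (11984896, 6), (12775424, 7), (11816960, 8), (8777728, 3), (8654848, 6), (8589312, 9), (8491008, 6), (12627968, 10), (16703488, 10), (4083712, 11), (25062, 12), (372920, 13), (1065446, 5), (754686, 13), (239563, 5), (767050, 5), (5702155, 14), (3666021, 12), (8192, 15), (9192, 15), (24576, 15), (81920, 15), (221797, 15), (307200, 15), (876544, 15), (1249976, 15), (3899392, 15), (7028736, 15), (8351744, 15), (8437760, 16)]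
def ws : List (List ℕ) := [[0, 0, 1, 0, 1, 1], [1, 0, 1, 0, 0, 0, 1], [0, 0, 1, 0, 0, 1, 0, 0, 1, 0], [0, 0, 0, 0, 1, 1], [0, 0, 1, 0, 1, 1, 0, 1, 1, 0], [0, 0, 0, 0, 0, 0, 0, 1], [0, 1, 1, 0, 1, 0, 0, 0, 0], [1, 0, 1, 1, 0, 1, 0, 0, 1], [1, 0, 0, 0, 0, 0, 0, 0, 1]]
def d0 : List ℕ × List (ℕ × ℕ) := ([0, 1, 0, 0, 1, 0, 1, 0, 0, 1, 0, 0], [(4, 14531951), (13, 1576389), (9, 4660623), (12, 14501967), (8, 3394756), (15, 327880), (2, 13059210), (11, 16400520), (16, 10634305), (7, 3146761), (14, 4326464), (6, 2098177), (23, 4064257), (10, 4325386), (3, 6422530), (17, 262179), (19, 4456483), (21, 1310721), (22, 34), (5, 262146), (18, 1048576), (20, 3), (1, 7720629), (0, 7655908), (20, 859756), (18, 2104536), (5, 11093512), (22, 525008), (21, 8552528), (19, 200460), (17, 8473992), (3, 8483092), (10, 64020), (23, 121044), (6, 55812), (14, 75780), (7, 77840), (16, 8192), (11, 4868), (2, 8720), (15, 8720), (8, 12816), (12, 528)])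
def d1 : List ℕ × List (ℕ × ℕ) := ([1, 1, 1, 1, 1, 1, 1, 0, 1, 0, 1], [(12, 9063288), (1, 3278684), (13, 5097152), (20, 15106753), (7, 9143313), (19, 4194888), (6, 8733733), (23, 511261), (5, 6603288), (10, 477717), (17, 6572301), (2, 2443273), (8, 6586377), (4, 6357512), (11, 360968), (9, 6373384), (14, 4227073), (21, 4521985), (15, 9), (16, 4194304), (22, 11090025), (16, 3052402), (18, 63973), (3, 10680724), (0, 166354), (15, 2113746), (21, 9595094), (14, 9044084), (9, 1194084), (11, 537876), (4, 664996), (8, 9577538), (2, 9045120), (17, 8921186), (10, 9969856), (5, 1061056), (23, 8322), (7, 4096), (20, 2), (13, 2), (1, 4096)])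
def d2 : List ℕ × List (ℕ × ℕ) := ([0, 0, 1, 0, 0, 1, 0, 1, 1, 0, 1], [(2, 10597649), (19, 7812851), (11, 5633115), (4, 16028937), (12, 1377059), (21, 14057795), (17, 8487488), (6, 4268929), (1, 4252801), (9, 13911177), (13, 8470912), (20, 329120), (15, 4260992), (5, 66945), (18, 8406024), (23, 82944), (0, 4277248), (22, 16640), (8, 66696), (3, 17536), (10, 81920), (16, 10633683), (7, 2243640), (14, 5813562), (10, 7873065), (3, 6431040), (8, 1092129), (22, 1841175), (0, 1216628), (23, 307764), (18, 8768), (5, 3153938), (15, 1058898), (20, 2234948), (13, 2625616), (9, 2099282), (1, 2756624), (6, 2623488), (17, 6164), (21, 2064)])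
def d3 : List ℕ × List (ℕ × ℕ) := ([0, 1, 1, 0, 1, 0, 0, 1], [(21, 59895), (23, 518787), (1, 5253589), (11, 5900273), (4, 4728805), (8, 1189032), (20, 235172), (19, 344076), (10, 4571304), (22, 234029), (9, 454761), (15, 81925), (12, 417837), (0, 24740), (2, 81952), (3, 483328), (5, 483392), (14, 466944), (13, 128), (7, 393216), (16, 393216), (18, 3678566), (17, 14255372), (16, 73), (7, 4226390), (13, 6343250), (6, 3705912), (14, 36896), (5, 6818068), (3, 1054737), (2, 4234241), (0, 11015424), (12, 6325248), (15, 1051136), (9, 5243906), (22, 8389632), (10, 1575170), (19, 10486018), (20, 8390672), (8, 2064), (4, 2)])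
def d4 : List ℕ × List (ℕ × ℕ) := ([1, 0, 0, 0, 0, 1, 0, 1, 1], [(11, 13604798), (5, 836609), (3, 12801862), (8, 11892290), (16, 4730951), (1, 7996549), (23, 7345797), (14, 3449924), (22, 566996), (4, 3543173), (18, 1586373), (10, 3186689), (7, 2785792), (17, 2621953), (12, 5), (19, 3187200), (20, 32832), (21, 8261), (2, 8768), (9, 32833), (13, 32832), (0, 32832), (15, 2305549), (6, 6307212), (0, 14702496), (13, 11098898), (9, 4021530), (2, 4986280), (21, 14374312), (20, 9372954), (19, 4476312), (12, 4262034), (17, 8733066), (7, 4524314), (10, 4538682), (18, 12583200), (4, 12667178), (22, 8405034), (14, 8454442), (23, 258), (1, 2336), (8, 40)])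
def d5 : List ℕ × List (ℕ × ℕ) := ([1, 0, 1, 1, 1, 0, 0, 1, 1, 1, 0, 1, 1, 1], [(1, 15440953), (14, 12357240), (13, 16745720), (3, 11802928), (18, 13639508), (21, 8492000), (8, 4722928), (10, 592596), (0, 9968224), (16, 13634128), (15, 530548), (22, 8919584), (20, 9050756), (7, 657488), (19, 2068), (2, 8395344), (4, 8519744), (5, 8525824), (23, 137792), (12, 131072), (17, 2121718), (12, 4538522), (11, 16311503), (9, 10248201), (6, 9551880), (23, 7423274), (5, 6653209), (4, 3957134), (2, 6037771), (19, 3204488), (7, 3408907), (20, 6357256), (22, 377866), (15, 2376960), (16, 16384), (0, 286730), (8, 2383872), (21, 278530), (18, 24576), (3, 16384)])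
def d6 : List ℕ × List (ℕ × ℕ) := ([0, 1, 0, 1, 0, 0, 1, 0, 1, 1, 1, 1, 1], [(2, 16556882), (9, 15755659), (5, 1231944), (8, 11108442), (23, 3194945), (18, 4794435), (15, 4733058), (1, 533633), (0, 2323480), (12, 4277256), (16, 7480400), (7, 6293528), (3, 6309888), (11, 2638864), (19, 3153984), (6, 1066000), (14, 1187840), (13, 1048576), (22, 3276816), (4, 1049600), (10, 2097152), (20, 2731719), (17, 5020183), (21, 8931745), (10, 373017), (4, 5026470), (22, 557387), (13, 9175140), (14, 8919883), (6, 626981), (19, 8491267), (11, 8651174), (3, 8426406), (7, 768), (16, 267047), (12, 262435), (0, 32770), (1, 8683808), (15, 262148), (18, 292), (23, 288), (5, 516)])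
def d7 : List ℕ × List (ℕ × ℕ) := ([0, 1, 0, 0, 0, 1, 0, 0, 1, 0, 1], [(16, 841), (13, 5508364), (4, 8805925), (9, 6686925), (12, 131203), (0, 4375694), (19, 1128), (20, 14827594), (22, 2149732), (10, 395592), (1, 180512), (23, 2539908), (15, 2230532), (18, 2228588), (3, 2097248), (21, 18436), (14, 2144), (2, 131520), (17, 480), (8, 12999271), (7, 15202366), (6, 10489893), (5, 13021718), (17, 14253062), (11, 8409622), (2, 10753539), (14, 11351050), (21, 1679376), (3, 263185), (18, 9474563), (15, 4788752), (23, 5840915), (1, 1062401), (10, 65552), (22, 77840), (20, 4624), (0, 8208), (12, 528), (9, 65536), (13, 65536)])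
def d8 : List ℕ × List (ℕ × ℕ) := ([1, 0, 1, 0, 1, 1, 1, 1, 0], [(9, 858564), (22, 8939794), (21, 1437144), (18, 9145565), (23, 536965), (0, 1202446), (4, 625996), (17, 6566), (19, 19620), (1, 65956), (14, 1094060), (20, 75808), (7, 46412), (3, 8452), (8, 105476), (11, 66564), (13, 99396), (15, 1092), (6, 66560), (16, 5152), (10, 4128), (5, 4), (12, 6234315), (2, 731890), (5, 10415888), (10, 10478352), (16, 15264001), (6, 4882699), (15, 4219667), (13, 7471257), (11, 8651152), (8, 8388762), (3, 9306626), (7, 13238787), (20, 934416), (14, 15204353), (1, 8781840), (19, 8520192), (17, 8388609), (4, 4194817), (0, 12845056), (18, 2097664)])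
def d9 : List ℕ × List (ℕ × ℕ) := ([1, 1, 0, 1, 0, 1, 1, 0, 0, 0, 1, 1, 0, 1], [(20, 4847605), (7, 12689706), (14, 7084645), (23, 7276090), (2, 7285088), (18, 2268769), (21, 66122), (22, 699195), (1, 34321), (17, 604024), (19, 100384), (0, 110160), (5, 69896), (3, 71440), (9, 41232), (15, 79872), (13, 1104), (12, 67584), (11, 1344), (4, 1024), (6, 65792), (8, 66560), (10, 11518559), (16, 13638441), (8, 5036038), (6, 672265), (4, 8843946), (11, 5911053), (12, 10543755), (13, 16416775), (15, 7094825), (9, 13123725), (3, 1310758), (5, 7749761), (0, 12058754), (19, 2228230), (17, 10502144), (1, 3162112), (22, 3408000), (21, 278660), (18, 9437312), (23, 1048576)])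
def d10 : List ℕ × List (ℕ × ℕ) := ([0, 1, 0, 1, 0, 0, 0, 0, 0, 0, 1, 1, 1, 0, 1], [(13, 2559171), (2, 10655226), (8, 13983363), (12, 14633577), (14, 4524779), (22, 8718408), (16, 11930728), (23, 655882), (10, 3702904), (21, 1051194), (17, 1083506), (0, 559810), (7, 524874), (6, 1049122), (19, 33298), (11, 295480), (18, 520), (3, 1049138), (9, 32800), (15, 1048592), (4, 1048576), (5, 6774283), (20, 932123), (4, 10861577), (15, 8483398), (9, 2762124), (1, 14709896), (3, 3080449), (18, 11229440), (11, 90241), (19, 131520), (6, 4333952), (7, 12801024), (0, 4349956), (17, 10572036), (21, 8471556), (10, 28672), (23, 94212), (16, 20736), (22, 16388), (14, 4100), (2, 8192)])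
def d11 : List ℕ × List (ℕ × ℕ) := ([0, 0, 1, 0, 0, 0, 0, 0, 1, 0], [(1, 15502521), (2, 5559368), (17, 4311961), (7, 3872), (8, 319504), (10, 124984), (11, 4767745), (18, 127544), (19, 8785), (9, 8474641), (0, 8482832), (20, 14696480), (12, 8470536), (22, 2170992), (4, 8486976), (13, 72), (3, 10518560), (15, 2162752), (5, 2113600), (21, 5346344), (6, 9633583), (14, 1684646), (5, 5613591), (23, 4982920), (16, 4202015), (15, 4859281), (3, 1453953), (13, 5114000), (4, 5246594), (22, 1578881), (12, 1573505), (20, 265222), (0, 900), (9, 658690), (19, 395520), (18, 131330), (11, 131456), (10, 130), (8, 130), (17, 6)])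
def d12 : List ℕ × List (ℕ × ℕ) := ([0, 0, 0, 1, 1, 1, 1, 1, 1], [(18, 15967334), (8, 8412379), (2, 8958658), (0, 1646250), (12, 6350000), (17, 8407642), (22, 2680530), (13, 3736184), (11, 12157178), (21, 1115714), (19, 8488080), (7, 115290), (3, 546), (15, 9519682), (9, 8470642), (14, 8454160), (16, 1049698), (23, 1049682), (1, 64), (5, 64), (6, 1040), (4, 6383721), (10, 13091778), (6, 7420678), (5, 10596352), (1, 4225536), (20, 9011980), (23, 2435201), (16, 6580736), (14, 436357), (9, 6426633), (15, 2891776), (3, 397569), (7, 534789), (19, 2240773), (21, 4456705), (11, 4595969), (22, 266241), (17, 266244), (12, 262149), (0, 262400), (8, 262144)])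
def d13 : List ℕ × List (ℕ × ℕ) := ([0, 0, 1, 0, 0, 0, 1, 0], [(22, 10788242), (1, 669353), (5, 3086476), (6, 12085900), (12, 2944924), (7, 11372800), (10, 10633496), (23, 3524892), (0, 1696008), (11, 1106716), (16, 16656), (20, 2531856), (13, 574216), (8, 2540044), (2, 2130432), (9, 2506768), (15, 671752), (17, 2113560), (21, 278528), (14, 786432), (3, 524288), (4, 2796739), (19, 10728430), (18, 8608971), (3, 3241121), (14, 8423494), (21, 5384198), (17, 13676225), (15, 8390976), (9, 5242945), (2, 4268419), (8, 1125571), (13, 13634721), (20, 69730), (16, 12587138), (11, 4199458), (0, 4256), (23, 1216), (10, 4198594), (7, 4198400), (6, 2)])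
def d14 : List ℕ × List (ℕ × ℕ) := ([1, 1, 1, 0, 0, 1, 0, 0, 0, 1, 1, 1, 0, 0, 0], [(10, 11840331), (11, 6742340), (12, 4710562), (4, 3662537), (1, 16548781), (20, 10788940), (13, 11289256), (15, 7078372), (21, 803588), (22, 8733352), (5, 279181), (0, 9125888), (14, 9110024), (9, 524620), (16, 9175052), (6, 655752), (7, 655616), (18, 8519692), (3, 655620), (19, 8519684), (2, 8519680), (23, 7709742), (17, 4586636), (2, 1587649), (19, 1132353), (8, 4467323), (3, 3529217), (18, 84177), (7, 6322291), (6, 1135152), (16, 1082883), (9, 3196931), (14, 5248033), (0, 5242882), (5, 7355410), (22, 2144258), (21, 1095680), (15, 1024), (13, 1051648), (20, 3088), (1, 6144), (4, 7168)])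
def d15 : List ℕ × List (ℕ × ℕ) := ([0, 1, 0, 0, 0, 1, 0, 1, 1, 1, 1, 0, 1, 1, 0], [(21, 9406899), (20, 8409847), (22, 8413335), (23, 12920), (1, 1039428), (16, 3852), (0, 976424), (15, 2068), (3, 930308), (4, 929796), (2, 131264), (17, 786432), (5, 64), (6, 16512), (7, 16384), (18, 524288), (19, 280420), (18, 28224), (14, 111264), (7, 1304), (6, 112440), (17, 6916), (2, 11776), (13, 1792), (12, 1792), (11, 1792), (4, 512), (0, 65536), (18, 524288), (7, 16384), (5, 64), (2, 131072)])
theorem ok0 : [d0].all (okStep gens) = true := by decide +kernel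
theorem ok1 : [d1].all (okStep gens) = true := by decide +kernel
theorem ok2 : [d2].all (okStep gens) = true := by decide +kernel
theorem ok3 : [d3].all (okStep gens) = true := by decide +kernel
theorem ok4 : [d4].all (okStep gens) = true := by decide +kernel
theorem ok5 : [d5].all (okStep gens) = true := by decide +kernel
theorem ok6 : [d6].all (okStep gens) = true := by decide +kernel
theorem ok7 : [d7].all (okStep gens) = true := by decide +kernel
theorem ok8 : [d8].all (okStep gens) = true := by decide +kernel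
theorem ok9 : [d9].all (okStep gens) = true := by decide +kernel
theorem ok10 : [d10].all (okStep gens) = true := by decide +kernel
theorem ok11 : [d11].all (okStep gens) = true := by decide +kernel
theorem ok12 : [d12].all (okStep gens) = true := by decide +kernel
theorem ok13 : [d13].all (okStep gens) = true := by decide +kernel
theorem ok14 : [d14].all (okStep gens) = true := by decide +kernel
theorem ok15 : [d15].all (okStep gens) = true := by decide +kernel

noncomputable def s0 : {v : ℕ // bfInitN 5 gens reps ws = v} := by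
  refine ⟨?_, ?_⟩
  rotate_left
  conv => lhs; whnf

noncomputable def s1 : {v : ℕ // bfStepsN 5 [d0] s0.1 = v} := by
  refine ⟨?_, ?_⟩
  rotate_left
  conv => lhs; whnf

noncomputable def s2 : {v : ℕ // bfStepsN 5 [d1] s1.1 = v} := by
  refine ⟨?_, ?_⟩
  rotate_left
  conv => lhs; whnf

noncomputable def s3 : {v : ℕ // bfStepsN 5 [d2] s2.1 = v} := by
  refine ⟨?_, ?_⟩
  rotate_left
  conv => lhs; whnf

noncomputable def s4 : {v : ℕ // bfStepsN 5 [d3] s3.1 = v} := by
  refine ⟨?_, ?_⟩
  rotate_left
  conv => lhs; whnf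

noncomputable def s5 : {v : ℕ // bfStepsN 5 [d4] s4.1 = v} := by
  refine ⟨?_, ?_⟩
  rotate_left
  conv => lhs; whnf

noncomputable def s6 : {v : ℕ // bfStepsN 5 [d5] s5.1 = v} := by
  refine ⟨?_, ?_⟩
  rotate_left
  conv => lhs; whnf

noncomputable def s7 : {v : ℕ // bfStepsN 5 [d6] s6.1 = v} := by
  refine ⟨?_, ?_⟩
  rotate_left
  conv => lhs; whnf

noncomputable def s8 : {v : ℕ // bfStepsN 5 [d7] s7.1 = v} := by
  refine ⟨?_, ?_⟩
  rotate_left
  conv => lhs; whnf

noncomputable def s9 : {v : ℕ // bfStepsN 5 [d8] s8.1 = v} := by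
  refine ⟨?_, ?_⟩
  rotate_left
  conv => lhs; whnf

noncomputable def s10 : {v : ℕ // bfStepsN 5 [d9] s9.1 = v} := by
  refine ⟨?_, ?_⟩
  rotate_left
  conv => lhs; whnf

noncomputable def s11 : {v : ℕ // bfStepsN 5 [d10] s10.1 = v} := by
  refine ⟨?_, ?_⟩
  rotate_left
  conv => lhs; whnf

noncomputable def s12 : {v : ℕ // bfStepsN 5 [d11] s11.1 = v} := by
  refine ⟨?_, ?_⟩
  rotate_left
  conv => lhs; whnf

noncomputable def s13 : {v : ℕ // bfStepsN 5 [d12] s12.1 = v} := by
  refine ⟨?_, ?_⟩
  rotate_left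
  conv => lhs; whnf

noncomputable def s14 : {v : ℕ // bfStepsN 5 [d13] s13.1 = v} := by
  refine ⟨?_, ?_⟩
  rotate_left
  conv => lhs; whnf

noncomputable def s15 : {v : ℕ // bfStepsN 5 [d14] s14.1 = v} := by
  refine ⟨?_, ?_⟩
  rotate_left
  conv => lhs; whnf

noncomputable def s16 : {v : ℕ // bfStepsN 5 [d15] s15.1 = v} := by
  refine ⟨?_, ?_⟩
  rotate_left
  conv => lhs; whnf

noncomputable def fin : ℕ := s16.1

theorem cnt_eq : (List.range 17).map (fun l => cntN n fin (l + 1)) = [3850, 154000, 100100, 924000, 2206600, 1047200, 15400, 231000, 231000, 2300, 4125, 750400, 2587200, 35200, 98279, 1, 0] := by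
  decide +kernel

theorem inv {Gd : Cl → ℕ → Prop} (hg : Cls Gd gens)
    (hr : ∀ r ∈ reps, r.1 < 2 ^ 24 ∧ r.2 < 2 ^ n ∧ Gd (cd r.1) r.2) : InvN Gd n fin := by
  have h0 : InvN Gd 5 s0.1 := s0.2 ▸ invN_init hg 5 hr ws
  have h1 : InvN Gd 5 s1.1 := s1.2 ▸ invN_steps hg ok0 h0
  have h2 : InvN Gd 5 s2.1 := s2.2 ▸ invN_steps hg ok1 h1
  have h3 : InvN Gd 5 s3.1 := s3.2 ▸ invN_steps hg ok2 h2
  have h4 : InvN Gd 5 s4.1 := s4.2 ▸ invN_steps hg ok3 h3
  have h5 : InvN Gd 5 s5.1 := s5.2 ▸ invN_steps hg ok4 h4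
  have h6 : InvN Gd 5 s6.1 := s6.2 ▸ invN_steps hg ok5 h5
  have h7 : InvN Gd 5 s7.1 := s7.2 ▸ invN_steps hg ok6 h6
  have h8 : InvN Gd 5 s8.1 := s8.2 ▸ invN_steps hg ok7 h7
  have h9 : InvN Gd 5 s9.1 := s9.2 ▸ invN_steps hg ok8 h8
  have h10 : InvN Gd 5 s10.1 := s10.2 ▸ invN_steps hg ok9 h9
  have h11 : InvN Gd 5 s11.1 := s11.2 ▸ invN_steps hg ok10 h10
  have h12 : InvN Gd 5 s12.1 := s12.2 ▸ invN_steps hg ok11 h11
  have h13 : InvN Gd 5 s13.1 := s13.2 ▸ invN_steps hg ok12 h12
  have h14 : InvN Gd 5 s14.1 := s14.2 ▸ invN_steps hg ok13 h13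
  have h15 : InvN Gd 5 s15.1 := s15.2 ▸ invN_steps hg ok14 h14
  have h16 : InvN Gd 5 s16.1 := s16.2 ▸ invN_steps hg ok15 h15
  exact h16

end

end CfsgMO.Bf9
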