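/-
The twelve axes satisfy the hypotheses.
-/
import Cfsg.Agent.MO.AxN0
import Cfsg.Agent.MO.AxN1
import Cfsg.Agent.MO.AxN2
import Cfsg.Agent.MO.AxN3
import Cfsg.Agent.MO.BF0
import Cfsg.Agent.MO.BF1
import Cfsg.Agent.MO.BF2
import Cfsg.Agent.MO.BF3
import Cfsg.Agent.MO.BF4
import Cfsg.Agent.MO.BF5
import Cfsg.Agent.MO.BF6
import Cfsg.Agent.MO.BF7
import Cfsg.Agent.MO.BF8
import Cfsg.Agent.MO.BF9
import Cfsg.Agent.MO.BF10
import Cfsg.Agent.MO.BF11

set_option autoImplicit false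
set_option maxRecDepth 100000

namespace CfsgMO.Ck

open Dat

noncomputable section

def wW : Fin 12 → Fin 12 → ℕ := ![![93150, 8197200, 8294400, 0, 0, 0, 0, 0, 0, 0, 0, 0],
  ![135, 64935, 483840, 7741440, 8294400, 0, 0, 0, 0, 0, 0, 0],
  ![1, 3542, 35927, 2007808, 971520, 5275648, 7254016, 1036288, 0, 0, 0, 0],
  ![0, 63, 2232, 137367, 151200, 3870720, 2225664, 96768, 6488064, 2064384, 1548288, 0],
  ![0, 15, 240, 33600, 54255, 430080, 860160, 0, 6881280, 491520, 7311360, 522240],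
  ![0, 0, 1, 660, 330, 2217999, 134024, 1848, 7817216, 275200, 6052992, 84480],
  ![0, 0, 27, 7452, 12960, 2631744, 321003, 8748, 7948800, 511488, 5142528, 0],
  ![0, 0, 891, 74844, 0, 8382528, 2020788, 133731, 5018112, 953856, 0, 0],
  ![0, 0, 0, 198, 945, 1399104, 72450, 198, 8186607, 106992, 6543936, 274320],
  ![0, 0, 0, 3850, 4125, 3010000, 284900, 2300, 6538400, 411775, 6329400, 0],
  ![0, 0, 0, 60, 1275, 1375680, 59520, 0, 8309760, 131520, 6435735, 271200],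
  ![0, 0, 0, 0, 2295, 483840, 0, 0, 8778240, 0, 6834240, 486135]]
def sS : Fin 12 → ℕ := ![93151, 4440, 506, 63, 16, 0, 3, 1, 0, 1, 0, 0]
def oO : Fin 12 → ℕ := ![196560, 11935123200, 1630347264000, 1466587938816000, 6599645724672000, 8601138282627072000, 438020931059712000, 1896194506752000, 48057153579122688000, 786389785840189440, 37845008443559116800, 1501786049347584000]
def pP : Fin 12 → Fin 12 := ![0, 0, 0, 1, 1, 2, 2, 2, 3, 3, 3, 4]
def tT : Fin 12 → ℤ := ![1048576, 131072, 106496, 59392, 49152, 48128, 49280, 63616, 46720, 50176, 46592, 45056]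

theorem okav : OkAv BB av := fun k => by
  have h : ∀ k < 13, okV BB (av k) = true := by decide +kernel
  by_cases hk : k < 13
  · exact h k hk
  · rw [show av k = [] by rw [av, gdL_eq, List.getD_eq_default _ _ (by simpa using hk)]]
    decide +kernel

theorem chkT_all : ∀ k : Fin 12, chkT av k.1 (tT k) = true := by decide +kernel

/-- the axis `k` is an image of the standard axis -/
def Ch' (D : Dat) (gel : ℕ → D.Γ) (k : ℕ) : Prop :=
  ∃ g ∈ D.GG (gel 54), g.1 (VV D BB av 0) = VV D BB av k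

variable {D : Dat} {gel : ℕ → D.Γ} {p0 : D.I} (hC : Ctx D BB tab amat gel av p0)
include hC

theorem ch_step {k l d1 d2 : ℕ} {w : List ℕ} (h1 : Ch' D gel k)
    (e : chkW tab av k l d1 d2 w = true) (ho : okW w = true) : Ch' D gel l := by
  obtain ⟨g, hg, e1⟩ := h1
  exact ⟨wd gel w * g, mul_mem (hC.al.wd_G ho) hg, by rw [mul_ap, e1, hC.al.chkW_sound hC.ok e]⟩

theorem part0 : Part (gel 54) p0 (aa D BB av) 0 (wW 0) (sS 0) :=
  part_run (Bf0.inv (cls_lab 3 lf0 (hg0 hC)) (hr0 hC)) Bf0.cnt_eq (by decide +kernel)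

theorem part1 : Part (gel 54) p0 (aa D BB av) 1 (wW 1) (sS 1) :=
  part_run (Bf1.inv (cls_lab 5 lf1 (hg1 hC)) (hr1 hC)) Bf1.cnt_eq (by decide +kernel)

theorem part2 : Part (gel 54) p0 (aa D BB av) 2 (wW 2) (sS 2) :=
  part_run (Bf2.inv (cls_lab 8 lf2 (hg2 hC)) (hr2 hC)) Bf2.cnt_eq (by decide +kernel)

theorem part3 : Part (gel 54) p0 (aa D BB av) 3 (wW 3) (sS 3) :=
  part_run (Bf3.inv (cls_lab 12 lf3 (hg3 hC)) (hr3 hC)) Bf3.cnt_eq (by decide +kernel)

theorem part4 : Part (gel 54) p0 (aa D BB av) 4 (wW 4) (sS 4) :=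
  part_run (Bf4.inv (cls_lab 11 lf4 (hg4 hC)) (hr4 hC)) Bf4.cnt_eq (by decide +kernel)

theorem part5 : Part (gel 54) p0 (aa D BB av) 5 (wW 5) (sS 5) :=
  part_run (Bf5.inv (cls_lab 19 lf5 (hg5 hC)) (hr5 hC)) Bf5.cnt_eq (by decide +kernel)

theorem part6 : Part (gel 54) p0 (aa D BB av) 6 (wW 6) (sS 6) :=
  part_run (Bf6.inv (cls_lab 15 lf6 (hg6 hC)) (hr6 hC)) Bf6.cnt_eq (by decide +kernel)

theorem part7 : Part (gel 54) p0 (aa D BB av) 7 (wW 7) (sS 7) :=
  part_run (Bf7.inv (cls_lab 8 lf7 (hg7 hC)) (hr7 hC)) Bf7.cnt_eq (by decide +kernel)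

theorem part8 : Part (gel 54) p0 (aa D BB av) 8 (wW 8) (sS 8) :=
  part_run (Bf8.inv (cls_lab 18 lf8 (hg8 hC)) (hr8 hC)) Bf8.cnt_eq (by decide +kernel)

theorem part9 : Part (gel 54) p0 (aa D BB av) 9 (wW 9) (sS 9) :=
  part_run (Bf9.inv (cls_lab 14 lf9 (hg9 hC)) (hr9 hC)) Bf9.cnt_eq (by decide +kernel)

theorem part10 : Part (gel 54) p0 (aa D BB av) 10 (wW 10) (sS 10) :=
  part_run (Bf10.inv (cls_lab 15 lf10 (hg10 hC)) (hr10 hC)) Bf10.cnt_eq (by decide +kernel)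

theorem part11 : Part (gel 54) p0 (aa D BB av) 11 (wW 11) (sS 11) :=
  part_run (Bf11.inv (cls_lab 5 lf11 (hg11 hC)) (hr11 hC)) Bf11.cnt_eq (by decide +kernel)

omit hC in
theorem ch0 : Ch' D gel 0 := ⟨1, one_mem _, rfl⟩
theorem ch1 : Ch' D gel 1 := ch_step hC ch0 a1 (by decide +kernel)
theorem ch2 : Ch' D gel 2 := ch_step hC ch0 a2 (by decide +kernel)
theorem ch3 : Ch' D gel 3 := ch_step hC (ch1 hC) a3 (by decide +kernel)
theorem ch4 : Ch' D gel 4 := ch_step hC (ch1 hC) a4 (by decide +kernel)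
theorem ch5 : Ch' D gel 5 := ch_step hC (ch2 hC) a5 (by decide +kernel)
theorem ch6 : Ch' D gel 6 := ch_step hC (ch2 hC) a6 (by decide +kernel)
theorem ch7 : Ch' D gel 7 := ch_step hC (ch2 hC) a7 (by decide +kernel)
theorem ch8 : Ch' D gel 8 := ch_step hC (ch3 hC) a8 (by decide +kernel)
theorem ch9 : Ch' D gel 9 := ch_step hC (ch3 hC) a9 (by decide +kernel)
theorem ch10 : Ch' D gel 10 := ch_step hC (ch3 hC) a10 (by decide +kernel)
theorem ch11 : Ch' D gel 11 := ch_step hC (ch4 hC) a11 (by decide +kernel)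

theorem inv2_aa (k : Fin 12) : inv2 (aa D BB av k) = tT k / 262144 := hC.inv2_eq (chkT_all k)

theorem hypA : HypA (gel 54) p0 (aa D BB av) wW sS oO pP where
  a0 := hC.e0
  mem := fun k => by
    fin_cases k
    exacts [ch0, ch1 hC, ch2 hC, ch3 hC, ch4 hC, ch5 hC, ch6 hC, ch7 hC, ch8 hC, ch9 hC, ch10 hC, ch11 hC]
  sep := fun k l h _ => by
    rw [inv2_aa hC, inv2_aa hC, div_left_inj' (by norm_num), Int.cast_inj] at h
    exact (by decide +kernel : ∀ k l, tT k = tT l → k = l) k l h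
  sep0 := fun k h => by
    rw [inv2_aa hC, div_eq_iff (by norm_num)] at h
    refine (by decide +kernel : ∀ k, tT k = 1048576 → k = 0) k ?_
    exact_mod_cast h.trans (by norm_num : (4 : ℚ) * 262144 = 1048576)
  part := fun k => by
    fin_cases k
    exacts [part0 hC, part1 hC, part2 hC, part3 hC, part4 hC, part5 hC, part6 hC, part7 hC, part8 hC, part9 hC, part10 hC, part11 hC]
  o0 := rfl
  edge := by decide +kernel
  tot := by decide +kernel
  totF := by decide +kernel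

end

end CfsgMO.Ck
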