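/-
The products of the involutions of two axes have order at most six.
-/
import Cfsg.Agent.MO.AxF
import Cfsg.Agent.MO.Ax3
import Cfsg.Agent.MO.Six
import Cfsg.Agent.MO.AxO0
import Cfsg.Agent.MO.AxO1
import Cfsg.Agent.MO.AxO2
import Cfsg.Agent.MO.AxO3
import Cfsg.Agent.MO.AxO4
import Cfsg.Agent.MO.AxO5
import Cfsg.Agent.MO.AxO6
import Cfsg.Agent.MO.AxO7
import Cfsg.Agent.MO.AxO8
import Cfsg.Agent.MO.AxO9
import Cfsg.Agent.MO.AxO10
import Cfsg.Agent.MO.AxO11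

set_option autoImplicit false
set_option maxRecDepth 100000

namespace CfsgMO.Ck

open Dat

noncomputable section

theorem tv0 : chkW tab av 0 0 0 0 [54] = true := by decide +kernel

variable {D : Dat} {gel : ℕ → D.Γ} {p0 : D.I} (hC : Ctx2 D BB tab amat gel av p0)
include hC

omit hC in
theorem cw0 : Ch D BB av gel 0 [] := ch_nil
theorem cw1 : Ch D BB av gel 1 [44, 53, 54] := hC.toCtx.ch cw0 a1
theorem cw2 : Ch D BB av gel 2 [44, 53, 43, 53, 54] := hC.toCtx.ch cw0 a2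
theorem cw3 : Ch D BB av gel 3 [44, 53, 54, 44, 53, 43, 53, 54] := hC.toCtx.ch (cw1 hC) a3
theorem cw4 : Ch D BB av gel 4 [44, 53, 54, 48, 53, 49, 53, 54] := hC.toCtx.ch (cw1 hC) a4
theorem cw5 : Ch D BB av gel 5 [44, 53, 43, 53, 54, 53, 49, 53, 39, 53, 54] := hC.toCtx.ch (cw2 hC) a5
theorem cw6 : Ch D BB av gel 6 [44, 53, 43, 53, 54, 53, 43, 53, 45, 53, 54] := hC.toCtx.ch (cw2 hC) a6
theorem cw7 : Ch D BB av gel 7 [44, 53, 43, 53, 54, 53, 42, 53, 38, 53, 54] := hC.toCtx.ch (cw2 hC) a7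
theorem cw8 : Ch D BB av gel 8 [44, 53, 54, 44, 53, 43, 53, 54, 42, 53, 47, 53, 54] := hC.toCtx.ch (cw3 hC) a8
theorem cw9 : Ch D BB av gel 9 [44, 53, 54, 44, 53, 43, 53, 54, 43, 53, 49, 53, 54] := hC.toCtx.ch (cw3 hC) a9
theorem cw10 : Ch D BB av gel 10 [44, 53, 54, 44, 53, 43, 53, 54, 47, 53, 51, 53, 54] := hC.toCtx.ch (cw3 hC) a10
theorem cw11 : Ch D BB av gel 11 [44, 53, 54, 48, 53, 49, 53, 54, 51, 53, 39, 53, 54] := hC.toCtx.ch (cw4 hC) a11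

theorem m0 : Lab2 D (aa D BB av 0) 3 (cd 1171) 4 :=
  hC.toCtx.lab2_sh 0 (by decide +kernel) (hC.od4 cw0 (by decide +kernel) o0_0)
    (hC.od4 cw0 (by decide +kernel) o0_1)

theorem m1 : Lab2 D (aa D BB av 0) 3 (cd 307200) 4 :=
  hC.toCtx.lab2_sh 0 (by decide +kernel) (hC.od2 cw0 (by decide +kernel) o1_0)
    (hC.od2 cw0 (by decide +kernel) o1_1)

theorem m2 : Lab2 D (aa D BB av 0) 3 (cd 7028736) 5 :=
  hC.toCtx.lab2_sh 0 (by decide +kernel) (hC.od2 cw0 (by decide +kernel) o2_0)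
    (hC.od2 cw0 (by decide +kernel) o2_1)

theorem m3 : Lab2 D (aa D BB av 0) 3 (cd 15417344) 6 :=
  hC.toCtx.lab2_sh 0 (by decide +kernel) (hC.od2 cw0 (by decide +kernel) o3_0)
    (hC.od2 cw0 (by decide +kernel) o3_1)

theorem mr0 : ∀ x ∈ reps0, x.1 < 2 ^ 24 ∧ x.2 < 2 ^ 3 ∧ Lab2 D (aa D BB av 0) 3 (cd x.1) x.2 :=
  List.forall_mem_cons.2 ⟨⟨by decide, by decide, lab2_fr (by decide)⟩,
  List.forall_mem_cons.2 ⟨⟨by decide, by decide, lab2_fr (by decide)⟩,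
  List.forall_mem_cons.2 ⟨⟨by decide, by decide, lab2_fr (by decide)⟩,
  List.forall_mem_cons.2 ⟨⟨by decide, by decide, m0 hC⟩,
  List.forall_mem_cons.2 ⟨⟨by decide, by decide, m1 hC⟩,
  List.forall_mem_cons.2 ⟨⟨by decide, by decide, m2 hC⟩,
  List.forall_mem_cons.2 ⟨⟨by decide, by decide, m3 hC⟩,
  List.forall_mem_nil _⟩⟩⟩⟩⟩⟩⟩

theorem ord0 (hI : Fintype.card D.I = 98280) (p : D.I) (η : F2) :
    Od D (aa D BB av 0) (D.ax p η) :=
  od_run hI (Bf0.inv (cls_lab2 3 (hg0 hC.toCtx)) (mr0 hC)) Bf0.cnt_eq (by decide +kernel) p η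

theorem m4 : Lab2 D (aa D BB av 1) 5 (cd 1171) 6 :=
  hC.toCtx.lab2_sh 1 (by decide +kernel) (hC.od4 (cw1 hC) (by decide +kernel) o4_0)
    (hC.od4 (cw1 hC) (by decide +kernel) o4_1)

theorem m5 : Lab2 D (aa D BB av 1) 5 (cd 8192) 6 :=
  hC.toCtx.lab2_sh 1 (by decide +kernel) (hC.od4 (cw1 hC) (by decide +kernel) o5_0)
    (hC.od4 (cw1 hC) (by decide +kernel) o5_1)

theorem m6 : Lab2 D (aa D BB av 1) 5 (cd 81920) 8 :=
  hC.toCtx.lab2_sh 1 (by decide +kernel) (hC.od2 (cw1 hC) (by decide +kernel) o6_0)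
    (hC.od2 (cw1 hC) (by decide +kernel) o6_1)

theorem m7 : Lab2 D (aa D BB av 1) 5 (cd 7028736) 7 :=
  hC.toCtx.lab2_sh 1 (by decide +kernel) (hC.od2 (cw1 hC) (by decide +kernel) o7_0)
    (hC.od2 (cw1 hC) (by decide +kernel) o7_1)

theorem mr1 : ∀ x ∈ reps1, x.1 < 2 ^ 24 ∧ x.2 < 2 ^ 4 ∧ Lab2 D (aa D BB av 1) 5 (cd x.1) x.2 :=
  List.forall_mem_cons.2 ⟨⟨by decide, by decide, lab2_fr (by decide)⟩,
  List.forall_mem_cons.2 ⟨⟨by decide, by decide, lab2_fr (by decide)⟩,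
  List.forall_mem_cons.2 ⟨⟨by decide, by decide, lab2_fr (by decide)⟩,
  List.forall_mem_cons.2 ⟨⟨by decide, by decide, lab2_fr (by decide)⟩,
  List.forall_mem_cons.2 ⟨⟨by decide, by decide, lab2_fr (by decide)⟩,
  List.forall_mem_cons.2 ⟨⟨by decide, by decide, m4 hC⟩,
  List.forall_mem_cons.2 ⟨⟨by decide, by decide, m5 hC⟩,
  List.forall_mem_cons.2 ⟨⟨by decide, by decide, m6 hC⟩,
  List.forall_mem_cons.2 ⟨⟨by decide, by decide, m7 hC⟩,
  List.forall_mem_nil _⟩⟩⟩⟩⟩⟩⟩⟩⟩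

theorem ord1 (hI : Fintype.card D.I = 98280) (p : D.I) (η : F2) :
    Od D (aa D BB av 1) (D.ax p η) :=
  od_run hI (Bf1.inv (cls_lab2 5 (hg1 hC.toCtx)) (mr1 hC)) Bf1.cnt_eq (by decide +kernel) p η

theorem m8 : Lab2 D (aa D BB av 2) 8 (cd 8192) 9 :=
  hC.toCtx.lab2_sh 2 (by decide +kernel) (hC.od4 (cw2 hC) (by decide +kernel) o8_0)
    (hC.od2 (cw2 hC) (by decide +kernel) o8_1)

theorem m9 : Lab2 D (aa D BB av 2) 8 (cd 150618) 9 :=
  hC.toCtx.lab2_sh 2 (by decide +kernel) (hC.od6 (cw2 hC) (by decide +kernel) o9_0)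
    (hC.od6 (cw2 hC) (by decide +kernel) o9_1)

theorem m10 : Lab2 D (aa D BB av 2) 8 (cd 172285) 9 :=
  hC.toCtx.lab2_sh 2 (by decide +kernel) (hC.od4 (cw2 hC) (by decide +kernel) o10_0)
    (hC.od4 (cw2 hC) (by decide +kernel) o10_1)

theorem m11 : Lab2 D (aa D BB av 2) 8 (cd 298020) 9 :=
  hC.toCtx.lab2_sh 2 (by decide +kernel) (hC.od6 (cw2 hC) (by decide +kernel) o11_0)
    (hC.od6 (cw2 hC) (by decide +kernel) o11_1)

theorem m12 : Lab2 D (aa D BB av 2) 8 (cd 655391) 9 :=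
  hC.toCtx.lab2_sh 2 (by decide +kernel) (hC.od4 (cw2 hC) (by decide +kernel) o12_0)
    (hC.od4 (cw2 hC) (by decide +kernel) o12_1)

theorem m13 : Lab2 D (aa D BB av 2) 8 (cd 7028736) 10 :=
  hC.toCtx.lab2_sh 2 (by decide +kernel) (hC.od4 (cw2 hC) (by decide +kernel) o13_0)
    (hC.od2 (cw2 hC) (by decide +kernel) o13_1)

theorem mr2 : ∀ x ∈ reps2, x.1 < 2 ^ 24 ∧ x.2 < 2 ^ 4 ∧ Lab2 D (aa D BB av 2) 8 (cd x.1) x.2 :=
  List.forall_mem_cons.2 ⟨⟨by decide, by decide, lab2_fr (by decide)⟩,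
  List.forall_mem_cons.2 ⟨⟨by decide, by decide, lab2_fr (by decide)⟩,
  List.forall_mem_cons.2 ⟨⟨by decide, by decide, lab2_fr (by decide)⟩,
  List.forall_mem_cons.2 ⟨⟨by decide, by decide, lab2_fr (by decide)⟩,
  List.forall_mem_cons.2 ⟨⟨by decide, by decide, lab2_fr (by decide)⟩,
  List.forall_mem_cons.2 ⟨⟨by decide, by decide, lab2_fr (by decide)⟩,
  List.forall_mem_cons.2 ⟨⟨by decide, by decide, lab2_fr (by decide)⟩,
  List.forall_mem_cons.2 ⟨⟨by decide, by decide, lab2_fr (by decide)⟩,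
  List.forall_mem_cons.2 ⟨⟨by decide, by decide, lab2_fr (by decide)⟩,
  List.forall_mem_cons.2 ⟨⟨by decide, by decide, m8 hC⟩,
  List.forall_mem_cons.2 ⟨⟨by decide, by decide, m9 hC⟩,
  List.forall_mem_cons.2 ⟨⟨by decide, by decide, m10 hC⟩,
  List.forall_mem_cons.2 ⟨⟨by decide, by decide, m11 hC⟩,
  List.forall_mem_cons.2 ⟨⟨by decide, by decide, m12 hC⟩,
  List.forall_mem_cons.2 ⟨⟨by decide, by decide, m13 hC⟩,
  List.forall_mem_nil _⟩⟩⟩⟩⟩⟩⟩⟩⟩⟩⟩⟩⟩⟩⟩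

theorem ord2 (hI : Fintype.card D.I = 98280) (p : D.I) (η : F2) :
    Od D (aa D BB av 2) (D.ax p η) :=
  od_run hI (Bf2.inv (cls_lab2 8 (hg2 hC.toCtx)) (mr2 hC)) Bf2.cnt_eq (by decide +kernel) p η

theorem m14 : Lab2 D (aa D BB av 3) 12 (cd 1955) 13 :=
  hC.toCtx.lab2_sh 3 (by decide +kernel) (hC.od6 (cw3 hC) (by decide +kernel) o14_0)
    (hC.od6 (cw3 hC) (by decide +kernel) o14_1)

theorem m15 : Lab2 D (aa D BB av 3) 12 (cd 8192) 13 :=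
  hC.toCtx.lab2_sh 3 (by decide +kernel) (hC.od4 (cw3 hC) (by decide +kernel) o15_0)
    (hC.od4 (cw3 hC) (by decide +kernel) o15_1)

theorem m16 : Lab2 D (aa D BB av 3) 12 (cd 9192) 13 :=
  hC.toCtx.lab2_sh 3 (by decide +kernel) (hC.od5 (cw3 hC) (by decide +kernel) o16_0)
    (hC.od5 (cw3 hC) (by decide +kernel) o16_1)

theorem m17 : Lab2 D (aa D BB av 3) 12 (cd 172285) 13 :=
  hC.toCtx.lab2_sh 3 (by decide +kernel) (hC.od6 (cw3 hC) (by decide +kernel) o17_0)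
    (hC.od6 (cw3 hC) (by decide +kernel) o17_1)

theorem m18 : Lab2 D (aa D BB av 3) 12 (cd 876544) 13 :=
  hC.toCtx.lab2_sh 3 (by decide +kernel) (hC.od4 (cw3 hC) (by decide +kernel) o18_0)
    (hC.od4 (cw3 hC) (by decide +kernel) o18_1)

theorem m19 : Lab2 D (aa D BB av 3) 12 (cd 880640) 14 :=
  hC.toCtx.lab2_sh 3 (by decide +kernel) (hC.od4 (cw3 hC) (by decide +kernel) o19_0)
    (hC.od2 (cw3 hC) (by decide +kernel) o19_1)

theorem m20 : Lab2 D (aa D BB av 3) 12 (cd 2109440) 13 :=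
  hC.toCtx.lab2_sh 3 (by decide +kernel) (hC.od4 (cw3 hC) (by decide +kernel) o20_0)
    (hC.od4 (cw3 hC) (by decide +kernel) o20_1)

theorem m21 : Lab2 D (aa D BB av 3) 12 (cd 4719774) 13 :=
  hC.toCtx.lab2_sh 3 (by decide +kernel) (hC.od6 (cw3 hC) (by decide +kernel) o21_0)
    (hC.od6 (cw3 hC) (by decide +kernel) o21_1)

theorem m22 : Lab2 D (aa D BB av 3) 12 (cd 7028736) 13 :=
  hC.toCtx.lab2_sh 3 (by decide +kernel) (hC.od4 (cw3 hC) (by decide +kernel) o22_0)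
    (hC.od4 (cw3 hC) (by decide +kernel) o22_1)

theorem m23 : Lab2 D (aa D BB av 3) 12 (cd 9105408) 13 :=
  hC.toCtx.lab2_sh 3 (by decide +kernel) (hC.od4 (cw3 hC) (by decide +kernel) o23_0)
    (hC.od2 (cw3 hC) (by decide +kernel) o23_1)

theorem mr3 : ∀ x ∈ reps3, x.1 < 2 ^ 24 ∧ x.2 < 2 ^ 4 ∧ Lab2 D (aa D BB av 3) 12 (cd x.1) x.2 :=
  List.forall_mem_cons.2 ⟨⟨by decide, by decide, lab2_fr (by decide)⟩,
  List.forall_mem_cons.2 ⟨⟨by decide, by decide, lab2_fr (by decide)⟩,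
  List.forall_mem_cons.2 ⟨⟨by decide, by decide, lab2_fr (by decide)⟩,
  List.forall_mem_cons.2 ⟨⟨by decide, by decide, lab2_fr (by decide)⟩,
  List.forall_mem_cons.2 ⟨⟨by decide, by decide, lab2_fr (by decide)⟩,
  List.forall_mem_cons.2 ⟨⟨by decide, by decide, lab2_fr (by decide)⟩,
  List.forall_mem_cons.2 ⟨⟨by decide, by decide, lab2_fr (by decide)⟩,
  List.forall_mem_cons.2 ⟨⟨by decide, by decide, lab2_fr (by decide)⟩,
  List.forall_mem_cons.2 ⟨⟨by decide, by decide, lab2_fr (by decide)⟩,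
  List.forall_mem_cons.2 ⟨⟨by decide, by decide, lab2_fr (by decide)⟩,
  List.forall_mem_cons.2 ⟨⟨by decide, by decide, lab2_fr (by decide)⟩,
  List.forall_mem_cons.2 ⟨⟨by decide, by decide, lab2_fr (by decide)⟩,
  List.forall_mem_cons.2 ⟨⟨by decide, by decide, lab2_fr (by decide)⟩,
  List.forall_mem_cons.2 ⟨⟨by decide, by decide, lab2_fr (by decide)⟩,
  List.forall_mem_cons.2 ⟨⟨by decide, by decide, lab2_fr (by decide)⟩,
  List.forall_mem_cons.2 ⟨⟨by decide, by decide, lab2_fr (by decide)⟩,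
  List.forall_mem_cons.2 ⟨⟨by decide, by decide, m14 hC⟩,
  List.forall_mem_cons.2 ⟨⟨by decide, by decide, m15 hC⟩,
  List.forall_mem_cons.2 ⟨⟨by decide, by decide, m16 hC⟩,
  List.forall_mem_cons.2 ⟨⟨by decide, by decide, m17 hC⟩,
  List.forall_mem_cons.2 ⟨⟨by decide, by decide, m18 hC⟩,
  List.forall_mem_cons.2 ⟨⟨by decide, by decide, m19 hC⟩,
  List.forall_mem_cons.2 ⟨⟨by decide, by decide, m20 hC⟩,
  List.forall_mem_cons.2 ⟨⟨by decide, by decide, m21 hC⟩,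
  List.forall_mem_cons.2 ⟨⟨by decide, by decide, m22 hC⟩,
  List.forall_mem_cons.2 ⟨⟨by decide, by decide, m23 hC⟩,
  List.forall_mem_nil _⟩⟩⟩⟩⟩⟩⟩⟩⟩⟩⟩⟩⟩⟩⟩⟩⟩⟩⟩⟩⟩⟩⟩⟩⟩⟩

theorem ord3 (hI : Fintype.card D.I = 98280) (p : D.I) (η : F2) :
    Od D (aa D BB av 3) (D.ax p η) :=
  od_run hI (Bf3.inv (cls_lab2 12 (hg3 hC.toCtx)) (mr3 hC)) Bf3.cnt_eq (by decide +kernel) p η

theorem m24 : Lab2 D (aa D BB av 4) 11 (cd 8192) 12 :=
  hC.toCtx.lab2_sh 4 (by decide +kernel) (hC.od4 (cw4 hC) (by decide +kernel) o24_0)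
    (hC.od4 (cw4 hC) (by decide +kernel) o24_1)

theorem m25 : Lab2 D (aa D BB av 4) 11 (cd 9192) 12 :=
  hC.toCtx.lab2_sh 4 (by decide +kernel) (hC.od5 (cw4 hC) (by decide +kernel) o25_0)
    (hC.od5 (cw4 hC) (by decide +kernel) o25_1)

theorem m26 : Lab2 D (aa D BB av 4) 11 (cd 49152) 13 :=
  hC.toCtx.lab2_sh 4 (by decide +kernel) (hC.od4 (cw4 hC) (by decide +kernel) o26_0)
    (hC.od2 (cw4 hC) (by decide +kernel) o26_1)

theorem m27 : Lab2 D (aa D BB av 4) 11 (cd 172285) 12 :=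
  hC.toCtx.lab2_sh 4 (by decide +kernel) (hC.od6 (cw4 hC) (by decide +kernel) o27_0)
    (hC.od6 (cw4 hC) (by decide +kernel) o27_1)

theorem m28 : Lab2 D (aa D BB av 4) 11 (cd 1249976) 12 :=
  hC.toCtx.lab2_sh 4 (by decide +kernel) (hC.od6 (cw4 hC) (by decide +kernel) o28_0)
    (hC.od6 (cw4 hC) (by decide +kernel) o28_1)

theorem m29 : Lab2 D (aa D BB av 4) 11 (cd 2588672) 12 :=
  hC.toCtx.lab2_sh 4 (by decide +kernel) (hC.od4 (cw4 hC) (by decide +kernel) o29_0)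
    (hC.od4 (cw4 hC) (by decide +kernel) o29_1)

theorem m30 : Lab2 D (aa D BB av 4) 11 (cd 7028736) 12 :=
  hC.toCtx.lab2_sh 4 (by decide +kernel) (hC.od4 (cw4 hC) (by decide +kernel) o30_0)
    (hC.od4 (cw4 hC) (by decide +kernel) o30_1)

theorem mr4 : ∀ x ∈ reps4, x.1 < 2 ^ 24 ∧ x.2 < 2 ^ 4 ∧ Lab2 D (aa D BB av 4) 11 (cd x.1) x.2 :=
  List.forall_mem_cons.2 ⟨⟨by decide, by decide, lab2_fr (by decide)⟩,
  List.forall_mem_cons.2 ⟨⟨by decide, by decide, lab2_fr (by decide)⟩,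
  List.forall_mem_cons.2 ⟨⟨by decide, by decide, lab2_fr (by decide)⟩,
  List.forall_mem_cons.2 ⟨⟨by decide, by decide, lab2_fr (by decide)⟩,
  List.forall_mem_cons.2 ⟨⟨by decide, by decide, lab2_fr (by decide)⟩,
  List.forall_mem_cons.2 ⟨⟨by decide, by decide, lab2_fr (by decide)⟩,
  List.forall_mem_cons.2 ⟨⟨by decide, by decide, lab2_fr (by decide)⟩,
  List.forall_mem_cons.2 ⟨⟨by decide, by decide, lab2_fr (by decide)⟩,
  List.forall_mem_cons.2 ⟨⟨by decide, by decide, lab2_fr (by decide)⟩,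
  List.forall_mem_cons.2 ⟨⟨by decide, by decide, lab2_fr (by decide)⟩,
  List.forall_mem_cons.2 ⟨⟨by decide, by decide, lab2_fr (by decide)⟩,
  List.forall_mem_cons.2 ⟨⟨by decide, by decide, lab2_fr (by decide)⟩,
  List.forall_mem_cons.2 ⟨⟨by decide, by decide, lab2_fr (by decide)⟩,
  List.forall_mem_cons.2 ⟨⟨by decide, by decide, lab2_fr (by decide)⟩,
  List.forall_mem_cons.2 ⟨⟨by decide, by decide, m24 hC⟩,
  List.forall_mem_cons.2 ⟨⟨by decide, by decide, m25 hC⟩,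
  List.forall_mem_cons.2 ⟨⟨by decide, by decide, m26 hC⟩,
  List.forall_mem_cons.2 ⟨⟨by decide, by decide, m27 hC⟩,
  List.forall_mem_cons.2 ⟨⟨by decide, by decide, m28 hC⟩,
  List.forall_mem_cons.2 ⟨⟨by decide, by decide, m29 hC⟩,
  List.forall_mem_cons.2 ⟨⟨by decide, by decide, m30 hC⟩,
  List.forall_mem_nil _⟩⟩⟩⟩⟩⟩⟩⟩⟩⟩⟩⟩⟩⟩⟩⟩⟩⟩⟩⟩⟩

theorem ord4 (hI : Fintype.card D.I = 98280) (p : D.I) (η : F2) :
    Od D (aa D BB av 4) (D.ax p η) :=
  od_run hI (Bf4.inv (cls_lab2 11 (hg4 hC.toCtx)) (mr4 hC)) Bf4.cnt_eq (by decide +kernel) p η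

theorem m31 : Lab2 D (aa D BB av 5) 19 (cd 1171) 20 :=
  hC.toCtx.lab2_sh 5 (by decide +kernel) (hC.od6 (cw5 hC) (by decide +kernel) o31_0)
    (hC.od5 (cw5 hC) (by decide +kernel) o31_1)

theorem m32 : Lab2 D (aa D BB av 5) 19 (cd 8192) 20 :=
  hC.toCtx.lab2_sh 5 (by decide +kernel) (hC.od6 (cw5 hC) (by decide +kernel) o32_0)
    (hC.od6 (cw5 hC) (by decide +kernel) o32_1)

theorem m33 : Lab2 D (aa D BB av 5) 19 (cd 49379) 20 :=
  hC.toCtx.lab2_sh 5 (by decide +kernel) (hC.od6 (cw5 hC) (by decide +kernel) o33_0)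
    (hC.od4 (cw5 hC) (by decide +kernel) o33_1)

theorem m34 : Lab2 D (aa D BB av 5) 19 (cd 81920) 20 :=
  hC.toCtx.lab2_sh 5 (by decide +kernel) (hC.od4 (cw5 hC) (by decide +kernel) o34_0)
    (hC.od4 (cw5 hC) (by decide +kernel) o34_1)

theorem m35 : Lab2 D (aa D BB av 5) 19 (cd 150618) 20 :=
  hC.toCtx.lab2_sh 5 (by decide +kernel) (hC.od6 (cw5 hC) (by decide +kernel) o35_0)
    (hC.od6 (cw5 hC) (by decide +kernel) o35_1)

theorem m36 : Lab2 D (aa D BB av 5) 19 (cd 172285) 20 :=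
  hC.toCtx.lab2_sh 5 (by decide +kernel) (hC.od6 (cw5 hC) (by decide +kernel) o36_0)
    (hC.od6 (cw5 hC) (by decide +kernel) o36_1)

theorem m37 : Lab2 D (aa D BB av 5) 19 (cd 317791) 20 :=
  hC.toCtx.lab2_sh 5 (by decide +kernel) (hC.od6 (cw5 hC) (by decide +kernel) o37_0)
    (hC.od5 (cw5 hC) (by decide +kernel) o37_1)

theorem m38 : Lab2 D (aa D BB av 5) 19 (cd 880640) 20 :=
  hC.toCtx.lab2_sh 5 (by decide +kernel) (hC.od4 (cw5 hC) (by decide +kernel) o38_0)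
    (hC.od4 (cw5 hC) (by decide +kernel) o38_1)

theorem m39 : Lab2 D (aa D BB av 5) 19 (cd 1814528) 20 :=
  hC.toCtx.lab2_sh 5 (by decide +kernel) (hC.od6 (cw5 hC) (by decide +kernel) o39_0)
    (hC.od6 (cw5 hC) (by decide +kernel) o39_1)

theorem m40 : Lab2 D (aa D BB av 5) 19 (cd 1846439) 20 :=
  hC.toCtx.lab2_sh 5 (by decide +kernel) (hC.od5 (cw5 hC) (by decide +kernel) o40_0)
    (hC.od4 (cw5 hC) (by decide +kernel) o40_1)

theorem m41 : Lab2 D (aa D BB av 5) 19 (cd 1990657) 20 :=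
  hC.toCtx.lab2_sh 5 (by decide +kernel) (hC.od6 (cw5 hC) (by decide +kernel) o41_0)
    (hC.od4 (cw5 hC) (by decide +kernel) o41_1)

theorem m42 : Lab2 D (aa D BB av 5) 19 (cd 7028736) 20 :=
  hC.toCtx.lab2_sh 5 (by decide +kernel) (hC.od4 (cw5 hC) (by decide +kernel) o42_0)
    (hC.od4 (cw5 hC) (by decide +kernel) o42_1)

theorem m43 : Lab2 D (aa D BB av 5) 19 (cd 8540162) 20 :=
  hC.toCtx.lab2_sh 5 (by decide +kernel) (hC.od6 (cw5 hC) (by decide +kernel) o43_0)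
    (hC.od5 (cw5 hC) (by decide +kernel) o43_1)

theorem m44 : Lab2 D (aa D BB av 5) 19 (cd 10817761) 20 :=
  hC.toCtx.lab2_sh 5 (by decide +kernel) (hC.od5 (cw5 hC) (by decide +kernel) o44_0)
    (hC.od5 (cw5 hC) (by decide +kernel) o44_1)

theorem mr5 : ∀ x ∈ reps5, x.1 < 2 ^ 24 ∧ x.2 < 2 ^ 5 ∧ Lab2 D (aa D BB av 5) 19 (cd x.1) x.2 :=
  List.forall_mem_cons.2 ⟨⟨by decide, by decide, lab2_fr (by decide)⟩,
  List.forall_mem_cons.2 ⟨⟨by decide, by decide, lab2_fr (by decide)⟩,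
  List.forall_mem_cons.2 ⟨⟨by decide, by decide, lab2_fr (by decide)⟩,
  List.forall_mem_cons.2 ⟨⟨by decide, by decide, lab2_fr (by decide)⟩,
  List.forall_mem_cons.2 ⟨⟨by decide, by decide, lab2_fr (by decide)⟩,
  List.forall_mem_cons.2 ⟨⟨by decide, by decide, lab2_fr (by decide)⟩,
  List.forall_mem_cons.2 ⟨⟨by decide, by decide, lab2_fr (by decide)⟩,
  List.forall_mem_cons.2 ⟨⟨by decide, by decide, lab2_fr (by decide)⟩,
  List.forall_mem_cons.2 ⟨⟨by decide, by decide, lab2_fr (by decide)⟩,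
  List.forall_mem_cons.2 ⟨⟨by decide, by decide, lab2_fr (by decide)⟩,
  List.forall_mem_cons.2 ⟨⟨by decide, by decide, lab2_fr (by decide)⟩,
  List.forall_mem_cons.2 ⟨⟨by decide, by decide, lab2_fr (by decide)⟩,
  List.forall_mem_cons.2 ⟨⟨by decide, by decide, lab2_fr (by decide)⟩,
  List.forall_mem_cons.2 ⟨⟨by decide, by decide, lab2_fr (by decide)⟩,
  List.forall_mem_cons.2 ⟨⟨by decide, by decide, lab2_fr (by decide)⟩,
  List.forall_mem_cons.2 ⟨⟨by decide, by decide, lab2_fr (by decide)⟩,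
  List.forall_mem_cons.2 ⟨⟨by decide, by decide, lab2_fr (by decide)⟩,
  List.forall_mem_cons.2 ⟨⟨by decide, by decide, lab2_fr (by decide)⟩,
  List.forall_mem_cons.2 ⟨⟨by decide, by decide, lab2_fr (by decide)⟩,
  List.forall_mem_cons.2 ⟨⟨by decide, by decide, lab2_fr (by decide)⟩,
  List.forall_mem_cons.2 ⟨⟨by decide, by decide, lab2_fr (by decide)⟩,
  List.forall_mem_cons.2 ⟨⟨by decide, by decide, lab2_fr (by decide)⟩,
  List.forall_mem_cons.2 ⟨⟨by decide, by decide, lab2_fr (by decide)⟩,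
  List.forall_mem_cons.2 ⟨⟨by decide, by decide, lab2_fr (by decide)⟩,
  List.forall_mem_cons.2 ⟨⟨by decide, by decide, lab2_fr (by decide)⟩,
  List.forall_mem_cons.2 ⟨⟨by decide, by decide, lab2_fr (by decide)⟩,
  List.forall_mem_cons.2 ⟨⟨by decide, by decide, lab2_fr (by decide)⟩,
  List.forall_mem_cons.2 ⟨⟨by decide, by decide, lab2_fr (by decide)⟩,
  List.forall_mem_cons.2 ⟨⟨by decide, by decide, lab2_fr (by decide)⟩,
  List.forall_mem_cons.2 ⟨⟨by decide, by decide, lab2_fr (by decide)⟩,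
  List.forall_mem_cons.2 ⟨⟨by decide, by decide, lab2_fr (by decide)⟩,
  List.forall_mem_cons.2 ⟨⟨by decide, by decide, lab2_fr (by decide)⟩,
  List.forall_mem_cons.2 ⟨⟨by decide, by decide, lab2_fr (by decide)⟩,
  List.forall_mem_cons.2 ⟨⟨by decide, by decide, lab2_fr (by decide)⟩,
  List.forall_mem_cons.2 ⟨⟨by decide, by decide, lab2_fr (by decide)⟩,
  List.forall_mem_cons.2 ⟨⟨by decide, by decide, lab2_fr (by decide)⟩,
  List.forall_mem_cons.2 ⟨⟨by decide, by decide, lab2_fr (by decide)⟩,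
  List.forall_mem_cons.2 ⟨⟨by decide, by decide, m31 hC⟩,
  List.forall_mem_cons.2 ⟨⟨by decide, by decide, m32 hC⟩,
  List.forall_mem_cons.2 ⟨⟨by decide, by decide, m33 hC⟩,
  List.forall_mem_cons.2 ⟨⟨by decide, by decide, m34 hC⟩,
  List.forall_mem_cons.2 ⟨⟨by decide, by decide, m35 hC⟩,
  List.forall_mem_cons.2 ⟨⟨by decide, by decide, m36 hC⟩,
  List.forall_mem_cons.2 ⟨⟨by decide, by decide, m37 hC⟩,
  List.forall_mem_cons.2 ⟨⟨by decide, by decide, m38 hC⟩,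
  List.forall_mem_cons.2 ⟨⟨by decide, by decide, m39 hC⟩,
  List.forall_mem_cons.2 ⟨⟨by decide, by decide, m40 hC⟩,
  List.forall_mem_cons.2 ⟨⟨by decide, by decide, m41 hC⟩,
  List.forall_mem_cons.2 ⟨⟨by decide, by decide, m42 hC⟩,
  List.forall_mem_cons.2 ⟨⟨by decide, by decide, m43 hC⟩,
  List.forall_mem_cons.2 ⟨⟨by decide, by decide, m44 hC⟩,
  List.forall_mem_nil _⟩⟩⟩⟩⟩⟩⟩⟩⟩⟩⟩⟩⟩⟩⟩⟩⟩⟩⟩⟩⟩⟩⟩⟩⟩⟩⟩⟩⟩⟩⟩⟩⟩⟩⟩⟩⟩⟩⟩⟩⟩⟩⟩⟩⟩⟩⟩⟩⟩⟩⟩

theorem ord5 (hI : Fintype.card D.I = 98280) (p : D.I) (η : F2) :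
    Od D (aa D BB av 5) (D.ax p η) :=
  od_run hI (Bf5.inv (cls_lab2 19 (hg5 hC.toCtx)) (mr5 hC)) Bf5.cnt_eq (by decide +kernel) p η

theorem m45 : Lab2 D (aa D BB av 6) 15 (cd 1171) 16 :=
  hC.toCtx.lab2_sh 6 (by decide +kernel) (hC.od6 (cw6 hC) (by decide +kernel) o45_0)
    (hC.od6 (cw6 hC) (by decide +kernel) o45_1)

theorem m46 : Lab2 D (aa D BB av 6) 15 (cd 1955) 16 :=
  hC.toCtx.lab2_sh 6 (by decide +kernel) (hC.od5 (cw6 hC) (by decide +kernel) o46_0)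
    (hC.od5 (cw6 hC) (by decide +kernel) o46_1)

theorem m47 : Lab2 D (aa D BB av 6) 15 (cd 9192) 16 :=
  hC.toCtx.lab2_sh 6 (by decide +kernel) (hC.od5 (cw6 hC) (by decide +kernel) o47_0)
    (hC.od6 (cw6 hC) (by decide +kernel) o47_1)

theorem m48 : Lab2 D (aa D BB av 6) 15 (cd 33697) 16 :=
  hC.toCtx.lab2_sh 6 (by decide +kernel) (hC.od4 (cw6 hC) (by decide +kernel) o48_0)
    (hC.od4 (cw6 hC) (by decide +kernel) o48_1)

theorem m49 : Lab2 D (aa D BB av 6) 15 (cd 81920) 16 :=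
  hC.toCtx.lab2_sh 6 (by decide +kernel) (hC.od4 (cw6 hC) (by decide +kernel) o49_0)
    (hC.od6 (cw6 hC) (by decide +kernel) o49_1)

theorem m50 : Lab2 D (aa D BB av 6) 15 (cd 196608) 16 :=
  hC.toCtx.lab2_sh 6 (by decide +kernel) (hC.od4 (cw6 hC) (by decide +kernel) o50_0)
    (hC.od6 (cw6 hC) (by decide +kernel) o50_1)

theorem m51 : Lab2 D (aa D BB av 6) 15 (cd 217196) 16 :=
  hC.toCtx.lab2_sh 6 (by decide +kernel) (hC.od6 (cw6 hC) (by decide +kernel) o51_0)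
    (hC.od6 (cw6 hC) (by decide +kernel) o51_1)

theorem m52 : Lab2 D (aa D BB av 6) 15 (cd 2228224) 16 :=
  hC.toCtx.lab2_sh 6 (by decide +kernel) (hC.od4 (cw6 hC) (by decide +kernel) o52_0)
    (hC.od6 (cw6 hC) (by decide +kernel) o52_1)

theorem m53 : Lab2 D (aa D BB av 6) 15 (cd 4419584) 16 :=
  hC.toCtx.lab2_sh 6 (by decide +kernel) (hC.od6 (cw6 hC) (by decide +kernel) o53_0)
    (hC.od4 (cw6 hC) (by decide +kernel) o53_1)

theorem m54 : Lab2 D (aa D BB av 6) 15 (cd 7028736) 16 :=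
  hC.toCtx.lab2_sh 6 (by decide +kernel) (hC.od6 (cw6 hC) (by decide +kernel) o54_0)
    (hC.od4 (cw6 hC) (by decide +kernel) o54_1)

theorem m55 : Lab2 D (aa D BB av 6) 15 (cd 8781824) 17 :=
  hC.toCtx.lab2_sh 6 (by decide +kernel) (hC.od2 (cw6 hC) (by decide +kernel) o55_0)
    (hC.od6 (cw6 hC) (by decide +kernel) o55_1)

theorem mr6 : ∀ x ∈ reps6, x.1 < 2 ^ 24 ∧ x.2 < 2 ^ 5 ∧ Lab2 D (aa D BB av 6) 15 (cd x.1) x.2 :=
  List.forall_mem_cons.2 ⟨⟨by decide, by decide, lab2_fr (by decide)⟩,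
  List.forall_mem_cons.2 ⟨⟨by decide, by decide, lab2_fr (by decide)⟩,
  List.forall_mem_cons.2 ⟨⟨by decide, by decide, lab2_fr (by decide)⟩,
  List.forall_mem_cons.2 ⟨⟨by decide, by decide, lab2_fr (by decide)⟩,
  List.forall_mem_cons.2 ⟨⟨by decide, by decide, lab2_fr (by decide)⟩,
  List.forall_mem_cons.2 ⟨⟨by decide, by decide, lab2_fr (by decide)⟩,
  List.forall_mem_cons.2 ⟨⟨by decide, by decide, lab2_fr (by decide)⟩,
  List.forall_mem_cons.2 ⟨⟨by decide, by decide, lab2_fr (by decide)⟩,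
  List.forall_mem_cons.2 ⟨⟨by decide, by decide, lab2_fr (by decide)⟩,
  List.forall_mem_cons.2 ⟨⟨by decide, by decide, lab2_fr (by decide)⟩,
  List.forall_mem_cons.2 ⟨⟨by decide, by decide, lab2_fr (by decide)⟩,
  List.forall_mem_cons.2 ⟨⟨by decide, by decide, lab2_fr (by decide)⟩,
  List.forall_mem_cons.2 ⟨⟨by decide, by decide, lab2_fr (by decide)⟩,
  List.forall_mem_cons.2 ⟨⟨by decide, by decide, lab2_fr (by decide)⟩,
  List.forall_mem_cons.2 ⟨⟨by decide, by decide, lab2_fr (by decide)⟩,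
  List.forall_mem_cons.2 ⟨⟨by decide, by decide, lab2_fr (by decide)⟩,
  List.forall_mem_cons.2 ⟨⟨by decide, by decide, lab2_fr (by decide)⟩,
  List.forall_mem_cons.2 ⟨⟨by decide, by decide, lab2_fr (by decide)⟩,
  List.forall_mem_cons.2 ⟨⟨by decide, by decide, lab2_fr (by decide)⟩,
  List.forall_mem_cons.2 ⟨⟨by decide, by decide, lab2_fr (by decide)⟩,
  List.forall_mem_cons.2 ⟨⟨by decide, by decide, lab2_fr (by decide)⟩,
  List.forall_mem_cons.2 ⟨⟨by decide, by decide, lab2_fr (by decide)⟩,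
  List.forall_mem_cons.2 ⟨⟨by decide, by decide, lab2_fr (by decide)⟩,
  List.forall_mem_cons.2 ⟨⟨by decide, by decide, m45 hC⟩,
  List.forall_mem_cons.2 ⟨⟨by decide, by decide, m46 hC⟩,
  List.forall_mem_cons.2 ⟨⟨by decide, by decide, m47 hC⟩,
  List.forall_mem_cons.2 ⟨⟨by decide, by decide, m48 hC⟩,
  List.forall_mem_cons.2 ⟨⟨by decide, by decide, m49 hC⟩,
  List.forall_mem_cons.2 ⟨⟨by decide, by decide, m50 hC⟩,
  List.forall_mem_cons.2 ⟨⟨by decide, by decide, m51 hC⟩,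
  List.forall_mem_cons.2 ⟨⟨by decide, by decide, m52 hC⟩,
  List.forall_mem_cons.2 ⟨⟨by decide, by decide, m53 hC⟩,
  List.forall_mem_cons.2 ⟨⟨by decide, by decide, m54 hC⟩,
  List.forall_mem_cons.2 ⟨⟨by decide, by decide, m55 hC⟩,
  List.forall_mem_nil _⟩⟩⟩⟩⟩⟩⟩⟩⟩⟩⟩⟩⟩⟩⟩⟩⟩⟩⟩⟩⟩⟩⟩⟩⟩⟩⟩⟩⟩⟩⟩⟩⟩⟩

theorem ord6 (hI : Fintype.card D.I = 98280) (p : D.I) (η : F2) :
    Od D (aa D BB av 6) (D.ax p η) :=
  od_run hI (Bf6.inv (cls_lab2 15 (hg6 hC.toCtx)) (mr6 hC)) Bf6.cnt_eq (by decide +kernel) p η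

theorem m56 : Lab2 D (aa D BB av 7) 8 (cd 1171) 9 :=
  hC.toCtx.lab2_sh 7 (by decide +kernel) (hC.od6 (cw7 hC) (by decide +kernel) o56_0)
    (hC.od6 (cw7 hC) (by decide +kernel) o56_1)

theorem m57 : Lab2 D (aa D BB av 7) 8 (cd 1955) 9 :=
  hC.toCtx.lab2_sh 7 (by decide +kernel) (hC.od5 (cw7 hC) (by decide +kernel) o57_0)
    (hC.od5 (cw7 hC) (by decide +kernel) o57_1)

theorem m58 : Lab2 D (aa D BB av 7) 8 (cd 8192) 9 :=
  hC.toCtx.lab2_sh 7 (by decide +kernel) (hC.od6 (cw7 hC) (by decide +kernel) o58_0)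
    (hC.od4 (cw7 hC) (by decide +kernel) o58_1)

theorem m59 : Lab2 D (aa D BB av 7) 8 (cd 9192) 9 :=
  hC.toCtx.lab2_sh 7 (by decide +kernel) (hC.od6 (cw7 hC) (by decide +kernel) o59_0)
    (hC.od6 (cw7 hC) (by decide +kernel) o59_1)

theorem m60 : Lab2 D (aa D BB av 7) 8 (cd 132162) 9 :=
  hC.toCtx.lab2_sh 7 (by decide +kernel) (hC.od4 (cw7 hC) (by decide +kernel) o60_0)
    (hC.od4 (cw7 hC) (by decide +kernel) o60_1)

theorem m61 : Lab2 D (aa D BB av 7) 8 (cd 2965504) 10 :=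
  hC.toCtx.lab2_sh 7 (by decide +kernel) (hC.od2 (cw7 hC) (by decide +kernel) o61_0)
    (hC.od6 (cw7 hC) (by decide +kernel) o61_1)

theorem m62 : Lab2 D (aa D BB av 7) 8 (cd 6733824) 9 :=
  hC.toCtx.lab2_sh 7 (by decide +kernel) (hC.od6 (cw7 hC) (by decide +kernel) o62_0)
    (hC.od2 (cw7 hC) (by decide +kernel) o62_1)

theorem m63 : Lab2 D (aa D BB av 7) 8 (cd 7028736) 9 :=
  hC.toCtx.lab2_sh 7 (by decide +kernel) (hC.od6 (cw7 hC) (by decide +kernel) o63_0)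
    (hC.od4 (cw7 hC) (by decide +kernel) o63_1)

theorem m64 : Lab2 D (aa D BB av 7) 8 (cd 7491584) 9 :=
  hC.toCtx.lab2_sh 7 (by decide +kernel) (hC.od6 (cw7 hC) (by decide +kernel) o64_0)
    (hC.od4 (cw7 hC) (by decide +kernel) o64_1)

theorem mr7 : ∀ x ∈ reps7, x.1 < 2 ^ 24 ∧ x.2 < 2 ^ 4 ∧ Lab2 D (aa D BB av 7) 8 (cd x.1) x.2 :=
  List.forall_mem_cons.2 ⟨⟨by decide, by decide, lab2_fr (by decide)⟩,
  List.forall_mem_cons.2 ⟨⟨by decide, by decide, lab2_fr (by decide)⟩,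
  List.forall_mem_cons.2 ⟨⟨by decide, by decide, lab2_fr (by decide)⟩,
  List.forall_mem_cons.2 ⟨⟨by decide, by decide, lab2_fr (by decide)⟩,
  List.forall_mem_cons.2 ⟨⟨by decide, by decide, lab2_fr (by decide)⟩,
  List.forall_mem_cons.2 ⟨⟨by decide, by decide, lab2_fr (by decide)⟩,
  List.forall_mem_cons.2 ⟨⟨by decide, by decide, lab2_fr (by decide)⟩,
  List.forall_mem_cons.2 ⟨⟨by decide, by decide, lab2_fr (by decide)⟩,
  List.forall_mem_cons.2 ⟨⟨by decide, by decide, lab2_fr (by decide)⟩,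
  List.forall_mem_cons.2 ⟨⟨by decide, by decide, lab2_fr (by decide)⟩,
  List.forall_mem_cons.2 ⟨⟨by decide, by decide, m56 hC⟩,
  List.forall_mem_cons.2 ⟨⟨by decide, by decide, m57 hC⟩,
  List.forall_mem_cons.2 ⟨⟨by decide, by decide, m58 hC⟩,
  List.forall_mem_cons.2 ⟨⟨by decide, by decide, m59 hC⟩,
  List.forall_mem_cons.2 ⟨⟨by decide, by decide, m60 hC⟩,
  List.forall_mem_cons.2 ⟨⟨by decide, by decide, m61 hC⟩,
  List.forall_mem_cons.2 ⟨⟨by decide, by decide, m62 hC⟩,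
  List.forall_mem_cons.2 ⟨⟨by decide, by decide, m63 hC⟩,
  List.forall_mem_cons.2 ⟨⟨by decide, by decide, m64 hC⟩,
  List.forall_mem_nil _⟩⟩⟩⟩⟩⟩⟩⟩⟩⟩⟩⟩⟩⟩⟩⟩⟩⟩⟩

theorem ord7 (hI : Fintype.card D.I = 98280) (p : D.I) (η : F2) :
    Od D (aa D BB av 7) (D.ax p η) :=
  od_run hI (Bf7.inv (cls_lab2 8 (hg7 hC.toCtx)) (mr7 hC)) Bf7.cnt_eq (by decide +kernel) p η

theorem m65 : Lab2 D (aa D BB av 8) 18 (cd 1171) 19 :=
  hC.toCtx.lab2_sh 8 (by decide +kernel) (hC.od6 (cw8 hC) (by decide +kernel) o65_0)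
    (hC.od5 (cw8 hC) (by decide +kernel) o65_1)

theorem m66 : Lab2 D (aa D BB av 8) 18 (cd 1955) 19 :=
  hC.toCtx.lab2_sh 8 (by decide +kernel) (hC.od6 (cw8 hC) (by decide +kernel) o66_0)
    (hC.od6 (cw8 hC) (by decide +kernel) o66_1)

theorem m67 : Lab2 D (aa D BB av 8) 18 (cd 8192) 19 :=
  hC.toCtx.lab2_sh 8 (by decide +kernel) (hC.od4 (cw8 hC) (by decide +kernel) o67_0)
    (hC.od5 (cw8 hC) (by decide +kernel) o67_1)

theorem m68 : Lab2 D (aa D BB av 8) 18 (cd 81920) 19 :=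
  hC.toCtx.lab2_sh 8 (by decide +kernel) (hC.od6 (cw8 hC) (by decide +kernel) o68_0)
    (hC.od5 (cw8 hC) (by decide +kernel) o68_1)

theorem m69 : Lab2 D (aa D BB av 8) 18 (cd 262144) 19 :=
  hC.toCtx.lab2_sh 8 (by decide +kernel) (hC.od4 (cw8 hC) (by decide +kernel) o69_0)
    (hC.od6 (cw8 hC) (by decide +kernel) o69_1)

theorem m70 : Lab2 D (aa D BB av 8) 18 (cd 307200) 19 :=
  hC.toCtx.lab2_sh 8 (by decide +kernel) (hC.od4 (cw8 hC) (by decide +kernel) o70_0)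
    (hC.od6 (cw8 hC) (by decide +kernel) o70_1)

theorem m71 : Lab2 D (aa D BB av 8) 18 (cd 1990656) 19 :=
  hC.toCtx.lab2_sh 8 (by decide +kernel) (hC.od6 (cw8 hC) (by decide +kernel) o71_0)
    (hC.od6 (cw8 hC) (by decide +kernel) o71_1)

theorem m72 : Lab2 D (aa D BB av 8) 18 (cd 3104768) 19 :=
  hC.toCtx.lab2_sh 8 (by decide +kernel) (hC.od6 (cw8 hC) (by decide +kernel) o72_0)
    (hC.od6 (cw8 hC) (by decide +kernel) o72_1)

theorem m73 : Lab2 D (aa D BB av 8) 18 (cd 3154029) 19 :=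
  hC.toCtx.lab2_sh 8 (by decide +kernel) (hC.od5 (cw8 hC) (by decide +kernel) o73_0)
    (hC.od5 (cw8 hC) (by decide +kernel) o73_1)

theorem m74 : Lab2 D (aa D BB av 8) 18 (cd 4325641) 19 :=
  hC.toCtx.lab2_sh 8 (by decide +kernel) (hC.od4 (cw8 hC) (by decide +kernel) o74_0)
    (hC.od6 (cw8 hC) (by decide +kernel) o74_1)

theorem m75 : Lab2 D (aa D BB av 8) 18 (cd 5566483) 19 :=
  hC.toCtx.lab2_sh 8 (by decide +kernel) (hC.od4 (cw8 hC) (by decide +kernel) o75_0)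
    (hC.od4 (cw8 hC) (by decide +kernel) o75_1)

theorem m76 : Lab2 D (aa D BB av 8) 18 (cd 6807552) 19 :=
  hC.toCtx.lab2_sh 8 (by decide +kernel) (hC.od6 (cw8 hC) (by decide +kernel) o76_0)
    (hC.od4 (cw8 hC) (by decide +kernel) o76_1)

theorem m77 : Lab2 D (aa D BB av 8) 18 (cd 7028736) 19 :=
  hC.toCtx.lab2_sh 8 (by decide +kernel) (hC.od5 (cw8 hC) (by decide +kernel) o77_0)
    (hC.od4 (cw8 hC) (by decide +kernel) o77_1)

theorem m78 : Lab2 D (aa D BB av 8) 18 (cd 7655424) 19 :=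
  hC.toCtx.lab2_sh 8 (by decide +kernel) (hC.od5 (cw8 hC) (by decide +kernel) o78_0)
    (hC.od6 (cw8 hC) (by decide +kernel) o78_1)

theorem m79 : Lab2 D (aa D BB av 8) 18 (cd 8540162) 19 :=
  hC.toCtx.lab2_sh 8 (by decide +kernel) (hC.od5 (cw8 hC) (by decide +kernel) o79_0)
    (hC.od6 (cw8 hC) (by decide +kernel) o79_1)

theorem m80 : Lab2 D (aa D BB av 8) 18 (cd 9720033) 19 :=
  hC.toCtx.lab2_sh 8 (by decide +kernel) (hC.od6 (cw8 hC) (by decide +kernel) o80_0)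
    (hC.od6 (cw8 hC) (by decide +kernel) o80_1)

theorem m81 : Lab2 D (aa D BB av 8) 18 (cd 10317852) 19 :=
  hC.toCtx.lab2_sh 8 (by decide +kernel) (hC.od5 (cw8 hC) (by decide +kernel) o81_0)
    (hC.od5 (cw8 hC) (by decide +kernel) o81_1)

theorem m82 : Lab2 D (aa D BB av 8) 18 (cd 10379264) 19 :=
  hC.toCtx.lab2_sh 8 (by decide +kernel) (hC.od6 (cw8 hC) (by decide +kernel) o82_0)
    (hC.od6 (cw8 hC) (by decide +kernel) o82_1)

theorem m83 : Lab2 D (aa D BB av 8) 18 (cd 10817761) 19 :=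
  hC.toCtx.lab2_sh 8 (by decide +kernel) (hC.od6 (cw8 hC) (by decide +kernel) o83_0)
    (hC.od6 (cw8 hC) (by decide +kernel) o83_1)

theorem m84 : Lab2 D (aa D BB av 8) 18 (cd 11190272) 19 :=
  hC.toCtx.lab2_sh 8 (by decide +kernel) (hC.od4 (cw8 hC) (by decide +kernel) o84_0)
    (hC.od6 (cw8 hC) (by decide +kernel) o84_1)

theorem m85 : Lab2 D (aa D BB av 8) 18 (cd 12882145) 19 :=
  hC.toCtx.lab2_sh 8 (by decide +kernel) (hC.od6 (cw8 hC) (by decide +kernel) o85_0)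
    (hC.od6 (cw8 hC) (by decide +kernel) o85_1)

theorem mr8 : ∀ x ∈ reps8, x.1 < 2 ^ 24 ∧ x.2 < 2 ^ 5 ∧ Lab2 D (aa D BB av 8) 18 (cd x.1) x.2 :=
  List.forall_mem_cons.2 ⟨⟨by decide, by decide, lab2_fr (by decide)⟩,
  List.forall_mem_cons.2 ⟨⟨by decide, by decide, lab2_fr (by decide)⟩,
  List.forall_mem_cons.2 ⟨⟨by decide, by decide, lab2_fr (by decide)⟩,
  List.forall_mem_cons.2 ⟨⟨by decide, by decide, lab2_fr (by decide)⟩,
  List.forall_mem_cons.2 ⟨⟨by decide, by decide, lab2_fr (by decide)⟩,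
  List.forall_mem_cons.2 ⟨⟨by decide, by decide, lab2_fr (by decide)⟩,
  List.forall_mem_cons.2 ⟨⟨by decide, by decide, lab2_fr (by decide)⟩,
  List.forall_mem_cons.2 ⟨⟨by decide, by decide, lab2_fr (by decide)⟩,
  List.forall_mem_cons.2 ⟨⟨by decide, by decide, lab2_fr (by decide)⟩,
  List.forall_mem_cons.2 ⟨⟨by decide, by decide, lab2_fr (by decide)⟩,
  List.forall_mem_cons.2 ⟨⟨by decide, by decide, lab2_fr (by decide)⟩,
  List.forall_mem_cons.2 ⟨⟨by decide, by decide, lab2_fr (by decide)⟩,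
  List.forall_mem_cons.2 ⟨⟨by decide, by decide, lab2_fr (by decide)⟩,
  List.forall_mem_cons.2 ⟨⟨by decide, by decide, lab2_fr (by decide)⟩,
  List.forall_mem_cons.2 ⟨⟨by decide, by decide, lab2_fr (by decide)⟩,
  List.forall_mem_cons.2 ⟨⟨by decide, by decide, lab2_fr (by decide)⟩,
  List.forall_mem_cons.2 ⟨⟨by decide, by decide, lab2_fr (by decide)⟩,
  List.forall_mem_cons.2 ⟨⟨by decide, by decide, lab2_fr (by decide)⟩,
  List.forall_mem_cons.2 ⟨⟨by decide, by decide, lab2_fr (by decide)⟩,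
  List.forall_mem_cons.2 ⟨⟨by decide, by decide, lab2_fr (by decide)⟩,
  List.forall_mem_cons.2 ⟨⟨by decide, by decide, lab2_fr (by decide)⟩,
  List.forall_mem_cons.2 ⟨⟨by decide, by decide, lab2_fr (by decide)⟩,
  List.forall_mem_cons.2 ⟨⟨by decide, by decide, lab2_fr (by decide)⟩,
  List.forall_mem_cons.2 ⟨⟨by decide, by decide, lab2_fr (by decide)⟩,
  List.forall_mem_cons.2 ⟨⟨by decide, by decide, lab2_fr (by decide)⟩,
  List.forall_mem_cons.2 ⟨⟨by decide, by decide, lab2_fr (by decide)⟩,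
  List.forall_mem_cons.2 ⟨⟨by decide, by decide, lab2_fr (by decide)⟩,
  List.forall_mem_cons.2 ⟨⟨by decide, by decide, lab2_fr (by decide)⟩,
  List.forall_mem_cons.2 ⟨⟨by decide, by decide, lab2_fr (by decide)⟩,
  List.forall_mem_cons.2 ⟨⟨by decide, by decide, lab2_fr (by decide)⟩,
  List.forall_mem_cons.2 ⟨⟨by decide, by decide, lab2_fr (by decide)⟩,
  List.forall_mem_cons.2 ⟨⟨by decide, by decide, lab2_fr (by decide)⟩,
  List.forall_mem_cons.2 ⟨⟨by decide, by decide, lab2_fr (by decide)⟩,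
  List.forall_mem_cons.2 ⟨⟨by decide, by decide, lab2_fr (by decide)⟩,
  List.forall_mem_cons.2 ⟨⟨by decide, by decide, lab2_fr (by decide)⟩,
  List.forall_mem_cons.2 ⟨⟨by decide, by decide, lab2_fr (by decide)⟩,
  List.forall_mem_cons.2 ⟨⟨by decide, by decide, lab2_fr (by decide)⟩,
  List.forall_mem_cons.2 ⟨⟨by decide, by decide, lab2_fr (by decide)⟩,
  List.forall_mem_cons.2 ⟨⟨by decide, by decide, lab2_fr (by decide)⟩,
  List.forall_mem_cons.2 ⟨⟨by decide, by decide, lab2_fr (by decide)⟩,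
  List.forall_mem_cons.2 ⟨⟨by decide, by decide, lab2_fr (by decide)⟩,
  List.forall_mem_cons.2 ⟨⟨by decide, by decide, lab2_fr (by decide)⟩,
  List.forall_mem_cons.2 ⟨⟨by decide, by decide, lab2_fr (by decide)⟩,
  List.forall_mem_cons.2 ⟨⟨by decide, by decide, lab2_fr (by decide)⟩,
  List.forall_mem_cons.2 ⟨⟨by decide, by decide, lab2_fr (by decide)⟩,
  List.forall_mem_cons.2 ⟨⟨by decide, by decide, lab2_fr (by decide)⟩,
  List.forall_mem_cons.2 ⟨⟨by decide, by decide, lab2_fr (by decide)⟩,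
  List.forall_mem_cons.2 ⟨⟨by decide, by decide, lab2_fr (by decide)⟩,
  List.forall_mem_cons.2 ⟨⟨by decide, by decide, lab2_fr (by decide)⟩,
  List.forall_mem_cons.2 ⟨⟨by decide, by decide, lab2_fr (by decide)⟩,
  List.forall_mem_cons.2 ⟨⟨by decide, by decide, lab2_fr (by decide)⟩,
  List.forall_mem_cons.2 ⟨⟨by decide, by decide, lab2_fr (by decide)⟩,
  List.forall_mem_cons.2 ⟨⟨by decide, by decide, lab2_fr (by decide)⟩,
  List.forall_mem_cons.2 ⟨⟨by decide, by decide, lab2_fr (by decide)⟩,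
  List.forall_mem_cons.2 ⟨⟨by decide, by decide, lab2_fr (by decide)⟩,
  List.forall_mem_cons.2 ⟨⟨by decide, by decide, lab2_fr (by decide)⟩,
  List.forall_mem_cons.2 ⟨⟨by decide, by decide, lab2_fr (by decide)⟩,
  List.forall_mem_cons.2 ⟨⟨by decide, by decide, lab2_fr (by decide)⟩,
  List.forall_mem_cons.2 ⟨⟨by decide, by decide, lab2_fr (by decide)⟩,
  List.forall_mem_cons.2 ⟨⟨by decide, by decide, lab2_fr (by decide)⟩,
  List.forall_mem_cons.2 ⟨⟨by decide, by decide, lab2_fr (by decide)⟩,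
  List.forall_mem_cons.2 ⟨⟨by decide, by decide, lab2_fr (by decide)⟩,
  List.forall_mem_cons.2 ⟨⟨by decide, by decide, lab2_fr (by decide)⟩,
  List.forall_mem_cons.2 ⟨⟨by decide, by decide, lab2_fr (by decide)⟩,
  List.forall_mem_cons.2 ⟨⟨by decide, by decide, lab2_fr (by decide)⟩,
  List.forall_mem_cons.2 ⟨⟨by decide, by decide, m65 hC⟩,
  List.forall_mem_cons.2 ⟨⟨by decide, by decide, m66 hC⟩,
  List.forall_mem_cons.2 ⟨⟨by decide, by decide, m67 hC⟩,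
  List.forall_mem_cons.2 ⟨⟨by decide, by decide, m68 hC⟩,
  List.forall_mem_cons.2 ⟨⟨by decide, by decide, m69 hC⟩,
  List.forall_mem_cons.2 ⟨⟨by decide, by decide, m70 hC⟩,
  List.forall_mem_cons.2 ⟨⟨by decide, by decide, m71 hC⟩,
  List.forall_mem_cons.2 ⟨⟨by decide, by decide, m72 hC⟩,
  List.forall_mem_cons.2 ⟨⟨by decide, by decide, m73 hC⟩,
  List.forall_mem_cons.2 ⟨⟨by decide, by decide, m74 hC⟩,
  List.forall_mem_cons.2 ⟨⟨by decide, by decide, m75 hC⟩,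
  List.forall_mem_cons.2 ⟨⟨by decide, by decide, m76 hC⟩,
  List.forall_mem_cons.2 ⟨⟨by decide, by decide, m77 hC⟩,
  List.forall_mem_cons.2 ⟨⟨by decide, by decide, m78 hC⟩,
  List.forall_mem_cons.2 ⟨⟨by decide, by decide, m79 hC⟩,
  List.forall_mem_cons.2 ⟨⟨by decide, by decide, m80 hC⟩,
  List.forall_mem_cons.2 ⟨⟨by decide, by decide, m81 hC⟩,
  List.forall_mem_cons.2 ⟨⟨by decide, by decide, m82 hC⟩,
  List.forall_mem_cons.2 ⟨⟨by decide, by decide, m83 hC⟩,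
  List.forall_mem_cons.2 ⟨⟨by decide, by decide, m84 hC⟩,
  List.forall_mem_cons.2 ⟨⟨by decide, by decide, m85 hC⟩,
  List.forall_mem_nil _⟩⟩⟩⟩⟩⟩⟩⟩⟩⟩⟩⟩⟩⟩⟩⟩⟩⟩⟩⟩⟩⟩⟩⟩⟩⟩⟩⟩⟩⟩⟩⟩⟩⟩⟩⟩⟩⟩⟩⟩⟩⟩⟩⟩⟩⟩⟩⟩⟩⟩⟩⟩⟩⟩⟩⟩⟩⟩⟩⟩⟩⟩⟩⟩⟩⟩⟩⟩⟩⟩⟩⟩⟩⟩⟩⟩⟩⟩⟩⟩⟩⟩⟩⟩⟩⟩

theorem ord8 (hI : Fintype.card D.I = 98280) (p : D.I) (η : F2) :
    Od D (aa D BB av 8) (D.ax p η) :=
  od_run hI (Bf8.inv (cls_lab2 18 (hg8 hC.toCtx)) (mr8 hC)) Bf8.cnt_eq (by decide +kernel) p η

theorem m86 : Lab2 D (aa D BB av 9) 14 (cd 8192) 15 :=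
  hC.toCtx.lab2_sh 9 (by decide +kernel) (hC.od5 (cw9 hC) (by decide +kernel) o86_0)
    (hC.od4 (cw9 hC) (by decide +kernel) o86_1)

theorem m87 : Lab2 D (aa D BB av 9) 14 (cd 9192) 15 :=
  hC.toCtx.lab2_sh 9 (by decide +kernel) (hC.od4 (cw9 hC) (by decide +kernel) o87_0)
    (hC.od4 (cw9 hC) (by decide +kernel) o87_1)

theorem m88 : Lab2 D (aa D BB av 9) 14 (cd 24576) 15 :=
  hC.toCtx.lab2_sh 9 (by decide +kernel) (hC.od6 (cw9 hC) (by decide +kernel) o88_0)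
    (hC.od4 (cw9 hC) (by decide +kernel) o88_1)

theorem m89 : Lab2 D (aa D BB av 9) 14 (cd 81920) 15 :=
  hC.toCtx.lab2_sh 9 (by decide +kernel) (hC.od4 (cw9 hC) (by decide +kernel) o89_0)
    (hC.od6 (cw9 hC) (by decide +kernel) o89_1)

theorem m90 : Lab2 D (aa D BB av 9) 14 (cd 221797) 15 :=
  hC.toCtx.lab2_sh 9 (by decide +kernel) (hC.od6 (cw9 hC) (by decide +kernel) o90_0)
    (hC.od6 (cw9 hC) (by decide +kernel) o90_1)

theorem m91 : Lab2 D (aa D BB av 9) 14 (cd 307200) 15 :=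
  hC.toCtx.lab2_sh 9 (by decide +kernel) (hC.od4 (cw9 hC) (by decide +kernel) o91_0)
    (hC.od5 (cw9 hC) (by decide +kernel) o91_1)

theorem m92 : Lab2 D (aa D BB av 9) 14 (cd 876544) 15 :=
  hC.toCtx.lab2_sh 9 (by decide +kernel) (hC.od6 (cw9 hC) (by decide +kernel) o92_0)
    (hC.od6 (cw9 hC) (by decide +kernel) o92_1)

theorem m93 : Lab2 D (aa D BB av 9) 14 (cd 1249976) 15 :=
  hC.toCtx.lab2_sh 9 (by decide +kernel) (hC.od5 (cw9 hC) (by decide +kernel) o93_0)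
    (hC.od5 (cw9 hC) (by decide +kernel) o93_1)

theorem m94 : Lab2 D (aa D BB av 9) 14 (cd 3899392) 15 :=
  hC.toCtx.lab2_sh 9 (by decide +kernel) (hC.od6 (cw9 hC) (by decide +kernel) o94_0)
    (hC.od5 (cw9 hC) (by decide +kernel) o94_1)

theorem m95 : Lab2 D (aa D BB av 9) 14 (cd 7028736) 15 :=
  hC.toCtx.lab2_sh 9 (by decide +kernel) (hC.od6 (cw9 hC) (by decide +kernel) o95_0)
    (hC.od5 (cw9 hC) (by decide +kernel) o95_1)

theorem m96 : Lab2 D (aa D BB av 9) 14 (cd 8351744) 15 :=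
  hC.toCtx.lab2_sh 9 (by decide +kernel) (hC.od6 (cw9 hC) (by decide +kernel) o96_0)
    (hC.od6 (cw9 hC) (by decide +kernel) o96_1)

theorem m97 : Lab2 D (aa D BB av 9) 14 (cd 8437760) 16 :=
  hC.toCtx.lab2_sh 9 (by decide +kernel) (hC.od2 (cw9 hC) (by decide +kernel) o97_0)
    (hC.od5 (cw9 hC) (by decide +kernel) o97_1)

theorem mr9 : ∀ x ∈ reps9, x.1 < 2 ^ 24 ∧ x.2 < 2 ^ 5 ∧ Lab2 D (aa D BB av 9) 14 (cd x.1) x.2 :=
  List.forall_mem_cons.2 ⟨⟨by decide, by decide, lab2_fr (by decide)⟩,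
  List.forall_mem_cons.2 ⟨⟨by decide, by decide, lab2_fr (by decide)⟩,
  List.forall_mem_cons.2 ⟨⟨by decide, by decide, lab2_fr (by decide)⟩,
  List.forall_mem_cons.2 ⟨⟨by decide, by decide, lab2_fr (by decide)⟩,
  List.forall_mem_cons.2 ⟨⟨by decide, by decide, lab2_fr (by decide)⟩,
  List.forall_mem_cons.2 ⟨⟨by decide, by decide, lab2_fr (by decide)⟩,
  List.forall_mem_cons.2 ⟨⟨by decide, by decide, lab2_fr (by decide)⟩,
  List.forall_mem_cons.2 ⟨⟨by decide, by decide, lab2_fr (by decide)⟩,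
  List.forall_mem_cons.2 ⟨⟨by decide, by decide, lab2_fr (by decide)⟩,
  List.forall_mem_cons.2 ⟨⟨by decide, by decide, lab2_fr (by decide)⟩,
  List.forall_mem_cons.2 ⟨⟨by decide, by decide, lab2_fr (by decide)⟩,
  List.forall_mem_cons.2 ⟨⟨by decide, by decide, lab2_fr (by decide)⟩,
  List.forall_mem_cons.2 ⟨⟨by decide, by decide, lab2_fr (by decide)⟩,
  List.forall_mem_cons.2 ⟨⟨by decide, by decide, lab2_fr (by decide)⟩,
  List.forall_mem_cons.2 ⟨⟨by decide, by decide, lab2_fr (by decide)⟩,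
  List.forall_mem_cons.2 ⟨⟨by decide, by decide, lab2_fr (by decide)⟩,
  List.forall_mem_cons.2 ⟨⟨by decide, by decide, lab2_fr (by decide)⟩,
  List.forall_mem_cons.2 ⟨⟨by decide, by decide, lab2_fr (by decide)⟩,
  List.forall_mem_cons.2 ⟨⟨by decide, by decide, lab2_fr (by decide)⟩,
  List.forall_mem_cons.2 ⟨⟨by decide, by decide, lab2_fr (by decide)⟩,
  List.forall_mem_cons.2 ⟨⟨by decide, by decide, lab2_fr (by decide)⟩,
  List.forall_mem_cons.2 ⟨⟨by decide, by decide, lab2_fr (by decide)⟩,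
  List.forall_mem_cons.2 ⟨⟨by decide, by decide, lab2_fr (by decide)⟩,
  List.forall_mem_cons.2 ⟨⟨by decide, by decide, m86 hC⟩,
  List.forall_mem_cons.2 ⟨⟨by decide, by decide, m87 hC⟩,
  List.forall_mem_cons.2 ⟨⟨by decide, by decide, m88 hC⟩,
  List.forall_mem_cons.2 ⟨⟨by decide, by decide, m89 hC⟩,
  List.forall_mem_cons.2 ⟨⟨by decide, by decide, m90 hC⟩,
  List.forall_mem_cons.2 ⟨⟨by decide, by decide, m91 hC⟩,
  List.forall_mem_cons.2 ⟨⟨by decide, by decide, m92 hC⟩,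
  List.forall_mem_cons.2 ⟨⟨by decide, by decide, m93 hC⟩,
  List.forall_mem_cons.2 ⟨⟨by decide, by decide, m94 hC⟩,
  List.forall_mem_cons.2 ⟨⟨by decide, by decide, m95 hC⟩,
  List.forall_mem_cons.2 ⟨⟨by decide, by decide, m96 hC⟩,
  List.forall_mem_cons.2 ⟨⟨by decide, by decide, m97 hC⟩,
  List.forall_mem_nil _⟩⟩⟩⟩⟩⟩⟩⟩⟩⟩⟩⟩⟩⟩⟩⟩⟩⟩⟩⟩⟩⟩⟩⟩⟩⟩⟩⟩⟩⟩⟩⟩⟩⟩⟩

theorem ord9 (hI : Fintype.card D.I = 98280) (p : D.I) (η : F2) :
    Od D (aa D BB av 9) (D.ax p η) :=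
  od_run hI (Bf9.inv (cls_lab2 14 (hg9 hC.toCtx)) (mr9 hC)) Bf9.cnt_eq (by decide +kernel) p η

theorem m98 : Lab2 D (aa D BB av 10) 15 (cd 1955) 16 :=
  hC.toCtx.lab2_sh 10 (by decide +kernel) (hC.od6 (cw10 hC) (by decide +kernel) o98_0)
    (hC.od5 (cw10 hC) (by decide +kernel) o98_1)

theorem m99 : Lab2 D (aa D BB av 10) 15 (cd 8192) 16 :=
  hC.toCtx.lab2_sh 10 (by decide +kernel) (hC.od4 (cw10 hC) (by decide +kernel) o99_0)
    (hC.od5 (cw10 hC) (by decide +kernel) o99_1)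

theorem m100 : Lab2 D (aa D BB av 10) 15 (cd 33697) 16 :=
  hC.toCtx.lab2_sh 10 (by decide +kernel) (hC.od6 (cw10 hC) (by decide +kernel) o100_0)
    (hC.od6 (cw10 hC) (by decide +kernel) o100_1)

theorem m101 : Lab2 D (aa D BB av 10) 15 (cd 307200) 16 :=
  hC.toCtx.lab2_sh 10 (by decide +kernel) (hC.od6 (cw10 hC) (by decide +kernel) o101_0)
    (hC.od5 (cw10 hC) (by decide +kernel) o101_1)

theorem m102 : Lab2 D (aa D BB av 10) 15 (cd 655391) 16 :=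
  hC.toCtx.lab2_sh 10 (by decide +kernel) (hC.od6 (cw10 hC) (by decide +kernel) o102_0)
    (hC.od6 (cw10 hC) (by decide +kernel) o102_1)

theorem m103 : Lab2 D (aa D BB av 10) 15 (cd 958690) 16 :=
  hC.toCtx.lab2_sh 10 (by decide +kernel) (hC.od5 (cw10 hC) (by decide +kernel) o103_0)
    (hC.od5 (cw10 hC) (by decide +kernel) o103_1)

theorem m104 : Lab2 D (aa D BB av 10) 15 (cd 2228224) 16 :=
  hC.toCtx.lab2_sh 10 (by decide +kernel) (hC.od6 (cw10 hC) (by decide +kernel) o104_0)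
    (hC.od4 (cw10 hC) (by decide +kernel) o104_1)

theorem m105 : Lab2 D (aa D BB av 10) 15 (cd 7028736) 16 :=
  hC.toCtx.lab2_sh 10 (by decide +kernel) (hC.od6 (cw10 hC) (by decide +kernel) o105_0)
    (hC.od6 (cw10 hC) (by decide +kernel) o105_1)

theorem m106 : Lab2 D (aa D BB av 10) 15 (cd 7491584) 16 :=
  hC.toCtx.lab2_sh 10 (by decide +kernel) (hC.od6 (cw10 hC) (by decide +kernel) o106_0)
    (hC.od4 (cw10 hC) (by decide +kernel) o106_1)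

theorem m107 : Lab2 D (aa D BB av 10) 15 (cd 7655424) 16 :=
  hC.toCtx.lab2_sh 10 (by decide +kernel) (hC.od4 (cw10 hC) (by decide +kernel) o107_0)
    (hC.od5 (cw10 hC) (by decide +kernel) o107_1)

theorem m108 : Lab2 D (aa D BB av 10) 15 (cd 8396800) 16 :=
  hC.toCtx.lab2_sh 10 (by decide +kernel) (hC.od5 (cw10 hC) (by decide +kernel) o108_0)
    (hC.od4 (cw10 hC) (by decide +kernel) o108_1)

theorem m109 : Lab2 D (aa D BB av 10) 15 (cd 10579996) 16 :=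
  hC.toCtx.lab2_sh 10 (by decide +kernel) (hC.od6 (cw10 hC) (by decide +kernel) o109_0)
    (hC.od5 (cw10 hC) (by decide +kernel) o109_1)

theorem mr10 : ∀ x ∈ reps10, x.1 < 2 ^ 24 ∧ x.2 < 2 ^ 5 ∧ Lab2 D (aa D BB av 10) 15 (cd x.1) x.2 :=
  List.forall_mem_cons.2 ⟨⟨by decide, by decide, lab2_fr (by decide)⟩,
  List.forall_mem_cons.2 ⟨⟨by decide, by decide, lab2_fr (by decide)⟩,
  List.forall_mem_cons.2 ⟨⟨by decide, by decide, lab2_fr (by decide)⟩,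
  List.forall_mem_cons.2 ⟨⟨by decide, by decide, lab2_fr (by decide)⟩,
  List.forall_mem_cons.2 ⟨⟨by decide, by decide, lab2_fr (by decide)⟩,
  List.forall_mem_cons.2 ⟨⟨by decide, by decide, lab2_fr (by decide)⟩,
  List.forall_mem_cons.2 ⟨⟨by decide, by decide, lab2_fr (by decide)⟩,
  List.forall_mem_cons.2 ⟨⟨by decide, by decide, lab2_fr (by decide)⟩,
  List.forall_mem_cons.2 ⟨⟨by decide, by decide, lab2_fr (by decide)⟩,
  List.forall_mem_cons.2 ⟨⟨by decide, by decide, lab2_fr (by decide)⟩,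
  List.forall_mem_cons.2 ⟨⟨by decide, by decide, lab2_fr (by decide)⟩,
  List.forall_mem_cons.2 ⟨⟨by decide, by decide, lab2_fr (by decide)⟩,
  List.forall_mem_cons.2 ⟨⟨by decide, by decide, lab2_fr (by decide)⟩,
  List.forall_mem_cons.2 ⟨⟨by decide, by decide, lab2_fr (by decide)⟩,
  List.forall_mem_cons.2 ⟨⟨by decide, by decide, lab2_fr (by decide)⟩,
  List.forall_mem_cons.2 ⟨⟨by decide, by decide, lab2_fr (by decide)⟩,
  List.forall_mem_cons.2 ⟨⟨by decide, by decide, lab2_fr (by decide)⟩,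
  List.forall_mem_cons.2 ⟨⟨by decide, by decide, lab2_fr (by decide)⟩,
  List.forall_mem_cons.2 ⟨⟨by decide, by decide, lab2_fr (by decide)⟩,
  List.forall_mem_cons.2 ⟨⟨by decide, by decide, lab2_fr (by decide)⟩,
  List.forall_mem_cons.2 ⟨⟨by decide, by decide, lab2_fr (by decide)⟩,
  List.forall_mem_cons.2 ⟨⟨by decide, by decide, lab2_fr (by decide)⟩,
  List.forall_mem_cons.2 ⟨⟨by decide, by decide, lab2_fr (by decide)⟩,
  List.forall_mem_cons.2 ⟨⟨by decide, by decide, lab2_fr (by decide)⟩,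
  List.forall_mem_cons.2 ⟨⟨by decide, by decide, lab2_fr (by decide)⟩,
  List.forall_mem_cons.2 ⟨⟨by decide, by decide, lab2_fr (by decide)⟩,
  List.forall_mem_cons.2 ⟨⟨by decide, by decide, lab2_fr (by decide)⟩,
  List.forall_mem_cons.2 ⟨⟨by decide, by decide, lab2_fr (by decide)⟩,
  List.forall_mem_cons.2 ⟨⟨by decide, by decide, lab2_fr (by decide)⟩,
  List.forall_mem_cons.2 ⟨⟨by decide, by decide, lab2_fr (by decide)⟩,
  List.forall_mem_cons.2 ⟨⟨by decide, by decide, lab2_fr (by decide)⟩,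
  List.forall_mem_cons.2 ⟨⟨by decide, by decide, lab2_fr (by decide)⟩,
  List.forall_mem_cons.2 ⟨⟨by decide, by decide, lab2_fr (by decide)⟩,
  List.forall_mem_cons.2 ⟨⟨by decide, by decide, lab2_fr (by decide)⟩,
  List.forall_mem_cons.2 ⟨⟨by decide, by decide, lab2_fr (by decide)⟩,
  List.forall_mem_cons.2 ⟨⟨by decide, by decide, lab2_fr (by decide)⟩,
  List.forall_mem_cons.2 ⟨⟨by decide, by decide, lab2_fr (by decide)⟩,
  List.forall_mem_cons.2 ⟨⟨by decide, by decide, lab2_fr (by decide)⟩,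
  List.forall_mem_cons.2 ⟨⟨by decide, by decide, m98 hC⟩,
  List.forall_mem_cons.2 ⟨⟨by decide, by decide, m99 hC⟩,
  List.forall_mem_cons.2 ⟨⟨by decide, by decide, m100 hC⟩,
  List.forall_mem_cons.2 ⟨⟨by decide, by decide, m101 hC⟩,
  List.forall_mem_cons.2 ⟨⟨by decide, by decide, m102 hC⟩,
  List.forall_mem_cons.2 ⟨⟨by decide, by decide, m103 hC⟩,
  List.forall_mem_cons.2 ⟨⟨by decide, by decide, m104 hC⟩,
  List.forall_mem_cons.2 ⟨⟨by decide, by decide, m105 hC⟩,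
  List.forall_mem_cons.2 ⟨⟨by decide, by decide, m106 hC⟩,
  List.forall_mem_cons.2 ⟨⟨by decide, by decide, m107 hC⟩,
  List.forall_mem_cons.2 ⟨⟨by decide, by decide, m108 hC⟩,
  List.forall_mem_cons.2 ⟨⟨by decide, by decide, m109 hC⟩,
  List.forall_mem_nil _⟩⟩⟩⟩⟩⟩⟩⟩⟩⟩⟩⟩⟩⟩⟩⟩⟩⟩⟩⟩⟩⟩⟩⟩⟩⟩⟩⟩⟩⟩⟩⟩⟩⟩⟩⟩⟩⟩⟩⟩⟩⟩⟩⟩⟩⟩⟩⟩⟩⟩

theorem ord10 (hI : Fintype.card D.I = 98280) (p : D.I) (η : F2) :
    Od D (aa D BB av 10) (D.ax p η) :=
  od_run hI (Bf10.inv (cls_lab2 15 (hg10 hC.toCtx)) (mr10 hC)) Bf10.cnt_eq (by decide +kernel) p η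

theorem m110 : Lab2 D (aa D BB av 11) 5 (cd 8192) 6 :=
  hC.toCtx.lab2_sh 11 (by decide +kernel) (hC.od5 (cw11 hC) (by decide +kernel) o110_0)
    (hC.od5 (cw11 hC) (by decide +kernel) o110_1)

theorem m111 : Lab2 D (aa D BB av 11) 5 (cd 307200) 6 :=
  hC.toCtx.lab2_sh 11 (by decide +kernel) (hC.od5 (cw11 hC) (by decide +kernel) o111_0)
    (hC.od6 (cw11 hC) (by decide +kernel) o111_1)

theorem m112 : Lab2 D (aa D BB av 11) 5 (cd 655360) 6 :=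
  hC.toCtx.lab2_sh 11 (by decide +kernel) (hC.od6 (cw11 hC) (by decide +kernel) o112_0)
    (hC.od4 (cw11 hC) (by decide +kernel) o112_1)

theorem m113 : Lab2 D (aa D BB av 11) 5 (cd 4669440) 6 :=
  hC.toCtx.lab2_sh 11 (by decide +kernel) (hC.od4 (cw11 hC) (by decide +kernel) o113_0)
    (hC.od6 (cw11 hC) (by decide +kernel) o113_1)

theorem m114 : Lab2 D (aa D BB av 11) 5 (cd 7028736) 6 :=
  hC.toCtx.lab2_sh 11 (by decide +kernel) (hC.od6 (cw11 hC) (by decide +kernel) o114_0)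
    (hC.od6 (cw11 hC) (by decide +kernel) o114_1)

theorem mr11 : ∀ x ∈ reps11, x.1 < 2 ^ 24 ∧ x.2 < 2 ^ 4 ∧ Lab2 D (aa D BB av 11) 5 (cd x.1) x.2 :=
  List.forall_mem_cons.2 ⟨⟨by decide, by decide, lab2_fr (by decide)⟩,
  List.forall_mem_cons.2 ⟨⟨by decide, by decide, lab2_fr (by decide)⟩,
  List.forall_mem_cons.2 ⟨⟨by decide, by decide, lab2_fr (by decide)⟩,
  List.forall_mem_cons.2 ⟨⟨by decide, by decide, lab2_fr (by decide)⟩,
  List.forall_mem_cons.2 ⟨⟨by decide, by decide, lab2_fr (by decide)⟩,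
  List.forall_mem_cons.2 ⟨⟨by decide, by decide, lab2_fr (by decide)⟩,
  List.forall_mem_cons.2 ⟨⟨by decide, by decide, lab2_fr (by decide)⟩,
  List.forall_mem_cons.2 ⟨⟨by decide, by decide, lab2_fr (by decide)⟩,
  List.forall_mem_cons.2 ⟨⟨by decide, by decide, m110 hC⟩,
  List.forall_mem_cons.2 ⟨⟨by decide, by decide, m111 hC⟩,
  List.forall_mem_cons.2 ⟨⟨by decide, by decide, m112 hC⟩,
  List.forall_mem_cons.2 ⟨⟨by decide, by decide, m113 hC⟩,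
  List.forall_mem_cons.2 ⟨⟨by decide, by decide, m114 hC⟩,
  List.forall_mem_nil _⟩⟩⟩⟩⟩⟩⟩⟩⟩⟩⟩⟩⟩

theorem ord11 (hI : Fintype.card D.I = 98280) (p : D.I) (η : F2) :
    Od D (aa D BB av 11) (D.ax p η) :=
  od_run hI (Bf11.inv (cls_lab2 5 (hg11 hC.toCtx)) (mr11 hC)) Bf11.cnt_eq (by decide +kernel) p η

theorem inj0 (p : D.I) (η : F2) (h : D.tt (aa D BB av 0) = D.tt (D.ax p η)) :
    aa D BB av 0 = D.ax p η := by
  have e : aa D BB av 0 = D.ax p0 0 := hC.e0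
  rw [e, tt_ax (hC.ips p0), tt_ax (hC.ips p)] at h
  obtain ⟨rfl, h2⟩ := D.zp_xq_inj (Units.ext h)
  rw [e, D.cls_inj h2]

theorem inj1 (p : D.I) (η : F2) (h : D.tt (aa D BB av 1) = D.tt (D.ax p η)) :
    aa D BB av 1 = D.ax p η :=
  absurd h (hC.inj (cw1 hC) (by decide +kernel) j1 (by decide +kernel) p η)

theorem inj2 (p : D.I) (η : F2) (h : D.tt (aa D BB av 2) = D.tt (D.ax p η)) :
    aa D BB av 2 = D.ax p η :=
  absurd h (hC.inj (cw2 hC) (by decide +kernel) j2 (by decide +kernel) p η)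

theorem inj3 (p : D.I) (η : F2) (h : D.tt (aa D BB av 3) = D.tt (D.ax p η)) :
    aa D BB av 3 = D.ax p η :=
  absurd h (hC.inj (cw3 hC) (by decide +kernel) j3 (by decide +kernel) p η)

theorem inj4 (p : D.I) (η : F2) (h : D.tt (aa D BB av 4) = D.tt (D.ax p η)) :
    aa D BB av 4 = D.ax p η :=
  absurd h (hC.inj (cw4 hC) (by decide +kernel) j4 (by decide +kernel) p η)

theorem inj5 (p : D.I) (η : F2) (h : D.tt (aa D BB av 5) = D.tt (D.ax p η)) :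
    aa D BB av 5 = D.ax p η :=
  absurd h (hC.inj (cw5 hC) (by decide +kernel) j5 (by decide +kernel) p η)

theorem inj6 (p : D.I) (η : F2) (h : D.tt (aa D BB av 6) = D.tt (D.ax p η)) :
    aa D BB av 6 = D.ax p η :=
  absurd h (hC.inj (cw6 hC) (by decide +kernel) j6 (by decide +kernel) p η)

theorem inj7 (p : D.I) (η : F2) (h : D.tt (aa D BB av 7) = D.tt (D.ax p η)) :
    aa D BB av 7 = D.ax p η :=
  absurd h (hC.inj (cw7 hC) (by decide +kernel) j7 (by decide +kernel) p η)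

theorem inj8 (p : D.I) (η : F2) (h : D.tt (aa D BB av 8) = D.tt (D.ax p η)) :
    aa D BB av 8 = D.ax p η :=
  absurd h (hC.inj (cw8 hC) (by decide +kernel) j8 (by decide +kernel) p η)

theorem inj9 (p : D.I) (η : F2) (h : D.tt (aa D BB av 9) = D.tt (D.ax p η)) :
    aa D BB av 9 = D.ax p η :=
  absurd h (hC.inj (cw9 hC) (by decide +kernel) j9 (by decide +kernel) p η)

theorem inj10 (p : D.I) (η : F2) (h : D.tt (aa D BB av 10) = D.tt (D.ax p η)) :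
    aa D BB av 10 = D.ax p η :=
  absurd h (hC.inj (cw10 hC) (by decide +kernel) j10 (by decide +kernel) p η)

theorem inj11 (p : D.I) (η : F2) (h : D.tt (aa D BB av 11) = D.tt (D.ax p η)) :
    aa D BB av 11 = D.ax p η :=
  absurd h (hC.inj (cw11 hC) (by decide +kernel) j11 (by decide +kernel) p η)

theorem hypS (hI : Fintype.card D.I = 98280) : HypS (gel 54) p0 (aa D BB av) where
  tv := by
    have := hC.al.chkW_sound hC.ok tv0
    rwa [hC.e0, wd_cons, wd, List.foldr_nil, one_mul] at this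
  ord := fun k => by
    fin_cases k
    exacts [ord0 hC hI, ord1 hC hI, ord2 hC hI, ord3 hC hI, ord4 hC hI, ord5 hC hI, ord6 hC hI, ord7 hC hI, ord8 hC hI, ord9 hC hI, ord10 hC hI, ord11 hC hI]
  inj := fun k => by
    fin_cases k
    exacts [inj0 hC, inj1 hC, inj2 hC, inj3 hC, inj4 hC, inj5 hC, inj6 hC, inj7 hC, inj8 hC, inj9 hC, inj10 hC, inj11 hC]

end

end CfsgMO.Ck
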