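/-
Orbit enumeration of the short classes for the axis number 0.
-/
import Cfsg.Agent.MO.BF

set_option autoImplicit false
set_option maxRecDepth 100000
set_option Elab.async false
set_option exponentiation.threshold 100000000

namespace CfsgMO.Bs0

noncomputable section

def n : ℕ := 1
def gens : List (List ℕ) := [[6030496, 7387633, 130336, 7423025, 9284863, 9283310, 9285515, 3007471, 6072084, 1740759, 3579325, 87626, 8233033, 10035334, 14939616, 10651008, 8213033, 10932498, 11191877, 15585994, 15091329, 3270593, 1962113, 8236165], [2175937, 1884689, 5958369, 6187605, 11389487, 11390273, 11895666, 2472561, 8115017, 8151809, 209483, 1591988, 10209146, 9680309, 13079493, 450034, 16529091, 9607453, 3197255, 15792312, 10393289, 15298548, 11259725, 14392504]]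
def reps : List (ℕ × ℕ) := [(1171, 1), (307200, 1), (7028736, 1), (15417344, 1)]
def ws : List (List ℕ) := [[0, 1, 1, 1, 1, 0, 0, 1, 1], [0, 0, 1, 1, 0, 1, 0, 0], [1, 1, 1, 1, 1, 0], [1, 0, 0, 0, 1, 1, 1, 0, 0, 1], [1, 0, 1, 1, 1, 0, 1], [1, 1, 0, 1, 0, 0, 1, 1, 0], [0, 0, 1, 0, 0, 0, 1, 1], [1, 0, 0, 0, 0, 0], [0, 0, 1, 1, 1, 1, 1, 1, 0, 0], [0, 1, 0, 0, 0, 0], [0, 0, 0, 0, 0, 1, 0, 0, 1, 0], [1, 1, 1, 0, 0, 0, 1, 1], [1, 1, 1, 0, 0, 0, 0, 1, 0, 1], [1, 0, 1, 1, 1, 1, 1, 1, 1], [0, 1, 1, 1, 0, 1, 0, 0, 0], [1, 1, 0, 1, 0, 1, 0, 1, 0, 0], [0, 1, 1, 0, 0, 1, 0, 1, 0]]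
def d0 : List ℕ × List (ℕ × ℕ) := ([0, 0, 1, 1, 0, 1, 1, 1], [(18, 13858359), (7, 3244804), (3, 13846610), (20, 4908613), (14, 4362098), (15, 2753634), (17, 2629636), (2, 12034), (23, 605299), (12, 4259904), (5, 4728323), (0, 2631952), (19, 4204354), (10, 2097410), (6, 6365184), (11, 4202514), (22, 2097680), (9, 258), (1, 2097152), (13, 65536), (21, 65808), (8, 16196624), (4, 3437166), (16, 10532064), (21, 14180001), (13, 4620896), (1, 705184), (9, 5265408), (22, 1198080), (11, 21569), (6, 8945824), (10, 8683556), (19, 16397), (0, 9437324), (5, 9486340), (12, 425992), (23, 409732), (2, 163848), (17, 262144), (15, 1327240)])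
def d1 : List ℕ × List (ℕ × ℕ) := ([1, 1, 1, 0, 1, 1, 0, 1, 1, 0, 1], [(16, 8544660), (2, 8935635), (8, 15924761), (23, 3950146), (4, 3045026), (0, 8162376), (3, 5436608), (6, 2396162), (1, 6341792), (17, 4223104), (5, 3724416), (9, 1623040), (19, 3416192), (12, 5523456), (13, 5259264), (21, 5245056), (11, 311424), (7, 1065984), (15, 4194304), (18, 5259264), (22, 1024), (10, 16126537), (22, 2855711), (14, 8684499), (20, 9341879), (18, 8423460), (15, 10631992), (7, 137228), (11, 2229046), (21, 8593697), (13, 593966), (12, 9044293), (19, 65585), (9, 331), (5, 8585239), (17, 8454223), (1, 320), (6, 261), (3, 17), (0, 8388628), (4, 8454400), (23, 65540)])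
def d2 : List ℕ × List (ℕ × ℕ) := ([0, 1, 0, 0, 0, 0, 1, 0, 1, 1], [(18, 11163962), (21, 187453), (12, 13772336), (16, 1597555), (23, 1058207), (14, 1082082), (15, 5777597), (19, 10382), (20, 131937), (7, 131669), (8, 131151), (3, 4325379), (2, 4334640), (9, 133154), (1, 8193), (6, 4335617), (10, 2081), (5, 4333569), (11, 4325393), (17, 8193), (22, 8209), (0, 13398932), (13, 15586584), (4, 14681824), (22, 9290278), (17, 8946668), (11, 3245038), (5, 3725004), (10, 9245508), (6, 8405254), (1, 1344392), (9, 1429508), (2, 12140808), (3, 348160), (8, 9273472), (7, 12144640), (20, 9175040), (19, 294912), (15, 8736768), (23, 266240)])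
theorem ok0 : [d0].all (okStep gens) = true := by decide +kernel
theorem ok1 : [d1].all (okStep gens) = true := by decide +kernel
theorem ok2 : [d2].all (okStep gens) = true := by decide +kernel

noncomputable def s0 : {v : ℕ // bfInitN 1 gens reps ws = v} := by
  refine ⟨?_, ?_⟩
  rotate_left
  conv => lhs; whnf

noncomputable def s1 : {v : ℕ // bfStepsN 1 [d0] s0.1 = v} := by
  refine ⟨?_, ?_⟩
  rotate_left
  conv => lhs; whnf

noncomputable def s2 : {v : ℕ // bfStepsN 1 [d1] s1.1 = v} := by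
  refine ⟨?_, ?_⟩
  rotate_left
  conv => lhs; whnf

noncomputable def s3 : {v : ℕ // bfStepsN 1 [d2] s2.1 = v} := by
  refine ⟨?_, ?_⟩
  rotate_left
  conv => lhs; whnf

noncomputable def fin : ℕ := s3.1

theorem cnt_eq : (List.range 1).map (fun l => cntN n fin (l + 1)) = [98280] := by
  decide +kernel

theorem inv {Gd : Cl → ℕ → Prop} (hg : Cls Gd gens)
    (hr : ∀ r ∈ reps, r.1 < 2 ^ 24 ∧ r.2 < 2 ^ n ∧ Gd (cd r.1) r.2) : InvN Gd n fin := by
  have h0 : InvN Gd 1 s0.1 := s0.2 ▸ invN_init hg 1 hr ws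
  have h1 : InvN Gd 1 s1.1 := s1.2 ▸ invN_steps hg ok0 h0
  have h2 : InvN Gd 1 s2.1 := s2.2 ▸ invN_steps hg ok1 h1
  have h3 : InvN Gd 1 s3.1 := s3.2 ▸ invN_steps hg ok2 h2
  exact h3

end

end CfsgMO.Bs0
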