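/-
Orbit enumeration of the short classes for the axis number 1.
-/
import Cfsg.Agent.MO.BF

set_option autoImplicit false
set_option maxRecDepth 100000
set_option Elab.async false
set_option exponentiation.threshold 100000000

namespace CfsgMO.Bs1

noncomputable section

def n : ℕ := 1
def gens : List (List ℕ) := [[3160341, 4190838, 4190466, 4009956, 4192725, 4178689, 3334144, 4180910, 1047043, 1046787, 3071, 4044, 7683790, 7506970, 4573826, 12074842, 11582386, 12350383, 12072870, 5146664, 6592211, 11112940, 8705826, 16238061], [1088, 1447, 1873, 3645, 667, 1411, 1001, 1413, 1415, 2439, 2680, 2048, 3414539, 3805018, 2129920, 2659507, 3704308, 3756553, 2165093, 2697753, 5665419, 7178761, 3249603, 16026997]]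
def reps : List (ℕ × ℕ) := [(1171, 1), (8192, 1), (81920, 1), (7028736, 1)]
def ws : List (List ℕ) := [[1, 0, 1, 1, 0, 0], [0, 1, 1, 1, 1, 1, 1], [0, 0, 0, 1, 1, 1, 1, 1, 1, 0], [0, 1, 0, 1, 0, 0, 1, 1, 0], [1, 1, 0, 1, 1, 0, 1], [1, 1, 0, 1, 1, 0, 1, 1], [1, 0, 1, 0, 0, 1, 0, 0, 1], [1, 0, 1, 1, 1, 0, 1], [0, 1, 0, 1, 0, 1, 1, 1, 0, 0], [1, 0, 0, 0, 0, 1, 0], [0, 1, 0, 0, 1, 1, 1, 0, 0, 1], [0, 0, 1, 1, 1, 0, 1, 0, 1], [0, 1, 0, 1, 1, 1, 1, 1, 1, 0], [0, 0, 0, 1, 0, 0], [1, 0, 1, 0, 0, 0, 0, 0], [1, 0, 0, 1, 1, 0, 0, 0, 1], [0, 0, 1, 0, 0, 1, 1, 0]]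
def d0 : List ℕ × List (ℕ × ℕ) := ([0, 0, 0, 0, 0, 0, 0, 0, 0, 1, 0, 0, 0, 0, 0], [(13, 6199008), (19, 13852574), (3, 3544790), (8, 5327568), (7, 3251317), (21, 14091286), (0, 5325366), (9, 5325828), (4, 493638), (17, 19494), (18, 12638304), (22, 9439264), (11, 96), (5, 119808), (20, 8492038), (16, 8441926), (6, 37888), (12, 8389638), (2, 8389634), (23, 17410), (14, 1026), (10, 9853354), (1, 11620405), (14, 11403549), (23, 4948492), (15, 5127136), (2, 2564624), (12, 4793017), (6, 4262713), (16, 1574929), (20, 4202680), (5, 2491136), (11, 768), (22, 2883721), (18, 524945), (17, 2105625), (4, 385), (9, 8449), (0, 8200), (21, 264), (8, 8192)])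
def d1 : List ℕ × List (ℕ × ℕ) := ([0, 0, 1, 1, 1, 0, 0, 1, 0], [(20, 14972549), (10, 1046711), (14, 2726008), (4, 3049615), (13, 7274765), (18, 2130378), (6, 4954667), (7, 4196641), (11, 4952864), (8, 196613), (3, 6816293), (15, 4919845), (5, 2228227), (21, 13173251), (23, 201221), (2, 528386), (16, 4325377), (22, 4609), (12, 655363), (17, 514), (9, 2), (19, 1), (1, 1564889), (0, 11748900), (19, 4570192), (9, 168004), (17, 15832284), (12, 4459888), (22, 9528396), (16, 11829388), (2, 11838952), (23, 1058088), (21, 1097736), (5, 1360192), (15, 11408), (3, 1048640), (8, 286864), (11, 1088), (7, 1335296), (6, 1319952), (18, 17408), (4, 1049600)])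
def d2 : List ℕ × List (ℕ × ℕ) := ([0, 0, 0, 0, 0, 0, 0, 0], [(13, 1792), (22, 587), (17, 3020), (16, 3020), (21, 1535), (3, 2048), (23, 843764), (0, 2048), (20, 2611), (19, 632), (14, 632), (12, 1792), (18, 3764), (15, 3764), (7, 2048), (6, 2048), (5, 2048), (4, 2048), (2, 2048), (1, 2048), (23, 204808)])
theorem ok0 : [d0].all (okStep gens) = true := by decide +kernel
theorem ok1 : [d1].all (okStep gens) = true := by decide +kernel
theorem ok2 : [d2].all (okStep gens) = true := by decide +kernel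

noncomputable def s0 : {v : ℕ // bfInitN 1 gens reps ws = v} := by
  refine ⟨?_, ?_⟩
  rotate_left
  conv => lhs; whnf

noncomputable def s1 : {v : ℕ // bfStepsN 1 [d0] s0.1 = v} := by
  refine ⟨?_, ?_⟩
  rotate_left
  conv => lhs; whnf

noncomputable def s2 : {v : ℕ // bfStepsN 1 [d1] s1.1 = v} := by
  refine ⟨?_, ?_⟩
  rotate_left
  conv => lhs; whnf

noncomputable def s3 : {v : ℕ // bfStepsN 1 [d2] s2.1 = v} := by
  refine ⟨?_, ?_⟩
  rotate_left
  conv => lhs; whnf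

noncomputable def fin : ℕ := s3.1

theorem cnt_eq : (List.range 1).map (fun l => cntN n fin (l + 1)) = [98280] := by
  decide +kernel

theorem inv {Gd : Cl → ℕ → Prop} (hg : Cls Gd gens)
    (hr : ∀ r ∈ reps, r.1 < 2 ^ 24 ∧ r.2 < 2 ^ n ∧ Gd (cd r.1) r.2) : InvN Gd n fin := by
  have h0 : InvN Gd 1 s0.1 := s0.2 ▸ invN_init hg 1 hr ws
  have h1 : InvN Gd 1 s1.1 := s1.2 ▸ invN_steps hg ok0 h0
  have h2 : InvN Gd 1 s2.1 := s2.2 ▸ invN_steps hg ok1 h1
  have h3 : InvN Gd 1 s3.1 := s3.2 ▸ invN_steps hg ok2 h2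
  exact h3

end

end CfsgMO.Bs1
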