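/-
Orbit enumeration of the short classes for the axis number 10.
-/
import Cfsg.Agent.MO.BF

set_option autoImplicit false
set_option maxRecDepth 100000
set_option Elab.async false
set_option exponentiation.threshold 100000000

namespace CfsgMO.Bs10

noncomputable section

def n : ℕ := 3
def gens : List (List ℕ) := [[2624, 2746, 1791, 3207, 3379, 3545, 117, 2817, 3328, 2816, 2304, 2048, 1034356, 124394, 157868, 561113, 731087, 200387, 700044, 555161, 4378587, 2375091, 7778291, 9875420], [2688, 2772, 2563, 2045, 2423, 3870, 2018, 66, 2306, 514, 3000, 2048, 755062, 4189534, 4364939, 8185382, 4091357, 8203677, 4311609, 3714237, 7285189, 1554978, 84253, 14406557], [8178000, 3328, 7903050, 7602769, 7360640, 7362058, 7541377, 7603469, 1039870, 1038120, 1037458, 2414, 820931, 13866549, 10129044, 11978229, 5948625, 11754351, 9592151, 5277524, 11677154, 2968900, 8217937, 9891181]]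
def reps : List (ℕ × ℕ) := [(1955, 4), (8192, 4), (33697, 1), (307200, 4), (655391, 1), (958690, 7), (2228224, 1), (7028736, 1), (7491584, 1), (7655424, 4), (8396800, 4), (10579996, 5)]
def ws : List (List ℕ) := [[2, 0, 2, 0, 1, 1, 1, 2, 1], [2, 1, 0, 0, 2, 0, 2, 2, 2, 2], [1, 2, 0, 1, 2, 0, 0, 2], [0, 0, 1, 2, 2, 1, 2, 2, 2], [2, 2, 0, 1, 0, 2, 1, 2], [1, 0, 0, 0, 1, 0], [0, 2, 1, 2, 1, 2, 0], [0, 1, 0, 2, 1, 1, 2, 0], [2, 2, 1, 0, 2, 0], [2, 2, 0, 2, 1, 0, 0, 2, 2], [1, 2, 1, 2, 2, 1], [2, 0, 0, 2, 1, 0, 0], [2, 1, 2, 0, 0, 2, 2, 0, 0], [2, 2, 2, 2, 0, 1], [0, 2, 0, 1, 2, 1, 1]]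
def d0 : List ℕ × List (ℕ × ℕ) := ([1, 0, 2, 0, 0, 0, 0, 0, 1, 0, 0, 2, 2, 1, 0], [(22, 3911343), (2, 2144210), (23, 2888288), (0, 3107176), (14, 3913306), (12, 3583010), (15, 1377274), (1, 2560), (7, 1507704), (17, 1313880), (19, 1049648), (6, 67336), (16, 3417120), (4, 3417088), (8, 2600), (5, 1048584), (3, 3417088), (20, 263680), (10, 262144), (18, 2560), (21, 10240), (13, 3557739), (11, 1512310), (21, 8505199), (9, 1393016), (18, 628164), (10, 1130872), (20, 594221), (3, 135524), (5, 119126), (8, 4294), (4, 69762), (16, 12583105), (6, 163844), (19, 12583045), (17, 12632070), (7, 32774), (15, 12603392), (12, 16384), (23, 4194304)])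
def d1 : List ℕ × List (ℕ × ℕ) := ([1, 1, 0, 1, 1, 0, 2, 2, 0, 0, 2, 1, 0], [(18, 10673196), (21, 8620932), (23, 586129), (3, 4204166), (19, 4218420), (17, 4243750), (4, 27328), (2, 1346), (5, 4211971), (6, 26624), (0, 4276992), (10, 4282754), (7, 4280832), (13, 1114626), (22, 1151744), (12, 98562), (20, 51968), (8, 100866), (14, 98816), (11, 512), (1, 98304), (16, 4487392), (15, 7603430), (9, 6589), (1, 3018093), (11, 5481), (14, 6029521), (8, 3018756), (20, 12587013), (12, 4203769), (22, 8389840), (13, 132108), (7, 1076), (10, 3014765), (0, 524336), (6, 36), (5, 131084), (2, 131088), (4, 131072), (17, 2359304), (19, 262144), (23, 262144)])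
def d2 : List ℕ × List (ℕ × ℕ) := ([0, 2, 0, 0, 2, 0, 2, 0, 2, 2], [(23, 4160511), (21, 2096638), (8, 1037864), (9, 2260), (12, 868439), (17, 5254248), (22, 1917129), (13, 1098831), (1, 184), (2, 887825), (0, 1884328), (11, 1081424), (16, 786480), (7, 803904), (14, 1081368), (10, 1867872), (3, 1081408), (15, 524320), (5, 16), (4, 262144), (6, 3868937), (18, 16355990), (4, 7927977), (20, 4264591), (19, 254476), (5, 6419713), (15, 8609415), (3, 2247936), (10, 4356998), (14, 10625795), (7, 2230533), (16, 4200454), (11, 4337924), (0, 6304262), (2, 2228994), (1, 768), (13, 10617088), (22, 131840), (17, 8389376), (12, 768)])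
def d3 : List ℕ × List (ℕ × ℕ) := ([0, 0, 2, 2, 0, 0, 0, 0, 2, 2], [(23, 279090), (2, 2048), (20, 1072), (19, 1555), (21, 200), (16, 705), (6, 2048), (18, 562), (15, 547), (13, 3276), (12, 184), (14, 562), (22, 418), (17, 3917), (16, 260), (21, 52)])
theorem ok0 : [d0].all (okStep gens) = true := by decide +kernel
theorem ok1 : [d1].all (okStep gens) = true := by decide +kernel
theorem ok2 : [d2].all (okStep gens) = true := by decide +kernel
theorem ok3 : [d3].all (okStep gens) = true := by decide +kernel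

noncomputable def s0 : {v : ℕ // bfInitN 3 gens reps ws = v} := by
  refine ⟨?_, ?_⟩
  rotate_left
  conv => lhs; whnf

noncomputable def s1 : {v : ℕ // bfStepsN 3 [d0] s0.1 = v} := by
  refine ⟨?_, ?_⟩
  rotate_left
  conv => lhs; whnf

noncomputable def s2 : {v : ℕ // bfStepsN 3 [d1] s1.1 = v} := by
  refine ⟨?_, ?_⟩
  rotate_left
  conv => lhs; whnf

noncomputable def s3 : {v : ℕ // bfStepsN 3 [d2] s2.1 = v} := by
  refine ⟨?_, ?_⟩
  rotate_left
  conv => lhs; whnf

noncomputable def s4 : {v : ℕ // bfStepsN 3 [d3] s3.1 = v} := by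
  refine ⟨?_, ?_⟩
  rotate_left
  conv => lhs; whnf

noncomputable def fin : ℕ := s4.1

theorem cnt_eq : (List.range 7).map (fun l => cntN n fin (l + 1)) = [45760, 0, 0, 42760, 160, 0, 9600] := by
  decide +kernel

theorem inv {Gd : Cl → ℕ → Prop} (hg : Cls Gd gens)
    (hr : ∀ r ∈ reps, r.1 < 2 ^ 24 ∧ r.2 < 2 ^ n ∧ Gd (cd r.1) r.2) : InvN Gd n fin := by
  have h0 : InvN Gd 3 s0.1 := s0.2 ▸ invN_init hg 3 hr ws
  have h1 : InvN Gd 3 s1.1 := s1.2 ▸ invN_steps hg ok0 h0
  have h2 : InvN Gd 3 s2.1 := s2.2 ▸ invN_steps hg ok1 h1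
  have h3 : InvN Gd 3 s3.1 := s3.2 ▸ invN_steps hg ok2 h2
  have h4 : InvN Gd 3 s4.1 := s4.2 ▸ invN_steps hg ok3 h3
  exact h4

end

end CfsgMO.Bs10
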