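/-
Orbit enumeration of the short classes for the axis number 11.
-/
import Cfsg.Agent.MO.BF

set_option autoImplicit false
set_option maxRecDepth 100000
set_option Elab.async false
set_option exponentiation.threshold 100000000

namespace CfsgMO.Bs11

noncomputable section

def n : ℕ := 3
def gens : List (List ℕ) := [[2986, 2772, 2054, 66, 2018, 1073, 375, 4093, 2306, 3000, 514, 2048, 754066, 4186948, 8204074, 5112750, 3632225, 4363409, 7827610, 3535143, 5281807, 4126852, 2623366, 9623822], [117, 1026, 1040, 2265, 3245, 992, 1023, 3136, 1750, 3328, 1978, 2048, 678854, 5624737, 2329653, 8202913, 5581453, 7731550, 2247770, 5881456, 8221497, 5076823, 708114, 12372735], [2265, 2050, 2045, 2178, 34, 2018, 2377, 2114, 2306, 3074, 1644, 2048, 122712, 6187518, 53723, 2703625, 2228565, 2114802, 71063, 2409886, 3244593, 6293895, 40178, 8564389], [1043708, 724, 926672, 123776, 123800, 12468, 10912, 13248, 1208, 1036944, 1038736, 1792, 367885, 3513086, 13887133, 4005016, 15647065,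 3250131, 13888910, 15075310, 15336404, 8518315, 5735707, 10503473], [8990121, 7062788, 8055952, 13825370, 13827630, 13827600, 4531224, 14197124, 7225624, 6018542, 3151688, 676696, 12831950, 14881533, 5084381, 15369073, 14051788, 16318958, 1842202, 402716, 7855400, 2649668, 9261288, 6348154], [13731374, 927786, 2510889, 8790747, 5049170, 4850516, 2821591, 5132311, 12670092, 13534750, 13545693, 12625292, 11095520, 8136897, 2429285, 14956497, 12526367, 15160111, 7941651, 4478758, 12272056, 1175123, 12485575, 399039]]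
def reps : List (ℕ × ℕ) := [(8192, 7), (307200, 4), (655360, 2), (4669440, 2), (7028736, 1)]
def ws : List (List ℕ) := [[2, 2, 4, 1, 3, 5], [2, 4, 2, 4, 5, 5, 3, 1, 1, 0], [1, 5, 2, 3, 2, 5], [5, 3, 4, 5, 3, 3], [3, 5, 1, 2, 5, 4], [5, 2, 0, 1, 4, 3, 3, 5], [3, 0, 1, 5, 3, 4, 1, 4, 1, 2], [5, 4, 4, 3, 2, 5, 4, 2], [4, 2, 5, 2, 5, 1, 5, 3, 0, 2], [3, 0, 2, 2, 0, 2, 2, 0], [3, 2, 4, 1, 3, 1, 0, 4, 2], [1, 5, 0, 1, 3, 2, 2, 5, 2], [0, 3, 5, 2, 3, 5, 0], [0, 3, 5, 3, 2, 4, 3, 3, 5], [4, 2, 3, 1, 5, 5, 1, 4, 0, 4], [2, 1, 5, 3, 4, 4, 5, 1, 4]]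
def d0 : List ℕ × List (ℕ × ℕ) := ([5, 1, 1, 1, 0, 1, 2, 4], [(19, 7757956), (14, 9674985), (16, 11713487), (4, 12881954), (17, 40783), (5, 3182925), (18, 15733825), (23, 1093455), (2, 5257602), (20, 6303042), (3, 6327875), (21, 42626), (13, 4198720), (0, 34882), (7, 3328), (10, 34818), (11, 4194560), (22, 4354), (1, 37184), (12, 768), (9, 320), (8, 64), (6, 5197468), (8, 8318520), (9, 11220096), (15, 11169979), (12, 11076747), (1, 16525333), (22, 12274825), (11, 11355321), (10, 10313765), (7, 12279868), (0, 8806444), (13, 3014680), (21, 8994824), (3, 1310740), (20, 147460), (23, 16384), (18, 16416), (5, 212992), (4, 524288)])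
def d1 : List ℕ × List (ℕ × ℕ) := ([0, 1, 1, 3, 2, 4, 5, 0, 1, 3, 5, 5, 4, 3], [(16, 8277128), (5, 14722570), (6, 5956109), (13, 5165849), (17, 7132829), (1, 5263365), (4, 2678149), (18, 6309389), (20, 4718592), (21, 8931976), (23, 57092), (2, 38536), (9, 4770184), (15, 4215817), (22, 2440), (14, 6408), (10, 528769), (19, 6537), (0, 392), (7, 6144), (11, 256), (8, 350900), (3, 7290051), (12, 2345030), (11, 13320770), (7, 1359923), (0, 13632594), (19, 4293680), (10, 6619664), (14, 14975088), (22, 8784), (15, 11739152), (9, 8527956), (2, 8388658), (23, 2162722), (21, 73794), (20, 327776), (18, 131106), (4, 73730), (1, 65632), (17, 8192), (6, 32)])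
def d2 : List ℕ × List (ℕ × ℕ) := ([1, 4, 2, 0, 1, 4, 5, 0], [(23, 6301919), (4, 2384897), (6, 7830662), (17, 4201902), (5, 1618446), (1, 3746309), (7, 8184585), (3, 7609345), (8, 128000), (9, 3202049), (0, 5769220), (21, 880640), (22, 1673216), (20, 636928), (19, 13316), (10, 282628), (18, 75780), (11, 20484), (13, 65540), (2, 36864), (12, 98304), (16, 14871724), (15, 15628715), (12, 25476), (14, 14814086), (2, 11929249), (13, 3147416), (11, 14942427), (18, 10093579), (10, 13631721), (19, 1048680), (20, 6423283), (22, 131874), (21, 451), (0, 8389256), (9, 131224), (8, 82), (3, 8519842), (7, 96), (1, 80), (6, 8388608)])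
def d3 : List ℕ × List (ℕ × ℕ) := ([4, 4, 0, 1, 0, 5, 5, 0, 2, 4, 5, 1, 0], [(20, 5153555), (18, 4216380), (19, 6298201), (21, 4277498), (23, 4266345), (0, 634), (1, 2744), (14, 4293364), (3, 3904), (5, 256), (15, 66192), (7, 256), (8, 2048), (17, 65536), (9, 1028), (10, 80), (12, 4194324), (2, 64), (13, 4194304), (22, 65536), (16, 6606539), (22, 271961), (13, 2366460), (6, 183), (4, 1413), (2, 2568), (12, 265737), (10, 170), (9, 2346), (17, 2097538), (15, 2375722), (3, 1), (23, 3407872), (19, 262144), (13, 4194304)])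
theorem ok0 : [d0].all (okStep gens) = true := by decide +kernel
theorem ok1 : [d1].all (okStep gens) = true := by decide +kernel
theorem ok2 : [d2].all (okStep gens) = true := by decide +kernel
theorem ok3 : [d3].all (okStep gens) = true := by decide +kernel

noncomputable def s0 : {v : ℕ // bfInitN 3 gens reps ws = v} := by
  refine ⟨?_, ?_⟩
  rotate_left
  conv => lhs; whnf

noncomputable def s1 : {v : ℕ // bfStepsN 3 [d0] s0.1 = v} := by
  refine ⟨?_, ?_⟩
  rotate_left
  conv => lhs; whnf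

noncomputable def s2 : {v : ℕ // bfStepsN 3 [d1] s1.1 = v} := by
  refine ⟨?_, ?_⟩
  rotate_left
  conv => lhs; whnf

noncomputable def s3 : {v : ℕ // bfStepsN 3 [d2] s2.1 = v} := by
  refine ⟨?_, ?_⟩
  rotate_left
  conv => lhs; whnf

noncomputable def s4 : {v : ℕ // bfStepsN 3 [d3] s3.1 = v} := by
  refine ⟨?_, ?_⟩
  rotate_left
  conv => lhs; whnf

noncomputable def fin : ℕ := s4.1

theorem cnt_eq : (List.range 7).map (fun l => cntN n fin (l + 1)) = [34560, 264, 0, 61440, 0, 0, 2016] := by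
  decide +kernel

theorem inv {Gd : Cl → ℕ → Prop} (hg : Cls Gd gens)
    (hr : ∀ r ∈ reps, r.1 < 2 ^ 24 ∧ r.2 < 2 ^ n ∧ Gd (cd r.1) r.2) : InvN Gd n fin := by
  have h0 : InvN Gd 3 s0.1 := s0.2 ▸ invN_init hg 3 hr ws
  have h1 : InvN Gd 3 s1.1 := s1.2 ▸ invN_steps hg ok0 h0
  have h2 : InvN Gd 3 s2.1 := s2.2 ▸ invN_steps hg ok1 h1
  have h3 : InvN Gd 3 s3.1 := s3.2 ▸ invN_steps hg ok2 h2
  have h4 : InvN Gd 3 s4.1 := s4.2 ▸ invN_steps hg ok3 h3
  exact h4

end

end CfsgMO.Bs11
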