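/-
Orbit enumeration of the short classes for the axis number 2.
-/
import Cfsg.Agent.MO.BF

set_option autoImplicit false
set_option maxRecDepth 100000
set_option Elab.async false
set_option exponentiation.threshold 100000000

namespace CfsgMO.Bs2

noncomputable section

def n : ℕ := 1
def gens : List (List ℕ) := [[3722, 2, 1415, 256, 3289, 513, 331, 8, 173, 2047, 16, 2048, 2382636, 929704, 148235, 3825164, 2889610, 5135475, 6429203, 6869920, 4721417, 4853640, 6757192, 8933158], [4000, 2377, 1716, 75, 2371, 2383, 1829, 2395, 1228, 267, 925, 2048, 2093820, 4734725, 7863228, 1043492, 2661804, 8238853, 6950288, 5568788, 4329276, 924676, 2228494, 14031624]]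
def reps : List (ℕ × ℕ) := [(8192, 1), (150618, 1), (172285, 1), (298020, 1), (655391, 1), (7028736, 1)]
def ws : List (List ℕ) := [[1, 0, 0, 1, 0, 0, 0], [1, 1, 0, 1, 0, 0], [0, 1, 0, 1, 0, 1, 0, 1, 1, 0], [1, 0, 1, 0, 1, 0, 0], [1, 1, 0, 1, 0, 1, 1], [0, 0, 0, 1, 0, 1, 0, 0], [1, 0, 0, 1, 0, 0], [0, 0, 0, 0, 0, 0], [0, 0, 0, 0, 1, 1, 0, 0, 1], [1, 1, 1, 1, 1, 0, 1, 0, 0], [0, 1, 0, 1, 0, 0, 1, 0, 0, 0], [0, 0, 0, 0, 1, 1, 1, 0, 1], [1, 0, 1, 0, 1, 0], [0, 0, 1, 1, 0, 1, 1, 0, 0, 0], [0, 0, 0, 0, 1, 1, 1], [0, 1, 0, 0, 1, 1, 0, 1]]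
def d0 : List ℕ × List (ℕ × ℕ) := ([1, 1, 1, 0, 0, 1, 0, 0, 1, 0, 0, 1, 0, 0], [(0, 2568), (23, 5512554), (15, 5994036), (5, 2822), (12, 1794642), (16, 4983698), (1, 1744), (2, 1744), (9, 1240), (7, 1360), (19, 3171392), (3, 64), (4, 1280), (17, 3433792), (18, 3170368), (20, 6316032), (6, 1280), (22, 2620191), (21, 1705760), (14, 1741554), (13, 922680), (10, 2633), (8, 661), (6, 2593), (20, 297612), (18, 592563), (17, 72377), (4, 649), (3, 2561), (19, 4101), (7, 2087), (2, 1), (1, 1), (16, 32769), (12, 32769), (15, 1)])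
def d1 : List ℕ × List (ℕ × ℕ) := ([0, 0, 0, 0, 0, 0, 0, 0, 0, 1, 0, 0, 0, 0], [(20, 6778610), (1, 32), (7, 3904), (2, 2080), (16, 7268176), (5, 513), (9, 3073), (3, 273), (18, 6971665), (22, 2254848), (23, 2237776), (21, 713809), (12, 156689), (10, 64), (6, 16), (14, 32784), (19, 3151666), (17, 3205584), (15, 3151684), (13, 1049357), (4, 3936), (14, 2103310), (6, 1568), (10, 544), (0, 648), (12, 2097922), (21, 5245324), (8, 2190), (23, 1114752), (22, 262816), (18, 66216), (3, 516), (9, 32), (16, 132)])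
def d2 : List ℕ × List (ℕ × ℕ) := ([1, 1, 1, 1, 1, 1, 1, 1, 1, 1, 1], [(5, 2048), (23, 2515520), (9, 2048), (6, 2048), (1, 2048), (20, 16), (2, 2048), (21, 3530), (17, 3230), (15, 1778), (14, 224), (13, 553), (22, 680), (19, 1916), (18, 2973), (16, 489), (12, 82), (20, 704), (23, 32)])
theorem ok0 : [d0].all (okStep gens) = true := by decide +kernel
theorem ok1 : [d1].all (okStep gens) = true := by decide +kernel
theorem ok2 : [d2].all (okStep gens) = true := by decide +kernel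

noncomputable def s0 : {v : ℕ // bfInitN 1 gens reps ws = v} := by
  refine ⟨?_, ?_⟩
  rotate_left
  conv => lhs; whnf

noncomputable def s1 : {v : ℕ // bfStepsN 1 [d0] s0.1 = v} := by
  refine ⟨?_, ?_⟩
  rotate_left
  conv => lhs; whnf

noncomputable def s2 : {v : ℕ // bfStepsN 1 [d1] s1.1 = v} := by
  refine ⟨?_, ?_⟩
  rotate_left
  conv => lhs; whnf

noncomputable def s3 : {v : ℕ // bfStepsN 1 [d2] s2.1 = v} := by
  refine ⟨?_, ?_⟩
  rotate_left
  conv => lhs; whnf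

noncomputable def fin : ℕ := s3.1

theorem cnt_eq : (List.range 1).map (fun l => cntN n fin (l + 1)) = [98280] := by
  decide +kernel

theorem inv {Gd : Cl → ℕ → Prop} (hg : Cls Gd gens)
    (hr : ∀ r ∈ reps, r.1 < 2 ^ 24 ∧ r.2 < 2 ^ n ∧ Gd (cd r.1) r.2) : InvN Gd n fin := by
  have h0 : InvN Gd 1 s0.1 := s0.2 ▸ invN_init hg 1 hr ws
  have h1 : InvN Gd 1 s1.1 := s1.2 ▸ invN_steps hg ok0 h0
  have h2 : InvN Gd 1 s2.1 := s2.2 ▸ invN_steps hg ok1 h1
  have h3 : InvN Gd 1 s3.1 := s3.2 ▸ invN_steps hg ok2 h2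
  exact h3

end

end CfsgMO.Bs2
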