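/-
Orbit enumeration of the short classes for the axis number 3.
-/
import Cfsg.Agent.MO.BF

set_option autoImplicit false
set_option maxRecDepth 100000
set_option Elab.async false
set_option exponentiation.threshold 100000000

namespace CfsgMO.Bs3

noncomputable section

def n : ℕ := 3
def gens : List (List ℕ) := [[1190, 141, 1447, 40, 160, 2411, 32, 2144, 3091, 3900, 2592, 2048, 1125712, 1120656, 5251490, 5355802, 5774911, 1080708, 7253962, 1339650, 5330742, 5266074, 7363349, 16079563], [1534, 1869, 3808, 2300, 3552, 992, 4072, 2016, 4032, 2079, 979, 2048, 800451, 789271, 1385405, 74994, 2693484, 4745021, 51058, 8094568, 475658, 89748, 870883, 12305582], [4342374, 1323218, 7037328, 7040632, 4004099, 7038576, 4004627, 4001880, 5652871, 5653112, 3932, 987, 1208248, 1207671, 14934168, 10700934, 1647746, 7331023, 14522366, 12434541, 14470292, 14470954, 9215421, 5908046]]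
def reps : List (ℕ × ℕ) := [(1955, 1), (8192, 1), (9192, 7), (172285, 1), (876544, 1), (880640, 1), (2109440, 1), (4719774, 1), (7028736, 1), (9105408, 1)]
def ws : List (List ℕ) := [[2, 1, 2, 1, 1, 0, 1], [0, 1, 2, 0, 2, 1, 0], [1, 0, 0, 0, 2, 1], [2, 2, 2, 0, 1, 1, 1, 0, 2], [0, 1, 0, 2, 2, 2, 1, 1, 1], [0, 1, 2, 2, 1, 1], [2, 0, 1, 0, 0, 2, 2, 1], [0, 0, 1, 1, 2, 2], [2, 2, 0, 0, 2, 2, 0, 2, 1], [0, 0, 0, 0, 0, 1, 1, 0, 0], [1, 0, 1, 0, 2, 2, 2], [1, 1, 1, 1, 1, 2, 0], [2, 0, 2, 1, 0, 0, 2, 1, 0, 0], [2, 0, 1, 0, 2, 1], [1, 0, 0, 2, 1, 0, 0, 1, 1]]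
def d0 : List ℕ × List (ℕ × ℕ) := ([1, 0, 1, 0, 2, 0, 2, 0, 0], [(17, 12703266), (10, 3990271), (6, 13488897), (18, 11540992), (1, 12711992), (23, 6895616), (19, 45624), (2, 6419072), (12, 2154752), (7, 4260616), (9, 2056), (16, 2156832), (4, 5253416), (3, 4235265), (5, 1083649), (8, 2148352), (0, 6318080), (20, 4229120), (15, 2121728), (22, 2113536), (13, 2115584), (21, 964990), (14, 13141989), (11, 5005), (13, 12977499), (22, 890855), (15, 8458512), (20, 790561), (0, 8722084), (8, 9045660), (5, 1048), (3, 921744), (4, 70214), (16, 8651394), (9, 8786112), (7, 8785984), (12, 132100), (2, 8781888), (19, 8388610), (23, 393282), (1, 131072), (6, 131072)])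
def d1 : List ℕ × List (ℕ × ℕ) := ([0, 2, 0, 2, 2, 0, 2, 2, 1, 0, 1], [(5, 117903), (13, 10214347), (1, 11375361), (8, 6590536), (10, 6079128), (2, 7215632), (15, 920081), (7, 9437201), (16, 16007760), (4, 9706057), (19, 4212808), (21, 4332105), (0, 5392456), (22, 1445960), (6, 9590784), (14, 1311240), (12, 9439744), (17, 9439240), (3, 512), (9, 8650752), (18, 8390656), (23, 8272046), (11, 6152235), (18, 8053722), (9, 2306145), (20, 2203746), (3, 2331041), (17, 574631), (12, 9493), (14, 2720210), (6, 6357173), (22, 99749), (0, 107698), (21, 630786), (19, 73860), (4, 65958), (16, 42278), (7, 34054), (15, 9218), (2, 1056), (10, 8482), (9, 262144)])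
def d2 : List ℕ × List (ℕ × ℕ) := ([2, 0, 2, 1, 0, 0, 2, 2, 2, 1, 0], [(6, 5866040), (0, 2381472), (12, 16215092), (19, 8814638), (15, 27786), (11, 272052), (3, 128), (20, 12674084), (13, 2492324), (14, 67456), (21, 66320), (4, 4261024), (16, 262658), (7, 1574), (8, 4325412), (17, 4195364), (1, 548), (10, 4456960), (18, 12582916), (22, 8388608), (23, 7027383), (22, 2691379), (5, 2313538), (2, 67216), (18, 2291137), (9, 3374464), (10, 2173376), (1, 155777), (17, 3735881), (8, 24640), (7, 3694656), (16, 18440), (4, 2115656), (21, 1597505), (14, 1583169), (13, 1579008), (20, 2113), (3, 64), (11, 528449), (19, 4161), (12, 65), (22, 8388608)])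
def d3 : List ℕ × List (ℕ × ℕ) := ([1, 1, 1, 1, 0, 1, 1, 0, 0, 1], [(21, 6251442), (13, 4525146), (18, 1087810), (7, 3935), (22, 104236), (12, 1049903), (14, 1150846), (8, 1663), (20, 626186), (3, 624), (23, 623667), (0, 1124), (6, 2), (1, 32), (2, 32), (5, 1552), (4, 1024), (15, 196608), (16, 524288), (19, 4391202), (17, 36287), (16, 2156986), (15, 3434932), (10, 951), (9, 176), (4, 160), (5, 2436), (2, 128), (1, 2176), (6, 393), (0, 2176), (23, 4471168), (20, 4456832), (14, 4198528), (12, 4456448), (22, 128), (15, 65536)])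
theorem ok0 : [d0].all (okStep gens) = true := by decide +kernel
theorem ok1 : [d1].all (okStep gens) = true := by decide +kernel
theorem ok2 : [d2].all (okStep gens) = true := by decide +kernel
theorem ok3 : [d3].all (okStep gens) = true := by decide +kernel

noncomputable def s0 : {v : ℕ // bfInitN 3 gens reps ws = v} := by
  refine ⟨?_, ?_⟩
  rotate_left
  conv => lhs; whnf

noncomputable def s1 : {v : ℕ // bfStepsN 3 [d0] s0.1 = v} := by
  refine ⟨?_, ?_⟩
  rotate_left
  conv => lhs; whnf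

noncomputable def s2 : {v : ℕ // bfStepsN 3 [d1] s1.1 = v} := by
  refine ⟨?_, ?_⟩
  rotate_left
  conv => lhs; whnf

noncomputable def s3 : {v : ℕ // bfStepsN 3 [d2] s2.1 = v} := by
  refine ⟨?_, ?_⟩
  rotate_left
  conv => lhs; whnf

noncomputable def s4 : {v : ℕ // bfStepsN 3 [d3] s3.1 = v} := by
  refine ⟨?_, ?_⟩
  rotate_left
  conv => lhs; whnf

noncomputable def fin : ℕ := s4.1

theorem cnt_eq : (List.range 7).map (fun l => cntN n fin (l + 1)) = [69608, 0, 0, 0, 0, 0, 28672] := by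
  decide +kernel

theorem inv {Gd : Cl → ℕ → Prop} (hg : Cls Gd gens)
    (hr : ∀ r ∈ reps, r.1 < 2 ^ 24 ∧ r.2 < 2 ^ n ∧ Gd (cd r.1) r.2) : InvN Gd n fin := by
  have h0 : InvN Gd 3 s0.1 := s0.2 ▸ invN_init hg 3 hr ws
  have h1 : InvN Gd 3 s1.1 := s1.2 ▸ invN_steps hg ok0 h0
  have h2 : InvN Gd 3 s2.1 := s2.2 ▸ invN_steps hg ok1 h1
  have h3 : InvN Gd 3 s3.1 := s3.2 ▸ invN_steps hg ok2 h2
  have h4 : InvN Gd 3 s4.1 := s4.2 ▸ invN_steps hg ok3 h3
  exact h4

end

end CfsgMO.Bs3
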