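/-
Orbit enumeration of the short classes for the axis number 4.
-/
import Cfsg.Agent.MO.BF

set_option autoImplicit false
set_option maxRecDepth 100000
set_option Elab.async false
set_option exponentiation.threshold 100000000

namespace CfsgMO.Bs4

noncomputable section

def n : ℕ := 3
def gens : List (List ℕ) := [[267, 2050, 175, 258, 3870, 2178, 515, 34, 2058, 2377, 4066, 2048, 2383248, 6291272, 83392, 3232146, 65545, 4735232, 6291846, 4342861, 6397551, 4524290, 4262279, 15935235], [237, 2262, 722, 734, 364, 2646, 1765, 1208, 726, 662, 982, 2048, 4275136, 6359576, 214465, 4432702, 211034, 596180, 4268370, 76736, 3990995, 460369, 1257520, 15209845], [3209713, 6282765, 1075, 331, 8186373, 7859417, 7283958, 8186955, 3930650, 7284222, 6282971, 2465, 10008477, 4340312, 13667477, 7731838, 9473335, 2006247, 9719520, 14339222, 5406847, 698127, 9490036, 13950182]]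
def reps : List (ℕ × ℕ) := [(8192, 1), (9192, 7), (49152, 1), (172285, 1), (1249976, 3), (2588672, 1), (7028736, 1)]
def ws : List (List ℕ) := [[2, 0, 0, 2, 1, 2], [2, 2, 0, 1, 1, 1, 0, 1], [1, 2, 2, 2, 1, 2], [1, 1, 1, 2, 0, 1, 2, 1, 2], [0, 0, 2, 2, 2, 2], [2, 1, 2, 2, 2, 0, 1, 0, 1, 1], [0, 0, 1, 1, 2, 2, 0, 2], [2, 1, 1, 1, 1, 0], [1, 2, 1, 2, 2, 2, 0], [1, 0, 1, 2, 1, 0, 1], [1, 0, 0, 1, 2, 1], [1, 2, 0, 1, 0, 2, 1, 1, 1, 2], [2, 0, 1, 1, 1, 0, 2], [1, 0, 0, 2, 1, 1], [0, 2, 2, 2, 1, 0, 2, 2], [1, 2, 1, 2, 1, 0, 0, 0]]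
def d0 : List ℕ × List (ℕ × ℕ) := ([0, 1, 2, 1, 1, 2, 0, 0, 1], [(9, 6280409), (22, 12516600), (17, 1081450), (18, 3747230), (23, 2226244), (2, 371), (10, 2715697), (21, 129080), (15, 1059289), (0, 547002), (6, 545200), (11, 545050), (1, 1077384), (3, 256), (4, 1663232), (7, 81920), (13, 1069088), (12, 590112), (8, 1064992), (19, 1114112), (16, 16384), (20, 149769), (14, 9416325), (16, 9347798), (19, 4593228), (5, 14844678), (8, 14727757), (12, 8693964), (13, 2523667), (7, 2129986), (4, 12619264), (3, 12616263), (1, 2263552), (11, 1), (6, 513), (0, 14811652), (15, 2097152), (21, 12715012), (10, 131584), (23, 4194816), (18, 4194304)])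
def d1 : List ℕ × List (ℕ × ℕ) := ([0, 1, 2, 2, 1, 2, 2, 2, 0, 2, 2, 0, 1, 2], [(11, 1396), (10, 319520), (5, 115611), (0, 7282884), (16, 1057158), (17, 12354318), (18, 12599376), (4, 13648842), (15, 9445710), (13, 8929480), (23, 1065542), (6, 4718734), (22, 3687048), (3, 3670918), (2, 2113538), (7, 2638592), (20, 21250), (21, 20994), (9, 16640), (14, 524288), (19, 258), (8, 4098), (1, 4300209), (12, 12258745), (8, 1859592), (19, 11661036), (14, 1540308), (9, 294989), (21, 1089697), (20, 428045), (7, 43117), (2, 13074441), (3, 393313), (22, 335969), (6, 8629249), (23, 1072), (13, 164880), (15, 133121), (4, 329728), (18, 134145), (17, 67616), (5, 1024), (10, 2048)])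
def d2 : List ℕ × List (ℕ × ℕ) := ([2, 0, 0, 0, 2, 1, 2, 2, 0, 2, 0, 2, 2], [(4, 1191557), (16, 4335246), (9, 5257315), (10, 2678981), (1, 3852676), (11, 3850537), (5, 1188233), (6, 4727168), (8, 3207304), (3, 7917568), (12, 8421508), (23, 6586373), (0, 974976), (7, 3850244), (17, 565248), (2, 1605632), (13, 278528), (22, 3981312), (21, 524288), (14, 1343488), (15, 262144), (20, 8650304), (18, 12828325), (15, 15347589), (19, 14907804), (14, 14681139), (21, 12659857), (22, 8398098), (13, 199761), (2, 8593371), (17, 8460529), (7, 8461083), (0, 8460322), (23, 5474), (12, 69466), (3, 67920), (8, 2050), (6, 1584), (5, 3088), (11, 1040), (1, 1040), (10, 65536)])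
def d3 : List ℕ × List (ℕ × ℕ) := ([1, 1, 1, 1, 1, 0, 0, 0, 0, 0, 0, 1, 1], [(12, 2680), (23, 720961), (13, 1964), (18, 2449), (14, 778), (15, 1335), (17, 523), (16, 841), (21, 1335), (19, 322), (20, 606), (22, 778), (5, 2048), (4, 2048), (20, 1152), (7, 2048)])
theorem ok0 : [d0].all (okStep gens) = true := by decide +kernel
theorem ok1 : [d1].all (okStep gens) = true := by decide +kernel
theorem ok2 : [d2].all (okStep gens) = true := by decide +kernel
theorem ok3 : [d3].all (okStep gens) = true := by decide +kernel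

noncomputable def s0 : {v : ℕ // bfInitN 3 gens reps ws = v} := by
  refine ⟨?_, ?_⟩
  rotate_left
  conv => lhs; whnf

noncomputable def s1 : {v : ℕ // bfStepsN 3 [d0] s0.1 = v} := by
  refine ⟨?_, ?_⟩
  rotate_left
  conv => lhs; whnf

noncomputable def s2 : {v : ℕ // bfStepsN 3 [d1] s1.1 = v} := by
  refine ⟨?_, ?_⟩
  rotate_left
  conv => lhs; whnf

noncomputable def s3 : {v : ℕ // bfStepsN 3 [d2] s2.1 = v} := by
  refine ⟨?_, ?_⟩
  rotate_left
  conv => lhs; whnf

noncomputable def s4 : {v : ℕ // bfStepsN 3 [d3] s3.1 = v} := by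
  refine ⟨?_, ?_⟩
  rotate_left
  conv => lhs; whnf

noncomputable def fin : ℕ := s4.1

theorem cnt_eq : (List.range 7).map (fun l => cntN n fin (l + 1)) = [66536, 0, 1024, 0, 0, 0, 30720] := by
  decide +kernel

theorem inv {Gd : Cl → ℕ → Prop} (hg : Cls Gd gens)
    (hr : ∀ r ∈ reps, r.1 < 2 ^ 24 ∧ r.2 < 2 ^ n ∧ Gd (cd r.1) r.2) : InvN Gd n fin := by
  have h0 : InvN Gd 3 s0.1 := s0.2 ▸ invN_init hg 3 hr ws
  have h1 : InvN Gd 3 s1.1 := s1.2 ▸ invN_steps hg ok0 h0
  have h2 : InvN Gd 3 s2.1 := s2.2 ▸ invN_steps hg ok1 h1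
  have h3 : InvN Gd 3 s3.1 := s3.2 ▸ invN_steps hg ok2 h2
  have h4 : InvN Gd 3 s4.1 := s4.2 ▸ invN_steps hg ok3 h3
  exact h4

end

end CfsgMO.Bs4
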