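/-
Orbit enumeration of the short classes for the axis number 5.
-/
import Cfsg.Agent.MO.BF

set_option autoImplicit false
set_option maxRecDepth 100000
set_option Elab.async false
set_option exponentiation.threshold 100000000

namespace CfsgMO.Bs5

noncomputable section

def n : ℕ := 3
def gens : List (List ℕ) := [[515, 2970, 958, 946, 3238, 719, 954, 2874, 3540, 952, 2986, 2048, 3410713, 5374166, 7625225, 1343521, 7346390, 3415565, 1045576, 6032650, 3152523, 5258266, 1116094, 14617277], [1, 2064, 8, 128, 3072, 32, 256, 2052, 4095, 2560, 2, 2048, 269844, 329342, 295547, 788163, 4460246, 395899, 1311928, 278697, 265400, 2359297, 270336, 15026022], [2932, 32, 726, 16, 1024, 2056, 3463, 512, 173, 373, 3868, 2048, 794170, 1461563, 1599211, 1124632, 5008358, 1868112, 1591431, 2120532, 533821, 1079910, 1319502, 10286101]]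
def reps : List (ℕ × ℕ) := [(1171, 4), (8192, 1), (49379, 1), (81920, 1), (150618, 1), (172285, 1), (317791, 4), (880640, 1), (1814528, 1), (1846439, 4), (1990657, 1), (7028736, 1), (8540162, 4), (10817761, 7)]
def ws : List (List ℕ) := [[1, 1, 2, 2, 2, 1, 0], [1, 0, 0, 2, 1, 0, 1], [0, 0, 1, 0, 0, 1, 2], [0, 1, 2, 1, 2, 2, 2, 1, 2, 0], [1, 0, 1, 1, 1, 0, 1, 1, 1, 2], [0, 1, 0, 1, 0, 2, 0, 0, 0], [2, 2, 2, 0, 0, 0], [0, 2, 2, 0, 1, 1], [2, 0, 1, 1, 2, 0, 2, 0, 2], [0, 1, 1, 2, 0, 1, 1, 1, 0], [2, 2, 2, 2, 2, 1, 0], [2, 0, 2, 0, 2, 2, 0, 2, 0], [1, 1, 0, 1, 0, 1, 2, 0, 1, 0], [0, 0, 1, 1, 1, 1, 1, 2, 0, 2], [0, 0, 0, 0, 0, 1]]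
def d0 : List ℕ × List (ℕ × ℕ) := ([2, 2, 0, 2, 0, 2, 1, 1, 2], [(1, 3493), (22, 3902541), (23, 3266496), (8, 1728), (14, 2461880), (6, 3636), (7, 32), (5, 17), (15, 3215880), (4, 1545), (0, 1536), (9, 8), (3, 1028), (20, 73732), (21, 668672), (18, 720900), (17, 589828), (12, 8192), (19, 8192), (13, 4132106), (19, 7654591), (16, 3328303), (12, 1444146), (2, 2618), (17, 5557848), (18, 6344481), (10, 2400), (21, 32776), (20, 4194307), (3, 930), (9, 50), (4, 482), (15, 16608), (5, 384), (7, 2), (6, 256), (8, 2), (23, 4194306)])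
def d1 : List ℕ × List (ℕ × ℕ) := ([1, 1, 0, 2, 2, 1, 2, 0, 1, 0, 0, 2, 1, 2, 0], [(22, 2867357), (23, 1249099), (1, 2505), (7, 2421), (8, 1081), (3, 1604), (16, 132209), (10, 36), (6, 49), (12, 139317), (2, 544), (4, 512), (9, 1), (17, 1327105), (20, 24576), (13, 802816), (14, 2654208), (19, 2129921), (21, 262144), (18, 6991562), (21, 1212193), (15, 4864909), (0, 1624), (19, 5259328), (14, 5441122), (13, 1051282), (20, 133058), (17, 1112), (9, 3538), (5, 2446), (4, 394), (2, 3466), (12, 4196680), (6, 2440), (10, 2184), (16, 4196736), (3, 2434), (8, 2176), (7, 2)])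
def d2 : List ℕ × List (ℕ × ℕ) := ([1, 1, 0, 1, 1, 0, 1, 1, 2, 0, 2, 0, 2], [(14, 74), (21, 3330), (23, 4601664), (19, 50), (10, 2048), (12, 352), (22, 816), (0, 2048), (5, 2048), (15, 70), (1, 2048), (6, 2048), (9, 2048), (18, 2079), (17, 1153), (16, 1216), (13, 3020), (20, 1539), (23, 2097152)])
theorem ok0 : [d0].all (okStep gens) = true := by decide +kernel
theorem ok1 : [d1].all (okStep gens) = true := by decide +kernel
theorem ok2 : [d2].all (okStep gens) = true := by decide +kernel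

noncomputable def s0 : {v : ℕ // bfInitN 3 gens reps ws = v} := by
  refine ⟨?_, ?_⟩
  rotate_left
  conv => lhs; whnf

noncomputable def s1 : {v : ℕ // bfStepsN 3 [d0] s0.1 = v} := by
  refine ⟨?_, ?_⟩
  rotate_left
  conv => lhs; whnf

noncomputable def s2 : {v : ℕ // bfStepsN 3 [d1] s1.1 = v} := by
  refine ⟨?_, ?_⟩
  rotate_left
  conv => lhs; whnf

noncomputable def s3 : {v : ℕ // bfStepsN 3 [d2] s2.1 = v} := by
  refine ⟨?_, ?_⟩
  rotate_left
  conv => lhs; whnf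

noncomputable def fin : ℕ := s3.1

theorem cnt_eq : (List.range 7).map (fun l => cntN n fin (l + 1)) = [49832, 0, 0, 37888, 0, 0, 10560] := by
  decide +kernel

theorem inv {Gd : Cl → ℕ → Prop} (hg : Cls Gd gens)
    (hr : ∀ r ∈ reps, r.1 < 2 ^ 24 ∧ r.2 < 2 ^ n ∧ Gd (cd r.1) r.2) : InvN Gd n fin := by
  have h0 : InvN Gd 3 s0.1 := s0.2 ▸ invN_init hg 3 hr ws
  have h1 : InvN Gd 3 s1.1 := s1.2 ▸ invN_steps hg ok0 h0
  have h2 : InvN Gd 3 s2.1 := s2.2 ▸ invN_steps hg ok1 h1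
  have h3 : InvN Gd 3 s3.1 := s3.2 ▸ invN_steps hg ok2 h2
  exact h3

end

end CfsgMO.Bs5
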