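/-
Orbit enumeration of the short classes for the axis number 6.
-/
import Cfsg.Agent.MO.BF

set_option autoImplicit false
set_option maxRecDepth 100000
set_option Elab.async false
set_option exponentiation.threshold 100000000

namespace CfsgMO.Bs6

noncomputable section

def n : ℕ := 3
def gens : List (List ℕ) := [[2047, 1266, 1423, 3479, 615, 3527, 1287, 3495, 3921, 1415, 3370, 2048, 6299905, 5243529, 3198974, 3241989, 4224527, 7603281, 1585699, 2242794, 21445, 7316462, 5269743, 12025601], [4095, 3877, 323, 1623, 2395, 363, 267, 459, 3276, 3764, 1400, 2048, 1041404, 13932, 3210021, 5266587, 6388309, 3281059, 6565057, 5777029, 2113536, 8359290, 4212239, 11625295], [4728, 1038148, 128544, 931336, 930052, 127296, 130784, 128640, 1039612, 1043452, 1048368, 1792, 4186048, 6296087, 11678248, 6387096, 4172131, 12247515, 12515756, 15267372, 4114250, 6359270, 6357088, 16421889], [6302575, 12923, 12772653, 13443593, 12774709, 13444457, 12774757, 12772613, 4190762, 5258592,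 7327662, 1034444, 1034035, 5258377, 4156910, 9241239, 6215596, 9091263, 1338675, 8235537, 10320991, 15892502, 12747812, 13285671]]
def reps : List (ℕ × ℕ) := [(1171, 1), (1955, 7), (9192, 4), (33697, 1), (81920, 1), (196608, 1), (217196, 1), (2228224, 1), (4419584, 1), (7028736, 1), (8781824, 1)]
def ws : List (List ℕ) := [[0, 3, 0, 0, 1, 0, 1], [1, 2, 3, 1, 2, 0], [2, 1, 1, 0, 3, 3, 1, 2], [3, 2, 2, 1, 1, 2, 2, 1], [2, 1, 1, 1, 2, 3], [0, 0, 3, 3, 2, 1, 0, 3, 0], [0, 0, 0, 3, 1, 2, 2, 1, 3], [3, 2, 0, 2, 2, 2, 0, 3, 0, 3], [0, 2, 3, 1, 1, 1, 0], [2, 0, 1, 3, 3, 1], [3, 2, 3, 0, 2, 1, 3, 2], [3, 0, 0, 1, 2, 2, 3, 2, 0], [3, 3, 0, 3, 2, 3, 0, 0, 3], [1, 1, 3, 2, 0, 2, 2], [2, 2, 1, 3, 3, 1, 2, 3]]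
def d0 : List ℕ × List (ℕ × ℕ) := ([2, 1, 2, 3, 3, 2, 3, 2, 0, 1, 0, 1, 2], [(17, 10082155), (6, 15479986), (0, 3147938), (4, 15482022), (19, 2483242), (3, 12703872), (23, 7465892), (22, 1406116), (5, 34560), (9, 389510), (18, 2098182), (7, 2191364), (2, 2226176), (8, 10240), (21, 95232), (11, 1024), (12, 32768), (13, 1163266), (1, 1131520), (20, 81920), (14, 65536), (10, 32768), (15, 2032758), (10, 2687322), (16, 9206517), (14, 14430214), (20, 8796625), (1, 12726640), (13, 2627912), (12, 2231052), (11, 15335657), (21, 263077), (8, 13501080), (2, 224), (7, 262704), (18, 8520192), (9, 4194416), (5, 13238361), (22, 8519680), (23, 655440), (3, 524288), (10, 32768)])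
def d1 : List ℕ × List (ℕ × ℕ) := ([3, 0, 0, 1, 1, 3, 2, 0, 3, 2, 3, 2, 0, 2, 2], [(22, 2151553), (15, 3219416), (7, 3022881), (17, 10231101), (20, 2192206), (21, 22568), (23, 815403), (2, 866401), (12, 804138), (8, 853571), (19, 9307), (9, 11344), (0, 337960), (16, 270400), (1, 288784), (18, 16), (3, 17440), (6, 16384), (14, 2048), (11, 32), (5, 6879), (13, 14811228), (11, 9584836), (10, 8192198), (14, 7573854), (6, 9572891), (4, 4035082), (3, 10912129), (18, 8028674), (1, 1573380), (16, 4227713), (0, 12222724), (9, 12747136), (19, 14717060), (8, 8523908), (12, 13795456), (2, 9568256), (23, 1212416), (21, 4227200), (20, 32768)])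
def d2 : List ℕ × List (ℕ × ℕ) := ([2, 2, 2, 3, 1, 2, 2, 0, 3, 3], [(21, 4239121), (22, 1063722), (23, 1016026), (4, 1415), (15, 2060749), (5, 1415), (19, 1275596), (0, 514), (14, 1062348), (9, 3462), (8, 2248), (1, 1028), (10, 204), (2, 200), (6, 8), (12, 1048576), (13, 1310720), (17, 262144), (18, 1048576), (20, 2374207), (18, 7031596), (17, 526294), (16, 2667203), (13, 2659048), (12, 4229671), (7, 3595), (3, 3686), (6, 3587), (2, 1539), (10, 2819), (1, 816), (8, 544), (14, 4227121), (15, 16), (22, 2097152)])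
def d3 : List ℕ × List (ℕ × ℕ) := ([1, 0, 0, 0, 0, 3, 0, 1, 0, 1, 3, 2, 2], [(22, 1087820), (23, 3171683), (14, 33490), (2, 512), (15, 1050624), (7, 2560), (8, 1147), (9, 2), (20, 2145), (0, 1072), (1, 2048), (3, 1056), (10, 2048), (18, 64), (13, 2818048), (21, 1813458), (19, 1049571), (17, 4231874), (16, 4201282), (13, 1328710), (12, 5278613), (6, 514), (18, 1050016), (10, 49), (5, 514), (4, 514), (3, 897), (1, 512), (20, 33408), (8, 132), (23, 4194304)])
theorem ok0 : [d0].all (okStep gens) = true := by decide +kernel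
theorem ok1 : [d1].all (okStep gens) = true := by decide +kernel
theorem ok2 : [d2].all (okStep gens) = true := by decide +kernel
theorem ok3 : [d3].all (okStep gens) = true := by decide +kernel

noncomputable def s0 : {v : ℕ // bfInitN 3 gens reps ws = v} := by
  refine ⟨?_, ?_⟩
  rotate_left
  conv => lhs; whnf

noncomputable def s1 : {v : ℕ // bfStepsN 3 [d0] s0.1 = v} := by
  refine ⟨?_, ?_⟩
  rotate_left
  conv => lhs; whnf

noncomputable def s2 : {v : ℕ // bfStepsN 3 [d1] s1.1 = v} := by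
  refine ⟨?_, ?_⟩
  rotate_left
  conv => lhs; whnf

noncomputable def s3 : {v : ℕ // bfStepsN 3 [d2] s2.1 = v} := by
  refine ⟨?_, ?_⟩
  rotate_left
  conv => lhs; whnf

noncomputable def s4 : {v : ℕ // bfStepsN 3 [d3] s3.1 = v} := by
  refine ⟨?_, ?_⟩
  rotate_left
  conv => lhs; whnf

noncomputable def fin : ℕ := s4.1

theorem cnt_eq : (List.range 7).map (fun l => cntN n fin (l + 1)) = [59112, 0, 0, 18432, 0, 0, 20736] := by
  decide +kernel

theorem inv {Gd : Cl → ℕ → Prop} (hg : Cls Gd gens)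
    (hr : ∀ r ∈ reps, r.1 < 2 ^ 24 ∧ r.2 < 2 ^ n ∧ Gd (cd r.1) r.2) : InvN Gd n fin := by
  have h0 : InvN Gd 3 s0.1 := s0.2 ▸ invN_init hg 3 hr ws
  have h1 : InvN Gd 3 s1.1 := s1.2 ▸ invN_steps hg ok0 h0
  have h2 : InvN Gd 3 s2.1 := s2.2 ▸ invN_steps hg ok1 h1
  have h3 : InvN Gd 3 s3.1 := s3.2 ▸ invN_steps hg ok2 h2
  have h4 : InvN Gd 3 s4.1 := s4.2 ▸ invN_steps hg ok3 h3
  exact h4

end

end CfsgMO.Bs6
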