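/-
Orbit enumeration of the short classes for the axis number 7.
-/
import Cfsg.Agent.MO.BF

set_option autoImplicit false
set_option maxRecDepth 100000
set_option Elab.async false
set_option exponentiation.threshold 100000000

namespace CfsgMO.Bs7

noncomputable section

def n : ℕ := 3
def gens : List (List ℕ) := [[384, 758, 3900, 2189, 363, 1056, 1043, 48, 4032, 2208, 2970, 2048, 7289096, 8080139, 6258962, 2395658, 2390538, 4477393, 58924, 8048706, 5977521, 3947091, 6290321, 12843713], [3634, 3382, 4000, 1504, 3755, 1114, 4068, 2024, 3808, 3027, 3733, 2048, 3534880, 7850306, 404687, 1963280, 4730387, 723880, 4098070, 4435772, 7269009, 81664, 4784237, 9724684], [1333616, 4235413, 5558849, 3245, 6525776, 4228857, 165, 6524965, 6527541, 5559109, 4230989, 837, 13315660, 1082, 13840432, 13340326, 9822159, 10790344, 7568485, 3024190, 16480248, 1578237, 791167, 7990269]]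
def reps : List (ℕ × ℕ) := [(1171, 1), (1955, 7), (8192, 1), (9192, 1), (132162, 1), (2965504, 1), (6733824, 1), (7028736, 1), (7491584, 1)]
def ws : List (List ℕ) := [[0, 0, 2, 0, 1, 1, 2], [2, 2, 0, 2, 0, 2], [1, 1, 2, 0, 2, 2, 2, 0], [1, 2, 0, 2, 2, 2, 1, 1, 1, 1], [2, 1, 2, 1, 2, 0, 0, 1, 0, 0], [1, 2, 2, 1, 2, 0], [0, 2, 0, 1, 0, 0], [2, 1, 1, 2, 2, 2, 2], [1, 0, 1, 0, 2, 0, 2, 2, 0, 2], [0, 2, 2, 1, 2, 1, 1, 1, 1], [1, 0, 2, 2, 2, 0, 0, 0], [1, 1, 2, 1, 1, 2, 1], [1, 2, 2, 1, 1, 0, 2, 1], [2, 2, 1, 2, 1, 2], [2, 2, 1, 1, 1, 1, 0, 1, 1, 1], [0, 0, 0, 2, 1, 2, 0]]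
def d0 : List ℕ × List (ℕ × ℕ) := ([1, 1, 2, 2, 1, 2, 1, 0, 2], [(21, 14311592), (12, 5104966), (2, 14044328), (0, 14533760), (19, 13044418), (4, 12862216), (13, 9637162), (20, 4376930), (23, 4278208), (18, 164810), (22, 133706), (14, 131466), (3, 231778), (7, 99136), (5, 163842), (1, 199744), (8, 199744), (15, 67648), (10, 67648), (11, 131072), (17, 66048), (9, 8860987), (16, 11700709), (17, 10546514), (11, 10776650), (6, 5244221), (10, 848318), (15, 283011), (8, 7884976), (1, 16261284), (5, 10252312), (7, 11296768), (3, 12595220), (14, 9179141), (22, 12066833), (18, 9961476), (23, 3678212), (20, 2633729), (13, 2097172), (4, 2625540), (19, 4097)])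
def d1 : List ℕ × List (ℕ × ℕ) := ([1, 0, 2, 1, 0, 2, 2, 2, 2, 0], [(1, 8970733), (18, 13883824), (15, 2117413), (13, 2299833), (19, 10505317), (0, 12655788), (21, 138156), (7, 9637640), (4, 5463328), (8, 8391748), (11, 4195364), (10, 1134600), (12, 8405548), (23, 1049160), (2, 1048576), (5, 1245256), (9, 5374024), (17, 1048648), (20, 65544), (3, 4259840), (16, 4194304), (22, 11479526), (16, 3036107), (3, 8842930), (20, 695367), (6, 8827040), (17, 9179702), (14, 11052423), (9, 2101428), (5, 824592), (2, 10498195), (23, 2931986), (12, 36115), (10, 2140290), (11, 2105601), (8, 2621569), (4, 2662529), (7, 2891778), (21, 303107), (0, 565248), (15, 2), (3, 65536)])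
def d2 : List ℕ × List (ℕ × ℕ) := ([0, 0, 1, 1, 0, 1, 0, 0], [(23, 4917792), (19, 4233722), (15, 4332572), (20, 4333349), (21, 359067), (0, 2046), (22, 132778), (13, 5772), (1, 512), (4, 2560), (16, 131616), (5, 3716), (17, 7624), (7, 2560), (8, 512), (10, 2060), (3, 4), (12, 68), (2, 64), (14, 262144), (18, 4379291), (14, 4358446), (6, 516), (12, 4359200), (3, 1443), (10, 306), (17, 4194320), (5, 17), (16, 32784), (13, 4194305), (22, 32769), (21, 1572864), (14, 262144), (2, 64)])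
theorem ok0 : [d0].all (okStep gens) = true := by decide +kernel
theorem ok1 : [d1].all (okStep gens) = true := by decide +kernel
theorem ok2 : [d2].all (okStep gens) = true := by decide +kernel

noncomputable def s0 : {v : ℕ // bfInitN 3 gens reps ws = v} := by
  refine ⟨?_, ?_⟩
  rotate_left
  conv => lhs; whnf

noncomputable def s1 : {v : ℕ // bfStepsN 3 [d0] s0.1 = v} := by
  refine ⟨?_, ?_⟩
  rotate_left
  conv => lhs; whnf

noncomputable def s2 : {v : ℕ // bfStepsN 3 [d1] s1.1 = v} := by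
  refine ⟨?_, ?_⟩
  rotate_left
  conv => lhs; whnf

noncomputable def s3 : {v : ℕ // bfStepsN 3 [d2] s2.1 = v} := by
  refine ⟨?_, ?_⟩
  rotate_left
  conv => lhs; whnf

noncomputable def fin : ℕ := s3.1

theorem cnt_eq : (List.range 7).map (fun l => cntN n fin (l + 1)) = [77544, 0, 0, 0, 0, 0, 20736] := by
  decide +kernel

theorem inv {Gd : Cl → ℕ → Prop} (hg : Cls Gd gens)
    (hr : ∀ r ∈ reps, r.1 < 2 ^ 24 ∧ r.2 < 2 ^ n ∧ Gd (cd r.1) r.2) : InvN Gd n fin := by
  have h0 : InvN Gd 3 s0.1 := s0.2 ▸ invN_init hg 3 hr ws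
  have h1 : InvN Gd 3 s1.1 := s1.2 ▸ invN_steps hg ok0 h0
  have h2 : InvN Gd 3 s2.1 := s2.2 ▸ invN_steps hg ok1 h1
  have h3 : InvN Gd 3 s3.1 := s3.2 ▸ invN_steps hg ok2 h2
  exact h3

end

end CfsgMO.Bs7
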