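/-
Orbit enumeration of the short classes for the axis number 8.
-/
import Cfsg.Agent.MO.BF

set_option autoImplicit false
set_option maxRecDepth 100000
set_option Elab.async false
set_option exponentiation.threshold 100000000

namespace CfsgMO.Bs8

noncomputable section

def n : ℕ := 3
def gens : List (List ℕ) := [[1534, 2592, 2088, 4032, 2084, 1447, 2389, 1852, 2080, 2015, 1043, 2048, 1382703, 2693628, 5344182, 5048479, 6115258, 1648505, 1387416, 863230, 2541826, 4797075, 4533812, 14366141], [3357, 2710, 2624, 4000, 3066, 64, 2144, 80, 2368, 1884, 2114, 2048, 7116, 4752488, 6347405, 575853, 4736260, 7823388, 4360559, 4784237, 1592655, 4774541, 59468, 11723759], [45, 3273, 806, 1233, 3801, 1497, 2398, 3291, 1273, 3161, 825, 2048, 8106368, 4105496, 4191084, 4494114, 2380588, 5264672, 4459158, 8117335, 8251723, 4721848, 3907632, 15542632], [8108579, 2700409, 436, 4196743, 1215609, 8103659, 8120, 4194313, 1216483, 8105711, 8102973, 2706, 9467850, 10109176, 9600159,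 7901693, 7872446, 10174287, 1620626, 10058154, 10085713, 10428767, 6074076, 6035391]]
def reps : List (ℕ × ℕ) := [(1171, 4), (1955, 1), (8192, 4), (81920, 4), (262144, 1), (307200, 1), (1990656, 1), (3104768, 1), (3154029, 7), (4325641, 1), (5566483, 1), (6807552, 1), (7028736, 4), (7655424, 4), (8540162, 4), (9720033, 2), (10317852, 7), (10379264, 1), (10817761, 1), (11190272, 1), (12882145, 1)]
def ws : List (List ℕ) := [[2, 3, 1, 0, 3, 1], [3, 1, 3, 2, 1, 3], [2, 3, 1, 3, 2, 0, 2, 1], [3, 2, 0, 0, 3, 3, 2, 2], [1, 0, 3, 3, 3, 2, 3, 3, 2], [1, 0, 3, 2, 2, 1], [0, 3, 2, 1, 3, 0, 1], [1, 3, 1, 0, 3, 0, 1, 2], [3, 0, 0, 2, 1, 0, 3, 0, 3, 0], [0, 1, 3, 0, 3, 3], [0, 2, 1, 0, 1, 2, 1], [1, 3, 0, 3, 3, 0, 3], [1, 3, 3, 0, 3, 2, 0, 1], [2, 2, 0, 0, 2, 0, 1, 1, 3, 0]]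
def d0 : List ℕ × List (ℕ × ℕ) := ([1, 1, 1, 2, 1, 3, 1, 0, 2, 0], [(20, 8756139), (11, 999), (17, 15000877), (15, 2445810), (16, 6297339), (22, 778), (9, 2888913), (10, 278692), (2, 8671464), (3, 278722), (5, 10764496), (4, 8933378), (19, 16768), (6, 2380032), (23, 266625), (12, 129), (7, 278785), (0, 2359296), (18, 2121728), (21, 24578), (13, 258), (1, 6285441), (8, 6499369), (13, 15386777), (14, 11738688), (21, 857676), (18, 14392888), (0, 9640652), (7, 4394024), (12, 12682844), (23, 1181712), (6, 5767732), (19, 5277220), (4, 5472296), (5, 5475852), (3, 5472768), (2, 5243392), (10, 5472768), (9, 1245184), (22, 98304), (16, 32768)])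
def d1 : List ℕ × List (ℕ × ℕ) := ([1, 3, 0, 0, 0, 0, 0, 2, 1, 2, 1, 2, 2, 0, 1], [(15, 5010607), (20, 2953711), (22, 2562596), (10, 65711), (19, 8733336), (5, 10965059), (23, 467844), (1, 2190088), (14, 270533), (16, 2494797), (6, 2956), (8, 2048), (9, 135300), (21, 405508), (2, 4096), (11, 139264), (12, 139401), (7, 139265), (0, 8208), (17, 8208), (13, 8), (3, 697761), (18, 2180947), (13, 1229427), (4, 15439746), (17, 1166918), (0, 4838434), (7, 13144070), (12, 14747490), (11, 2114822), (2, 8389922), (21, 1573954), (9, 13221888), (8, 558112), (16, 9487362), (14, 2), (1, 13139968), (23, 1082368), (5, 558080), (19, 5242880)])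
def d2 : List ℕ × List (ℕ × ℕ) := ([1, 0, 2, 3, 0, 2, 1, 1, 0, 3, 0, 3, 1, 1], [(19, 11954010), (11, 8578555), (14, 11961561), (6, 10626346), (16, 6325037), (8, 14070452), (18, 14820885), (20, 10520078), (9, 4366475), (15, 14823458), (12, 10494112), (21, 4195336), (13, 12715182), (23, 140), (17, 4194456), (2, 1027), (0, 160), (7, 4195368), (3, 4194354), (22, 50), (1, 1072), (10, 14636015), (5, 10422992), (4, 16316609), (1, 2970057), (22, 9577033), (3, 8882565), (7, 12030529), (0, 420420), (2, 2421504), (17, 11272192), (23, 2447936), (13, 2656256), (21, 1380672), (12, 609088), (15, 590656), (9, 590080), (20, 2112), (18, 542976), (8, 608320), (16, 526400), (6, 524288)])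
def d3 : List ℕ × List (ℕ × ℕ) := ([1, 2, 0, 2, 0, 2, 0, 1, 2, 0, 1], [(1, 2048), (23, 7699117), (0, 2048), (19, 1536), (16, 1024), (18, 3469), (14, 1874), (15, 370), (21, 2468), (13, 2365), (17, 3867), (12, 1266), (22, 2293), (20, 2798), (9, 2048), (10, 2048), (16, 175), (19, 337), (6, 2048), (4, 2048), (8, 2048), (2, 2048)])
theorem ok0 : [d0].all (okStep gens) = true := by decide +kernel
theorem ok1 : [d1].all (okStep gens) = true := by decide +kernel
theorem ok2 : [d2].all (okStep gens) = true := by decide +kernel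
theorem ok3 : [d3].all (okStep gens) = true := by decide +kernel

noncomputable def s0 : {v : ℕ // bfInitN 3 gens reps ws = v} := by
  refine ⟨?_, ?_⟩
  rotate_left
  conv => lhs; whnf

noncomputable def s1 : {v : ℕ // bfStepsN 3 [d0] s0.1 = v} := by
  refine ⟨?_, ?_⟩
  rotate_left
  conv => lhs; whnf

noncomputable def s2 : {v : ℕ // bfStepsN 3 [d1] s1.1 = v} := by
  refine ⟨?_, ?_⟩
  rotate_left
  conv => lhs; whnf

noncomputable def s3 : {v : ℕ // bfStepsN 3 [d2] s2.1 = v} := by
  refine ⟨?_, ?_⟩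
  rotate_left
  conv => lhs; whnf

noncomputable def s4 : {v : ℕ // bfStepsN 3 [d3] s3.1 = v} := by
  refine ⟨?_, ?_⟩
  rotate_left
  conv => lhs; whnf

noncomputable def fin : ℕ := s4.1

theorem cnt_eq : (List.range 7).map (fun l => cntN n fin (l + 1)) = [45536, 240, 0, 43488, 0, 0, 9016] := by
  decide +kernel

theorem inv {Gd : Cl → ℕ → Prop} (hg : Cls Gd gens)
    (hr : ∀ r ∈ reps, r.1 < 2 ^ 24 ∧ r.2 < 2 ^ n ∧ Gd (cd r.1) r.2) : InvN Gd n fin := by
  have h0 : InvN Gd 3 s0.1 := s0.2 ▸ invN_init hg 3 hr ws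
  have h1 : InvN Gd 3 s1.1 := s1.2 ▸ invN_steps hg ok0 h0
  have h2 : InvN Gd 3 s2.1 := s2.2 ▸ invN_steps hg ok1 h1
  have h3 : InvN Gd 3 s3.1 := s3.2 ▸ invN_steps hg ok2 h2
  have h4 : InvN Gd 3 s4.1 := s4.2 ▸ invN_steps hg ok3 h3
  exact h4

end

end CfsgMO.Bs8
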