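/-
Orbit enumeration of the short classes for the axis number 9.
-/
import Cfsg.Agent.MO.BF

set_option autoImplicit false
set_option maxRecDepth 100000
set_option Elab.async false
set_option exponentiation.threshold 100000000

namespace CfsgMO.Bs9

noncomputable section

def n : ℕ := 3
def gens : List (List ℕ) := [[7463082, 6301952, 6340940, 6341642, 1566686, 6301147, 7407338, 7407626, 3403, 6688034, 6686127, 3402, 3533881, 5374958, 1737420, 12190350, 14970249, 15043529, 12872856, 1256801, 6963020, 7063468, 10390415, 10547908], [65802, 4402452, 4377426, 4445106, 4395951, 9982097, 6757294, 16732309, 5899005, 4329199, 5968785, 69868, 4588403, 8373637, 12252789, 10669400, 1768767, 8009800, 2103688, 8009796, 4720035, 8256605, 3075905, 16059163]]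
def reps : List (ℕ × ℕ) := [(8192, 4), (9192, 1), (24576, 1), (81920, 1), (221797, 1), (307200, 4), (876544, 1), (1249976, 7), (3899392, 4), (7028736, 4), (8351744, 1), (8437760, 4)]
def ws : List (List ℕ) := [[0, 0, 1, 0, 1, 1], [1, 0, 1, 0, 0, 0, 1], [0, 0, 1, 0, 0, 1, 0, 0, 1, 0], [0, 0, 0, 0, 1, 1], [0, 0, 1, 0, 0, 0], [1, 0, 0, 1, 1, 1, 1], [1, 1, 0, 1, 1, 1, 0, 0], [0, 1, 0, 0, 1, 1, 1, 1, 0], [0, 0, 1, 1, 1, 0, 0, 1, 1], [0, 0, 1, 1, 0, 1], [1, 0, 1, 1, 1, 0, 0, 0, 1], [0, 0, 1, 0, 0, 1, 0, 0, 0], [1, 1, 0, 1, 1, 1, 1, 0], [0, 1, 1, 0, 0, 1, 0, 1], [0, 1, 1, 1, 1, 1, 0, 0, 1]]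
def d0 : List ℕ × List (ℕ × ℕ) := ([1, 0, 1, 1, 1, 1, 1, 0, 0, 1, 0], [(9, 13991066), (3, 14129476), (7, 14637429), (16, 1105921), (0, 12999968), (12, 10372132), (14, 13018466), (13, 9175364), (23, 6196502), (11, 262512), (6, 7111730), (15, 7733542), (2, 2359568), (20, 4588818), (17, 787506), (8, 4456450), (22, 50), (10, 18), (4, 262144), (18, 524288), (1, 32), (5, 1200598), (1, 8234640), (19, 6697037), (18, 14853913), (4, 2230017), (10, 9607240), (22, 2222149), (8, 2213893), (17, 122957), (20, 10512397), (21, 88264), (2, 121473), (15, 8411840), (6, 8468609), (11, 8417920), (23, 86017), (13, 20481), (14, 65536), (12, 66048), (0, 65672), (16, 136)])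
def d1 : List ℕ × List (ℕ × ℕ) := ([0, 0, 1, 0, 0, 0, 0, 1, 0], [(14, 14195502), (22, 2496957), (17, 10849204), (8, 9800782), (10, 9798226), (23, 1612396), (4, 3246723), (9, 602304), (6, 2465957), (18, 2174981), (7, 3780655), (0, 2721792), (15, 1574920), (16, 3670060), (1, 2621444), (19, 1048616), (20, 2097152), (3, 2097152), (21, 10244), (11, 12320), (13, 4100), (2, 4096), (12, 9676179), (2, 10053906), (13, 773003), (5, 4639507), (11, 2753536), (21, 4326482), (3, 9651474), (20, 1015826), (19, 8781955), (1, 4687744), (16, 8438081), (15, 8652544), (0, 12993984), (7, 12845632), (18, 848), (6, 12715536), (9, 8536336), (4, 148736), (23, 4210688)])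
def d2 : List ℕ × List (ℕ × ℕ) := ([1, 1, 1, 1, 0, 0, 1, 0, 0, 0, 0, 0, 1, 0, 0], [(7, 3663422), (4, 11697223), (18, 121674), (13, 13147753), (5, 7065926), (14, 3283267), (19, 12753418), (9, 15767556), (16, 7373067), (17, 5246029), (10, 3184968), (8, 34890), (21, 8427586), (20, 8427527), (23, 6213), (0, 4231172), (22, 6214), (3, 4096), (6, 38914), (12, 4), (2, 34816), (15, 13834998), (11, 7209935), (2, 9516139), (12, 1909498), (1, 1245256), (6, 16122040), (3, 16721824), (22, 1836161), (0, 2311168), (23, 346000), (20, 2696320), (21, 526080), (8, 65664), (10, 327696), (17, 270880), (16, 25120), (9, 786560), (19, 8192), (14, 8320), (5, 270336), (18, 128)])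
def d3 : List ℕ × List (ℕ × ℕ) := ([1, 0, 1, 0, 0, 1, 0, 0, 1, 0, 1, 0, 0], [(9, 372), (23, 5237944), (19, 3269639), (20, 265684), (1, 2421), (22, 2547937), (14, 131317), (0, 328), (16, 131388), (18, 2138204), (4, 456), (3, 484), (5, 132), (2, 320), (6, 1408), (8, 1024), (12, 2228224), (17, 2138112), (21, 7831), (15, 4867286), (13, 1788008), (17, 613413), (12, 4999336), (10, 2121), (8, 701), (7, 2161), (6, 2563), (2, 2097), (5, 521), (3, 2065), (18, 5786112), (16, 4194305), (0, 514), (14, 1049090), (22, 1049090), (12, 131072)])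
theorem ok0 : [d0].all (okStep gens) = true := by decide +kernel
theorem ok1 : [d1].all (okStep gens) = true := by decide +kernel
theorem ok2 : [d2].all (okStep gens) = true := by decide +kernel
theorem ok3 : [d3].all (okStep gens) = true := by decide +kernel

noncomputable def s0 : {v : ℕ // bfInitN 3 gens reps ws = v} := by
  refine ⟨?_, ?_⟩
  rotate_left
  conv => lhs; whnf

noncomputable def s1 : {v : ℕ // bfStepsN 3 [d0] s0.1 = v} := by
  refine ⟨?_, ?_⟩
  rotate_left
  conv => lhs; whnf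

noncomputable def s2 : {v : ℕ // bfStepsN 3 [d1] s1.1 = v} := by
  refine ⟨?_, ?_⟩
  rotate_left
  conv => lhs; whnf

noncomputable def s3 : {v : ℕ // bfStepsN 3 [d2] s2.1 = v} := by
  refine ⟨?_, ?_⟩
  rotate_left
  conv => lhs; whnf

noncomputable def s4 : {v : ℕ // bfStepsN 3 [d3] s3.1 = v} := by
  refine ⟨?_, ?_⟩
  rotate_left
  conv => lhs; whnf

noncomputable def fin : ℕ := s4.1

theorem cnt_eq : (List.range 7).map (fun l => cntN n fin (l + 1)) = [55904, 0, 0, 31176, 0, 0, 11200] := by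
  decide +kernel

theorem inv {Gd : Cl → ℕ → Prop} (hg : Cls Gd gens)
    (hr : ∀ r ∈ reps, r.1 < 2 ^ 24 ∧ r.2 < 2 ^ n ∧ Gd (cd r.1) r.2) : InvN Gd n fin := by
  have h0 : InvN Gd 3 s0.1 := s0.2 ▸ invN_init hg 3 hr ws
  have h1 : InvN Gd 3 s1.1 := s1.2 ▸ invN_steps hg ok0 h0
  have h2 : InvN Gd 3 s2.1 := s2.2 ▸ invN_steps hg ok1 h1
  have h3 : InvN Gd 3 s3.1 := s3.2 ▸ invN_steps hg ok2 h2
  have h4 : InvN Gd 3 s4.1 := s4.2 ▸ invN_steps hg ok3 h3
  exact h4

end

end CfsgMO.Bs9
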