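/-
The stabiliser of a minimal vector: normal closure of a sign change, an invariant sublattice.
-/
import Cfsg.Agent.MO.Co1

set_option autoImplicit false
set_option linter.unusedSimpArgs false
set_option linter.unusedVariables false
set_option maxRecDepth 100000

namespace CfsgMO
namespace Cw

open CfsgH5 CfsgH6 Cfsg Finset
open scoped Pointwise

noncomputable section

/-- a non-monomial involution fixing the vector -/
def x2C : ℕ := 0xc0004000c00080008000800080008000800080008000800080008000800080008000800080008000800080008000c00000008000800080008000c00080008000800080008000800080008000400080008000400080008000800080008000400080000000800080008000800080008000400040008000800080008000800080008000800080008000800040008000c000800080000000800080008000800080008000800080008000c000c000800080008000800040008000800080008000c00080008000800000008000800080008000800080004000400080008000800080008000800080008000800080008000c00080004000800080000000800080008000800080008000800080004000800080004000400080008000800080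008000c000800080008000800080000000800080008000c0008000c00080008000800080008000800080008000400080008000c00080008000800080008000800000008000800080008000400080008000800080008000800080008000c00080008000400080008000800080008000400080000000800080008000800080008000800080008000c000c0008000800080008000c000800080008000800040008000800080000000800080008000c0008000c00080008000800080008000800080008000c00080008000400080008000800080008000800000008000800080008000400080008000800080008000800080008000400080008000c00080008000800080008000400080000000800080008000800080008000800080004000800080004000c00080008000800080008000400080008000800080008000000080008000800080008000800080008000400080008000c00040008000800080008000800040008000800080008000800000008000800080008000800080008000800080004000c0008000800080008000c0008000800080008000c0008000800080000000800080008000800080008000800080008000c00040008000800080008000c0008000800080008000c000800080008000000080008000800080008000800080008000c00080008000400040008000800080008000800040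008000800080008000800000008000800080008000800080004000c00080008000800080008000800080008000800080008000400080004000800080000000800080008000800080008000c00040008000800080008000800080008000800080008000800040008000400080008000000080008000800040008000c00080008000800080008000800080008000c00080008000c00080008000800080008000800000008000800080008000400080008000800080008000800080008000400080008000400080008000800080008000c00080000000800080008000c0008000400080008000800080008000800080008000c00080008000c00080008000800080008000800000004000c000c00080008000800080008000800080008000800080008000800080008000800080008000800080008000c0000000c000c000c0008000800080008000800080008000800080008000800080008000800080008000800080008000800040000000c000c000400080008000800080008000800080008000800080008000800080008000800080008000800080008000c00000000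
/-- generators of the stabiliser of two points as products of four conjugates -/
def wd22 : List (ℕ × ℕ × ℕ × ℕ × ℕ) :=
[(0xba4d6190b46c18e520e18adf315640, 0xbb29529de64482a9886d74171b2480, 0xbcd25a42ad40e2e31c8b12992b3c20, 0xbd5d1999a4b3d94485482c87011d60, 0xbd58e11236a14f330df05854d4a240),
(0xba5c3ac22242e93619a5248efb2820, 0xbbc264c6851adac81c929a04aabac0, 0xbd64d19233859453a581750cb121e0, 0xbb648240b171e86a866a5bd8315920, 0xbaa48b344c246154bceba187371420),
(0xbd5915d0861b66f538a992207b0820, 0xbaa68152503ae2da84a6732c34bc80, 0xb988c14ca3a250f89dd28596aa85a0, 0xba1d110e1632e856a4327cceaa9180, 0xbd1895aa263ceceac064409e56c820),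
(0xbd6cb22627638cfa224a834b318820, 0xbd56d11e8a894834cdf0622ce30640, 0xbd04a8b4ee304ac7daa89ae441a600, 0xb9105526cb33eb20b62313a8c99e00, 0xbb64b396cf1298ea4664186a834120),
(0xbc0ea332364b892451ebaccad18820, 0xbced113c69594e6ab9148064a611a0, 0xbcc4848e0e0b655a3c8ab322b314e0, 0xbbe2e6429311c76ab64a20565424c0, 0xb9e02350b50aac372d8f9922d4a240),
(0xbc12ba18ad946c79b11553dc418820, 0xbd5915d0861b66f538a992207b0820, 0xb8a6fb5251310a762e0d42543ab820, 0xba2a2b50e67a60b1b1c1895b251260, 0xbbad03bc82430b39568d52cc34c420)]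
/-- links between the orthogonal vectors -/
def lk2 : List (ℕ × List ℕ) := [(0x40008000800080008000800080008000800080008000800080008000800080008000800080008000800080008000c, [3]),
(0x600060006000600080008000800080008000600080008000600080008000800080008000800080008000a0008000a, [1, 3, 1, 0, 8, 0]),
(0x700050007000700070007000700070007000700070007000900070009000700070009000700070009000900090009, [3, 7, 0, 3, 0, 5, 0]),
(0x800040004000800080008000800080008000800080008000800080008000800080008000800080008000800080008, [3, 5, 4, 0]),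
(0x800060006000600060006000800080008000800080008000800080008000800060008000600080008000600080008, [5, 0, 1, 3, 1, 2, 0])]
/-- sign changes as products of conjugates -/
def adjL : List (ℕ × List ℕ) := [(0xc75001, [0xbd9f1a2e6d1988c438b24a8f0a8820]),
(0x49f002, [0xba4d6190b46c18e520e18adf315640, 0xbb4af1cc875aa89b40c81464cab820]),
(0xd4b004, []),
(0x6e3008, [0xbb57670a2a2b0759ca877c08849820, 0xb9d2c5388695aa32a1717d1b380820]),
(0x9b3010, [0xbd9f1a2e6d1988c438b24a8f0a8820, 0xb89ac1c8f484524accae3216fb2820]),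
(0xb66020, [0xbd5915d0861b66f538a992207b0820, 0xb9e899c9ea69a2c416a220e1672c20]),
(0xecc040, [0xbb92c7b6249ae4819606150f5b2820, 0xba2a519d2b81a5474d4db3c828b020]),
(0x1ed080, [0xbd5915d0861b66f538a992207b0820, 0xba613220aa3c5f25d4cc6d9d418820]),
(0x3da100, [0xbd6cb22627638cfa224a834b318820, 0xbc0ea332364b892451ebaccad18820]),
(0x7b4200, [0xba4d6190b46c18e520e18adf315640, 0xba1f0191cbb34f1655412ce54124c0]),
(0xb1d400, [0xbc0ea332364b892451ebaccad18820, 0xbd66b20ca7629b47882e81a364a240]),
(0xe3a800, [0xbc0ea332364b892451ebaccad18820, 0xbc6955d9e692122829cd1ccac38480])]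

theorem x2_valid : In (CfsgH6.Fix [v0c]) x2C :=
  CfsgH6.in_Fix (valid_top (gs := [x2C]) (by decide +kernel)) (by decide +kernel) _ (by simp)

theorem pool_valid {H : Subgroup Co0} (h1 : In H x2C) (h2 : CfsgH6.Fix [v0c] ⊓ NN ≤ H) :
    ∀ a ∈ x2C :: gsA, In H a := valid_cons h1 (valid_mono h2 gsA_valid)

theorem v0_apply (i : GolayPt) : (v0 : V) i = if i = pt 23 ∨ i = pt 0 then 4 else 0 := by
  rw [coe_vec (by decide +kernel)]
  revert i; decide +kernel

theorem of_fix {g : Co0} {σ : Equiv.Perm GolayPt} {c : Finset GolayPt} (h : Mono g σ c)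
    (hv : g • v0 = v0) {i : GolayPt} (hi : i = pt 23 ∨ i = pt 0) :
    i ∉ c ∧ (σ (pt 23) = i ∨ σ (pt 0) = i) := by
  have := congrFun (h v0) i
  rw [hv, signedPerm, v0_apply, v0_apply, if_pos hi] at this
  by_cases h1 : σ.symm i = pt 23 ∨ σ.symm i = pt 0
  · refine ⟨fun h2 => ?_, h1.imp (fun e => by rw [← e]; simp) fun e => by rw [← e]; simp⟩
    rw [if_pos h1, if_pos h2] at this
    omega
  · rw [if_neg h1] at this
    split_ifs at this <;> omega

theorem fix_of {g : Co0} {σ : Cfsg.M24} (h : Mono g σ.1 ∅) (hσ : σ ∈ CfsgH5.Fix [23, 0] []) :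
    g • v0 = v0 := by
  have h1 : σ.1 (pt 23) = pt 23 := hσ.1 23 (by simp)
  have h2 : σ.1 (pt 0) = pt 0 := hσ.1 0 (by simp)
  refine Subtype.ext (funext fun i => ?_)
  rw [h, signedPerm, if_neg (notMem_empty _), v0_apply, v0_apply]
  refine if_congr ?_ rfl rfl
  rw [Equiv.symm_apply_eq, Equiv.symm_apply_eq, h1, h2]

theorem cj_fix {g h : Co0} {v : LL} (hg : g • v = v) (hh : h • v = v) : (g * h * g⁻¹) • v = v := by
  rw [mul_smul, mul_smul, inv_smul_eq_iff.2 hg.symm, hh, hg]

theorem ts_Sup {a : ℕ} (h : isC a = true) : ts a ∈ Sup :=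
  (mem_Sup _).2 (by rw [mk_ts (isC_lt h)]; exact h)

/-- the sign change of the word `m` lies in `K` -/
def Sg (K : Subgroup Co0) (m : ℕ) : Prop := isC m = true ∧ ∀ g, Mono g 1 (ts m) → g ∈ K

theorem sg_zero' (K : Subgroup Co0) : Sg K 0 := ⟨isC_zero, fun g hg => by
  rw [show ts 0 = ∅ by decide +kernel] at hg
  rw [mono_ext hg mono_one]; exact K.one_mem⟩

theorem Sg.xor {K : Subgroup Co0} {a b : ℕ} (ha : Sg K a) (hb : Sg K b) : Sg K (a ^^^ b) := by
  refine ⟨isC_xor ha.1 hb.1, fun g hg => ?_⟩
  obtain ⟨e, he⟩ := exists_mono Cfsg.M24.one_mem (ts_Sup ha.1)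
  obtain ⟨e', he'⟩ := exists_mono Cfsg.M24.one_mem (ts_Sup hb.1)
  have h1 := mono_mul he he'
  have h2 : symmDiff (ts a) (ts b) = ts (a ^^^ b) := mk_inj (by
    rw [mk_ts (isC_lt (isC_xor ha.1 hb.1))]
    refine (E24.mask_symmDiff _ _).trans ?_
    rw [E24.mask_toSet (isC_lt ha.1), E24.mask_toSet (isC_lt hb.1)]; rfl)
  rw [mul_one, one_smul, h2] at h1
  rw [mono_ext hg h1]
  exact K.mul_mem (ha.2 _ he) (hb.2 _ he')

theorem Sg.act {K : Subgroup Co0} (hn : ∀ g, g • v0 = v0 → ∀ k ∈ K, g * k * g⁻¹ ∈ K) {a p : ℕ}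
    (ha : Sg K a) (hp : inFix [23, 0] [] p = true) : Sg K (act24 p a) := by
  obtain ⟨σ, hσ, rfl⟩ := CfsgH5.in_Fix hp
  refine ⟨inM24_code σ a ha.1, fun g hg => ?_⟩
  obtain ⟨m, hm⟩ := exists_mono σ.2 empty_mem_Sup
  obtain ⟨e, he⟩ := exists_mono Cfsg.M24.one_mem (ts_Sup ha.1)
  rw [← smul_ts_eq (isC_lt ha.1) rfl] at hg
  rw [mono_ext hg (mono_conj (ts_Sup ha.1) σ.2 hm he)]
  exact hn m (fix_of hm hσ) e (ha.2 e he)

/-- the word made even on the two points -/
def adj (m : ℕ) : ℕ := m ^^^ (if (m.testBit 23 ^^ m.testBit 0) = true then 0xd4b004 else 0)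

theorem adj_xor (a b : ℕ) : adj (a ^^^ b) = adj a ^^^ adj b := by
  simp only [adj, Nat.testBit_xor]
  cases a.testBit 23 <;> cases a.testBit 0 <;> cases b.testBit 23 <;> cases b.testBit 0 <;>
    simp [Nat.xor_assoc, Nat.xor_comm, Nat.xor_left_comm]

theorem sg_all {K : Subgroup Co0} (hn : ∀ g, g • v0 = v0 → ∀ k ∈ K, g * k * g⁻¹ ∈ K)
    (h : Sg K 0xd01511) {m : ℕ} (hm : isC m = true) : Sg K (adj m) := by
  refine isC_induction (P := fun m => Sg K (adj m)) (sg_zero' K)
    (fun a b ha hb => (adj_xor a b).symm ▸ ha.xor hb) (fun b hb => ?_) hm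
  have h1 : ∀ b ∈ basisW, ∃ p ∈ adjL, (∀ s ∈ p.2, inFix [23, 0] [] s = true) ∧
      adj b = p.2.foldr (fun s r => act24 s 0xd01511 ^^^ r) 0 := by decide +kernel
  obtain ⟨⟨x, l⟩, -, h2, e⟩ := h1 b hb
  change Sg K (adj b)
  rw [e]
  clear e
  induction l with
  | nil => exact sg_zero' K
  | cons s l ih => exact (h.act hn (h2 s (by simp))).xor (ih fun s hs => h2 s (by simp [hs]))

theorem wd22_chk : allL (gens (chM.drop 2)) (fun s => anyL wd22 fun w =>
    band (Nat.beq s (mul24 (mul24 (cj w.2.1) (cj w.2.2.1)) (mul24 (cj w.2.2.2.1) (cj w.2.2.2.2))))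
      (band (band (inFix [23, 0] [] w.2.1) (inFix [23, 0] [] w.2.2.1))
        (band (inFix [23, 0] [] w.2.2.2.1) (inFix [23, 0] [] w.2.2.2.2)))) = true := by
  decide +kernel

theorem M22_le {S : Subgroup Cfsg.M24}
    (hS : ∀ a ∈ CfsgH5.Fix [23, 0] [], ∀ b ∈ S, a * b * a⁻¹ ∈ S) (h : CM.In S sg0) (σ : Cfsg.M24)
    (h1 : σ • pt 23 = pt 23) (h2 : σ • pt 0 = pt 0) : σ ∈ S := by
  refine CM.grp_le (fun s hs => ?_) ((mem_drop2 σ).2 ⟨h1, h2⟩)
  have hc : ∀ g, inFix [23, 0] [] g = true → CM.In S (cj g) := fun g hg => by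
    obtain ⟨a, ha, rfl⟩ := CfsgH5.in_Fix hg
    obtain ⟨b, hb, e⟩ := h
    refine ⟨a * b * a⁻¹, hS a ha b hb, ?_⟩
    rw [CM.code_mul, CM.code_mul, CM.code_inv, e]; rfl
  obtain ⟨w, -, hw⟩ := (anyL_iff _ _).1 ((allL_iff _ _).1 wd22_chk s hs)
  simp only [band_eq, Bool.and_eq_true, beq_true_iff] at hw
  obtain ⟨rfl, ⟨h1, h2⟩, h3, h4⟩ := hw
  exact ((hc _ h1).mul (hc _ h2)).mul ((hc _ h3).mul (hc _ h4))

/-- the normal closure of the sign change in the stabiliser is the stabiliser -/
theorem top2 {K : Subgroup Co0} (hn : ∀ g, g • v0 = v0 → ∀ k ∈ K, g * k * g⁻¹ ∈ K)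
    (h : Sg K 0xd01511) (g : Co0) (hg : g • v0 = v0) : g ∈ K := by
  have hE : ∀ g c, c ∈ Sup → Mono g 1 c → g • v0 = v0 → g ∈ K := fun g c hc hm hv => by
    have h1 := (of_fix hm hv (Or.inl rfl)).1
    have h2 := (of_fix hm hv (Or.inr rfl)).1
    rw [← ts_mk c, Enc.mem_toSet, Bool.not_eq_true] at h1 h2
    have := sg_all hn h ((mem_Sup c).1 hc)
    rw [adj, show (mk c).testBit 23 = false from h1, show (mk c).testBit 0 = false from h2] at this
    exact this.2 g (by simpa [ts_mk] using hm)
  obtain ⟨π, hπ, hπ'⟩ := exists_pr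
  have hO : ts 0x67016 ∈ Sup := ts_Sup (by decide +kernel)
  have hc : ts 0x293e ∈ Sup := ts_Sup (by decide +kernel)
  obtain ⟨e, he⟩ := exists_mono Cfsg.M24.one_mem hO
  obtain ⟨σ, -, hσ⟩ := in_CM (p := sg0) (by decide +kernel)
  obtain ⟨m, hm⟩ := exists_mono σ.2 hc
  obtain ⟨ξ, hξv, hξ⟩ := x2_valid
  replace hξv : ξ • v0 = v0 := Lee.mem_Fix1.1 hξv
  have col : ∀ i j, ((ξ • e8 i : LL) : V) j = matOf x2C j i := fun i j => by
    have := congrFun (hξ.2 (e8 i)) j
    rw [coe_e8, Matrix.mulVec_single] at this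
    simp only [Pi.smul_apply, smul_eq_mul, MulOpposite.smul_eq_mul_unop, MulOpposite.unop_op,
      Matrix.col_apply, Matrix.transpose_apply] at this
    omega
  have key : ξ * e = m * ξ := co_ext_e8 fun i => by
    have h1 : e • e8 i = if i ∈ ts 0x67016 then -e8 i else e8 i := by
      apply Subtype.ext
      rw [he, coe_e8, signedPerm_single]
      by_cases hi : i ∈ ts 0x67016
      · rw [if_pos hi, if_pos (show (1 : Equiv.Perm GolayPt) i ∈ _ from hi), AddSubgroup.coe_neg,
          coe_e8, Pi.single_neg]; rfl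
      · rw [if_neg hi, if_neg (show (1 : Equiv.Perm GolayPt) i ∉ _ from hi)]; rfl
    apply Subtype.ext
    funext j
    have h2 : σ.1.symm j = pt (app24 (inv24 sg0) (pn j)) := by
      rw [← hσ, show inv24 (CM.code σ) = CM.code σ⁻¹ from (CM.code_inv σ).symm, ← pn_smulM, pt_pn]
      rfl
    rw [mul_smul, mul_smul, hm, h1]
    simp only [signedPerm]
    rw [col, h2]
    have h3 : ∀ i j : GolayPt, (if i ∈ ts 0x67016 then -matOf x2C j i else matOf x2C j i) =
        if j ∈ ts 0x293e then -matOf x2C (pt (app24 (inv24 sg0) (pn j))) i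
        else matOf x2C (pt (app24 (inv24 sg0) (pn j))) i := by decide +kernel
    rw [← h3]
    split_ifs
    · rw [co_neg, AddSubgroup.coe_neg, Pi.neg_apply, col]
    · rw [col]
  have hev : e • v0 = v0 := Subtype.ext (by
    rw [he, coe_vec (by decide +kernel)]; decide +kernel)
  have hmK : m ∈ K ⊓ MulAction.stabilizer Co0 v0 := by
    rw [← mul_inv_eq_iff_eq_mul.2 key]
    exact ⟨hn ξ hξv e (hE _ _ hO he hev), cj_fix hξv hev⟩
  let S := ((K ⊓ MulAction.stabilizer Co0 v0).subgroupOf NN).map π
  have hσS : σ ∈ S := ⟨⟨m, hm.mem_NN⟩, hmK, Subtype.ext (hπ' _ _ _ hm)⟩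
  have h22 := M22_le (S := S) (by
    rintro a ha _ ⟨k, hk, rfl⟩
    obtain ⟨b, hb⟩ := exists_mono a.2 empty_mem_Sup
    have hv := fix_of hb ha
    refine ⟨⟨b, hb.mem_NN⟩ * k * ⟨b, hb.mem_NN⟩⁻¹,
      ⟨hn b hv _ hk.1, cj_fix hv hk.2⟩, ?_⟩
    rw [map_mul, map_mul, map_inv, show π ⟨b, hb.mem_NN⟩ = a from Subtype.ext (hπ' _ _ _ hb)])
    ⟨σ, hσS, hσ⟩
  have hN : CfsgH6.Fix [v0c] ⊓ NN ≤ K := fun g hg => by
    have hv := fix_v0 hg
    obtain ⟨k, hk, e⟩ : π ⟨g, hg.2⟩ ∈ S := by
      obtain ⟨c, -, hm⟩ := hπ ⟨g, hg.2⟩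
      have s1 : σ • pt 23 = pt 0 := smul_pt_eq (by decide) (by rw [hσ]; decide +kernel)
      have s2 : σ • pt 0 = pt 23 := smul_pt_eq (by decide) (by rw [hσ]; decide +kernel)
      have ne : pt 23 ≠ pt 0 := by decide
      rcases (of_fix hm hv (Or.inl rfl)).2 with a1 | a1 <;>
        rcases (of_fix hm hv (Or.inr rfl)).2 with a2 | a2
      · exact absurd (a1.symm.trans a2) ne
      · exact h22 _ a1 a2
      · exact (S.mul_mem_cancel_right hσS).1 (h22 _ (by rw [mul_smul, s1]; exact a1)
          (by rw [mul_smul, s2]; exact a2))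
      · exact absurd (a1.symm.trans a2) ne
    obtain ⟨c, hc, hm⟩ := hπ (k⁻¹ * ⟨g, hg.2⟩)
    rw [map_mul, map_inv, e, inv_mul_cancel] at hm
    have := K.mul_mem hk.1 (hE _ _ hc hm
      ((MulAction.stabilizer Co0 v0).mul_mem (Subgroup.inv_mem _ hk.2) hv))
    simpa using this
  have hξK : ξ ∈ K := by
    obtain ⟨n1, a1, b1⟩ := runW_sound gsA_valid [2, 6, 4]
    obtain ⟨n2, a2, b2⟩ := runW_sound gsA_valid [1, 4]
    have nm : ∀ g : Co0, sqNorm ((g • e8 none : LL) : V) ≤ 64 := fun g => by
      rw [co_norm, norm_e8]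
    have k : ∀ g : Co0, g • v0 = v0 → isCr (enc ((g • e8 none : LL) : V)) = true → g ∈ K :=
      fun g h1 h2 => hN ⟨Lee.mem_Fix1.2 h1, mem_NN_of (e8_cross none)
        (isCr_sound (bd_of_sqNorm (nm g)) h2)⟩
    have k1 := k (ξ * ξ) (by rw [mul_smul, hξv, hξv]) (by
      rw [mul_smul, ← hξ.act _ (nm _), ← hξ.act _ (norm_e8 _).le, enc_e8]; decide +kernel)
    have k2 := k (ξ * (n1 * (ξ * (n2 * ξ))))
      (by simp only [mul_smul, hξv, fix_v0 a1, fix_v0 a2]) (by
      rw [mul_smul, ← hξ.act _ (nm _), mul_smul, b1 _ (nm _), mul_smul, ← hξ.act _ (nm _), mul_smul,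
        b2 _ (nm _), ← hξ.act _ (norm_e8 _).le, enc_e8]; decide +kernel)
    refine (K.mul_mem_cancel_left (K.mul_mem (K.mul_mem (hn ξ hξv _ (hN a1)) k1) (hN a2))).1 ?_
    convert k2 using 1
    group
  obtain ⟨n, a1, b1⟩ := orbA8 (g • vec w0c) (by rw [co_norm, norm_w0])
    (by rw [co_dot_fix hg, dot_v0_w0])
  obtain ⟨u, a2, b2⟩ := linkW_sound (pool_valid (H := K ⊓ CfsgH6.Fix [v0c])
    ⟨ξ, ⟨hξK, Lee.mem_Fix1.2 hξv⟩, hξ⟩ (le_inf hN inf_le_left)) (b := w0c) (l := lk2)
    (by decide +kernel) (v := n • g • vec w0c) (by rw [co_norm, co_norm, norm_w0]; norm_num)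
    ((show rep8 = lk2.map Prod.fst by decide +kernel) ▸ b1)
  have h1 : (u * n * g) • v0 = v0 := by
    rw [mul_smul, mul_smul, hg, fix_v0 a1, Lee.mem_Fix1.1 a2.2]
  have := hN ⟨Lee.mem_Fix1.2 h1, mem_NN_of_fix h1 (by rwa [mul_smul, mul_smul])⟩
  exact (K.mul_mem_cancel_left (K.mul_mem a2.1 (hN a1))).1 this

/-- an invariant subgroup containing a frame vector contains the orthogonal minimal vectors -/
theorem orth_mem {T : AddSubgroup LL} (hT : ∀ g : Co0, g • v0 = v0 → ∀ v ∈ T, g • v ∈ T)
    (h8 : e8 none ∈ T) {w : LL} (hw : sqNorm (w : V) = 32) (hd : dotInt (v0 : V) w = 0) : w ∈ T := by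
  have hv := pool_valid x2_valid inf_le_left
  have h0 : e8 none = vec E8c := eq_vec (by decide +kernel) (bd_of_sqNorm (norm_e8 _).le) enc_e8
  obtain ⟨a, ha, a1⟩ := mapsW_sound hv (w := [0]) (l := [(E8c, 0xc00080008000800080008000800080008000800080008000800080008000800080008000800080008000c0004000c)]) (by decide +kernel)
  obtain ⟨b, hb, b1⟩ := mapsW_sound hv (w := [0, 7]) (l := [(E8c, 0xc0008000800080008000800080008000800080008000800080008000800080008000800080008000c00080004000c)]) (by decide +kernel)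
  have a2 := hT a (Lee.mem_Fix1.1 ha) _ h8
  have b2 := hT b (Lee.mem_Fix1.1 hb) _ h8
  rw [h0, a1 _ (List.mem_singleton_self _)] at a2
  rw [h0, b1 _ (List.mem_singleton_self _)] at b2
  obtain ⟨g, g1, g2⟩ := pair0 norm_v0 (w := vec 0xc00080008000800080008000800080008000800080008000800080008000800080008000800080008000c0004000c - vec 0xc0008000800080008000800080008000800080008000800080008000800080008000800080008000c00080004000c)
    (by rw [AddSubgroup.coe_sub, coe_vec (by decide +kernel), coe_vec (by decide +kernel)]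
        decide +kernel)
    (by rw [AddSubgroup.coe_sub, coe_vec (by decide +kernel), coe_vec (by decide +kernel),
          coe_vec (by decide +kernel)]
        decide +kernel)
  obtain ⟨h, h1, h2⟩ := pair0 norm_v0 hw hd
  have := hT h⁻¹ (inv_smul_eq_iff.2 h1.symm) _ (hT g g1 _ (T.sub_mem a2 b2))
  rwa [g2, ← h2, inv_smul_smul] at this

end

end Cw
end CfsgMO
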