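/-
The stabiliser of the short class: the hypothesis `HypC`.
-/
import Cfsg.Agent.MO.Co2a
import Cfsg.Agent.MO.Six
import Cfsg.Agent.MO.Tab

set_option autoImplicit false
set_option linter.unusedSimpArgs false
set_option linter.unusedVariables false
set_option maxRecDepth 100000

namespace CfsgMO

open CfsgH5 CfsgH6 Cfsg Finset Matrix Cw
open scoped Pointwise

noncomputable section

/-- the code of the base vector -/
def x0C : ℕ := 0x8000800080008000800080008000800080008000800080008000800080008000800080008000800080008000c0004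
/-- the base vector -/
abbrev x0V : LL := CfsgH6.vec x0C
/-- minimal vectors orthogonal to it, with their classes -/
def spL : List (List (List ℤ × ℕ)) := [[([0, 0, -4, 4, 0, 0, 0, 0, 0, 0, 0, 0, 0, 0, 0, 0, 0, 0, 0, 0, 0, 0, 0, 0], 1785856), ([2, 2, -2, -2, 2, 2, 2, 2, 0, 0, 0, 0, 0, 0, 0, 0, 0, 0, 0, 0, 0, 0, 0, 0], 1785857)],
[([0, 0, -4, 4, 0, 0, 0, 0, 0, 0, 0, 0, 0, 0, 0, 0, 0, 0, 0, 0, 0, 0, 0, 0], 1785856), ([2, 2, -2, -2, 0, 0, 0, 0, 2, 2, 2, 2, 0, 0, 0, 0, 0, 0, 0, 0, 0, 0, 0, 0], 1785858)],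
[],
[([0, 0, 0, 0, 0, 0, 0, 0, -4, 0, 0, 0, 4, 0, 0, 0, 0, 0, 0, 0, 0, 0, 0, 0], 1515520), ([2, 2, 0, 0, 2, 2, 0, 0, -2, 2, 0, 0, -2, 0, 2, 0, 0, 0, 0, 0, 0, 0, 0, 0], 1515528)],
[([0, 0, 2, -2, -2, 2, 0, 0, 2, -2, 0, 0, 0, 2, 0, -2, 0, 0, 0, 0, 0, 0, 0, 0], 20)],
[([0, 0, 2, -2, 0, 0, 0, 0, 0, -2, 2, 0, 2, 2, 0, 0, -2, -2, 0, 0, 0, 0, 0, 0], 36)],
[([0, 0, 0, 0, 0, 0, 0, 0, 4, 0, 0, 0, 0, 0, 0, 0, -4, 0, 0, 0, 0, 0, 0, 0], 1630208), ([2, 2, 0, 0, 2, 0, 2, 0, -2, 0, 2, 0, 0, 0, 0, 0, -2, 0, 2, 0, 0, 0, 0, 0], 1630272)],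
[([0, 0, 0, 0, 2, 0, -2, 0, -2, 2, 0, 0, -2, -2, 0, 0, 2, 0, 0, 2, 0, 0, 0, 0], 132)],
[([0, 0, -4, 0, 0, 0, 0, 0, 0, 0, 0, 0, 0, 0, 0, 0, 4, 0, 0, 0, 0, 0, 0, 0], 2519040), ([2, 2, -2, 0, 0, 0, 2, 0, 0, 2, 0, 0, 2, 0, 0, 0, -2, 0, 0, 0, 2, 0, 0, 0], 2519296)],
[([0, 0, 4, 0, 0, 0, 0, 0, 0, 0, 0, 0, 0, 0, 0, 0, 4, 0, 0, 0, 0, 0, 0, 0], 10907648), ([0, 0, 2, 0, 0, -2, -2, -2, 0, 2, 0, 0, 0, -2, 0, 0, -2, 0, 0, 0, 0, -2, 0, 0], 10908164)],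
[([0, 0, 0, 2, 2, -2, -2, 0, 0, 0, -2, 0, 0, -2, 0, 0, 2, 0, 0, 0, 0, 0, 2, 0], 1028)],
[([0, 0, -4, 4, 0, 0, 0, 0, 0, 0, 0, 0, 0, 0, 0, 0, 0, 0, 0, 0, 0, 0, 0, 0], 1785856), ([0, 0, 0, 0, 2, 0, -2, 0, 0, 0, 2, -2, 0, 0, -2, 2, 2, 0, 0, -2, 0, 0, 0, 0], 7143578), ([1, 1, 1, 1, -1, 1, -1, 1, 1, 1, -1, -1, 1, 1, -1, -1, -1, 1, 1, -1, -3, 1, 1, 1], 7751834)],
[([0, 0, 0, 0, 0, 0, 0, 4, 0, 0, 0, 0, 0, 0, 0, 0, 0, 0, 0, 0, 0, -4, 0, 0], 4096)],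
[([0, 0, 0, 0, 0, 0, 0, 0, 0, 0, 0, 4, 0, 0, 0, 0, 0, 0, 0, 0, 0, 0, 0, -4], 8192)],
[([0, 0, 0, 0, 0, 0, 0, 0, 0, 0, 0, 0, 0, -4, 0, 0, 0, 0, 0, 0, 0, 0, 0, 4], 16384)],
[([0, 0, 0, 0, 0, 0, 0, 0, 0, 0, 0, 0, 0, 0, -4, 0, 0, 0, 0, 0, 0, 0, 0, 4], 32768)],
[([0, 0, 0, 0, 0, 0, 0, 0, 0, 0, 0, 0, 0, 0, 0, -4, 0, 0, 0, 0, 0, 0, 0, 4], 65536)],
[([0, 0, 0, 0, 0, 0, 0, 0, 0, 0, 0, 0, 0, 0, 0, 0, 0, -4, 0, 0, 0, 0, 0, 4], 131072)],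
[([0, 0, 0, 0, 0, 0, 0, 0, 0, 0, 0, 0, 0, 0, 0, 0, 0, 0, -4, 0, 0, 0, 0, 4], 262144)],
[([0, 0, 0, 0, 0, 0, 0, 0, 0, 0, 0, 0, 0, 0, 0, 0, 0, 0, 0, -4, 0, 0, 0, 4], 524288)],
[([0, 0, 0, 0, 0, 0, 0, 0, 0, 0, 0, 0, 0, 0, 0, 0, 0, 0, 0, 0, -4, 0, 0, 4], 1048576)],
[([0, 0, 0, 0, 0, 0, 0, 0, 0, 0, 0, 0, 0, 0, 0, 0, 0, 0, 0, 0, 0, -4, 0, 4], 2097152)],
[([0, 0, 0, 0, 0, 0, 0, 0, 0, 0, 0, 0, 0, 0, 0, 0, 0, 0, 0, 0, 0, 0, -4, 4], 4194304)],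
[([0, 0, 4, 4, 0, 0, 0, 0, 0, 0, 0, 0, 0, 0, 0, 0, 0, 0, 0, 0, 0, 0, 0, 0], 10174464), ([0, 0, -4, 4, 0, 0, 0, 0, 0, 0, 0, 0, 0, 0, 0, 0, 0, 0, 0, 0, 0, 0, 0, 0], 1785856)]]

theorem x0_eq : (x0V : V) = Pi.single (pt 0) (-4) + Pi.single (pt 1) 4 := by
  rw [coe_vec (by decide +kernel)]; decide +kernel

theorem x0_norm : sqNorm (x0V : V) = 32 := by rw [x0_eq]; decide +kernel

theorem x0_φ : (C0 0).φ (x0V) = cd 7028736 :=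
  (C0_φ _).trans (okCl_sound (bd_of_sqNorm (by rw [x0_norm]; norm_num))
    (by rw [enc_vec (by decide +kernel)]; decide +kernel)).2

theorem exists_mu : ∃ (μ : Co0) (σ : Cfsg.M24) (c : Finset GolayPt), Mono μ σ.1 c ∧
    μ • x0V = v0 ∧ σ.1 • ts 0x34200f = ts 0xd01511 := by
  obtain ⟨σ, -, hσ⟩ := in_CM (p := 0x8b5963d24e114950bcd098d2b52017) (by decide +kernel)
  obtain ⟨m, hm⟩ := exists_mono σ.2 (ts_Sup (a := 0xd4b004) (by decide +kernel))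
  refine ⟨m, σ, _, hm, Subtype.ext (funext fun j => ?_),
    smul_ts_eq (g := σ) (by decide) (by rw [hσ]; decide +kernel)⟩
  have h2 : σ.1.symm j = pt (app24 (inv24 0x8b5963d24e114950bcd098d2b52017) (pn j)) := by
    rw [← hσ, show inv24 (CM.code σ) = CM.code σ⁻¹ from (CM.code_inv σ).symm, ← pn_smulM, pt_pn]
    rfl
  rw [hm, signedPerm, h2, x0_eq, v0_apply]
  clear h2
  revert j
  decide +kernel

theorem lift_fix {g : Co0} (h : g • x0V = x0V) :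
    ∃ n : DD.N, DD.Ah n = (C0 0).ρ g ∧ n • cd 7028736 = cd 7028736 := by
  obtain ⟨n, U, -, -, e⟩ := (C0 0).lift g
  refine ⟨n, e, ?_⟩
  change ((C0 0).D.Ah n).1 *ᵥ _ = _
  rw [e, ← x0_φ, Crd.ρ_spec, h]

theorem of_fix_cls {n : DD.N} (h : n • cd 7028736 = cd 7028736) :
    ∃ g : Co0, DD.Ah n = (C0 0).ρ g ∧ g • x0V = x0V := by
  obtain ⟨U, g, -, -, e⟩ := (C0 0).of_N n
  change ((C0 0).D.Ah n).1 *ᵥ _ = _ at h
  rw [e, ← x0_φ, Crd.ρ_spec, Crd.φ_eq_iff] at h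
  obtain ⟨u, hu⟩ := h
  rcases eq_of_mod hu (by rw [co_norm, x0_norm]; norm_num) with k | k
  · exact ⟨g, e, k⟩
  · obtain ⟨a, ha⟩ := exists_neg
    refine ⟨a * g, ?_, by rw [mul_smul, k, ha, neg_neg]⟩
    rw [map_mul, ((C0 0).ρ_eq_one a).2 (Or.inr ha), one_mul]
    exact e

theorem span_C (W : AddSubgroup Cl) (h0 : Om ∈ W)
    (hW : ∀ m : DD.N, m • cd 7028736 = cd 7028736 → ∀ c ∈ W, m • c ∈ W) (c : Cl)
    (hc : pol c (cd 7028736) = 0) : c ∈ W := by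
  obtain ⟨μ, σ, d, hm, hv, -⟩ := exists_mu
  have h1 : ∀ w : LL, sqNorm (w : V) = 32 → dotInt (x0V : V) w = 0 → (C0 0).φ w ∈ W := by
    intro w hw hd
    have := orth_mem (T := W.comap ((C0 0).φ.comp (coHom μ⁻¹))) (fun g hg v hv' => ?_) ?_
      (w := μ • w) (by rwa [co_norm]) (by rwa [← hv, co_dot])
    · change (C0 0).φ (μ⁻¹ • μ • w) ∈ W at this
      rwa [inv_smul_smul] at this
    · obtain ⟨n, e, hn⟩ := lift_fix (g := μ⁻¹ * g * μ)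
        (by rw [mul_smul, mul_smul, hv, hg, ← hv, inv_smul_smul])
      have := hW n hn _ hv'
      change (DD.Ah n).1 *ᵥ (C0 0).φ (μ⁻¹ • v) ∈ W at this
      rw [e, Crd.ρ_spec, mul_smul, mul_smul, smul_inv_smul] at this
      exact this
    · change (C0 0).φ (μ⁻¹ • e8 none) ∈ W
      obtain ⟨-, u, hu⟩ := cross_iff.1 (NN_cross (NN.inv_mem hm.mem_NN) (e8_cross none))
      obtain ⟨-, u', hu'⟩ := cross_iff.1 (e8_cross (pp 0))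
      rw [hu, Crd.φ_two, ← (C0 0).φ_two _ u', ← hu', C0_φ, red_e8]
      exact h0
  have h2 : ∀ l : List (List ℤ × ℕ), (∀ p ∈ l, okLam p.1 p.2 = true ∧ p.1.getD 0 0 = p.1.getD 1 0) →
      cd (l.foldr (fun p r => Nat.xor p.2 r) 0) ∈ W := fun l hl => by
    induction l with
    | nil => exact (show cd 0 = 0 by decide) ▸ W.zero_mem
    | cons p l ih =>
      rw [List.foldr_cons, cd_xor]
      refine W.add_mem ?_ (ih fun q hq => hl q (by simp [hq]))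
      obtain ⟨a1, a2⟩ := hl p (by simp)
      obtain ⟨y, b1, b2, b3⟩ := okLam_vec a1
      rw [← b2, ← C0_φ (e := 0)]
      refine h1 y b1 ?_
      have b4 : ((y : V) (pt 0) : ℚ) = (y : V) (pt 1) :=
        (congrFun b3 0).trans ((congrArg _ a2).trans (congrFun b3 1).symm)
      rw [x0_eq, dot_comm, dot_add_right, dot_single_right, dot_single_right, Int.cast_injective b4]
      ring
  have h3 : ∀ k : Fin 24, (∀ p ∈ spL.getD k [], okLam p.1 p.2 = true ∧ p.1.getD 0 0 = p.1.getD 1 0) ∧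
      cd ((spL.getD k []).foldr (fun p r => Nat.xor p.2 r) 0) =
        Pi.single k 1 + pol (Pi.single k 1) (cd 7028736) • cd 4 := by decide +kernel
  let T : AddSubgroup Cl :=
    { carrier := {c | c + pol c (cd 7028736) • cd 4 ∈ W}
      zero_mem' := by
        change _ + _ ∈ W
        rw [pol_zero, zero_smul, add_zero]; exact W.zero_mem
      add_mem' := fun {a b} ha hb => by
        change _ + _ ∈ W
        rw [pol_add, add_smul, add_add_add_comm]; exact W.add_mem ha hb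
      neg_mem' := fun {x} hx => by rwa [neg_eq_of_add_eq_zero_right (Cl_aa x)] }
  have h4 : c ∈ T := by
    rw [pi_eq_sum_univ' c]
    refine T.sum_mem fun k _ => ?_
    rcases F2_cases (c k) with e | e
    · rw [e, zero_smul]; exact T.zero_mem
    · rw [e, one_smul]
      exact (show _ + _ ∈ W from (h3 k).2 ▸ h2 _ (h3 k).1)
  change _ + _ ∈ W at h4
  rwa [hc, zero_smul, add_zero] at h4

theorem top_C {n : DD.N} (hn : (DD.Ah n).1 = mat2 24 (amat 25)) (L : Subgroup DD.N) (h1 : n ∈ L)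
    (h2 : DD.Ah.ker ≤ L)
    (h3 : ∀ m : DD.N, m • cd 7028736 = cd 7028736 → ∀ l ∈ L, m * l * m⁻¹ ∈ L) (m : DD.N)
    (hm : m • cd 7028736 = cd 7028736) : m ∈ L := by
  obtain ⟨μ, σ, d, hμ, hv, hσ⟩ := exists_mu
  have hO : ts 0x34200f ∈ CfsgH5.Sup := ts_Sup (by decide +kernel)
  obtain ⟨a, ha⟩ := exists_mono Cfsg.M24.one_mem hO
  have e1 : (C0 0).mat a = spm (List.range 24) 255 := by
    ext i j
    rw [mat_mono ha]
    have : ∀ i j : Fin 24, ((List.range 24).getD j 0 = i ↔ pp j = pp i) ∧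
        (Nat.testBit 255 i = true ↔ pp i ∈ ts 0x34200f) := by decide +kernel
    exact if_congr (this i j).1.symm (if_congr (this i j).2.symm rfl rfl) rfl
  have e2 : DD.Ah n = (C0 0).ρ a :=
    Units.ext (hn.trans ((coA_mon (a := 0) (by norm_num)).unique (e1 ▸ coA_mat 0 a)))
  obtain ⟨g, e3, hg⟩ := of_fix_cls hm
  obtain ⟨l, hl, e4⟩ := top2
    (K := ((L.map DD.Ah).comap (C0 0).ρ).comap (MulAut.conj μ⁻¹).toMonoidHom)
    (fun g hg k ⟨l, hl, e⟩ => by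
      obtain ⟨u, e', hu⟩ := lift_fix (g := μ⁻¹ * g * μ)
        (by rw [mul_smul, mul_smul, hv, hg, ← hv, inv_smul_smul])
      refine ⟨_, h3 u hu l hl, ?_⟩
      rw [map_mul, map_mul, map_inv, e, e', ← map_inv, ← map_mul, ← map_mul]
      congr 1
      change μ⁻¹ * g * μ * (μ⁻¹ * k * μ⁻¹⁻¹) * _ = μ⁻¹ * (g * k * g⁻¹) * μ⁻¹⁻¹
      group)
    ⟨by decide +kernel, fun g hg => ⟨n, h1, by
      rw [← hσ] at hg
      rw [mono_ext hg (mono_conj hO σ.2 hμ ha), e2]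
      congr 1
      change a = μ⁻¹ * (μ * a * μ⁻¹) * μ⁻¹⁻¹
      group⟩⟩
    (μ * g * μ⁻¹) (by rw [mul_smul, mul_smul, ← hv, inv_smul_smul, hg])
  change _ = (C0 0).ρ (μ⁻¹ * (μ * g * μ⁻¹) * μ⁻¹⁻¹) at e4
  rw [show μ⁻¹ * (μ * g * μ⁻¹) * μ⁻¹⁻¹ = g by group, ← e3] at e4
  exact (L.mul_mem_cancel_left (L.inv_mem hl)).1
    (h2 (by rw [MonoidHom.mem_ker, map_mul, map_inv, e4, inv_mul_cancel]))

theorem hypC {p0 : DD.I} (h : DD.cls p0 = cd 7028736) : Dat.HypC (gel 54) p0 where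
  span := h ▸ span_C
  sh := by
    obtain ⟨s, hs, -⟩ := okLam_sound (e := 0) (c := 15417344)
      (v := [4, 4, 0, 0, 0, 0, 0, 0, 0, 0, 0, 0, 0, 0, 0, 0, 0, 0, 0, 0, 0, 0, 0, 0])
      (by decide +kernel)
    exact ⟨s, hs.trans (by rw [h]; decide)⟩
  top := by
    rw [h]
    refine ⟨cd (2 ^ 0), by decide, ⟨gel 24, gel_mem (by norm_num)⟩ * ⟨gel 0, gel_mem (by norm_num)⟩ *
      ⟨gel 25, gel_mem (by norm_num)⟩, ?_, top_C ?_⟩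
    · rw [← gel_q (by norm_num), (gel_conj (a := 0) (by norm_num) (by norm_num)).1]
      show 1 * gel 24 * gel 0 * gel 25 = gel 24 * gel 0 * gel 25
      rw [one_mul]
    · rw [map_mul, map_mul, Units.val_mul, Units.val_mul, (gel_N (a := 24) (by norm_num)).2,
        (gel_N (a := 0) (by norm_num)).2, (gel_N (a := 25) (by norm_num)).2,
        amat_q (by norm_num), amat_q (by norm_num), mat2_idA, one_mul, one_mul]

end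

end CfsgMO
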