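/-
Bit-sliced evaluation of structured linear maps (WP E).
-/
import Cfsg.Agent.MO.E3
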