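/-
The Monster.
-/
import Cfsg.Agent.MO.Tab
import Cfsg.Agent.MO.AxF

set_option autoImplicit false

namespace CfsgMO

open Dat

noncomputable section

theorem alph : Alph DD BB tab amat gel where
  good := good
  sem := sem_gel
  inN := fun _ h => gel_N h
  m0 := gel_11
  inT := fun _ h h' => gel_T h h'
  sq := t_sq

theorem lab_192 : klab BB.L 192 = 7028736 := by decide +kernel

theorem exists_std : ∃ p0, Std DD BB p0 := by
  obtain ⟨p, h1, h2⟩ := okLam_sound (e := 0) (c := 7028736)
    (v := [-4, 4, 0, 0, 0, 0, 0, 0, 0, 0, 0, 0, 0, 0, 0, 0, 0, 0, 0, 0, 0, 0, 0, 0]) (by decide +kernel)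
  refine ⟨p, by rw [← tb_eq]; decide +kernel, by rw [← klab_eq, lab_192]; exact h1,
    h2.trans (Or.inr ?_)⟩
  funext i
  fin_cases i <;> simp [ev]

/-- the standard short vector -/
def pp0 : DD.I := exists_std.choose

theorem ctx : Ctx DD BB tab amat gel av pp0 where
  al := alph
  ok := Ck.okav
  st := exists_std.choose_spec
  v0 := by decide +kernel
  v1 := by decide +kernel
  c0 := lab_192

theorem hypA : HypA (gel 54) pp0 (aa DD BB av) Ck.wW Ck.sS Ck.oO Ck.pP := Ck.hypA ctx

end

end CfsgMO
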