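/-
The concrete data of the Griess algebra.
-/
import Cfsg.Agent.MO.Leech
import Cfsg.Agent.MO.K0b

set_option autoImplicit false
set_option linter.unusedSimpArgs false
set_option linter.unusedVariables false
set_option maxRecDepth 100000

namespace CfsgMO

open CfsgH5 CfsgH6 Cfsg Finset Matrix Cw
open scoped Pointwise

noncomputable section

/-- old numbers of the points -/
def ppL : List ℕ := [0, 1, 2, 3, 13, 18, 20, 21, 5, 14, 17, 23, 8, 15, 16, 19, 4, 7, 10, 12, 6, 9, 11, 22]
/-- new numbers of the points -/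
def piL : List ℕ := [0, 1, 2, 3, 16, 8, 20, 17, 12, 21, 18, 22, 19, 4, 9, 13, 14, 10, 5, 15, 6, 7, 23, 11]
/-- the vectors defining the coordinates of a class -/
def wL : List (List ℤ) := [[0, 0, 0, 0, 0, 0, 0, 0, 0, -4, 0, 0, 0, 0, 0, 0, 0, 0, 0, 0, 0, 4, 0, 0],
  [0, 0, 0, 0, 0, 0, 0, 0, 0, 0, 0, 0, 0, 0, 0, 0, 0, 0, 0, 0, 0, 0, -4, 4],
  [0, 0, 0, 0, 0, 0, 0, 0, 0, 0, 0, 0, 0, 0, 0, -4, 0, 0, 0, 0, 0, 0, 4, 0],
  [0, 0, 0, 0, 0, 0, 0, 0, 0, 0, 0, 0, 0, 0, 0, 0, -4, 0, 0, 0, 0, 0, 4, 0],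
  [0, 0, 0, 0, 0, 0, 0, 0, 0, 0, 0, 0, 0, 0, 0, 0, 0, 0, 0, -4, 0, 0, 4, 0],
  [0, 0, 0, 0, 0, 0, 0, -4, 0, 0, 0, 0, 0, 0, 0, 0, 0, 0, 0, 0, 0, 0, 4, 0],
  [0, 0, 0, 0, 0, 0, 0, 0, 0, 0, -4, 0, 0, 0, 0, 0, 0, 0, 0, 0, 0, 0, 4, 0],
  [0, 0, 0, 0, 0, 0, 0, 0, 0, 0, 0, 0, -4, 0, 0, 0, 0, 0, 0, 0, 0, 0, 4, 0],
  [0, 0, 0, 0, 0, 0, -4, 0, 0, 0, 0, 0, 0, 0, 0, 0, 0, 0, 0, 0, 0, 0, 4, 0],
  [0, 0, 0, 0, 0, 0, 0, 0, 0, -4, 0, 0, 0, 0, 0, 0, 0, 0, 0, 0, 0, 0, 4, 0],
  [0, 0, 0, 0, 0, 0, 0, 0, 0, 0, 0, -4, 0, 0, 0, 0, 0, 0, 0, 0, 0, 0, 4, 0],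
  [8, 0, 0, 0, 0, 0, 0, 0, 0, 0, 0, 0, 0, 0, 0, 0, 0, 0, 0, 0, 0, 0, 0, 0],
  [-6, 2, 2, 2, 0, 0, 0, 0, 0, 0, 0, 0, 0, 2, 0, 0, 0, 0, 2, 0, 2, 2, 0, 0],
  [-6, 2, 2, 2, 0, 2, 0, 0, 0, 0, 0, 0, 0, 0, 2, 0, 0, 2, 0, 0, 0, 0, 0, 2],
  [0, 2, 2, 0, 0, 2, 0, 0, 2, 0, 0, 0, 0, 0, 0, 2, 0, 2, 2, 0, 2, 0, 0, 0],
  [-6, 2, 0, 0, 0, 2, 0, 0, 2, 0, 0, 0, 0, 2, 2, 0, 2, 0, 2, 0, 0, 0, 0, 0],
  [0, 2, 0, 2, 0, 0, 0, 0, 2, 0, 0, 0, 0, 2, 2, 0, 0, 2, 0, 2, 2, 0, 0, 0],
  [0, 2, 0, 2, 2, 2, 0, 2, 0, 0, 0, 0, 0, 0, 2, 0, 0, 0, 2, 0, 2, 0, 0, 0],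
  [-6, 2, 0, 0, 2, 2, 0, 0, 0, 0, 2, 0, 0, 2, 0, 0, 0, 2, 0, 0, 2, 0, 0, 0],
  [0, 2, 2, 0, 2, 0, 0, 0, 0, 0, 0, 0, 2, 2, 2, 0, 0, 2, 2, 0, 0, 0, 0, 0],
  [-6, 2, 2, 0, 2, 0, 2, 0, 2, 0, 0, 0, 0, 0, 2, 0, 0, 0, 0, 0, 2, 0, 0, 0],
  [0, 2, 0, 0, 2, 2, 0, 0, 2, -2, 0, 0, 0, 0, 2, 0, 0, 2, 0, 0, 0, 6, 0, 0],
  [0, 2, 2, 2, 2, 2, 0, 0, 2, 0, 0, 2, 0, 2, 0, 0, 0, 0, 0, 0, 0, 0, 0, 0],
  [-3, 1, 1, 1, 1, 1, 1, 1, 1, 1, 1, 1, 1, 1, 1, 1, 1, 1, 1, 1, 1, 1, 1, 1]]
/-- the code of the matrix with these rows -/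
def WC : ℕ := 0x50009000900090009000900090009000900090009000900090009000900090009000900090009000900090009000900000008000a000a000a000a000a00080008000a00080008000a0008000a000800080008000800080008000800080008000800000008000a00080008000a000a00080008000a00060008000800080008000a00080008000a000800080008000e0008000800000002000a000a0008000a0008000a0008000a00080008000800080008000a00080008000800080008000a00080008000800000008000a000a0008000a0008000800080008000800080008000a000a000a00080008000a000a0008000800080008000800000002000a00080008000a000a0008000800080008000a00080008000a000800080008000a00080008000a00080008000800000008000a0008000a000a000a0008000a000800080008000800080008000a000800080008000a0008000a00080008000800000008000a0008000a0008000800080008000a0008000800080008000a000a00080008000a0008000a000a00080008000800000002000a000800080008000a00080008000a0008000800080008000a000a0008000a0008000a0008000800080008000800000008000a000a00080008000a00080008000a0008000800080008000800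08000a0008000a000a0008000a00080008000800000002000a000a000a0008000a00080008000800080008000800080008000a00080008000a00080008000800080008000a00000002000a000a000a000800080008000800080008000800080008000a0008000800080008000a0008000a000a00080008000000100008000800080008000800080008000800080008000800080008000800080008000800080008000800080008000800000008000800080008000800080008000800080008000800040008000800080008000800080008000800080008000c000800000008000800080008000800080008000800080004000800080008000800080008000800080008000800080008000c000800000008000800080008000800080004000800080008000800080008000800080008000800080008000800080008000c000800000008000800080008000800080008000800080008000800080004000800080008000800080008000800080008000c000800000008000800080008000800080008000800080008000400080008000800080008000800080008000800080008000c000800000008000800080008000800080008000400080008000800080008000800080008000800080008000800080008000c000800000008000800080008000800080008000800080008000800080008000800080008000800080008000400080008000c000800000008000800080008000800080008000800080008000800080008000800080008000400080008000800080008000c000800000008000800080008000800080008000800080008000800080008000800080004000800080008000800080008000c0008000000080008000800080008000800080008000800080008000800080008000800080008000800080008000800080004000c0000000800080008000800080008000800080008000400080008000800080008000800080008000800080008000c0008000800000000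

/-- the points in the new order -/
def pp (i : Fin 24) : GolayPt := pt (ppL.getD i 0)
/-- the vectors defining the coordinates of a class -/
def wv (k : Fin 24) : GolayPt → ℤ := fun a => (wL.getD k []).getD (pn a) 0
/-- rational coordinates -/
def cv (v : GolayPt → ℤ) : Fin 24 → ℚ := fun i => (v (pp i) : ℚ)
/-- the class of a vector -/
def red (v : GolayPt → ℤ) : Cl := fun k => ((dotInt v (wv k) / 8 : ℤ) : F2)

/-- the numbering of the points -/
def ppE : Fin 24 ≃ GolayPt where
  toFun := pp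
  invFun a := ⟨piL.getD (pn a) 0 % 24, Nat.mod_lt _ (by decide)⟩
  left_inv := by decide +kernel
  right_inv := by decide +kernel

theorem pn_pp : ∀ i : Fin 24, pn (pp i) = ppL.getD i 0 := by decide +kernel

theorem okMat_WC : okMat WC = true := by decide +kernel

theorem dec_row (k : Fin 24) : dec (rowEnc WC k) = wv k := by
  have : ∀ k : Fin 24, ∀ a, dec (rowEnc WC k) a = wv k a := by decide +kernel
  exact funext (this k)

theorem okV_row : ∀ k : Fin 24, okV (rowEnc WC k) = true := by decide +kernel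

/-- the vectors as lattice elements -/
def wLL (k : Fin 24) : LL := vec (rowEnc WC k)

theorem coe_wLL (k : Fin 24) : (wLL k : V) = wv k := by
  rw [wLL, coe_vec (okV_inL (okV_row k)), dec_row]

theorem crdH_eq (v : LL) : crdH wLL v = red v := funext fun k => by
  rw [crdH_apply, ip2, coe_wLL, dot_comm]; rfl

/-- the lowest four bits of all digits -/
def M15 : ℕ := 0xf000f000f000f000f000f000f000f000f000f000f000f000f000f000f000f000f000f000f000f000f000f000f000f

theorem dg_M15 : ∀ k : Fin 24, dg M15 k = 15 := by decide +kernel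

theorem red_of_land {x : V} (hx : Bd 8 x) {f : ℕ → ℕ} (hf : ∀ i, f i ≤ 1)
    (h : Nat.land (mvraw WC (enc x)) M15 = CfsgH6.ev 24 fun i => 8 * f i) (k : Fin 24) :
    dotInt x (wv k) % 8 = 0 ∧ red x k = (f k : F2) := by
  have h1 := congrArg (fun n => dg n k) h
  have h2 := dg_mvraw okMat_WC hx k.2
  simp only [dg_land, dg_M15] at h1
  rw [dg_ev (fun i _ => by have := hf i; omega), if_pos k.2] at h1
  have h3 : dg (mvraw WC (enc x)) k % 16 = 8 * f k := by
    rw [← h1]; exact (Nat.and_two_pow_sub_one_eq_mod _ 4).symm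
  rw [dec_row, dot_comm] at h2
  refine ⟨by omega, ?_⟩
  rw [red, ← Int.cast_natCast, ZMod.intCast_eq_intCast_iff_dvd_sub]
  have := hf k
  push_cast
  omega

/-- twelve bits spread out -/
def sp12 (x : ℕ) : ℕ := Nat.land (Nat.mul x 0x200040008001000200040008001000200040008001)
  0x100010001000100010001000100010001000100010001
/-- eight times the 24 bits spread out -/
def sprd (c : ℕ) : ℕ := Nat.add (Nat.shiftLeft (sp12 (Nat.land c 4095)) 3)
  (Nat.shiftLeft (sp12 (Nat.land (Nat.shiftRight c 12) 4095)) 195)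

theorem sp12_chk : allLt 4096 (fun k => Nat.beq (sp12 k) (evK 12 (bit k))) = true := by decide +kernel

theorem sp12_eq (c : ℕ) : sp12 (Nat.land c 4095) = CfsgH6.ev 12 (bit c) := by
  have := (allLt_iff _ _).1 sp12_chk _ (land_lt c)
  rw [beq_true_iff, evK_eq] at this
  rw [this]
  refine ev_congr fun k hk => ?_
  rw [bit_eq, bit_eq]
  have : (Nat.land c 4095).testBit k = c.testBit k := by
    show (c &&& (2 ^ 12 - 1)).testBit k = _
    rw [Nat.testBit_and, Nat.testBit_two_pow_sub_one, decide_eq_true hk, Bool.and_true]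
  rw [this]

theorem ev_split (f : ℕ → ℕ) : CfsgH6.ev (12 + 12) f =
    CfsgH6.ev 12 f + (CfsgH6.ev 12 fun k => f (12 + k)) * 65536 ^ 12 := by
  unfold CfsgH6.ev
  rw [sum_range_add, sum_mul]
  exact congrArg _ (sum_congr rfl fun k _ => by rw [pow_add, mul_assoc, mul_comm (65536 ^ 12)])

theorem sprd_eq (c : ℕ) : sprd c = CfsgH6.ev 24 fun i => 8 * bit c i := by
  have h1 : bit (Nat.shiftRight c 12) = fun k => bit c (12 + k) := funext fun k => by
    rw [bit_eq, bit_eq, show Nat.shiftRight c 12 = c >>> 12 from rfl, Nat.testBit_shiftRight]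
  have h2 : ∀ a b : ℕ, Nat.add (Nat.shiftLeft a 3) (Nat.shiftLeft b 195) = 8 * (a + b * 65536 ^ 12) :=
    fun a b => by
      show a <<< 3 + b <<< 195 = _
      rw [Nat.shiftLeft_eq, Nat.shiftLeft_eq]; ring
  have h3 : sprd c = 8 * (CfsgH6.ev 12 (bit c) +
      CfsgH6.ev 12 (bit (Nat.shiftRight c 12)) * 65536 ^ 12) := by
    rw [← sp12_eq, ← sp12_eq]; exact h2 _ _
  rw [h3, h1, ← ev_split, mul_ev]

theorem cd_apply (c : ℕ) (k : Fin 24) : cd c k = (bit c k : F2) := by
  rw [cd, bit_eq]; split_ifs <;> rfl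

/-- the code `n` has inner products divisible by eight with the coordinate vectors and class `c` -/
def okCl (n c : ℕ) : Bool := Nat.beq (Nat.land (mvraw WC n) M15) (sprd c)

theorem okCl_sound {x : V} (hx : Bd 8 x) {c : ℕ} (h : okCl (enc x) c = true) :
    (∀ k, dotInt x (wv k) % 8 = 0) ∧ red x = cd c := by
  rw [okCl, beq_true_iff, sprd_eq] at h
  exact ⟨fun k => (red_of_land hx (bit_le c) h k).1,
    funext fun k => by rw [(red_of_land hx (bit_le c) h k).2, cd_apply]⟩

/-- classes of the basis vectors -/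
def bcL : List ℕ := [0x800000, 0xeb4000, 0xccc000, 0xd78000, 0xeab000, 0xf25000, 0x84b000, 0x96b000, 0xe57000, 0xb4b000, 0x90b000, 0xd4b000, 0xa1c0e0, 0x400, 0xe95361, 0x2fb564, 0xab7649, 0xb9d621, 0xad0120, 0x2cf331, 0x29b261, 0x17f740, 0x8fc0ff, 0x800800]

theorem red_bv (j : Fin 24) : red (bv j) = cd (nthD bcL 0 j) := by
  have : ∀ j : Fin 24, inL (nthD basC 0 j) = true ∧ okCl (nthD basC 0 j) (nthD bcL 0 j) = true := by
    decide +kernel
  have h := inL_spec (this j).1
  refine (okCl_sound h.2.1 ?_).2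
  rw [enc_dec h.1]; exact (this j).2

theorem hQ0 (v : LL) : Bf (crdH wLL v) (crdH wLL v) = ty2 v := by
  have h : ∀ j, crdH wLL (bL j) = cd (nthD bcL 0 j) := fun j => by rw [crdH_eq]; exact red_bv j
  refine hQ_of_basis _ ?_ ?_ v
  · simp only [h]; decide +kernel
  · simp only [h]; decide +kernel

/-- the short vectors up to sign -/
def I0 : Type := {v : LL // sqNorm (v : V) = 32 ∧ enc (-v : V) < enc (v : V)}

instance : Finite I0 := by
  have : Finite L2 := L2_finite
  exact Finite.of_injective (fun v : I0 => (⟨v.1.1, v.1.2, v.2.1⟩ : L2)) fun a b e =>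
    Subtype.ext (Subtype.ext (congrArg (fun x : L2 => x.1) e))

/-- the chosen coordinates -/
def C0 (e : F2) : Crd where
  pe := ppE
  φ := crdH wLL
  hQ := hQ0
  I := I0
  fin := Fintype.ofFinite _
  dec := Classical.decEq _
  L := Subtype.val
  L_norm p := p.2.1
  L_inj p s h := by
    rcases h with h | h
    · exact Subtype.ext h
    · have h1 := p.2.2
      have h2 := s.2.2
      rw [h, AddSubgroup.coe_neg, neg_neg] at h1
      omega
  L_surj v hv := by
    have hb := bd_of_sqNorm (x := v) (by omega)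
    have hn : sqNorm ((-v : LL) : V) = 32 := by rw [AddSubgroup.coe_neg, sqNorm_neg, hv]
    rcases lt_trichotomy (enc (-v : V)) (enc (v : V)) with h | h | h
    · exact ⟨⟨v, hv, h⟩, Or.inl rfl⟩
    · have h1 := enc_inj (bd_of_sqNorm (x := -(v : V)) (by rw [sqNorm_neg]; omega)) hb h
      have h2 := dot_neg_right (v : V) v
      rw [h1, ← sqNorm_eq_dot] at h2
      omega
    · exact ⟨⟨-v, hn, by rwa [AddSubgroup.coe_neg, neg_neg]⟩, Or.inr (neg_neg v).symm⟩
  c2 := sg e
  c2_sq := sg_mul_self e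

/-- the data of the Griess algebra -/
def D0 (e : F2) : Dat := (C0 e).D

variable {e : F2}

theorem C0_φ (v : LL) : (C0 e).φ v = red v := crdH_eq v
theorem C0_tq (v : V) : (C0 e).tq v = cv v := rfl
theorem D0_c2 : (D0 e).c2 = sg e := rfl

theorem card_I (e : F2) : Fintype.card (D0 e).I = 98280 := (C0 e).card_I
theorem ips (e : F2) (p : (D0 e).I) : (D0 e).Ips p := (C0 e).ips p

/-- every index comes from a short vector -/
theorem exists_vec (p : (D0 e).I) : ∃ v : LL, sqNorm (v : V) = 32 ∧ (D0 e).lam p = cv v ∧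
    (D0 e).cls p = red v := ⟨(C0 e).L p, (C0 e).L_norm p, rfl, C0_φ _⟩

/-- every short vector gives an index -/
theorem exists_idx {v : LL} (hv : sqNorm (v : V) = 32) :
    ∃ p : (D0 e).I, (D0 e).cls p = red v ∧ PM ((D0 e).lam p) (cv v) := by
  obtain ⟨p, h⟩ := (C0 e).L_surj v hv
  exact ⟨p, ((C0 e).φ_pm h).symm.trans (C0_φ v), PM.symm ((C0 e).PM_iff.2 h)⟩

/-- the index at distance twelve -/
def op12 (k : Fin 24) : Fin 24 := k + 12

theorem red_wv (k : Fin 24) : red (wv k) = Pi.single (op12 k) 1 := by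
  have : ∀ k : Fin 24, okCl (rowEnc WC k) (2 ^ (op12 k).val) = true := by decide +kernel
  have h := inL_spec (okV_inL (okV_row k))
  have h1 := (okCl_sound h.2.1 (by rw [enc_dec h.1]; exact this k)).2
  rw [dec_row] at h1
  rw [h1]
  funext j
  simp only [cd, Nat.testBit_two_pow, Pi.single_apply, decide_eq_true_eq, Fin.val_inj]
  exact if_congr eq_comm rfl rfl

theorem op12_op12 : ∀ k, op12 (op12 k) = k := by decide

theorem exists_w (y : LL) : ∃ z : LL, ∃ c : Fin 24 → ℤ, y = ∑ k, c k • wLL k + z + z := by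
  let c : Fin 24 → ℤ := fun k => (red y (op12 k)).val
  have : (C0 0).φ y = (C0 0).φ (∑ k, c k • wLL k) := by
    rw [map_sum, C0_φ]
    conv_lhs => rw [pi_eq_sum_univ' (red y)]
    rw [← Equiv.sum_comp (Function.Involutive.toPerm op12 op12_op12)]
    refine sum_congr rfl fun k _ => ?_
    rw [map_zsmul, C0_φ, coe_wLL, red_wv, ← Int.cast_smul_eq_zsmul F2]
    show red y (op12 k) • _ = (((red y (op12 k)).val : ℤ) : F2) • _
    rw [Int.cast_natCast, ZMod.natCast_zmod_val]
    rfl
  obtain ⟨z, h⟩ := (C0 0).φ_eq_iff.1 this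
  exact ⟨z, c, h⟩

theorem dot_sum (x : V) {ι : Type} (s : Finset ι) (f : ι → V) :
    dotInt x (∑ j ∈ s, f j) = ∑ j ∈ s, dotInt x (f j) := by
  simp only [dotInt, Finset.sum_apply, mul_sum]; exact sum_comm

/-- the lattice is its own dual -/
theorem mem_of_dot {x : V} (h : ∀ y : LL, (8 : ℤ) ∣ dotInt x y) : x ∈ leechLattice := by
  choose t ht using fun j => h (bL j)
  have h1 : x = φL (BL.adjugate *ᵥ t) := by
    have h2 : BL *ᵥ (BL.adjugate *ᵥ t) = t := by
      rw [mulVec_mulVec, mul_adjugate, det_BL, one_smul, one_mulVec]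
    set c := BL.adjugate *ᵥ t
    have h3 : ∀ j, dotInt (bv j) (x - φL c) = 0 := fun j => by
      rw [dot_sub_right, dot_comm, show dotInt x (bv j) = 8 * t j from ht j, φL_apply, dot_sum, ← h2]
      simp only [dot_smul_right, BL_eq, mulVec, dotProduct, mul_sum, sub_eq_zero]
      exact sum_congr rfl fun k _ => by ring
    have h4 := eq_zero_of_mulVec_eq_zero (M := MLᵀ) (v := fun i => (x - φL c) (pt i))
      (by rw [det_transpose, det_ML]; norm_num) (funext fun j => by
        rw [Pi.zero_apply, ← h3 j, dotInt, sum_pt, sum_range]; rfl)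
    rw [← sub_eq_zero]
    funext a
    have := congrFun h4 ⟨pn a, pn_lt a⟩
    simpa [pt_pn] using this
  rw [h1]; exact φL_mem _

theorem mem_of_wv {x : V} (h : ∀ k, dotInt x (wv k) % 8 = 0) : x ∈ leechLattice := by
  have step : ∀ y : LL, ∃ z : LL, (8 : ℤ) ∣ dotInt x y - 2 * dotInt x z := fun y => by
    obtain ⟨z, c, e⟩ := exists_w y
    refine ⟨z, ?_⟩
    rw [e, AddSubgroup.coe_add, AddSubgroup.coe_add, dot_add_right, dot_add_right,
      AddSubgroup.val_finset_sum, dot_sum]
    have : (8 : ℤ) ∣ ∑ k, dotInt x ((c k • wLL k : LL) : V) := dvd_sum fun k _ => by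
      rw [AddSubgroup.coe_zsmul, dot_smul_right, coe_wLL]
      exact Dvd.dvd.mul_left (Int.dvd_of_emod_eq_zero (h k)) _
    omega
  refine mem_of_dot fun y => ?_
  obtain ⟨a, ha⟩ := step y
  obtain ⟨b, hb⟩ := step a
  obtain ⟨c, hc⟩ := step b
  omega

/-! ### Short vectors given by lists -/

/-- the digit of an integer in the range from `-7` to `8`, otherwise zero -/
def dI (a : ℤ) : ℕ :=
  Int.rec (motive := fun _ => ℕ) (fun n => bif' (Nat.ble n 8) (Nat.add n 8) 0) (fun n => Nat.sub 7 n) a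

theorem dI_spec (a : ℤ) : dI a ≤ 16 ∧ (dI a ≠ 0 → (dI a : ℤ) = a + 8) := by
  cases a with
  | ofNat n =>
    show bif' (Nat.ble n 8) (Nat.add n 8) 0 ≤ 16 ∧ (bif' (Nat.ble n 8) (Nat.add n 8) 0 ≠ 0 →
      ((bif' (Nat.ble n 8) (Nat.add n 8) 0 : ℕ) : ℤ) = (n : ℤ) + 8)
    simp only [bif'_eq, ble_true_iff, Nat.add_eq]
    split_ifs <;> omega
  | negSucc n =>
    show 7 - n ≤ 16 ∧ (7 - n ≠ 0 → ((7 - n : ℕ) : ℤ) = Int.negSucc n + 8)
    omega

/-- digits placed at given shifts -/
def pk (sh : List ℕ) : List ℤ → ℕ :=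
  List.rec (motive := fun _ => List ℤ → ℕ) (fun _ => 0)
    (fun s _ ih v => List.rec (motive := fun _ => ℕ) 0
      (fun a r _ => Nat.add (Nat.shiftLeft (dI a) s) (ih r)) v) sh

theorem pk_eq (sh : List ℕ) (v : List ℤ) :
    pk sh v = ∑ i ∈ range sh.length, (v.map dI).getD i 0 * 2 ^ sh.getD i 0 := by
  induction sh generalizing v with
  | nil => rfl
  | cons s sh ih =>
    cases v with
    | nil => show 0 = _; simp
    | cons a r =>
      show dI a <<< s + pk sh r = _
      rw [ih, List.length_cons, sum_range_succ', Nat.shiftLeft_eq, add_comm]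
      simp

/-- the shifts of the digits -/
def shL : List ℕ := [0, 16, 32, 48, 208, 288, 320, 336, 80, 224, 272, 368, 128, 240, 256, 304, 64, 112,
  160, 192, 96, 144, 176, 352]

theorem pk_shL (v : List ℤ) : pk shL v = CfsgH6.ev 24 fun k => (v.map dI).getD (piL.getD k 0) 0 := by
  have h1 : ∀ i : Fin 24, piL.getD (pn (ppE i)) 0 = i ∧ 2 ^ shL.getD i 0 = 65536 ^ pn (ppE i) := by
    decide +kernel
  have h2 := sum_pt fun a => (v.map dI).getD (piL.getD (pn a) 0) 0 * 65536 ^ pn a
  rw [← ppE.sum_comp] at h2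
  rw [pk_eq, show shL.length = 24 from rfl, sum_range, CfsgH6.ev]
  refine Eq.trans (sum_congr rfl fun i _ => by rw [(h1 i).1, (h1 i).2]) (h2.trans ?_)
  exact sum_congr rfl fun k hk => by rw [pn_pt (mem_range.1 hk)]

theorem getD_dI (v : List ℤ) (i : ℕ) : (v.map dI).getD i 0 ≤ 16 ∧
    ((v.map dI).getD i 0 ≠ 0 → ((v.map dI).getD i 0 : ℤ) = v.getD i 0 + 8) := by
  by_cases h : i < v.length
  · rw [List.getD_eq_getElem _ _ (by simpa using h), List.getD_eq_getElem _ _ h, List.getElem_map]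
    exact dI_spec _
  · rw [List.getD_eq_default _ _ (by simpa using h)]; simp

/-- the list `v` is a short vector of class `cd c` -/
def okLam (v : List ℤ) (c : ℕ) : Bool :=
  forceH (pk shL v) fun n => band (Nat.beq (nrm n) 32) (okCl n c)

theorem okLam_vec {v : List ℤ} {c : ℕ} (h : okLam v c = true) : ∃ x : LL, sqNorm (x : V) = 32 ∧
    red x = cd c ∧ cv x = fun i : Fin 24 => ((v.getD i 0 : ℤ) : ℚ) := by
  simp only [okLam, forceH_eq, band_eq, Bool.and_eq_true, beq_true_iff] at h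
  obtain ⟨h1, h2⟩ := h
  have hd : ∀ k, k < 24 → (v.map dI).getD (piL.getD k 0) 0 < 65536 := fun k _ => by
    have := (getD_dI v (piL.getD k 0)).1; omega
  have hlt : pk shL v < 65536 ^ 24 := by rw [pk_shL]; exact ev_lt hd
  have hx : ∀ a, dec (pk shL v) a = ((v.map dI).getD (piL.getD (pn a) 0) 0 : ℤ) - 8 := fun a => by
    rw [pk_shL, dec, decB, dg_ev hd, if_pos (pn_lt a)]
  have hb : Bd 8 (dec (pk shL v)) := fun a => by
    have := (getD_dI v (piL.getD (pn a) 0)).1
    rw [hx]; omega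
  have hn : sqNorm (dec (pk shL v)) = 32 := by rw [← nrm_eq, h1]; rfl
  rw [← enc_dec hlt] at h2
  obtain ⟨h3, h4⟩ := okCl_sound hb h2
  refine ⟨⟨_, mem_of_wv h3⟩, hn, h4, funext fun i => ?_⟩
  have h5 : ∀ i : Fin 24, piL.getD (pn (pp i)) 0 = i := by decide +kernel
  have h6 := sq_le_sqNorm (dec (pk shL v)) (pp i)
  show ((dec (pk shL v) (pp i) : ℤ) : ℚ) = _
  rw [hn, hx, h5] at h6
  rw [hx, h5, (getD_dI v i).2 fun h0 => by rw [h0] at h6; norm_num at h6]
  simp

theorem okLam_sound {v : List ℤ} {c : ℕ} (h : okLam v c = true) : ∃ p : (D0 e).I,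
    (D0 e).cls p = cd c ∧ PM ((D0 e).lam p) (fun i => ((v.getD i 0 : ℤ) : ℚ)) := by
  obtain ⟨x, h1, h2, h3⟩ := okLam_vec h
  obtain ⟨p, h4, h5⟩ := exists_idx (e := e) h1
  exact ⟨p, h4.trans h2, h3 ▸ h5⟩

end

end CfsgMO
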