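/-
Checks for the subgroups, part 0.
-/
import Cfsg.Agent.MO.AxD
import Cfsg.Agent.MO.SbK

set_option autoImplicit false
set_option Elab.async false
set_option maxRecDepth 100000

namespace CfsgMO.Cs

theorem e4HN : chkL tab av 11 11 0 0 ([46, 39, 50, 48, 49, 46, 43, 42, 41, 26, 33, 34, 12, 13, 14, 18, 20, 23, 8, 9, 24, 38, 39, 50, 48, 49, 46, 43, 42, 41, 26, 33, 34, 12, 13, 14, 18, 20, 23, 8, 9, 24] ++ [46, 39, 50, 48, 49, 46, 43, 42, 41, 26, 33, 34, 12, 13, 14, 18, 20, 23, 8, 9, 24, 38, 39, 50, 48, 49, 46, 43, 42, 41, 26, 33, 34, 12, 13, 14, 18, 20, 23, 8, 9, 24] ++ [46, 39, 50, 48, 49, 46, 43, 42, 41, 26, 33, 34, 12, 13, 14, 18, 20, 23, 8, 9, 24, 38, 39, 50, 48, 49, 46, 43, 42, 41, 26, 33, 34, 12, 13, 14, 18, 20, 23, 8, 9, 24] ++ [46, 39, 50, 48, 49, 46, 43, 42, 41, 26, 33, 34, 12, 13, 14, 18, 20, 23, 8, 9, 24, 38, 39, 50, 48, 49, 46, 43, 42, 41, 26, 33, 34, 12, 13, 14, 18, 20,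 23, 8, 9, 24] ++ [46, 39, 50, 48, 49, 46, 43, 42, 41, 26, 33, 34, 12, 13, 14, 18, 20, 23, 8, 9, 24, 38, 39, 50, 48, 49, 46, 43, 42, 41, 26, 33, 34, 12, 13, 14, 18, 20, 23, 8, 9, 24]) [] = true := by
  decide +kernel

theorem lHN38 : chkL tab av 8 5 0 0 ([50, 53, 42] ++ [54, 38, 41, 51, 36, 49, 46, 40, 43, 25, 26, 27, 29, 30, 31, 34, 14, 15, 16, 17, 18, 19, 21, 22, 23, 0, 2, 3, 4, 8]) ([53, 42] ++ [47, 51, 39, 44, 33, 52, 51, 38, 43, 52]) = true := by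
  decide +kernel

theorem lHN39 : chkL tab av 10 5 0 0 ([48, 53, 48] ++ [2, 51, 37, 43, 26, 25, 52, 54, 51, 47, 49, 50, 41, 37, 46, 26, 28, 29, 31, 33, 35, 15, 19, 21, 22, 0, 5, 6, 7, 8, 9, 10]) ([46, 53, 45] ++ [2, 49, 36, 51, 53]) = true := by
  decide +kernel

theorem mTh4 : chkL tab av 12 0 0 0 [2, 46, 49, 49, 28, 53, 44, 48, 36, 38, 41, 26, 27, 28, 30, 32, 34, 12, 14, 17, 18, 20, 22, 0, 1, 2, 3, 4, 6, 7, 10] [51, 46, 43, 26, 52, 54] = true := by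
  decide +kernel

theorem x59_1 : chkX tab av 7 0 [44, 53, 43, 53, 54, 53, 42, 53, 38, 53, 54] [45, 53, 36] true (208) (208) = true := by
  decide +kernel

theorem x45_0 : chkX tab av 6 1 [44, 53, 43, 53, 54, 53, 43, 53, 45, 53, 54] [46, 53, 45] false (208) (80) = true := by
  decide +kernel

theorem x66_1 : chkX tab av 8 0 [44, 53, 54, 44, 53, 43, 53, 54, 42, 53, 47, 53, 54] [48, 53, 48] true (208) (96) = true := by
  decide +kernel

theorem e3Th : chkL tab av 11 11 0 0 ([39, 50, 48, 49, 46, 43, 42, 41, 26, 33, 34, 12, 13, 14, 18, 20, 23, 8, 9, 24] ++ [36, 36, 46]) ([36, 36, 46] ++ [38, 44, 44, 39, 50, 48, 49, 46, 43, 42, 41, 26, 33, 34, 12, 13, 14, 18, 20, 23, 8, 9, 24, 36, 36, 46]) = true := by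
  decide +kernel

theorem x36_1 : chkX tab av 5 1 [44, 53, 43, 53, 54, 53, 49, 53, 39, 53, 54] [53, 50] true (208) (80) = true := by
  decide +kernel

theorem lHN35 : chkL tab av 6 5 0 0 ([48, 53, 48] ++ [36, 40, 49, 31, 52, 46, 39, 48, 36, 46, 43, 40, 25, 26, 29, 33, 34, 12, 13, 14, 19, 20, 22, 23, 1, 3, 5, 7, 8, 9, 10, 24]) ([53, 49, 53, 49] ++ [2, 54]) = true := by
  decide +kernel

theorem x54_0 : chkX tab av 6 4 [44, 53, 43, 53, 54, 53, 43, 53, 45, 53, 54] [] false (208) (208) = true := by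
  decide +kernel

theorem x82_1 : chkX tab av 8 1 [44, 53, 54, 44, 53, 43, 53, 54, 42, 53, 47, 53, 54] [46, 27] true (208) (80) = true := by
  decide +kernel

theorem x92_0 : chkX tab av 9 1 [44, 53, 54, 44, 53, 43, 53, 54, 43, 53, 49, 53, 54] [50] false (208) (80) = true := by
  decide +kernel

theorem x68_0 : chkX tab av 8 1 [44, 53, 54, 44, 53, 43, 53, 54, 42, 53, 47, 53, 54] [40] false (208) (80) = true := by
  decide +kernel

theorem lHN29 : chkL tab av 9 3 1 0 ([40, 44, 27] ++ [2, 54, 48, 44, 50, 50, 39, 26, 27, 28, 30, 31, 34, 35, 15, 18, 0, 2, 3, 5, 11, 24]) ([45, 53, 36] ++ [51, 51, 44, 50, 53]) = true := by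
  decide +kernel

theorem x21_0 : chkX tab av 3 0 [44, 53, 54, 44, 53, 43, 53, 54] [48, 53, 50] false (208) (80) = true := by
  decide +kernel

theorem mHN20 : chkL tab av 0 0 0 0 [49, 46, 44, 43, 42, 42, 30, 33, 35, 15, 18, 19, 20, 23, 2, 5, 6, 9, 10] [43, 41, 37, 36, 53, 54] = true := by
  decide +kernel

theorem mHN29 : chkL tab av 12 0 0 0 [2, 54, 48, 44, 50, 50, 39, 26, 27, 28, 30, 31, 34, 35, 15, 18, 0, 2, 3, 5, 11, 24] [51, 51, 44, 50, 53] = true := by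
  decide +kernel

theorem lHN23 : chkL tab av 9 8 0 0 ([46, 45] ++ [2, 53, 48, 41, 43, 39, 40, 37, 25, 26, 31, 33, 15, 18, 19, 20, 21, 23, 1, 5, 9, 11]) ([45] ++ [2, 47, 40, 49, 46, 31, 52, 54]) = true := by
  decide +kernel

theorem lHN18 : chkL tab av 9 8 0 0 ([38] ++ [2, 26, 53, 51, 39, 41, 39, 42, 39, 41, 28, 31, 12, 15, 16, 19, 22, 2, 5, 6, 9, 10, 11]) ([40] ++ [2, 47, 40, 40, 41, 52, 54]) = true := by
  decide +kernel

theorem bHN1 : chkL tab av 1 1 0 0 ([39, 53, 38] ++ [48, 49, 50, 48, 38, 41, 51, 26, 13, 14, 3, 4, 7, 8]) [39, 53, 38] = true := by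
  decide +kernel

theorem lHN3 : chkL tab av 5 5 0 0 ([53, 42] ++ [2, 40, 43, 50, 44, 50, 44, 47, 38, 26, 28, 13, 17, 20, 1, 2, 4, 5, 6, 9]) ([53, 42] ++ []) = true := by
  decide +kernel

theorem bTh10 : chkL tab av 1 1 0 0 ([39, 53, 36, 36, 46] ++ [13, 14, 15, 21, 1, 4, 5]) [39, 53, 36, 36, 46] = true := by
  decide +kernel

theorem mHN3 : chkL tab av 12 0 0 0 [2, 40, 43, 50, 44, 50, 44, 47, 38, 26, 28, 13, 17, 20, 1, 2, 4, 5, 6, 9] [] = true := by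
  decide +kernel

theorem bHN7 : chkL tab av 1 1 0 0 ([39, 53, 38] ++ [12, 14, 16, 18, 2, 4, 7, 8, 11]) [39, 53, 38] = true := by
  decide +kernel

theorem bHN4 : chkL tab av 1 1 0 0 ([39, 53, 38] ++ [24]) [39, 53, 38] = true := by
  decide +kernel

theorem aHN9 : chkL tab av 1 1 0 0 ([39, 53] ++ [12, 13, 20, 0, 2, 3, 5, 8, 9]) [39, 53] = true := by
  decide +kernel

theorem aTh5 : chkL tab av 1 1 0 0 ([39, 53] ++ [16, 0, 9, 11]) [39, 53] = true := by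
  decide +kernel

theorem lHN1 : chkL tab av 10 10 0 0 ([45, 27] ++ [54, 13, 15, 17, 19, 21, 23, 2, 3, 4, 11, 24]) ([45] ++ [2, 54]) = true := by
  decide +kernel

end CfsgMO.Cs
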