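/-
Checks for the subgroups, part 1.
-/
import Cfsg.Agent.MO.AxD
import Cfsg.Agent.MO.SbK

set_option autoImplicit false
set_option Elab.async false
set_option maxRecDepth 100000

namespace CfsgMO.Cs

theorem e4Th : chkL tab av 11 11 0 0 ([38, 44, 44, 39, 50, 48, 49, 46, 43, 42, 41, 26, 33, 34, 12, 13, 14, 18, 20, 23, 8, 9, 24, 36, 36, 46, 39, 50, 48, 49, 46, 43, 42, 41, 26, 33, 34, 12, 13, 14, 18, 20, 23, 8, 9, 24] ++ [38, 44, 44, 39, 50, 48, 49, 46, 43, 42, 41, 26, 33, 34, 12, 13, 14, 18, 20, 23, 8, 9, 24, 36, 36, 46, 39, 50, 48, 49, 46, 43, 42, 41, 26, 33, 34, 12, 13, 14, 18, 20, 23, 8, 9, 24] ++ [38, 44, 44, 39, 50, 48, 49, 46, 43, 42, 41, 26, 33, 34, 12, 13, 14, 18, 20, 23, 8, 9, 24, 36, 36, 46, 39, 50, 48, 49, 46, 43, 42, 41, 26, 33, 34, 12, 13, 14, 18, 20, 23, 8, 9, 24]) [] = true := by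
  decide +kernel

theorem x61_1 : chkX tab av 7 3 [44, 53, 43, 53, 54, 53, 42, 53, 38, 53, 54] [51, 45] true (208) (208) = true := by
  decide +kernel

theorem x9_1 : chkX tab av 2 0 [44, 53, 43, 53, 54] [53, 39, 53, 51] true (208) (208) = true := by
  decide +kernel

theorem x85_1 : chkX tab av 8 1 [44, 53, 54, 44, 53, 43, 53, 54, 42, 53, 47, 53, 54] [30, 53, 42] true (208) (80) = true := by
  decide +kernel

theorem x64_0 : chkX tab av 7 3 [44, 53, 43, 53, 54, 53, 42, 53, 38, 53, 54] [47] false (208) (208) = true := by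
  decide +kernel

theorem x59_0 : chkX tab av 7 0 [44, 53, 43, 53, 54, 53, 42, 53, 38, 53, 54] [45, 53, 36] false (208) (208) = true := by
  decide +kernel

theorem x33_0 : chkX tab av 5 1 [44, 53, 43, 53, 54, 53, 49, 53, 39, 53, 54] [53, 49, 44] false (208) (208) = true := by
  decide +kernel

theorem x66_0 : chkX tab av 8 0 [44, 53, 54, 44, 53, 43, 53, 54, 42, 53, 47, 53, 54] [48, 53, 48] false (208) (96) = true := by
  decide +kernel

theorem lHN37 : chkL tab av 9 5 0 0 ([] ++ [2, 43, 40, 36, 37, 53, 54, 51, 42, 49, 42, 42, 36, 37, 26, 33, 34, 35, 14, 15, 16, 17, 18, 19, 20, 23, 0, 2, 3, 5, 6, 9, 10, 11, 24]) ([46, 53, 45] ++ [2, 49, 51, 44, 46, 28, 53]) = true := by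
  decide +kernel

theorem x36_0 : chkX tab av 5 1 [44, 53, 43, 53, 54, 53, 49, 53, 39, 53, 54] [53, 50] false (208) (80) = true := by
  decide +kernel

theorem mHN33 : chkL tab av 12 0 0 0 [2, 42, 37, 48, 42, 53, 40, 43, 43, 38, 42, 49, 27, 30, 31, 33, 13, 21, 22, 23, 0, 1, 3, 4, 5, 6, 7, 9] [33, 53, 54] = true := by
  decide +kernel

theorem x79_1 : chkX tab av 8 0 [44, 53, 54, 44, 53, 43, 53, 54, 42, 53, 47, 53, 54] [53, 47] true (208) (96) = true := by
  decide +kernel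

theorem x82_0 : chkX tab av 8 1 [44, 53, 54, 44, 53, 43, 53, 54, 42, 53, 47, 53, 54] [46, 27] false (208) (208) = true := by
  decide +kernel

theorem x89_1 : chkX tab av 9 1 [44, 53, 54, 44, 53, 43, 53, 54, 43, 53, 49, 53, 54] [40] true (208) (208) = true := by
  decide +kernel

theorem x111_1 : chkX tab av 11 2 [44, 53, 54, 48, 53, 49, 53, 54, 51, 53, 39, 53, 54] [38] true (208) (80) = true := by
  decide +kernel

theorem x43_0 : chkX tab av 5 0 [44, 53, 43, 53, 54, 53, 49, 53, 39, 53, 54] [53, 47] false (208) (80) = true := by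
  decide +kernel

theorem x14_1 : chkX tab av 3 0 [44, 53, 54, 44, 53, 43, 53, 54] [48, 53, 48] true (208) (80) = true := by
  decide +kernel

theorem bTh0 : chkL tab av 1 1 0 0 ([39, 53, 36, 36, 46] ++ [36, 47, 43, 49, 39, 50, 29, 35, 13, 14, 3, 6, 8, 9]) [39, 53, 36, 36, 46] = true := by
  decide +kernel

theorem lHN25 : chkL tab av 11 8 1 0 ([38] ++ [52, 54, 50, 37, 48, 49, 47, 51, 26, 29, 30, 32, 34, 12, 13, 17, 18, 21, 1, 4, 5, 6, 7, 8, 9, 11]) ([53, 47] ++ [42, 37, 48, 42, 52]) = true := by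
  decide +kernel

theorem aHN2 : chkL tab av 1 1 0 0 ([39, 53] ++ [47, 43, 34, 53, 44, 53, 36, 51, 39, 26, 30, 31, 14, 16, 1, 4, 6, 7, 9, 11]) [39, 53] = true := by
  decide +kernel

theorem lHN11 : chkL tab av 7 6 0 1 ([48, 53, 48] ++ [54, 37, 36, 36, 37, 36, 28, 29, 31, 33, 34, 12, 13, 15, 16, 18, 20, 23, 1, 4, 7, 8]) ([48, 53, 48] ++ []) = true := by
  decide +kernel

theorem mTh2 : chkL tab av 0 0 0 0 [43, 39, 42, 42, 27, 29, 34, 35, 12, 13, 16, 19, 20, 0, 2, 4, 5, 9, 11] [51, 50, 51, 52, 54] = true := by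
  decide +kernel

theorem bTh9 : chkL tab av 1 1 0 0 ([39, 53, 36, 36, 46] ++ [12, 13, 20, 0, 1, 3, 7, 8, 9]) [39, 53, 36, 36, 46] = true := by
  decide +kernel

theorem bTh4 : chkL tab av 1 1 0 0 ([39, 53, 36, 36, 46] ++ [24]) [39, 53, 36, 36, 46] = true := by
  decide +kernel

theorem aTh3 : chkL tab av 1 1 0 0 ([39, 53] ++ [54, 25, 26, 27, 28, 31, 33, 13, 14, 2, 3, 5, 8, 9]) [39, 53] = true := by
  decide +kernel

theorem bHN10 : chkL tab av 1 1 0 0 ([39, 53, 38] ++ [12, 13, 14, 16, 21, 1, 3, 4, 5, 7]) [39, 53, 38] = true := by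
  decide +kernel

theorem bHN6 : chkL tab av 1 1 0 0 ([39, 53, 38] ++ [14, 17]) [39, 53, 38] = true := by
  decide +kernel

theorem aHN10 : chkL tab av 1 1 0 0 ([39, 53] ++ [12, 13, 14, 16, 21, 1, 3, 4, 5, 7]) [39, 53] = true := by
  decide +kernel

theorem aTh8 : chkL tab av 1 1 0 0 ([39, 53] ++ [14, 15, 19, 0, 9, 11]) [39, 53] = true := by
  decide +kernel

theorem aHN4 : chkL tab av 1 1 0 0 ([39, 53] ++ [24]) [39, 53] = true := by
  decide +kernel

end CfsgMO.Cs
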