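/-
Checks for the subgroups, part 2.
-/
import Cfsg.Agent.MO.AxD
import Cfsg.Agent.MO.SbK

set_option autoImplicit false
set_option Elab.async false
set_option maxRecDepth 100000

namespace CfsgMO.Cs

theorem mHN41 : chkL tab av 12 12 0 0 [2, 42, 42, 46, 44, 25, 53, 37, 44, 48, 51, 31, 52, 36, 50, 40, 37, 51, 47, 38, 42, 25, 26, 28, 29, 30, 32, 33, 35, 13, 19, 21, 23, 0, 3, 5, 8, 10] [2, 53, 54] = true := by
  decide +kernel

theorem x62_0 : chkX tab av 7 3 [44, 53, 43, 53, 54, 53, 42, 53, 38, 53, 54] [47, 46] false (208) (208) = true := by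
  decide +kernel

theorem lTh5 : chkL tab av 4 1 0 0 ([45, 53, 39] ++ [2, 52, 48, 38, 51, 44, 41, 37, 29, 30, 33, 12, 13, 15, 16, 18, 19, 20, 22, 0, 1, 24]) ([39, 53, 38, 44, 44, 52, 47, 54, 52, 36] ++ []) = true := by
  decide +kernel

theorem x35_0 : chkX tab av 5 0 [44, 53, 43, 53, 54, 53, 49, 53, 39, 53, 54] [53, 39, 53, 51] false (208) (96) = true := by
  decide +kernel

theorem x83_0 : chkX tab av 8 1 [44, 53, 54, 44, 53, 43, 53, 54, 42, 53, 47, 53, 54] [53, 42] false (208) (208) = true := by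
  decide +kernel

theorem x32_0 : chkX tab av 5 4 [44, 53, 43, 53, 54, 53, 49, 53, 39, 53, 54] [45] false (208) (208) = true := by
  decide +kernel

theorem x45_1 : chkX tab av 6 1 [44, 53, 43, 53, 54, 53, 43, 53, 45, 53, 54] [46, 53, 45] true (208) (80) = true := by
  decide +kernel

theorem x74_1 : chkX tab av 8 0 [44, 53, 54, 44, 53, 43, 53, 54, 42, 53, 47, 53, 54] [38, 53, 46] true (208) (80) = true := by
  decide +kernel

theorem mHN22 : chkL tab av 12 12 0 0 [2, 53, 37, 38, 51, 41, 50, 44, 40, 36, 27, 28, 29, 12, 13, 15, 16, 17, 18, 20, 2, 3, 6, 7, 8] [2, 41, 41, 38, 53, 54] = true := by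
  decide +kernel

theorem x41_0 : chkX tab av 5 1 [44, 53, 43, 53, 54, 53, 49, 53, 39, 53, 54] [53, 46] false (208) (208) = true := by
  decide +kernel

theorem mHN32 : chkL tab av 12 0 0 0 [2, 52, 54, 42, 49, 49, 36, 43, 46, 48, 25, 26, 27, 32, 34, 35, 14, 15, 17, 20, 23, 2, 4, 8, 9, 10] [43, 42, 43, 53] = true := by
  decide +kernel

theorem lHN31 : chkL tab av 5 3 1 0 ([53, 47] ++ [2, 40, 43, 38, 36, 48, 46, 51, 32, 35, 13, 14, 20, 21, 23, 2, 3, 5, 11, 24]) ([45, 53, 36] ++ [51, 49, 39, 43, 52, 54]) = true := by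
  decide +kernel

theorem rTh : chkL tab av 1 0 3 0 ([39, 53, 36, 36, 46] ++ [38, 44, 44, 52, 47, 54, 52, 36]) [] = true := by
  decide +kernel

theorem x96_0 : chkX tab av 9 1 [44, 53, 54, 44, 53, 43, 53, 54, 43, 53, 49, 53, 54] [39] false (208) (208) = true := by
  decide +kernel

theorem x71_0 : chkX tab av 8 1 [44, 53, 54, 44, 53, 43, 53, 54, 42, 53, 47, 53, 54] [46] false (208) (80) = true := by
  decide +kernel

theorem lHN32 : chkL tab av 10 10 0 0 ([53, 39] ++ [2, 52, 54, 42, 49, 49, 36, 43, 46, 48, 25, 26, 27, 32, 34, 35, 14, 15, 17, 20, 23, 2, 4, 8, 9, 10]) ([53, 48] ++ [43, 42, 43, 53]) = true := by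
  decide +kernel

theorem x21_1 : chkX tab av 3 0 [44, 53, 54, 44, 53, 43, 53, 54] [48, 53, 50] true (208) (80) = true := by
  decide +kernel

theorem bTh1 : chkL tab av 1 1 0 0 ([39, 53, 36, 36, 46] ++ [40, 50, 48, 43, 37, 51, 26, 28, 31, 33, 13, 6, 8, 10]) [39, 53, 36, 36, 46] = true := by
  decide +kernel

theorem x105_0 : chkX tab av 10 1 [44, 53, 54, 44, 53, 43, 53, 54, 47, 53, 51, 53, 54] [] false (208) (208) = true := by
  decide +kernel

theorem lHN30 : chkL tab av 11 11 0 0 ([38] ++ [43, 42, 43, 52, 54, 36, 41, 39, 39, 48, 43, 43, 25, 26, 29, 32, 33, 14, 17, 18, 20, 22, 23, 0, 2, 4, 7, 9, 11]) ([45] ++ [36, 36, 49, 42, 53]) = true := by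
  decide +kernel

theorem lHN13 : chkL tab av 9 3 1 0 ([] ++ [2, 54, 51, 51, 48, 37, 48, 43, 25, 31, 33, 13, 14, 16, 17, 18, 19, 20, 21, 0, 2, 3, 9]) ([45, 53, 36] ++ [43, 42, 43, 52]) = true := by
  decide +kernel

theorem lHN8 : chkL tab av 8 8 0 0 ([50, 53, 42] ++ [2, 39, 49, 49, 44, 40, 49, 38, 50, 26, 27, 28, 29, 30, 31, 32, 34, 35, 13, 14, 15, 19, 21, 22, 23, 1, 5, 9, 24]) ([50, 53, 42] ++ []) = true := by
  decide +kernel

theorem bTh3 : chkL tab av 1 1 0 0 ([39, 53, 36, 36, 46] ++ [54, 25, 26, 27, 28, 31, 33, 13, 14, 2, 3, 5, 8, 9]) [39, 53, 36, 36, 46] = true := by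
  decide +kernel

theorem mHN2 : chkL tab av 12 0 0 0 [2, 38, 47, 42, 47, 46, 43, 40, 41, 25, 28, 29, 31, 32, 13, 14, 15, 17, 19, 23, 2, 3, 4] [] = true := by
  decide +kernel

theorem bTh5 : chkL tab av 1 1 0 0 ([39, 53, 36, 36, 46] ++ [16, 0, 9, 11]) [39, 53, 36, 36, 46] = true := by
  decide +kernel

theorem lTh1 : chkL tab av 4 4 0 0 ([45, 53, 39] ++ [2, 12, 15, 21, 0, 2, 3, 4, 5, 7]) ([45, 53, 39] ++ []) = true := by
  decide +kernel

theorem lHN10 : chkL tab av 7 7 0 0 ([48, 53, 48] ++ [2, 14, 15, 16, 20, 3, 4, 5, 8]) ([48, 53, 48] ++ []) = true := by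
  decide +kernel

theorem lHN0 : chkL tab av 11 11 0 0 ([45] ++ [2, 44, 49, 43, 50, 43, 50, 39, 26, 27, 29, 30, 31, 32, 15, 16, 23, 1, 2, 3, 4, 6, 7, 9]) ([45] ++ []) = true := by
  decide +kernel

theorem aTh9 : chkL tab av 1 1 0 0 ([39, 53] ++ [12, 13, 20, 0, 1, 3, 7, 8, 9]) [39, 53] = true := by
  decide +kernel

theorem aTh7 : chkL tab av 1 1 0 0 ([39, 53] ++ [18, 2, 4, 7, 9, 11]) [39, 53] = true := by
  decide +kernel

theorem aHN12 : chkL tab av 1 1 0 0 ([39, 53] ++ [23]) [39, 53] = true := by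
  decide +kernel

end CfsgMO.Cs
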