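/-
Checks for the subgroups, part 3.
-/
import Cfsg.Agent.MO.AxD
import Cfsg.Agent.MO.SbK

set_option autoImplicit false
set_option Elab.async false
set_option maxRecDepth 100000

namespace CfsgMO.Cs

theorem mHN42 : chkL tab av 0 0 0 0 [53, 48, 43, 44, 46, 40, 51, 51, 42, 25, 27, 28, 30, 32, 35, 12, 13, 17, 20, 21, 1, 4, 6, 7, 9, 10, 24] [36, 51, 51, 41, 33, 53, 37, 40, 42, 44, 25, 28, 52, 54] = true := by
  decide +kernel

theorem lHN41 : chkL tab av 8 8 0 0 ([40] ++ [2, 42, 42, 46, 44, 25, 53, 37, 44, 48, 51, 31, 52, 36, 50, 40, 37, 51, 47, 38, 42, 25, 26, 28, 29, 30, 32, 33, 35, 13, 19, 21, 23, 0, 3, 5, 8, 10]) ([46, 53, 45] ++ [2, 53, 54]) = true := by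
  decide +kernel

theorem bTh2 : chkL tab av 1 1 0 0 ([39, 53, 36, 36, 46] ++ [27, 53, 31, 44, 28, 53, 47, 53, 41, 44, 43, 42, 39, 26, 27, 12, 13, 14, 15, 3, 5, 6, 7, 11]) [39, 53, 36, 36, 46] = true := by
  decide +kernel

theorem x35_1 : chkX tab av 5 0 [44, 53, 43, 53, 54, 53, 49, 53, 39, 53, 54] [53, 39, 53, 51] true (208) (96) = true := by
  decide +kernel

theorem x83_1 : chkX tab av 8 1 [44, 53, 54, 44, 53, 43, 53, 54, 42, 53, 47, 53, 54] [53, 42] true (208) (80) = true := by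
  decide +kernel

theorem x32_1 : chkX tab av 5 4 [44, 53, 43, 53, 54, 53, 49, 53, 39, 53, 54] [45] true (208) (208) = true := by
  decide +kernel

theorem x47_1 : chkX tab av 6 1 [44, 53, 43, 53, 54, 53, 43, 53, 45, 53, 54] [45, 53, 36] true (208) (80) = true := by
  decide +kernel

theorem x90_0 : chkX tab av 9 0 [44, 53, 54, 44, 53, 43, 53, 54, 43, 53, 49, 53, 54] [41, 53, 38] false (208) (96) = true := by
  decide +kernel

theorem mHN26 : chkL tab av 12 0 0 0 [2, 43, 40, 43, 48, 52, 41, 41, 39, 38, 42, 48, 37, 25, 28, 33, 12, 14, 16, 17, 18, 21, 1, 3, 4, 6, 8, 10, 11] [52, 54] = true := by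
  decide +kernel

theorem lHN36 : chkL tab av 8 6 0 0 ([42] ++ [42, 41, 36, 53, 54, 47, 41, 51, 47, 47, 46, 41, 25, 27, 28, 35, 13, 16, 21, 22, 23, 0, 1, 5, 7, 11, 24]) ([48, 53, 48] ++ [2, 36, 47, 43, 39, 52]) = true := by
  decide +kernel

theorem mHN19 : chkL tab av 0 12 0 0 [33, 52, 43, 39, 49, 48, 36, 39, 25, 26, 28, 33, 34, 35, 13, 15, 18, 22, 3, 11] [2, 36, 36, 49, 42, 52, 54] = true := by
  decide +kernel

theorem x63_0 : chkX tab av 7 3 [44, 53, 43, 53, 54, 53, 42, 53, 38, 53, 54] [] false (208) (208) = true := by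
  decide +kernel

theorem x31_0 : chkX tab av 5 0 [44, 53, 43, 53, 54, 53, 49, 53, 39, 53, 54] [46, 53, 45] false (208) (80) = true := by
  decide +kernel

theorem x92_1 : chkX tab av 9 1 [44, 53, 54, 44, 53, 43, 53, 54, 43, 53, 49, 53, 54] [50] true (208) (208) = true := by
  decide +kernel

theorem x70_1 : chkX tab av 8 1 [44, 53, 54, 44, 53, 43, 53, 54, 42, 53, 47, 53, 54] [38] true (208) (208) = true := by
  decide +kernel

theorem mHN35 : chkL tab av 0 12 0 0 [36, 40, 49, 31, 52, 46, 39, 48, 36, 46, 43, 40, 25, 26, 29, 33, 34, 12, 13, 14, 19, 20, 22, 23, 1, 3, 5, 7, 8, 9, 10, 24] [2, 54] = true := by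
  decide +kernel

theorem lHN28 : chkL tab av 8 8 0 0 ([53, 43] ++ [2, 41, 43, 40, 38, 52, 44, 48, 42, 41, 41, 51, 44, 25, 26, 29, 31, 33, 34, 12, 13, 21, 22, 23, 3, 4, 6, 8, 10, 11]) ([40] ++ [2, 52, 54]) = true := by
  decide +kernel

theorem lHN22 : chkL tab av 11 8 1 0 ([45] ++ [2, 53, 37, 38, 51, 41, 50, 44, 40, 36, 27, 28, 29, 12, 13, 15, 16, 17, 18, 20, 2, 3, 6, 7, 8]) ([53, 43] ++ [2, 41, 41, 38, 53, 54]) = true := by
  decide +kernel

theorem lTh2 : chkL tab av 10 4 1 0 ([53, 39] ++ [43, 39, 42, 42, 27, 29, 34, 35, 12, 13, 16, 19, 20, 0, 2, 4, 5, 9, 11]) ([45, 53, 39] ++ [51, 50, 51, 52, 54]) = true := by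
  decide +kernel

theorem lHN21 : chkL tab av 9 8 0 0 ([] ++ [2, 51, 38, 43, 53, 54, 51, 41, 39, 40, 38, 42, 27, 28, 31, 34, 13, 15, 16, 18, 20, 21, 0, 1, 2, 5, 6, 7, 8, 10, 24]) ([42] ++ [51, 38, 43, 52]) = true := by
  decide +kernel

theorem x17_0 : chkX tab av 3 0 [44, 53, 54, 44, 53, 43, 53, 54] [53, 50] false (208) (208) = true := by
  decide +kernel

theorem lHN14 : chkL tab av 8 8 0 0 ([] ++ [31, 53, 54, 38, 36, 50, 46, 50, 48, 37, 25, 31, 33, 12, 18, 20, 22, 0, 4, 7, 11]) ([45] ++ [2, 42, 38, 40, 37, 52]) = true := by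
  decide +kernel

theorem e2 : chkL tab av 11 11 0 0 ([12, 13, 14, 16, 17, 19, 21, 22, 24, 25, 0, 24, 26, 23, 1, 27, 2, 28, 3, 24, 29, 4, 30, 5, 31, 6, 24, 32, 7, 23] ++ [39, 53]) ([39, 53] ++ [39, 50, 48, 49, 46, 43, 42, 41, 26, 33, 34, 12, 13, 14, 18, 20, 23, 8, 9, 24]) = true := by
  decide +kernel

theorem aTh1 : chkL tab av 1 1 0 0 ([39, 53] ++ [40, 50, 48, 43, 37, 51, 26, 28, 31, 33, 13, 6, 8, 10]) [39, 53] = true := by
  decide +kernel

theorem bTh6 : chkL tab av 1 1 0 0 ([39, 53, 36, 36, 46] ++ [15, 17, 0, 2, 4, 7]) [39, 53, 36, 36, 46] = true := by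
  decide +kernel

theorem mHN11 : chkL tab av 0 0 0 0 [54, 37, 36, 36, 37, 36, 28, 29, 31, 33, 34, 12, 13, 15, 16, 18, 20, 23, 1, 4, 7, 8] [] = true := by
  decide +kernel

theorem aHN3 : chkL tab av 1 1 0 0 ([39, 53] ++ [54, 25, 27, 28, 31, 33, 12, 13, 2, 4, 7, 8, 11]) [39, 53] = true := by
  decide +kernel

theorem bHN12 : chkL tab av 1 1 0 0 ([39, 53, 38] ++ [23]) [39, 53, 38] = true := by
  decide +kernel

theorem aHN8 : chkL tab av 1 1 0 0 ([39, 53] ++ [14, 16, 19, 4, 5, 8, 11]) [39, 53] = true := by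
  decide +kernel

theorem aTh12 : chkL tab av 1 1 0 0 ([39, 53] ++ [23]) [39, 53] = true := by
  decide +kernel

theorem mTh1 : chkL tab av 12 0 0 0 [2, 12, 15, 21, 0, 2, 3, 4, 5, 7] [] = true := by
  decide +kernel

theorem mHN7 : chkL tab av 12 0 0 0 [2, 15, 17, 23, 3, 4, 5, 8, 24] [] = true := by
  decide +kernel

theorem mHN5 : chkL tab av 12 0 0 0 [2, 12, 18, 20, 2, 10] [] = true := by
  decide +kernel

end CfsgMO.Cs
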