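/-
Checks for the subgroups, part 4.
-/
import Cfsg.Agent.MO.AxD
import Cfsg.Agent.MO.SbK

set_option autoImplicit false
set_option Elab.async false
set_option maxRecDepth 100000

namespace CfsgMO.Cs

theorem xr : chkX tab av 1 0 [44, 53, 54] [39, 53, 38, 44, 44, 52, 47, 54, 52, 36] false (64) (64) = true := by
  decide +kernel

theorem mHN36 : chkL tab av 0 12 0 0 [42, 41, 36, 53, 54, 47, 41, 51, 47, 47, 46, 41, 25, 27, 28, 35, 13, 16, 21, 22, 23, 0, 1, 5, 7, 11, 24] [2, 36, 47, 43, 39, 52] = true := by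
  decide +kernel

theorem mHN39 : chkL tab av 12 12 0 0 [2, 51, 37, 43, 26, 25, 52, 54, 51, 47, 49, 50, 41, 37, 46, 26, 28, 29, 31, 33, 35, 15, 19, 21, 22, 0, 5, 6, 7, 8, 9, 10] [2, 49, 36, 51, 53] = true := by
  decide +kernel

theorem x37_0 : chkX tab av 5 0 [44, 53, 43, 53, 54, 53, 49, 53, 39, 53, 54] [53, 49, 53, 49] false (208) (80) = true := by
  decide +kernel

theorem mHN15 : chkL tab av 12 12 0 0 [2, 26, 52, 54, 40, 42, 41, 37, 41, 36, 50, 26, 28, 30, 32, 33, 34, 35, 12, 13, 16, 17, 18, 21, 22, 23, 0, 3, 5, 6, 9, 11] [2, 36, 50, 48, 37, 53] = true := by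
  decide +kernel

theorem x52_1 : chkX tab av 6 4 [44, 53, 43, 53, 54, 53, 43, 53, 45, 53, 54] [49] true (208) (208) = true := by
  decide +kernel

theorem x51_1 : chkX tab av 6 1 [44, 53, 43, 53, 54, 53, 43, 53, 45, 53, 54] [43, 53, 43] true (208) (80) = true := by
  decide +kernel

theorem x98_0 : chkX tab av 10 0 [44, 53, 54, 44, 53, 43, 53, 54, 47, 53, 51, 53, 54] [48, 53, 48] false (208) (80) = true := by
  decide +kernel

theorem x100_1 : chkX tab av 10 0 [44, 53, 54, 44, 53, 43, 53, 54, 47, 53, 51, 53, 54] [40, 53, 51] true (208) (80) = true := by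
  decide +kernel

theorem x84_1 : chkX tab av 8 1 [44, 53, 54, 44, 53, 43, 53, 54, 42, 53, 47, 53, 54] [50, 49, 27] true (208) (208) = true := by
  decide +kernel

theorem x88_0 : chkX tab av 9 1 [44, 53, 54, 44, 53, 43, 53, 54, 43, 53, 49, 53, 54] [40, 39] false (208) (208) = true := by
  decide +kernel

theorem mHN23 : chkL tab av 12 12 0 0 [2, 53, 48, 41, 43, 39, 40, 37, 25, 26, 31, 33, 15, 18, 19, 20, 21, 23, 1, 5, 9, 11] [2, 47, 40, 49, 46, 31, 52, 54] = true := by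
  decide +kernel

theorem x102_1 : chkX tab av 10 0 [44, 53, 54, 44, 53, 43, 53, 54, 47, 53, 51, 53, 54] [53, 41] true (208) (96) = true := by
  decide +kernel

theorem lHN27 : chkL tab av 10 4 1 0 ([53, 39] ++ [2, 43, 40, 44, 44, 37, 38, 25, 27, 28, 34, 12, 13, 14, 15, 17, 19, 20, 21, 2, 6, 7, 8, 11, 24]) ([45, 53, 36] ++ [2, 42, 41, 36, 53, 54]) = true := by
  decide +kernel

theorem x72_0 : chkX tab av 8 1 [44, 53, 54, 44, 53, 43, 53, 54, 42, 53, 47, 53, 54] [48] false (208) (80) = true := by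
  decide +kernel

theorem x101_0 : chkX tab av 10 1 [44, 53, 54, 44, 53, 43, 53, 54, 47, 53, 51, 53, 54] [38] false (208) (80) = true := by
  decide +kernel

theorem mHN34 : chkL tab av 12 0 0 0 [2, 41, 41, 38, 53, 43, 48, 38, 42, 51, 46, 47, 25, 27, 29, 30, 35, 16, 18, 19, 20, 21, 22, 23, 1, 4, 5, 6, 7, 9] [54] = true := by
  decide +kernel

theorem x14_0 : chkX tab av 3 0 [44, 53, 54, 44, 53, 43, 53, 54] [48, 53, 48] false (208) (80) = true := by
  decide +kernel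

theorem x114_0 : chkX tab av 11 2 [44, 53, 54, 48, 53, 49, 53, 54, 51, 53, 39, 53, 54] [] false (208) (80) = true := by
  decide +kernel

theorem mHN13 : chkL tab av 12 0 0 0 [2, 54, 51, 51, 48, 37, 48, 43, 25, 31, 33, 13, 14, 16, 17, 18, 19, 20, 21, 0, 2, 3, 9] [43, 42, 43, 52] = true := by
  decide +kernel

theorem x27_0 : chkX tab av 4 0 [44, 53, 54, 48, 53, 49, 53, 54] [53, 50] false (208) (208) = true := by
  decide +kernel

theorem lHN19 : chkL tab av 10 10 0 0 ([45, 27] ++ [33, 52, 43, 39, 49, 48, 36, 39, 25, 26, 28, 33, 34, 35, 13, 15, 18, 22, 3, 11]) ([38] ++ [2, 36, 36, 49, 42, 52, 54]) = true := by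
  decide +kernel

theorem mHN8 : chkL tab av 12 0 0 0 [2, 39, 49, 49, 44, 40, 49, 38, 50, 26, 27, 28, 29, 30, 31, 32, 34, 35, 13, 14, 15, 19, 21, 22, 23, 1, 5, 9, 24] [] = true := by
  decide +kernel

theorem aTh0 : chkL tab av 1 1 0 0 ([39, 53] ++ [36, 47, 43, 49, 39, 50, 29, 35, 13, 14, 3, 6, 8, 9]) [39, 53] = true := by
  decide +kernel

theorem bTh7 : chkL tab av 1 1 0 0 ([39, 53, 36, 36, 46] ++ [18, 2, 4, 7, 9, 11]) [39, 53, 36, 36, 46] = true := by
  decide +kernel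

theorem lTh0 : chkL tab av 11 11 0 0 ([46, 39] ++ [2, 54, 36, 36, 46, 51, 51, 44, 25, 27, 31, 34, 12, 14, 15, 18, 20, 22, 0, 1, 2, 3, 4, 11]) ([46, 41] ++ [54]) = true := by
  decide +kernel

theorem bHN8 : chkL tab av 1 1 0 0 ([39, 53, 38] ++ [14, 16, 19, 4, 5, 8, 11]) [39, 53, 38] = true := by
  decide +kernel

theorem lHN9 : chkL tab av 9 9 0 0 ([45, 53, 39] ++ [2, 13, 14, 16, 17, 18, 20, 22, 0, 9, 10]) ([45, 53, 39] ++ []) = true := by
  decide +kernel

theorem aTh10 : chkL tab av 1 1 0 0 ([39, 53] ++ [13, 14, 15, 21, 1, 4, 5]) [39, 53] = true := by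
  decide +kernel

theorem aHN6 : chkL tab av 1 1 0 0 ([39, 53] ++ [14, 17]) [39, 53] = true := by
  decide +kernel

theorem mHN4 : chkL tab av 12 0 0 0 [2, 26, 27, 28, 29, 12, 14, 15, 17, 19, 23, 0, 2, 7, 9, 10, 24] [] = true := by
  decide +kernel

theorem mHN10 : chkL tab av 12 0 0 0 [2, 14, 15, 16, 20, 3, 4, 5, 8] [] = true := by
  decide +kernel

end CfsgMO.Cs
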