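/-
Checks for the subgroups, part 5.
-/
import Cfsg.Agent.MO.AxD
import Cfsg.Agent.MO.SbK

set_option autoImplicit false
set_option Elab.async false
set_option maxRecDepth 100000

namespace CfsgMO.Cs

theorem mHN38 : chkL tab av 0 0 0 0 [54, 38, 41, 51, 36, 49, 46, 40, 43, 25, 26, 27, 29, 30, 31, 34, 14, 15, 16, 17, 18, 19, 21, 22, 23, 0, 2, 3, 4, 8] [47, 51, 39, 44, 33, 52, 51, 38, 43, 52] = true := by
  decide +kernel

theorem mHN30 : chkL tab av 0 0 0 0 [43, 42, 43, 52, 54, 36, 41, 39, 39, 48, 43, 43, 25, 26, 29, 32, 33, 14, 17, 18, 20, 22, 23, 0, 2, 4, 7, 9, 11] [36, 36, 49, 42, 53] = true := by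
  decide +kernel

theorem x39_0 : chkX tab av 5 4 [44, 53, 43, 53, 54, 53, 49, 53, 39, 53, 54] [47, 48] false (208) (208) = true := by
  decide +kernel

theorem x11_0 : chkX tab av 2 0 [44, 53, 43, 53, 54] [53, 41, 53, 45] false (208) (208) = true := by
  decide +kernel

theorem mHN21 : chkL tab av 12 0 0 0 [2, 51, 38, 43, 53, 54, 51, 41, 39, 40, 38, 42, 27, 28, 31, 34, 13, 15, 16, 18, 20, 21, 0, 1, 2, 5, 6, 7, 8, 10, 24] [51, 38, 43, 52] = true := by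
  decide +kernel

theorem x49_1 : chkX tab av 6 4 [44, 53, 43, 53, 54, 53, 43, 53, 45, 53, 54] [40] true (208) (208) = true := by
  decide +kernel

theorem x51_0 : chkX tab av 6 1 [44, 53, 43, 53, 54, 53, 43, 53, 45, 53, 54] [43, 53, 43] false (208) (80) = true := by
  decide +kernel

theorem x90_1 : chkX tab av 9 0 [44, 53, 54, 44, 53, 43, 53, 54, 43, 53, 49, 53, 54] [41, 53, 38] true (208) (96) = true := by
  decide +kernel

theorem mHN12 : chkL tab av 12 12 0 0 [2, 43, 44, 41, 25, 52, 51, 47, 46, 50, 51, 48, 48, 27, 29, 30, 31, 35, 12, 13, 14, 16, 17, 18, 19, 21, 23, 1, 2, 3, 5, 9, 10, 11, 24] [2, 31, 53, 54] = true := by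
  decide +kernel

theorem mHN14 : chkL tab av 0 12 0 0 [31, 53, 54, 38, 36, 50, 46, 50, 48, 37, 25, 31, 33, 12, 18, 20, 22, 0, 4, 7, 11] [2, 42, 38, 40, 37, 52] = true := by
  decide +kernel

theorem x69_1 : chkX tab av 8 1 [44, 53, 54, 44, 53, 43, 53, 54, 42, 53, 47, 53, 54] [45, 39] true (208) (208) = true := by
  decide +kernel

theorem lHN34 : chkL tab av 6 5 0 0 ([48, 53, 48] ++ [2, 41, 41, 38, 53, 43, 48, 38, 42, 51, 46, 47, 25, 27, 29, 30, 35, 16, 18, 19, 20, 21, 22, 23, 1, 4, 5, 6, 7, 9]) ([53, 39, 53, 49] ++ [54]) = true := by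
  decide +kernel

theorem mHN40 : chkL tab av 0 0 0 0 [33, 52, 54, 50, 36, 46, 51, 46, 47, 27, 28, 35, 15, 16, 17, 19, 20, 23, 3, 8, 11] [41, 44, 38, 39, 53] = true := by
  decide +kernel

theorem lTh4 : chkL tab av 11 10 1 0 ([46, 39] ++ [2, 46, 49, 49, 28, 53, 44, 48, 36, 38, 41, 26, 27, 28, 30, 32, 34, 12, 14, 17, 18, 20, 22, 0, 1, 2, 3, 4, 6, 7, 10]) ([53, 39] ++ [51, 46, 43, 26, 52, 54]) = true := by
  decide +kernel

theorem x71_1 : chkX tab av 8 1 [44, 53, 54, 44, 53, 43, 53, 54, 42, 53, 47, 53, 54] [46] true (208) (208) = true := by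
  decide +kernel

theorem lTh3 : chkL tab av 10 8 0 0 ([53, 39] ++ [43, 42, 43, 52, 54, 38, 41, 47, 43, 49, 39, 50, 25, 32, 33, 35, 15, 16, 18, 19, 21, 22, 23, 0, 1, 3, 7, 10, 11, 24]) ([32, 53, 42] ++ [2, 52]) = true := by
  decide +kernel

theorem mHN16 : chkL tab av 12 0 0 0 [2, 54, 43, 44, 40, 39, 41, 38, 49, 27, 29, 31, 32, 35, 12, 13, 15, 16, 17, 19, 21, 22, 23, 2, 6, 8, 9] [36, 40, 49, 31, 53] = true := by
  decide +kernel

theorem lHN26 : chkL tab av 9 6 0 0 ([] ++ [2, 43, 40, 43, 48, 52, 41, 41, 39, 38, 42, 48, 37, 25, 28, 33, 12, 14, 16, 17, 18, 21, 1, 3, 4, 6, 8, 10, 11]) ([45, 53, 36] ++ [52, 54]) = true := by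
  decide +kernel

theorem x95_0 : chkX tab av 9 1 [44, 53, 54, 44, 53, 43, 53, 54, 43, 53, 49, 53, 54] [] false (208) (80) = true := by
  decide +kernel

theorem mHN27 : chkL tab av 12 12 0 0 [2, 43, 40, 44, 44, 37, 38, 25, 27, 28, 34, 12, 13, 14, 15, 17, 19, 20, 21, 2, 6, 7, 8, 11, 24] [2, 42, 41, 36, 53, 54] = true := by
  decide +kernel

theorem lHN15 : chkL tab av 10 9 0 0 ([38] ++ [2, 26, 52, 54, 40, 42, 41, 37, 41, 36, 50, 26, 28, 30, 32, 33, 34, 35, 12, 13, 16, 17, 18, 21, 22, 23, 0, 3, 5, 6, 9, 11]) ([] ++ [2, 36, 50, 48, 37, 53]) = true := by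
  decide +kernel

theorem rHN : chkL tab av 1 0 3 0 ([39, 53, 38] ++ [46, 52, 47, 54, 52, 36]) [] = true := by
  decide +kernel

theorem lHN2 : chkL tab av 8 8 0 0 ([53, 43] ++ [2, 38, 47, 42, 47, 46, 43, 40, 41, 25, 28, 29, 31, 32, 13, 14, 15, 17, 19, 23, 2, 3, 4]) ([53, 43] ++ []) = true := by
  decide +kernel

theorem aHN0 : chkL tab av 1 1 0 0 ([39, 53] ++ [39, 50, 47, 40, 37, 36, 25, 28, 30, 31, 13, 0, 4, 5, 8]) [39, 53] = true := by
  decide +kernel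

theorem mTh5 : chkL tab av 12 0 0 0 [2, 52, 48, 38, 51, 44, 41, 37, 29, 30, 33, 12, 13, 15, 16, 18, 19, 20, 22, 0, 1, 24] [] = true := by
  decide +kernel

theorem bHN3 : chkL tab av 1 1 0 0 ([39, 53, 38] ++ [54, 25, 27, 28, 31, 33, 12, 13, 2, 4, 7, 8, 11]) [39, 53, 38] = true := by
  decide +kernel

theorem bHN11 : chkL tab av 1 1 0 0 ([39, 53, 38] ++ [22, 0, 1, 2, 4, 7, 8, 9]) [39, 53, 38] = true := by
  decide +kernel

theorem lHN7 : chkL tab av 6 6 0 0 ([48, 53, 48] ++ [2, 15, 17, 23, 3, 4, 5, 8, 24]) ([48, 53, 48] ++ []) = true := by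
  decide +kernel

theorem aHN11 : chkL tab av 1 1 0 0 ([39, 53] ++ [22, 0, 1, 2, 4, 7, 8, 9]) [39, 53] = true := by
  decide +kernel

theorem aHN5 : chkL tab av 1 1 0 0 ([39, 53] ++ [14, 15]) [39, 53] = true := by
  decide +kernel

theorem mHN9 : chkL tab av 12 0 0 0 [2, 13, 14, 16, 17, 18, 20, 22, 0, 9, 10] [] = true := by
  decide +kernel

theorem mHN6 : chkL tab av 12 0 0 0 [2, 13, 15, 16, 17, 18, 20, 22, 1, 8] [] = true := by
  decide +kernel

end CfsgMO.Cs
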