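/-
Checks for the subgroups, part 6.
-/
import Cfsg.Agent.MO.AxD
import Cfsg.Agent.MO.SbK

set_option autoImplicit false
set_option Elab.async false
set_option maxRecDepth 100000

namespace CfsgMO.Cs

theorem mHN37 : chkL tab av 12 12 0 0 [2, 43, 40, 36, 37, 53, 54, 51, 42, 49, 42, 42, 36, 37, 26, 33, 34, 35, 14, 15, 16, 17, 18, 19, 20, 23, 0, 2, 3, 5, 6, 9, 10, 11, 24] [2, 49, 51, 44, 46, 28, 53] = true := by
  decide +kernel

theorem lHN40 : chkL tab av 8 1 1 0 ([] ++ [33, 52, 54, 50, 36, 46, 51, 46, 47, 27, 28, 35, 15, 16, 17, 19, 20, 23, 3, 8, 11]) ([39, 53, 46, 52, 47, 54, 52, 36] ++ [41, 44, 38, 39, 53]) = true := by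
  decide +kernel

theorem x39_1 : chkX tab av 5 4 [44, 53, 43, 53, 54, 53, 49, 53, 39, 53, 54] [47, 48] true (208) (208) = true := by
  decide +kernel

theorem x11_1 : chkX tab av 2 0 [44, 53, 43, 53, 54] [53, 41, 53, 45] true (208) (208) = true := by
  decide +kernel

theorem x80_0 : chkX tab av 8 1 [44, 53, 54, 44, 53, 43, 53, 54, 42, 53, 47, 53, 54] [32, 53, 42] false (208) (208) = true := by
  decide +kernel

theorem x53_0 : chkX tab av 6 4 [44, 53, 43, 53, 54, 53, 43, 53, 45, 53, 54] [43] false (208) (208) = true := by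
  decide +kernel

theorem x56_0 : chkX tab av 7 0 [44, 53, 43, 53, 54, 53, 42, 53, 38, 53, 54] [46, 53, 45] false (208) (80) = true := by
  decide +kernel

theorem mHN17 : chkL tab av 12 0 0 0 [2, 26, 52, 54, 44, 48, 43, 50, 50, 47, 37, 26, 28, 32, 35, 12, 13, 14, 16, 17, 18, 19, 21, 0, 2, 3, 8, 10, 24] [36, 36, 49, 42, 52] = true := by
  decide +kernel

theorem x100_0 : chkX tab av 10 0 [44, 53, 54, 44, 53, 43, 53, 54, 47, 53, 51, 53, 54] [40, 53, 51] false (208) (80) = true := by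
  decide +kernel

theorem mHN24 : chkL tab av 12 0 0 0 [2, 44, 51, 51, 42, 33, 52, 44, 50, 46, 51, 36, 38, 26, 27, 29, 30, 32, 12, 15, 18, 21, 22, 0, 3, 5, 6, 8, 10, 11, 24] [52, 54] = true := by
  decide +kernel

theorem x94_0 : chkX tab av 9 1 [44, 53, 54, 44, 53, 43, 53, 54, 43, 53, 49, 53, 54] [46, 45] false (208) (80) = true := by
  decide +kernel

theorem mHN25 : chkL tab av 0 0 0 0 [52, 54, 50, 37, 48, 49, 47, 51, 26, 29, 30, 32, 34, 12, 13, 17, 18, 21, 1, 4, 5, 6, 7, 8, 9, 11] [42, 37, 48, 42, 52] = true := by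
  decide +kernel

theorem x102_0 : chkX tab av 10 0 [44, 53, 54, 44, 53, 43, 53, 54, 47, 53, 51, 53, 54] [53, 41] false (208) (96) = true := by
  decide +kernel

theorem aTh2 : chkL tab av 1 1 0 0 ([39, 53] ++ [27, 53, 31, 44, 28, 53, 47, 53, 41, 44, 43, 42, 39, 26, 27, 12, 13, 14, 15, 3, 5, 6, 7, 11]) [39, 53] = true := by
  decide +kernel

theorem x72_1 : chkX tab av 8 1 [44, 53, 54, 44, 53, 43, 53, 54, 42, 53, 47, 53, 54] [48] true (208) (208) = true := by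
  decide +kernel

theorem x104_0 : chkX tab av 10 1 [44, 53, 54, 44, 53, 43, 53, 54, 47, 53, 51, 53, 54] [49] false (208) (208) = true := by
  decide +kernel

theorem lHN16 : chkL tab av 9 3 1 0 ([38] ++ [2, 54, 43, 44, 40, 39, 41, 38, 49, 27, 29, 31, 32, 35, 12, 13, 15, 16, 17, 19, 21, 22, 23, 2, 6, 8, 9]) ([45, 53, 36] ++ [36, 40, 49, 31, 53]) = true := by
  decide +kernel

theorem lHN20 : chkL tab av 9 3 1 0 ([45] ++ [49, 46, 44, 43, 42, 42, 30, 33, 35, 15, 18, 19, 20, 23, 2, 5, 6, 9, 10]) ([45, 53, 36] ++ [43, 41, 37, 36, 53, 54]) = true := by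
  decide +kernel

theorem x114_1 : chkX tab av 11 2 [44, 53, 54, 48, 53, 49, 53, 54, 51, 53, 39, 53, 54] [] true (208) (80) = true := by
  decide +kernel

theorem lHN24 : chkL tab av 9 5 0 0 ([] ++ [2, 44, 51, 51, 42, 33, 52, 44, 50, 46, 51, 36, 38, 26, 27, 29, 30, 32, 12, 15, 18, 21, 22, 0, 3, 5, 6, 8, 10, 11, 24]) ([53, 42] ++ [52, 54]) = true := by
  decide +kernel

theorem x17_1 : chkX tab av 3 0 [44, 53, 54, 44, 53, 43, 53, 54] [53, 50] true (208) (208) = true := by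
  decide +kernel

theorem lHN12 : chkL tab av 9 8 0 0 ([] ++ [2, 43, 44, 41, 25, 52, 51, 47, 46, 50, 51, 48, 48, 27, 29, 30, 31, 35, 12, 13, 14, 16, 17, 18, 19, 21, 23, 1, 2, 3, 5, 9, 10, 11, 24]) ([45] ++ [2, 31, 53, 54]) = true := by
  decide +kernel

theorem bHN0 : chkL tab av 1 1 0 0 ([39, 53, 38] ++ [39, 50, 47, 40, 37, 36, 25, 28, 30, 31, 13, 0, 4, 5, 8]) [39, 53, 38] = true := by
  decide +kernel

theorem bTh11 : chkL tab av 1 1 0 0 ([39, 53, 36, 36, 46] ++ [12, 14, 22, 0, 2, 3, 5, 8, 11]) [39, 53, 36, 36, 46] = true := by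
  decide +kernel

theorem bTh12 : chkL tab av 1 1 0 0 ([39, 53, 36, 36, 46] ++ [23]) [39, 53, 36, 36, 46] = true := by
  decide +kernel

theorem lHN6 : chkL tab av 3 3 0 0 ([45, 53, 36] ++ [2, 13, 15, 16, 17, 18, 20, 22, 1, 8]) ([45, 53, 36] ++ []) = true := by
  decide +kernel

theorem bHN9 : chkL tab av 1 1 0 0 ([39, 53, 38] ++ [12, 13, 20, 0, 2, 3, 5, 8, 9]) [39, 53, 38] = true := by
  decide +kernel

theorem bHN5 : chkL tab av 1 1 0 0 ([39, 53, 38] ++ [14, 15]) [39, 53, 38] = true := by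
  decide +kernel

theorem aTh11 : chkL tab av 1 1 0 0 ([39, 53] ++ [12, 14, 22, 0, 2, 3, 5, 8, 11]) [39, 53] = true := by
  decide +kernel

theorem aTh6 : chkL tab av 1 1 0 0 ([39, 53] ++ [15, 17, 0, 2, 4, 7]) [39, 53] = true := by
  decide +kernel

theorem e1 : chkL tab av 11 11 0 0 ([14, 16, 17, 19, 21, 22] ++ [44, 53]) ([44, 53] ++ [12, 13, 14, 16, 17, 19, 21, 22, 23, 0, 1, 2, 3, 4, 5, 6, 7, 24]) = true := by
  decide +kernel

end CfsgMO.Cs
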