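/-
Checks for the subgroups, part 7.
-/
import Cfsg.Agent.MO.AxD
import Cfsg.Agent.MO.SbK

set_option autoImplicit false
set_option Elab.async false
set_option maxRecDepth 100000

namespace CfsgMO.Cs

theorem lHN42 : chkL tab av 9 8 0 0 ([45, 53, 39] ++ [53, 48, 43, 44, 46, 40, 51, 51, 42, 25, 27, 28, 30, 32, 35, 12, 13, 17, 20, 21, 1, 4, 6, 7, 9, 10, 24]) ([53, 47] ++ [36, 51, 51, 41, 33, 53, 37, 40, 42, 44, 25, 28, 52, 54]) = true := by
  decide +kernel

theorem x55_1 : chkX tab av 6 4 [44, 53, 43, 53, 54, 53, 43, 53, 45, 53, 54] [49, 38, 27] true (208) (208) = true := by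
  decide +kernel

theorem x50_1 : chkX tab av 6 4 [44, 53, 43, 53, 54, 53, 43, 53, 45, 53, 54] [46, 51] true (208) (208) = true := by
  decide +kernel

theorem x9_0 : chkX tab av 2 0 [44, 53, 43, 53, 54] [53, 39, 53, 51] false (208) (208) = true := by
  decide +kernel

theorem x85_0 : chkX tab av 8 1 [44, 53, 54, 44, 53, 43, 53, 54, 42, 53, 47, 53, 54] [30, 53, 42] false (208) (208) = true := by
  decide +kernel

theorem x58_0 : chkX tab av 7 3 [44, 53, 43, 53, 54, 53, 42, 53, 38, 53, 54] [45] false (208) (208) = true := by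
  decide +kernel

theorem x56_1 : chkX tab av 7 0 [44, 53, 43, 53, 54, 53, 42, 53, 38, 53, 54] [46, 53, 45] true (208) (80) = true := by
  decide +kernel

theorem mHN28 : chkL tab av 12 12 0 0 [2, 41, 43, 40, 38, 52, 44, 48, 42, 41, 41, 51, 44, 25, 26, 29, 31, 33, 34, 12, 13, 21, 22, 23, 3, 4, 6, 8, 10, 11] [2, 52, 54] = true := by
  decide +kernel

theorem x65_0 : chkX tab av 8 0 [44, 53, 54, 44, 53, 43, 53, 54, 42, 53, 47, 53, 54] [46, 53, 45] false (208) (80) = true := by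
  decide +kernel

theorem mHN18 : chkL tab av 12 12 0 0 [2, 26, 53, 51, 39, 41, 39, 42, 39, 41, 28, 31, 12, 15, 16, 19, 22, 2, 5, 6, 9, 10, 11] [2, 47, 40, 40, 41, 52, 54] = true := by
  decide +kernel

theorem x76_0 : chkX tab av 8 1 [44, 53, 54, 44, 53, 43, 53, 54, 42, 53, 47, 53, 54] [44, 42] false (208) (208) = true := by
  decide +kernel

theorem mTh3 : chkL tab av 0 12 0 0 [43, 42, 43, 52, 54, 38, 41, 47, 43, 49, 39, 50, 25, 32, 33, 35, 15, 16, 18, 19, 21, 22, 23, 0, 1, 3, 7, 10, 11, 24] [2, 52] = true := by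
  decide +kernel

theorem lHN33 : chkL tab av 10 4 1 0 ([45] ++ [2, 42, 37, 48, 42, 53, 40, 43, 43, 38, 42, 49, 27, 30, 31, 33, 13, 21, 22, 23, 0, 1, 3, 4, 5, 6, 7, 9]) ([45, 53, 36] ++ [33, 53, 54]) = true := by
  decide +kernel

theorem x96_1 : chkX tab av 9 1 [44, 53, 54, 44, 53, 43, 53, 54, 43, 53, 49, 53, 54] [39] true (208) (80) = true := by
  decide +kernel

theorem x78_1 : chkX tab av 8 1 [44, 53, 54, 44, 53, 43, 53, 54, 42, 53, 47, 53, 54] [42] true (208) (80) = true := by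
  decide +kernel

theorem x106_0 : chkX tab av 10 1 [44, 53, 54, 44, 53, 43, 53, 54, 47, 53, 51, 53, 54] [47] false (208) (208) = true := by
  decide +kernel

theorem mHN31 : chkL tab av 12 0 0 0 [2, 40, 43, 38, 36, 48, 46, 51, 32, 35, 13, 14, 20, 21, 23, 2, 3, 5, 11, 24] [51, 49, 39, 43, 52, 54] = true := by
  decide +kernel

theorem bHN2 : chkL tab av 1 1 0 0 ([39, 53, 38] ++ [47, 43, 34, 53, 44, 53, 36, 51, 39, 26, 30, 31, 14, 16, 1, 4, 6, 7, 9, 11]) [39, 53, 38] = true := by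
  decide +kernel

theorem x105_1 : chkX tab av 10 1 [44, 53, 54, 44, 53, 43, 53, 54, 47, 53, 51, 53, 54] [] true (208) (80) = true := by
  decide +kernel

theorem lHN17 : chkL tab av 10 8 0 0 ([42] ++ [2, 26, 52, 54, 44, 48, 43, 50, 50, 47, 37, 26, 28, 32, 35, 12, 13, 14, 16, 17, 18, 19, 21, 0, 2, 3, 8, 10, 24]) ([42] ++ [36, 36, 49, 42, 52]) = true := by
  decide +kernel

theorem x27_1 : chkX tab av 4 0 [44, 53, 54, 48, 53, 49, 53, 54] [53, 50] true (208) (208) = true := by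
  decide +kernel

theorem e3HN : chkL tab av 11 11 0 0 ([39, 50, 48, 49, 46, 43, 42, 41, 26, 33, 34, 12, 13, 14, 18, 20, 23, 8, 9, 24] ++ [38]) ([38] ++ [46, 39, 50, 48, 49, 46, 43, 42, 41, 26, 33, 34, 12, 13, 14, 18, 20, 23, 8, 9, 24, 38]) = true := by
  decide +kernel

theorem aHN1 : chkL tab av 1 1 0 0 ([39, 53] ++ [48, 49, 50, 48, 38, 41, 51, 26, 13, 14, 3, 4, 7, 8]) [39, 53] = true := by
  decide +kernel

theorem mTh0 : chkL tab av 12 0 0 0 [2, 54, 36, 36, 46, 51, 51, 44, 25, 27, 31, 34, 12, 14, 15, 18, 20, 22, 0, 1, 2, 3, 4, 11] [54] = true := by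
  decide +kernel

theorem bTh8 : chkL tab av 1 1 0 0 ([39, 53, 36, 36, 46] ++ [14, 15, 19, 0, 9, 11]) [39, 53, 36, 36, 46] = true := by
  decide +kernel

theorem mHN0 : chkL tab av 12 0 0 0 [2, 44, 49, 43, 50, 43, 50, 39, 26, 27, 29, 30, 31, 32, 15, 16, 23, 1, 2, 3, 4, 6, 7, 9] [] = true := by
  decide +kernel

theorem lHN5 : chkL tab av 4 4 0 0 ([45, 53, 36] ++ [2, 12, 18, 20, 2, 10]) ([45, 53, 36] ++ []) = true := by
  decide +kernel

theorem lHN4 : chkL tab av 10 10 0 0 ([53, 48] ++ [2, 26, 27, 28, 29, 12, 14, 15, 17, 19, 23, 0, 2, 7, 9, 10, 24]) ([53, 48] ++ []) = true := by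
  decide +kernel

theorem aHN7 : chkL tab av 1 1 0 0 ([39, 53] ++ [12, 14, 16, 18, 2, 4, 7, 8, 11]) [39, 53] = true := by
  decide +kernel

theorem aTh4 : chkL tab av 1 1 0 0 ([39, 53] ++ [24]) [39, 53] = true := by
  decide +kernel

theorem mHN1 : chkL tab av 0 12 0 0 [54, 13, 15, 17, 19, 21, 23, 2, 3, 4, 11, 24] [2, 54] = true := by
  decide +kernel

end CfsgMO.Cs
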