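/-
Subgroups of the Monster: the numbers of pairs of types 3C and 5A.
-/
import Cfsg.Agent.MO.Sb7
import Cfsg.Agent.MO.SbC0
import Cfsg.Agent.MO.SbC1
import Cfsg.Agent.MO.SbC2
import Cfsg.Agent.MO.SbC3
import Cfsg.Agent.MO.SbC4
import Cfsg.Agent.MO.SbC5
import Cfsg.Agent.MO.SbC6
import Cfsg.Agent.MO.SbC7
import Cfsg.Agent.MO.BS0
import Cfsg.Agent.MO.BS1
import Cfsg.Agent.MO.BS2
import Cfsg.Agent.MO.BS3
import Cfsg.Agent.MO.BS4
import Cfsg.Agent.MO.BS5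
import Cfsg.Agent.MO.BS6
import Cfsg.Agent.MO.BS7
import Cfsg.Agent.MO.BS8
import Cfsg.Agent.MO.BS9
import Cfsg.Agent.MO.BS10
import Cfsg.Agent.MO.BS11

set_option autoImplicit false
set_option maxRecDepth 100000

namespace CfsgMO.Sb

open Dat

noncomputable section

instance : Fact (Nat.Prime 5) := ⟨by norm_num⟩

theorem conj_chain {G : Type} [Group G] {a t b d q q' e : G} (h1 : b * d * b⁻¹ = q)
    (h3 : t * q * t⁻¹ = q') (h2 : a * q' * a⁻¹ = e) : a * (t * b) * d * (a * (t * b))⁻¹ = e := by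
  rw [← h2, ← h3, ← h1]
  group

theorem ttA : DD.tt (axW [39, 53]) = (wd gel d1w).1 := by
  have h1 := weq Cs.e1
  have h2 := weq Cs.e2
  have h3 : gel 54 * wd gel [12, 13, 14, 16, 17, 19, 21, 22, 23, 0, 1, 2, 3, 4, 5, 6, 7, 24] * (gel 54)⁻¹ = wd gel [12, 13, 14, 16, 17, 19, 21, 22, 24, 25, 0, 24, 26, 23, 1, 27, 2, 28, 3, 24, 29, 4, 30, 5, 31, 6, 24, 32, 7, 23] :=
    tconj (by decide)
  rw [wd_append, wd_append, ← mul_inv_eq_iff_eq_mul] at h1 h2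
  have h4 : wd gel ([44, 53, 54] ++ [39, 53]) = wd gel [39, 53] * (gel 54 * wd gel [44, 53]) := by
    rw [wd_append, show [44, 53, 54] = [44, 53] ++ [54] from rfl, wd_append, wd_cons 54,
      show wd gel [] = 1 from rfl, one_mul]
  rw [axW, ctx2.tt_b (Ck.cw1 ctx2) (by decide), h4]
  exact congrArg Units.val (conj_chain h1 h3 h2)

theorem ttTh : DD.tt (axW ([39, 53] ++ muTh)) = (wd gel d2Th).1 := tt_axW ttA (weq Cs.e3Th)

theorem ordTh : orderOf (wd gel d1w * wd gel d2Th) = 3 := by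
  have h := weq Cs.e4Th
  simp only [wd_append] at h
  rw [← wd_append]
  refine ord_of (c := 1) (c' := 4046901) ?_ (by decide +kernel) (by norm_num)
  simp only [pow_succ, pow_zero, one_mul, mul_assoc]
  exact h

/-- the pairs of type 3C -/
abbrev PTh := Pos DD BB av gel pp0 (axW [39, 53]) (axW ([39, 53] ++ muTh))

theorem pTh0 : PTh 1 [39, 53, 38, 44, 44, 52, 47, 54, 52, 36] false := pos_root (w := [39, 53]) (mu := muTh) (r := [38, 44, 44, 52, 47, 54, 52, 36]) Cs.rTh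

theorem pTh2 : PTh 4 [45, 53, 39] true :=
  (ctx2.link (e := true) (e' := false) Cs.lTh5 Cs.mTh5 (by decide)).2 pTh0

theorem pTh1 : PTh 4 [45, 53, 39] false :=
  (ctx2.link (e := true) (e' := false) Cs.lTh1 Cs.mTh1 (by decide)).1 pTh2

theorem pTh4 : PTh 10 [53, 39] false :=
  (ctx2.link (e := false) (e' := false) Cs.lTh2 Cs.mTh2 (by decide)).2 pTh1

theorem pTh3 : PTh 8 [32, 53, 42] true :=
  (ctx2.link (e := false) (e' := true) Cs.lTh3 Cs.mTh3 (by decide)).1 pTh4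

theorem pTh6 : PTh 11 [46, 39] true :=
  (ctx2.link (e := true) (e' := false) Cs.lTh4 Cs.mTh4 (by decide)).2 pTh4

theorem pTh5 : PTh 11 [46, 41] false :=
  (ctx2.link (e := true) (e' := false) Cs.lTh0 Cs.mTh0 (by decide)).1 pTh6

theorem ttHN : DD.tt (axW ([39, 53] ++ muHN)) = (wd gel d2HN).1 := tt_axW ttA (weq Cs.e3HN)

theorem ordHN : orderOf (wd gel d1w * wd gel d2HN) = 5 := by
  have h := weq Cs.e4HN
  simp only [wd_append] at h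
  rw [← wd_append]
  refine ord_of (c := 1) (c' := 3339583) ?_ (by decide +kernel) (by norm_num)
  simp only [pow_succ, pow_zero, one_mul, mul_assoc]
  exact h

/-- the pairs of type 5A -/
abbrev PHN := Pos DD BB av gel pp0 (axW [39, 53]) (axW ([39, 53] ++ muHN))

theorem pHN0 : PHN 1 [39, 53, 46, 52, 47, 54, 52, 36] false := pos_root (w := [39, 53]) (mu := muHN) (r := [46, 52, 47, 54, 52, 36]) Cs.rHN

theorem pHN21 : PHN 8 [] false :=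
  (ctx2.link (e := false) (e' := false) Cs.lHN40 Cs.mHN40 (by decide)).2 pHN0

theorem pHN17 : PHN 8 [45] true :=
  (ctx2.link (e := false) (e' := true) Cs.lHN14 Cs.mHN14 (by decide)).1 pHN21

theorem pHN30 : PHN 9 [46, 45] true :=
  (ctx2.link (e := true) (e' := true) Cs.lHN23 Cs.mHN23 (by decide)).2 pHN17

theorem pHN31 : PHN 9 [] true :=
  (ctx2.link (e := true) (e' := true) Cs.lHN12 Cs.mHN12 (by decide)).2 pHN17

theorem pHN1 : PHN 3 [45, 53, 36] false :=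
  (ctx2.link (e := true) (e' := false) Cs.lHN13 Cs.mHN13 (by decide)).1 pHN31

theorem pHN35 : PHN 10 [38] true :=
  (ctx2.link (e := true) (e' := true) Cs.lHN15 Cs.mHN15 (by decide)).2 pHN31

theorem pHN27 : PHN 9 [38] true :=
  (ctx2.link (e := true) (e' := false) Cs.lHN16 Cs.mHN16 (by decide)).2 pHN1

theorem pHN18 : PHN 8 [40] true :=
  (ctx2.link (e := true) (e' := true) Cs.lHN18 Cs.mHN18 (by decide)).1 pHN27

theorem pHN39 : PHN 10 [45, 27] false :=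
  (ctx2.link (e := false) (e' := true) Cs.lHN19 Cs.mHN19 (by decide)).2 pHN35

theorem pHN26 : PHN 9 [45] false :=
  (ctx2.link (e := false) (e' := false) Cs.lHN20 Cs.mHN20 (by decide)).2 pHN1

theorem pHN22 : PHN 8 [42] false :=
  (ctx2.link (e := true) (e' := false) Cs.lHN21 Cs.mHN21 (by decide)).1 pHN31

theorem pHN9 : PHN 5 [53, 42] false :=
  (ctx2.link (e := true) (e' := false) Cs.lHN24 Cs.mHN24 (by decide)).1 pHN31

theorem pHN13 : PHN 6 [45, 53, 36] false :=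
  (ctx2.link (e := true) (e' := false) Cs.lHN26 Cs.mHN26 (by decide)).1 pHN31

theorem pHN25 : PHN 8 [53, 43] true :=
  (ctx2.link (e := true) (e' := true) Cs.lHN28 Cs.mHN28 (by decide)).2 pHN18

theorem pHN32 : PHN 9 [40, 44, 27] true :=
  (ctx2.link (e := true) (e' := false) Cs.lHN29 Cs.mHN29 (by decide)).2 pHN1

theorem pHN8 : PHN 5 [53, 47] true :=
  (ctx2.link (e := true) (e' := false) Cs.lHN31 Cs.mHN31 (by decide)).2 pHN1

theorem pHN12 : PHN 6 [48, 53, 48] true :=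
  (ctx2.link (e := false) (e' := true) Cs.lHN36 Cs.mHN36 (by decide)).1 pHN22

theorem pHN5 : PHN 5 [46, 53, 45] true :=
  (ctx2.link (e := true) (e' := true) Cs.lHN37 Cs.mHN37 (by decide)).1 pHN31

theorem pHN19 : PHN 8 [50, 53, 42] false :=
  (ctx2.link (e := false) (e' := false) Cs.lHN38 Cs.mHN38 (by decide)).2 pHN9

theorem pHN33 : PHN 10 [48, 53, 48] true :=
  (ctx2.link (e := true) (e' := true) Cs.lHN39 Cs.mHN39 (by decide)).2 pHN5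

theorem pHN16 : PHN 8 [46, 53, 45] true :=
  (ctx2.link (e := true) (e' := true) Cs.lHN41 Cs.mHN41 (by decide)).1 pHN18

theorem pHN34 : PHN 10 [45] true :=
  (ctx2.link (e := false) (e' := true) Cs.lHN1 Cs.mHN1 (by decide)).1 pHN39

theorem pHN24 : PHN 8 [53, 43] false :=
  (ctx2.link (e := true) (e' := false) Cs.lHN2 Cs.mHN2 (by decide)).1 pHN25

theorem pHN10 : PHN 5 [53, 42] true :=
  (ctx2.link (e := true) (e' := false) Cs.lHN3 Cs.mHN3 (by decide)).2 pHN9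

theorem pHN2 : PHN 3 [45, 53, 36] true :=
  (ctx2.link (e := true) (e' := false) Cs.lHN6 Cs.mHN6 (by decide)).2 pHN1

theorem pHN11 : PHN 6 [48, 53, 48] false :=
  (ctx2.link (e := true) (e' := false) Cs.lHN7 Cs.mHN7 (by decide)).1 pHN12

theorem pHN20 : PHN 8 [50, 53, 42] true :=
  (ctx2.link (e := true) (e' := false) Cs.lHN8 Cs.mHN8 (by decide)).2 pHN19

theorem pHN14 : PHN 7 [48, 53, 48] false :=
  (ctx2.link (e := false) (e' := false) Cs.lHN11 Cs.mHN11 (by decide)).2 pHN11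

theorem pHN38 : PHN 10 [42] true :=
  (ctx2.link (e := true) (e' := false) Cs.lHN17 Cs.mHN17 (by decide)).2 pHN22

theorem pHN42 : PHN 11 [45] true :=
  (ctx2.link (e := true) (e' := true) Cs.lHN22 Cs.mHN22 (by decide)).2 pHN25

theorem pHN3 : PHN 4 [45, 53, 36] false :=
  (ctx2.link (e := true) (e' := false) Cs.lHN33 Cs.mHN33 (by decide)).1 pHN34

theorem pHN7 : PHN 5 [53, 39, 53, 49] false :=
  (ctx2.link (e := true) (e' := false) Cs.lHN34 Cs.mHN34 (by decide)).1 pHN12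

theorem pHN6 : PHN 5 [53, 49, 53, 49] true :=
  (ctx2.link (e := false) (e' := true) Cs.lHN35 Cs.mHN35 (by decide)).1 pHN11

theorem pHN41 : PHN 11 [45] false :=
  (ctx2.link (e := true) (e' := false) Cs.lHN0 Cs.mHN0 (by decide)).1 pHN42

theorem pHN4 : PHN 4 [45, 53, 36] true :=
  (ctx2.link (e := true) (e' := false) Cs.lHN5 Cs.mHN5 (by decide)).2 pHN3

theorem pHN15 : PHN 7 [48, 53, 48] true :=
  (ctx2.link (e := true) (e' := false) Cs.lHN10 Cs.mHN10 (by decide)).2 pHN14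

theorem pHN40 : PHN 10 [53, 39] true :=
  (ctx2.link (e := true) (e' := true) Cs.lHN27 Cs.mHN27 (by decide)).2 pHN4

theorem pHN43 : PHN 11 [38] false :=
  (ctx2.link (e := false) (e' := false) Cs.lHN30 Cs.mHN30 (by decide)).2 pHN41

theorem pHN36 : PHN 10 [53, 48] false :=
  (ctx2.link (e := true) (e' := false) Cs.lHN32 Cs.mHN32 (by decide)).1 pHN40

theorem pHN37 : PHN 10 [53, 48] true :=
  (ctx2.link (e := true) (e' := false) Cs.lHN4 Cs.mHN4 (by decide)).2 pHN36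

theorem pHN23 : PHN 8 [53, 47] false :=
  (ctx2.link (e := false) (e' := false) Cs.lHN25 Cs.mHN25 (by decide)).1 pHN43

theorem pHN28 : PHN 9 [45, 53, 39] false :=
  (ctx2.link (e := false) (e' := false) Cs.lHN42 Cs.mHN42 (by decide)).2 pHN23

theorem pHN29 : PHN 9 [45, 53, 39] true :=
  (ctx2.link (e := true) (e' := false) Cs.lHN9 Cs.mHN9 (by decide)).2 pHN28

theorem stdP : StdP (gel 54) (axW [39, 53]) (axW ([39, 53] ++ muTh)) (axW [39, 53])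
    (axW ([39, 53] ++ muHN)) where
  au := t_Au
  i3 := (Eqv.ip t_Au pTh1).symm.trans (ctx.chkS_sound Ck.s28).1
  i5 := (Eqv.ip t_Au pHN1).symm.trans (ctx.chkS_sound Ck.s16).1
  o3 := (odN_iff ttA ttTh).2 (ordTh ▸ pow_orderOf_eq_one _)
  n4 := fun h => absurd (ordTh ▸ orderOf_dvd_of_pow_eq_one ((odN_iff ttA ttTh).1 h)) (by norm_num)
  o5 := (odN_iff ttA ttHN).2 (ordHN ▸ pow_orderOf_eq_one _)

/-- the labels -/
abbrev LL (k : Fin 12) := Lab3 (gel 54) (axW [39, 53]) (axW ([39, 53] ++ muTh)) (axW [39, 53])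
  (axW ([39, 53] ++ muHN)) (aa DD BB av k)

theorem l0 : LL 0 (cd 1171) 1 :=
  ctx.lab3 0 (by decide +kernel) (stdP.ty4 (ctx.chkS_sound Ck.s0).1 (ctx2.on4 Ck.cw0 (by decide) Ck.o0_0) (by decide))
    (stdP.ty4 (ctx.chkS_sound Ck.s0).2 (ctx2.on4 Ck.cw0 (by decide) Ck.o0_1) (by decide)) (by decide)

theorem l1 : LL 0 (cd 307200) 1 :=
  ctx.lab3 0 (by decide +kernel) (stdP.ty2 (ctx.chkS_sound Ck.s1).1 (ctx2.on2 Ck.cw0 (by decide) Ck.o1_0) (by decide))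
    (stdP.ty2 (ctx.chkS_sound Ck.s1).2 (ctx2.on2 Ck.cw0 (by decide) Ck.o1_1) (by decide)) (by decide)

theorem l2 : LL 0 (cd 7028736) 1 :=
  ctx.lab3 0 (by decide +kernel) (stdP.ty2 (ctx.chkS_sound Ck.s2).1 (ctx2.on2 Ck.cw0 (by decide) Ck.o2_0) (by decide))
    (stdP.ty2 (ctx.chkS_sound Ck.s2).2 (ctx2.on2 Ck.cw0 (by decide) Ck.o2_1) (by decide)) (by decide)

theorem l3 : LL 0 (cd 15417344) 1 :=
  ctx.lab3 0 (by decide +kernel) (stdP.ty2 (ctx.chkS_sound Ck.s3).1 (ctx2.on2 Ck.cw0 (by decide) Ck.o3_0) (by decide))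
    (stdP.ty2 (ctx.chkS_sound Ck.s3).2 (ctx2.on2 Ck.cw0 (by decide) Ck.o3_1) (by decide)) (by decide)

theorem run0 : nE (gel 54) (axW [39, 53]) (axW ([39, 53] ++ muTh)) (aa DD BB av 0) = 0 ∧
    nE (gel 54) (axW [39, 53]) (axW ([39, 53] ++ muHN)) (aa DD BB av 0) = 0 ∧
    ∀ p η, Six DD (aa DD BB av 0) (DD.ax p η) :=
  lab3_run hypL.card (Bs0.inv (cls_lab3 (Ck.hg0 ctx))
    (List.forall_mem_cons.2 ⟨⟨by decide, by decide, l0⟩,
    List.forall_mem_cons.2 ⟨⟨by decide, by decide, l1⟩,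
    List.forall_mem_cons.2 ⟨⟨by decide, by decide, l2⟩,
    List.forall_mem_cons.2 ⟨⟨by decide, by decide, l3⟩,
    List.forall_mem_nil _⟩⟩⟩⟩))
    Bs0.cnt_eq (by decide +kernel)

theorem l4 : LL 1 (cd 1171) 1 :=
  ctx.lab3 1 (by decide +kernel) (stdP.ty4 (ctx.chkS_sound Ck.s4).1 (ctx2.on4 (Ck.cw1 ctx2) (by decide) Ck.o4_0) (by decide))
    (stdP.ty4 (ctx.chkS_sound Ck.s4).2 (ctx2.on4 (Ck.cw1 ctx2) (by decide) Ck.o4_1) (by decide)) (by decide)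

theorem l5 : LL 1 (cd 8192) 1 :=
  ctx.lab3 1 (by decide +kernel) (stdP.ty4 (ctx.chkS_sound Ck.s5).1 (ctx2.on4 (Ck.cw1 ctx2) (by decide) Ck.o5_0) (by decide))
    (stdP.ty4 (ctx.chkS_sound Ck.s5).2 (ctx2.on4 (Ck.cw1 ctx2) (by decide) Ck.o5_1) (by decide)) (by decide)

theorem l6 : LL 1 (cd 81920) 1 :=
  ctx.lab3 1 (by decide +kernel) (stdP.ty2 (ctx.chkS_sound Ck.s6).1 (ctx2.on2 (Ck.cw1 ctx2) (by decide) Ck.o6_0) (by decide))
    (stdP.ty2 (ctx.chkS_sound Ck.s6).2 (ctx2.on2 (Ck.cw1 ctx2) (by decide) Ck.o6_1) (by decide)) (by decide)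

theorem l7 : LL 1 (cd 7028736) 1 :=
  ctx.lab3 1 (by decide +kernel) (stdP.ty2 (ctx.chkS_sound Ck.s7).1 (ctx2.on2 (Ck.cw1 ctx2) (by decide) Ck.o7_0) (by decide))
    (stdP.ty2 (ctx.chkS_sound Ck.s7).2 (ctx2.on2 (Ck.cw1 ctx2) (by decide) Ck.o7_1) (by decide)) (by decide)

theorem run1 : nE (gel 54) (axW [39, 53]) (axW ([39, 53] ++ muTh)) (aa DD BB av 1) = 0 ∧
    nE (gel 54) (axW [39, 53]) (axW ([39, 53] ++ muHN)) (aa DD BB av 1) = 0 ∧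
    ∀ p η, Six DD (aa DD BB av 1) (DD.ax p η) :=
  lab3_run hypL.card (Bs1.inv (cls_lab3 (Ck.hg1 ctx))
    (List.forall_mem_cons.2 ⟨⟨by decide, by decide, l4⟩,
    List.forall_mem_cons.2 ⟨⟨by decide, by decide, l5⟩,
    List.forall_mem_cons.2 ⟨⟨by decide, by decide, l6⟩,
    List.forall_mem_cons.2 ⟨⟨by decide, by decide, l7⟩,
    List.forall_mem_nil _⟩⟩⟩⟩))
    Bs1.cnt_eq (by decide +kernel)

theorem l8 : LL 2 (cd 8192) 1 :=
  ctx.lab3 2 (by decide +kernel) (stdP.ty4 (ctx.chkS_sound Ck.s8).1 (ctx2.on4 (Ck.cw2 ctx2) (by decide) Ck.o8_0) (by decide))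
    (stdP.ty2 (ctx.chkS_sound Ck.s8).2 (ctx2.on2 (Ck.cw2 ctx2) (by decide) Ck.o8_1) (by decide)) (by decide)

theorem l9 : LL 2 (cd 150618) 1 :=
  ctx.lab3 2 (by decide +kernel) (stdP.ty6 (ctx.chkS_sound Ck.s9).1 (ctx2.sixX (Ck.cw2 ctx2) (by decide) Cs.x9_0 (by decide)) (by decide))
    (stdP.ty6 (ctx.chkS_sound Ck.s9).2 (ctx2.sixX (Ck.cw2 ctx2) (by decide) Cs.x9_1 (by decide)) (by decide)) (by decide)

theorem l10 : LL 2 (cd 172285) 1 :=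
  ctx.lab3 2 (by decide +kernel) (stdP.ty4 (ctx.chkS_sound Ck.s10).1 (ctx2.on4 (Ck.cw2 ctx2) (by decide) Ck.o10_0) (by decide))
    (stdP.ty4 (ctx.chkS_sound Ck.s10).2 (ctx2.on4 (Ck.cw2 ctx2) (by decide) Ck.o10_1) (by decide)) (by decide)

theorem l11 : LL 2 (cd 298020) 1 :=
  ctx.lab3 2 (by decide +kernel) (stdP.ty6 (ctx.chkS_sound Ck.s11).1 (ctx2.sixX (Ck.cw2 ctx2) (by decide) Cs.x11_0 (by decide)) (by decide))
    (stdP.ty6 (ctx.chkS_sound Ck.s11).2 (ctx2.sixX (Ck.cw2 ctx2) (by decide) Cs.x11_1 (by decide)) (by decide)) (by decide)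

theorem l12 : LL 2 (cd 655391) 1 :=
  ctx.lab3 2 (by decide +kernel) (stdP.ty4 (ctx.chkS_sound Ck.s12).1 (ctx2.on4 (Ck.cw2 ctx2) (by decide) Ck.o12_0) (by decide))
    (stdP.ty4 (ctx.chkS_sound Ck.s12).2 (ctx2.on4 (Ck.cw2 ctx2) (by decide) Ck.o12_1) (by decide)) (by decide)

theorem l13 : LL 2 (cd 7028736) 1 :=
  ctx.lab3 2 (by decide +kernel) (stdP.ty4 (ctx.chkS_sound Ck.s13).1 (ctx2.on4 (Ck.cw2 ctx2) (by decide) Ck.o13_0) (by decide))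
    (stdP.ty2 (ctx.chkS_sound Ck.s13).2 (ctx2.on2 (Ck.cw2 ctx2) (by decide) Ck.o13_1) (by decide)) (by decide)

theorem run2 : nE (gel 54) (axW [39, 53]) (axW ([39, 53] ++ muTh)) (aa DD BB av 2) = 0 ∧
    nE (gel 54) (axW [39, 53]) (axW ([39, 53] ++ muHN)) (aa DD BB av 2) = 0 ∧
    ∀ p η, Six DD (aa DD BB av 2) (DD.ax p η) :=
  lab3_run hypL.card (Bs2.inv (cls_lab3 (Ck.hg2 ctx))
    (List.forall_mem_cons.2 ⟨⟨by decide, by decide, l8⟩,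
    List.forall_mem_cons.2 ⟨⟨by decide, by decide, l9⟩,
    List.forall_mem_cons.2 ⟨⟨by decide, by decide, l10⟩,
    List.forall_mem_cons.2 ⟨⟨by decide, by decide, l11⟩,
    List.forall_mem_cons.2 ⟨⟨by decide, by decide, l12⟩,
    List.forall_mem_cons.2 ⟨⟨by decide, by decide, l13⟩,
    List.forall_mem_nil _⟩⟩⟩⟩⟩⟩))
    Bs2.cnt_eq (by decide +kernel)

theorem l14 : LL 3 (cd 1955) 1 :=
  ctx.lab3 3 (by decide +kernel) (stdP.ty6 (ctx.chkS_sound Ck.s14).1 (ctx2.sixX (Ck.cw3 ctx2) (by decide) Cs.x14_0 (by decide)) (by decide))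
    (stdP.ty6 (ctx.chkS_sound Ck.s14).2 (ctx2.sixX (Ck.cw3 ctx2) (by decide) Cs.x14_1 (by decide)) (by decide)) (by decide)

theorem l15 : LL 3 (cd 8192) 1 :=
  ctx.lab3 3 (by decide +kernel) (stdP.ty4 (ctx.chkS_sound Ck.s15).1 (ctx2.on4 (Ck.cw3 ctx2) (by decide) Ck.o15_0) (by decide))
    (stdP.ty4 (ctx.chkS_sound Ck.s15).2 (ctx2.on4 (Ck.cw3 ctx2) (by decide) Ck.o15_1) (by decide)) (by decide)

theorem l16 : LL 3 (cd 9192) 7 :=
  ctx.lab3 3 (by decide +kernel) (stdP.ty5 (ctx.chkS_sound Ck.s16).1 pHN1 (by decide))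
    (stdP.ty5 (ctx.chkS_sound Ck.s16).2 pHN2 (by decide)) (by decide)

theorem l17 : LL 3 (cd 172285) 1 :=
  ctx.lab3 3 (by decide +kernel) (stdP.ty6 (ctx.chkS_sound Ck.s17).1 (ctx2.sixX (Ck.cw3 ctx2) (by decide) Cs.x17_0 (by decide)) (by decide))
    (stdP.ty6 (ctx.chkS_sound Ck.s17).2 (ctx2.sixX (Ck.cw3 ctx2) (by decide) Cs.x17_1 (by decide)) (by decide)) (by decide)

theorem l18 : LL 3 (cd 876544) 1 :=
  ctx.lab3 3 (by decide +kernel) (stdP.ty4 (ctx.chkS_sound Ck.s18).1 (ctx2.on4 (Ck.cw3 ctx2) (by decide) Ck.o18_0) (by decide))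
    (stdP.ty4 (ctx.chkS_sound Ck.s18).2 (ctx2.on4 (Ck.cw3 ctx2) (by decide) Ck.o18_1) (by decide)) (by decide)

theorem l19 : LL 3 (cd 880640) 1 :=
  ctx.lab3 3 (by decide +kernel) (stdP.ty4 (ctx.chkS_sound Ck.s19).1 (ctx2.on4 (Ck.cw3 ctx2) (by decide) Ck.o19_0) (by decide))
    (stdP.ty2 (ctx.chkS_sound Ck.s19).2 (ctx2.on2 (Ck.cw3 ctx2) (by decide) Ck.o19_1) (by decide)) (by decide)

theorem l20 : LL 3 (cd 2109440) 1 :=
  ctx.lab3 3 (by decide +kernel) (stdP.ty4 (ctx.chkS_sound Ck.s20).1 (ctx2.on4 (Ck.cw3 ctx2) (by decide) Ck.o20_0) (by decide))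
    (stdP.ty4 (ctx.chkS_sound Ck.s20).2 (ctx2.on4 (Ck.cw3 ctx2) (by decide) Ck.o20_1) (by decide)) (by decide)

theorem l21 : LL 3 (cd 4719774) 1 :=
  ctx.lab3 3 (by decide +kernel) (stdP.ty6 (ctx.chkS_sound Ck.s21).1 (ctx2.sixX (Ck.cw3 ctx2) (by decide) Cs.x21_0 (by decide)) (by decide))
    (stdP.ty6 (ctx.chkS_sound Ck.s21).2 (ctx2.sixX (Ck.cw3 ctx2) (by decide) Cs.x21_1 (by decide)) (by decide)) (by decide)

theorem l22 : LL 3 (cd 7028736) 1 :=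
  ctx.lab3 3 (by decide +kernel) (stdP.ty4 (ctx.chkS_sound Ck.s22).1 (ctx2.on4 (Ck.cw3 ctx2) (by decide) Ck.o22_0) (by decide))
    (stdP.ty4 (ctx.chkS_sound Ck.s22).2 (ctx2.on4 (Ck.cw3 ctx2) (by decide) Ck.o22_1) (by decide)) (by decide)

theorem l23 : LL 3 (cd 9105408) 1 :=
  ctx.lab3 3 (by decide +kernel) (stdP.ty4 (ctx.chkS_sound Ck.s23).1 (ctx2.on4 (Ck.cw3 ctx2) (by decide) Ck.o23_0) (by decide))
    (stdP.ty2 (ctx.chkS_sound Ck.s23).2 (ctx2.on2 (Ck.cw3 ctx2) (by decide) Ck.o23_1) (by decide)) (by decide)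

theorem run3 : nE (gel 54) (axW [39, 53]) (axW ([39, 53] ++ muTh)) (aa DD BB av 3) = 0 ∧
    nE (gel 54) (axW [39, 53]) (axW ([39, 53] ++ muHN)) (aa DD BB av 3) = 57344 ∧
    ∀ p η, Six DD (aa DD BB av 3) (DD.ax p η) :=
  lab3_run hypL.card (Bs3.inv (cls_lab3 (Ck.hg3 ctx))
    (List.forall_mem_cons.2 ⟨⟨by decide, by decide, l14⟩,
    List.forall_mem_cons.2 ⟨⟨by decide, by decide, l15⟩,
    List.forall_mem_cons.2 ⟨⟨by decide, by decide, l16⟩,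
    List.forall_mem_cons.2 ⟨⟨by decide, by decide, l17⟩,
    List.forall_mem_cons.2 ⟨⟨by decide, by decide, l18⟩,
    List.forall_mem_cons.2 ⟨⟨by decide, by decide, l19⟩,
    List.forall_mem_cons.2 ⟨⟨by decide, by decide, l20⟩,
    List.forall_mem_cons.2 ⟨⟨by decide, by decide, l21⟩,
    List.forall_mem_cons.2 ⟨⟨by decide, by decide, l22⟩,
    List.forall_mem_cons.2 ⟨⟨by decide, by decide, l23⟩,
    List.forall_mem_nil _⟩⟩⟩⟩⟩⟩⟩⟩⟩⟩))
    Bs3.cnt_eq (by decide +kernel)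

theorem l24 : LL 4 (cd 8192) 1 :=
  ctx.lab3 4 (by decide +kernel) (stdP.ty4 (ctx.chkS_sound Ck.s24).1 (ctx2.on4 (Ck.cw4 ctx2) (by decide) Ck.o24_0) (by decide))
    (stdP.ty4 (ctx.chkS_sound Ck.s24).2 (ctx2.on4 (Ck.cw4 ctx2) (by decide) Ck.o24_1) (by decide)) (by decide)

theorem l25 : LL 4 (cd 9192) 7 :=
  ctx.lab3 4 (by decide +kernel) (stdP.ty5 (ctx.chkS_sound Ck.s25).1 pHN3 (by decide))
    (stdP.ty5 (ctx.chkS_sound Ck.s25).2 pHN4 (by decide)) (by decide)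

theorem l26 : LL 4 (cd 49152) 1 :=
  ctx.lab3 4 (by decide +kernel) (stdP.ty4 (ctx.chkS_sound Ck.s26).1 (ctx2.on4 (Ck.cw4 ctx2) (by decide) Ck.o26_0) (by decide))
    (stdP.ty2 (ctx.chkS_sound Ck.s26).2 (ctx2.on2 (Ck.cw4 ctx2) (by decide) Ck.o26_1) (by decide)) (by decide)

theorem l27 : LL 4 (cd 172285) 1 :=
  ctx.lab3 4 (by decide +kernel) (stdP.ty6 (ctx.chkS_sound Ck.s27).1 (ctx2.sixX (Ck.cw4 ctx2) (by decide) Cs.x27_0 (by decide)) (by decide))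
    (stdP.ty6 (ctx.chkS_sound Ck.s27).2 (ctx2.sixX (Ck.cw4 ctx2) (by decide) Cs.x27_1 (by decide)) (by decide)) (by decide)

theorem l28 : LL 4 (cd 1249976) 3 :=
  ctx.lab3 4 (by decide +kernel) (stdP.ty3 (ctx.chkS_sound Ck.s28).1 pTh1 (by decide))
    (stdP.ty3 (ctx.chkS_sound Ck.s28).2 pTh2 (by decide)) (by decide)

theorem l29 : LL 4 (cd 2588672) 1 :=
  ctx.lab3 4 (by decide +kernel) (stdP.ty4 (ctx.chkS_sound Ck.s29).1 (ctx2.on4 (Ck.cw4 ctx2) (by decide) Ck.o29_0) (by decide))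
    (stdP.ty4 (ctx.chkS_sound Ck.s29).2 (ctx2.on4 (Ck.cw4 ctx2) (by decide) Ck.o29_1) (by decide)) (by decide)

theorem l30 : LL 4 (cd 7028736) 1 :=
  ctx.lab3 4 (by decide +kernel) (stdP.ty4 (ctx.chkS_sound Ck.s30).1 (ctx2.on4 (Ck.cw4 ctx2) (by decide) Ck.o30_0) (by decide))
    (stdP.ty4 (ctx.chkS_sound Ck.s30).2 (ctx2.on4 (Ck.cw4 ctx2) (by decide) Ck.o30_1) (by decide)) (by decide)

theorem run4 : nE (gel 54) (axW [39, 53]) (axW ([39, 53] ++ muTh)) (aa DD BB av 4) = 2048 ∧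
    nE (gel 54) (axW [39, 53]) (axW ([39, 53] ++ muHN)) (aa DD BB av 4) = 61440 ∧
    ∀ p η, Six DD (aa DD BB av 4) (DD.ax p η) :=
  lab3_run hypL.card (Bs4.inv (cls_lab3 (Ck.hg4 ctx))
    (List.forall_mem_cons.2 ⟨⟨by decide, by decide, l24⟩,
    List.forall_mem_cons.2 ⟨⟨by decide, by decide, l25⟩,
    List.forall_mem_cons.2 ⟨⟨by decide, by decide, l26⟩,
    List.forall_mem_cons.2 ⟨⟨by decide, by decide, l27⟩,
    List.forall_mem_cons.2 ⟨⟨by decide, by decide, l28⟩,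
    List.forall_mem_cons.2 ⟨⟨by decide, by decide, l29⟩,
    List.forall_mem_cons.2 ⟨⟨by decide, by decide, l30⟩,
    List.forall_mem_nil _⟩⟩⟩⟩⟩⟩⟩))
    Bs4.cnt_eq (by decide +kernel)

theorem l31 : LL 5 (cd 1171) 4 :=
  ctx.lab3 5 (by decide +kernel) (stdP.ty6 (ctx.chkS_sound Ck.s31).1 (ctx2.sixX (Ck.cw5 ctx2) (by decide) Cs.x31_0 (by decide)) (by decide))
    (stdP.ty5 (ctx.chkS_sound Ck.s31).2 pHN5 (by decide)) (by decide)

theorem l32 : LL 5 (cd 8192) 1 :=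
  ctx.lab3 5 (by decide +kernel) (stdP.ty6 (ctx.chkS_sound Ck.s32).1 (ctx2.sixX (Ck.cw5 ctx2) (by decide) Cs.x32_0 (by decide)) (by decide))
    (stdP.ty6 (ctx.chkS_sound Ck.s32).2 (ctx2.sixX (Ck.cw5 ctx2) (by decide) Cs.x32_1 (by decide)) (by decide)) (by decide)

theorem l33 : LL 5 (cd 49379) 1 :=
  ctx.lab3 5 (by decide +kernel) (stdP.ty6 (ctx.chkS_sound Ck.s33).1 (ctx2.sixX (Ck.cw5 ctx2) (by decide) Cs.x33_0 (by decide)) (by decide))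
    (stdP.ty4 (ctx.chkS_sound Ck.s33).2 (ctx2.on4 (Ck.cw5 ctx2) (by decide) Ck.o33_1) (by decide)) (by decide)

theorem l34 : LL 5 (cd 81920) 1 :=
  ctx.lab3 5 (by decide +kernel) (stdP.ty4 (ctx.chkS_sound Ck.s34).1 (ctx2.on4 (Ck.cw5 ctx2) (by decide) Ck.o34_0) (by decide))
    (stdP.ty4 (ctx.chkS_sound Ck.s34).2 (ctx2.on4 (Ck.cw5 ctx2) (by decide) Ck.o34_1) (by decide)) (by decide)

theorem l35 : LL 5 (cd 150618) 1 :=
  ctx.lab3 5 (by decide +kernel) (stdP.ty6 (ctx.chkS_sound Ck.s35).1 (ctx2.sixX (Ck.cw5 ctx2) (by decide) Cs.x35_0 (by decide)) (by decide))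
    (stdP.ty6 (ctx.chkS_sound Ck.s35).2 (ctx2.sixX (Ck.cw5 ctx2) (by decide) Cs.x35_1 (by decide)) (by decide)) (by decide)

theorem l36 : LL 5 (cd 172285) 1 :=
  ctx.lab3 5 (by decide +kernel) (stdP.ty6 (ctx.chkS_sound Ck.s36).1 (ctx2.sixX (Ck.cw5 ctx2) (by decide) Cs.x36_0 (by decide)) (by decide))
    (stdP.ty6 (ctx.chkS_sound Ck.s36).2 (ctx2.sixX (Ck.cw5 ctx2) (by decide) Cs.x36_1 (by decide)) (by decide)) (by decide)

theorem l37 : LL 5 (cd 317791) 4 :=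
  ctx.lab3 5 (by decide +kernel) (stdP.ty6 (ctx.chkS_sound Ck.s37).1 (ctx2.sixX (Ck.cw5 ctx2) (by decide) Cs.x37_0 (by decide)) (by decide))
    (stdP.ty5 (ctx.chkS_sound Ck.s37).2 pHN6 (by decide)) (by decide)

theorem l38 : LL 5 (cd 880640) 1 :=
  ctx.lab3 5 (by decide +kernel) (stdP.ty4 (ctx.chkS_sound Ck.s38).1 (ctx2.on4 (Ck.cw5 ctx2) (by decide) Ck.o38_0) (by decide))
    (stdP.ty4 (ctx.chkS_sound Ck.s38).2 (ctx2.on4 (Ck.cw5 ctx2) (by decide) Ck.o38_1) (by decide)) (by decide)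

theorem l39 : LL 5 (cd 1814528) 1 :=
  ctx.lab3 5 (by decide +kernel) (stdP.ty6 (ctx.chkS_sound Ck.s39).1 (ctx2.sixX (Ck.cw5 ctx2) (by decide) Cs.x39_0 (by decide)) (by decide))
    (stdP.ty6 (ctx.chkS_sound Ck.s39).2 (ctx2.sixX (Ck.cw5 ctx2) (by decide) Cs.x39_1 (by decide)) (by decide)) (by decide)

theorem l40 : LL 5 (cd 1846439) 4 :=
  ctx.lab3 5 (by decide +kernel) (stdP.ty5 (ctx.chkS_sound Ck.s40).1 pHN7 (by decide))
    (stdP.ty4 (ctx.chkS_sound Ck.s40).2 (ctx2.on4 (Ck.cw5 ctx2) (by decide) Ck.o40_1) (by decide)) (by decide)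

theorem l41 : LL 5 (cd 1990657) 1 :=
  ctx.lab3 5 (by decide +kernel) (stdP.ty6 (ctx.chkS_sound Ck.s41).1 (ctx2.sixX (Ck.cw5 ctx2) (by decide) Cs.x41_0 (by decide)) (by decide))
    (stdP.ty4 (ctx.chkS_sound Ck.s41).2 (ctx2.on4 (Ck.cw5 ctx2) (by decide) Ck.o41_1) (by decide)) (by decide)

theorem l42 : LL 5 (cd 7028736) 1 :=
  ctx.lab3 5 (by decide +kernel) (stdP.ty4 (ctx.chkS_sound Ck.s42).1 (ctx2.on4 (Ck.cw5 ctx2) (by decide) Ck.o42_0) (by decide))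
    (stdP.ty4 (ctx.chkS_sound Ck.s42).2 (ctx2.on4 (Ck.cw5 ctx2) (by decide) Ck.o42_1) (by decide)) (by decide)

theorem l43 : LL 5 (cd 8540162) 4 :=
  ctx.lab3 5 (by decide +kernel) (stdP.ty6 (ctx.chkS_sound Ck.s43).1 (ctx2.sixX (Ck.cw5 ctx2) (by decide) Cs.x43_0 (by decide)) (by decide))
    (stdP.ty5 (ctx.chkS_sound Ck.s43).2 pHN8 (by decide)) (by decide)

theorem l44 : LL 5 (cd 10817761) 7 :=
  ctx.lab3 5 (by decide +kernel) (stdP.ty5 (ctx.chkS_sound Ck.s44).1 pHN9 (by decide))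
    (stdP.ty5 (ctx.chkS_sound Ck.s44).2 pHN10 (by decide)) (by decide)

theorem run5 : nE (gel 54) (axW [39, 53]) (axW ([39, 53] ++ muTh)) (aa DD BB av 5) = 0 ∧
    nE (gel 54) (axW [39, 53]) (axW ([39, 53] ++ muHN)) (aa DD BB av 5) = 59008 ∧
    ∀ p η, Six DD (aa DD BB av 5) (DD.ax p η) :=
  lab3_run hypL.card (Bs5.inv (cls_lab3 (Ck.hg5 ctx))
    (List.forall_mem_cons.2 ⟨⟨by decide, by decide, l31⟩,
    List.forall_mem_cons.2 ⟨⟨by decide, by decide, l32⟩,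
    List.forall_mem_cons.2 ⟨⟨by decide, by decide, l33⟩,
    List.forall_mem_cons.2 ⟨⟨by decide, by decide, l34⟩,
    List.forall_mem_cons.2 ⟨⟨by decide, by decide, l35⟩,
    List.forall_mem_cons.2 ⟨⟨by decide, by decide, l36⟩,
    List.forall_mem_cons.2 ⟨⟨by decide, by decide, l37⟩,
    List.forall_mem_cons.2 ⟨⟨by decide, by decide, l38⟩,
    List.forall_mem_cons.2 ⟨⟨by decide, by decide, l39⟩,
    List.forall_mem_cons.2 ⟨⟨by decide, by decide, l40⟩,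
    List.forall_mem_cons.2 ⟨⟨by decide, by decide, l41⟩,
    List.forall_mem_cons.2 ⟨⟨by decide, by decide, l42⟩,
    List.forall_mem_cons.2 ⟨⟨by decide, by decide, l43⟩,
    List.forall_mem_cons.2 ⟨⟨by decide, by decide, l44⟩,
    List.forall_mem_nil _⟩⟩⟩⟩⟩⟩⟩⟩⟩⟩⟩⟩⟩⟩))
    Bs5.cnt_eq (by decide +kernel)

theorem l45 : LL 6 (cd 1171) 1 :=
  ctx.lab3 6 (by decide +kernel) (stdP.ty6 (ctx.chkS_sound Ck.s45).1 (ctx2.sixX (Ck.cw6 ctx2) (by decide) Cs.x45_0 (by decide)) (by decide))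
    (stdP.ty6 (ctx.chkS_sound Ck.s45).2 (ctx2.sixX (Ck.cw6 ctx2) (by decide) Cs.x45_1 (by decide)) (by decide)) (by decide)

theorem l46 : LL 6 (cd 1955) 7 :=
  ctx.lab3 6 (by decide +kernel) (stdP.ty5 (ctx.chkS_sound Ck.s46).1 pHN11 (by decide))
    (stdP.ty5 (ctx.chkS_sound Ck.s46).2 pHN12 (by decide)) (by decide)

theorem l47 : LL 6 (cd 9192) 4 :=
  ctx.lab3 6 (by decide +kernel) (stdP.ty5 (ctx.chkS_sound Ck.s47).1 pHN13 (by decide))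
    (stdP.ty6 (ctx.chkS_sound Ck.s47).2 (ctx2.sixX (Ck.cw6 ctx2) (by decide) Cs.x47_1 (by decide)) (by decide)) (by decide)

theorem l48 : LL 6 (cd 33697) 1 :=
  ctx.lab3 6 (by decide +kernel) (stdP.ty4 (ctx.chkS_sound Ck.s48).1 (ctx2.on4 (Ck.cw6 ctx2) (by decide) Ck.o48_0) (by decide))
    (stdP.ty4 (ctx.chkS_sound Ck.s48).2 (ctx2.on4 (Ck.cw6 ctx2) (by decide) Ck.o48_1) (by decide)) (by decide)

theorem l49 : LL 6 (cd 81920) 1 :=
  ctx.lab3 6 (by decide +kernel) (stdP.ty4 (ctx.chkS_sound Ck.s49).1 (ctx2.on4 (Ck.cw6 ctx2) (by decide) Ck.o49_0) (by decide))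
    (stdP.ty6 (ctx.chkS_sound Ck.s49).2 (ctx2.sixX (Ck.cw6 ctx2) (by decide) Cs.x49_1 (by decide)) (by decide)) (by decide)

theorem l50 : LL 6 (cd 196608) 1 :=
  ctx.lab3 6 (by decide +kernel) (stdP.ty4 (ctx.chkS_sound Ck.s50).1 (ctx2.on4 (Ck.cw6 ctx2) (by decide) Ck.o50_0) (by decide))
    (stdP.ty6 (ctx.chkS_sound Ck.s50).2 (ctx2.sixX (Ck.cw6 ctx2) (by decide) Cs.x50_1 (by decide)) (by decide)) (by decide)

theorem l51 : LL 6 (cd 217196) 1 :=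
  ctx.lab3 6 (by decide +kernel) (stdP.ty6 (ctx.chkS_sound Ck.s51).1 (ctx2.sixX (Ck.cw6 ctx2) (by decide) Cs.x51_0 (by decide)) (by decide))
    (stdP.ty6 (ctx.chkS_sound Ck.s51).2 (ctx2.sixX (Ck.cw6 ctx2) (by decide) Cs.x51_1 (by decide)) (by decide)) (by decide)

theorem l52 : LL 6 (cd 2228224) 1 :=
  ctx.lab3 6 (by decide +kernel) (stdP.ty4 (ctx.chkS_sound Ck.s52).1 (ctx2.on4 (Ck.cw6 ctx2) (by decide) Ck.o52_0) (by decide))
    (stdP.ty6 (ctx.chkS_sound Ck.s52).2 (ctx2.sixX (Ck.cw6 ctx2) (by decide) Cs.x52_1 (by decide)) (by decide)) (by decide)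

theorem l53 : LL 6 (cd 4419584) 1 :=
  ctx.lab3 6 (by decide +kernel) (stdP.ty6 (ctx.chkS_sound Ck.s53).1 (ctx2.sixX (Ck.cw6 ctx2) (by decide) Cs.x53_0 (by decide)) (by decide))
    (stdP.ty4 (ctx.chkS_sound Ck.s53).2 (ctx2.on4 (Ck.cw6 ctx2) (by decide) Ck.o53_1) (by decide)) (by decide)

theorem l54 : LL 6 (cd 7028736) 1 :=
  ctx.lab3 6 (by decide +kernel) (stdP.ty6 (ctx.chkS_sound Ck.s54).1 (ctx2.sixX (Ck.cw6 ctx2) (by decide) Cs.x54_0 (by decide)) (by decide))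
    (stdP.ty4 (ctx.chkS_sound Ck.s54).2 (ctx2.on4 (Ck.cw6 ctx2) (by decide) Ck.o54_1) (by decide)) (by decide)

theorem l55 : LL 6 (cd 8781824) 1 :=
  ctx.lab3 6 (by decide +kernel) (stdP.ty2 (ctx.chkS_sound Ck.s55).1 (ctx2.on2 (Ck.cw6 ctx2) (by decide) Ck.o55_0) (by decide))
    (stdP.ty6 (ctx.chkS_sound Ck.s55).2 (ctx2.sixX (Ck.cw6 ctx2) (by decide) Cs.x55_1 (by decide)) (by decide)) (by decide)

theorem run6 : nE (gel 54) (axW [39, 53]) (axW ([39, 53] ++ muTh)) (aa DD BB av 6) = 0 ∧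
    nE (gel 54) (axW [39, 53]) (axW ([39, 53] ++ muHN)) (aa DD BB av 6) = 59904 ∧
    ∀ p η, Six DD (aa DD BB av 6) (DD.ax p η) :=
  lab3_run hypL.card (Bs6.inv (cls_lab3 (Ck.hg6 ctx))
    (List.forall_mem_cons.2 ⟨⟨by decide, by decide, l45⟩,
    List.forall_mem_cons.2 ⟨⟨by decide, by decide, l46⟩,
    List.forall_mem_cons.2 ⟨⟨by decide, by decide, l47⟩,
    List.forall_mem_cons.2 ⟨⟨by decide, by decide, l48⟩,
    List.forall_mem_cons.2 ⟨⟨by decide, by decide, l49⟩,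
    List.forall_mem_cons.2 ⟨⟨by decide, by decide, l50⟩,
    List.forall_mem_cons.2 ⟨⟨by decide, by decide, l51⟩,
    List.forall_mem_cons.2 ⟨⟨by decide, by decide, l52⟩,
    List.forall_mem_cons.2 ⟨⟨by decide, by decide, l53⟩,
    List.forall_mem_cons.2 ⟨⟨by decide, by decide, l54⟩,
    List.forall_mem_cons.2 ⟨⟨by decide, by decide, l55⟩,
    List.forall_mem_nil _⟩⟩⟩⟩⟩⟩⟩⟩⟩⟩⟩))
    Bs6.cnt_eq (by decide +kernel)

theorem l56 : LL 7 (cd 1171) 1 :=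
  ctx.lab3 7 (by decide +kernel) (stdP.ty6 (ctx.chkS_sound Ck.s56).1 (ctx2.sixX (Ck.cw7 ctx2) (by decide) Cs.x56_0 (by decide)) (by decide))
    (stdP.ty6 (ctx.chkS_sound Ck.s56).2 (ctx2.sixX (Ck.cw7 ctx2) (by decide) Cs.x56_1 (by decide)) (by decide)) (by decide)

theorem l57 : LL 7 (cd 1955) 7 :=
  ctx.lab3 7 (by decide +kernel) (stdP.ty5 (ctx.chkS_sound Ck.s57).1 pHN14 (by decide))
    (stdP.ty5 (ctx.chkS_sound Ck.s57).2 pHN15 (by decide)) (by decide)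

theorem l58 : LL 7 (cd 8192) 1 :=
  ctx.lab3 7 (by decide +kernel) (stdP.ty6 (ctx.chkS_sound Ck.s58).1 (ctx2.sixX (Ck.cw7 ctx2) (by decide) Cs.x58_0 (by decide)) (by decide))
    (stdP.ty4 (ctx.chkS_sound Ck.s58).2 (ctx2.on4 (Ck.cw7 ctx2) (by decide) Ck.o58_1) (by decide)) (by decide)

theorem l59 : LL 7 (cd 9192) 1 :=
  ctx.lab3 7 (by decide +kernel) (stdP.ty6 (ctx.chkS_sound Ck.s59).1 (ctx2.sixX (Ck.cw7 ctx2) (by decide) Cs.x59_0 (by decide)) (by decide))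
    (stdP.ty6 (ctx.chkS_sound Ck.s59).2 (ctx2.sixX (Ck.cw7 ctx2) (by decide) Cs.x59_1 (by decide)) (by decide)) (by decide)

theorem l60 : LL 7 (cd 132162) 1 :=
  ctx.lab3 7 (by decide +kernel) (stdP.ty4 (ctx.chkS_sound Ck.s60).1 (ctx2.on4 (Ck.cw7 ctx2) (by decide) Ck.o60_0) (by decide))
    (stdP.ty4 (ctx.chkS_sound Ck.s60).2 (ctx2.on4 (Ck.cw7 ctx2) (by decide) Ck.o60_1) (by decide)) (by decide)

theorem l61 : LL 7 (cd 2965504) 1 :=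
  ctx.lab3 7 (by decide +kernel) (stdP.ty2 (ctx.chkS_sound Ck.s61).1 (ctx2.on2 (Ck.cw7 ctx2) (by decide) Ck.o61_0) (by decide))
    (stdP.ty6 (ctx.chkS_sound Ck.s61).2 (ctx2.sixX (Ck.cw7 ctx2) (by decide) Cs.x61_1 (by decide)) (by decide)) (by decide)

theorem l62 : LL 7 (cd 6733824) 1 :=
  ctx.lab3 7 (by decide +kernel) (stdP.ty6 (ctx.chkS_sound Ck.s62).1 (ctx2.sixX (Ck.cw7 ctx2) (by decide) Cs.x62_0 (by decide)) (by decide))
    (stdP.ty2 (ctx.chkS_sound Ck.s62).2 (ctx2.on2 (Ck.cw7 ctx2) (by decide) Ck.o62_1) (by decide)) (by decide)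

theorem l63 : LL 7 (cd 7028736) 1 :=
  ctx.lab3 7 (by decide +kernel) (stdP.ty6 (ctx.chkS_sound Ck.s63).1 (ctx2.sixX (Ck.cw7 ctx2) (by decide) Cs.x63_0 (by decide)) (by decide))
    (stdP.ty4 (ctx.chkS_sound Ck.s63).2 (ctx2.on4 (Ck.cw7 ctx2) (by decide) Ck.o63_1) (by decide)) (by decide)

theorem l64 : LL 7 (cd 7491584) 1 :=
  ctx.lab3 7 (by decide +kernel) (stdP.ty6 (ctx.chkS_sound Ck.s64).1 (ctx2.sixX (Ck.cw7 ctx2) (by decide) Cs.x64_0 (by decide)) (by decide))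
    (stdP.ty4 (ctx.chkS_sound Ck.s64).2 (ctx2.on4 (Ck.cw7 ctx2) (by decide) Ck.o64_1) (by decide)) (by decide)

theorem run7 : nE (gel 54) (axW [39, 53]) (axW ([39, 53] ++ muTh)) (aa DD BB av 7) = 0 ∧
    nE (gel 54) (axW [39, 53]) (axW ([39, 53] ++ muHN)) (aa DD BB av 7) = 41472 ∧
    ∀ p η, Six DD (aa DD BB av 7) (DD.ax p η) :=
  lab3_run hypL.card (Bs7.inv (cls_lab3 (Ck.hg7 ctx))
    (List.forall_mem_cons.2 ⟨⟨by decide, by decide, l56⟩,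
    List.forall_mem_cons.2 ⟨⟨by decide, by decide, l57⟩,
    List.forall_mem_cons.2 ⟨⟨by decide, by decide, l58⟩,
    List.forall_mem_cons.2 ⟨⟨by decide, by decide, l59⟩,
    List.forall_mem_cons.2 ⟨⟨by decide, by decide, l60⟩,
    List.forall_mem_cons.2 ⟨⟨by decide, by decide, l61⟩,
    List.forall_mem_cons.2 ⟨⟨by decide, by decide, l62⟩,
    List.forall_mem_cons.2 ⟨⟨by decide, by decide, l63⟩,
    List.forall_mem_cons.2 ⟨⟨by decide, by decide, l64⟩,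
    List.forall_mem_nil _⟩⟩⟩⟩⟩⟩⟩⟩⟩))
    Bs7.cnt_eq (by decide +kernel)

theorem l65 : LL 8 (cd 1171) 4 :=
  ctx.lab3 8 (by decide +kernel) (stdP.ty6 (ctx.chkS_sound Ck.s65).1 (ctx2.sixX (Ck.cw8 ctx2) (by decide) Cs.x65_0 (by decide)) (by decide))
    (stdP.ty5 (ctx.chkS_sound Ck.s65).2 pHN16 (by decide)) (by decide)

theorem l66 : LL 8 (cd 1955) 1 :=
  ctx.lab3 8 (by decide +kernel) (stdP.ty6 (ctx.chkS_sound Ck.s66).1 (ctx2.sixX (Ck.cw8 ctx2) (by decide) Cs.x66_0 (by decide)) (by decide))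
    (stdP.ty6 (ctx.chkS_sound Ck.s66).2 (ctx2.sixX (Ck.cw8 ctx2) (by decide) Cs.x66_1 (by decide)) (by decide)) (by decide)

theorem l67 : LL 8 (cd 8192) 4 :=
  ctx.lab3 8 (by decide +kernel) (stdP.ty4 (ctx.chkS_sound Ck.s67).1 (ctx2.on4 (Ck.cw8 ctx2) (by decide) Ck.o67_0) (by decide))
    (stdP.ty5 (ctx.chkS_sound Ck.s67).2 pHN17 (by decide)) (by decide)

theorem l68 : LL 8 (cd 81920) 4 :=
  ctx.lab3 8 (by decide +kernel) (stdP.ty6 (ctx.chkS_sound Ck.s68).1 (ctx2.sixX (Ck.cw8 ctx2) (by decide) Cs.x68_0 (by decide)) (by decide))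
    (stdP.ty5 (ctx.chkS_sound Ck.s68).2 pHN18 (by decide)) (by decide)

theorem l69 : LL 8 (cd 262144) 1 :=
  ctx.lab3 8 (by decide +kernel) (stdP.ty4 (ctx.chkS_sound Ck.s69).1 (ctx2.on4 (Ck.cw8 ctx2) (by decide) Ck.o69_0) (by decide))
    (stdP.ty6 (ctx.chkS_sound Ck.s69).2 (ctx2.sixX (Ck.cw8 ctx2) (by decide) Cs.x69_1 (by decide)) (by decide)) (by decide)

theorem l70 : LL 8 (cd 307200) 1 :=
  ctx.lab3 8 (by decide +kernel) (stdP.ty4 (ctx.chkS_sound Ck.s70).1 (ctx2.on4 (Ck.cw8 ctx2) (by decide) Ck.o70_0) (by decide))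
    (stdP.ty6 (ctx.chkS_sound Ck.s70).2 (ctx2.sixX (Ck.cw8 ctx2) (by decide) Cs.x70_1 (by decide)) (by decide)) (by decide)

theorem l71 : LL 8 (cd 1990656) 1 :=
  ctx.lab3 8 (by decide +kernel) (stdP.ty6 (ctx.chkS_sound Ck.s71).1 (ctx2.sixX (Ck.cw8 ctx2) (by decide) Cs.x71_0 (by decide)) (by decide))
    (stdP.ty6 (ctx.chkS_sound Ck.s71).2 (ctx2.sixX (Ck.cw8 ctx2) (by decide) Cs.x71_1 (by decide)) (by decide)) (by decide)

theorem l72 : LL 8 (cd 3104768) 1 :=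
  ctx.lab3 8 (by decide +kernel) (stdP.ty6 (ctx.chkS_sound Ck.s72).1 (ctx2.sixX (Ck.cw8 ctx2) (by decide) Cs.x72_0 (by decide)) (by decide))
    (stdP.ty6 (ctx.chkS_sound Ck.s72).2 (ctx2.sixX (Ck.cw8 ctx2) (by decide) Cs.x72_1 (by decide)) (by decide)) (by decide)

theorem l73 : LL 8 (cd 3154029) 7 :=
  ctx.lab3 8 (by decide +kernel) (stdP.ty5 (ctx.chkS_sound Ck.s73).1 pHN19 (by decide))
    (stdP.ty5 (ctx.chkS_sound Ck.s73).2 pHN20 (by decide)) (by decide)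

theorem l74 : LL 8 (cd 4325641) 1 :=
  ctx.lab3 8 (by decide +kernel) (stdP.ty4 (ctx.chkS_sound Ck.s74).1 (ctx2.on4 (Ck.cw8 ctx2) (by decide) Ck.o74_0) (by decide))
    (stdP.ty6 (ctx.chkS_sound Ck.s74).2 (ctx2.sixX (Ck.cw8 ctx2) (by decide) Cs.x74_1 (by decide)) (by decide)) (by decide)

theorem l75 : LL 8 (cd 5566483) 1 :=
  ctx.lab3 8 (by decide +kernel) (stdP.ty4 (ctx.chkS_sound Ck.s75).1 (ctx2.on4 (Ck.cw8 ctx2) (by decide) Ck.o75_0) (by decide))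
    (stdP.ty4 (ctx.chkS_sound Ck.s75).2 (ctx2.on4 (Ck.cw8 ctx2) (by decide) Ck.o75_1) (by decide)) (by decide)

theorem l76 : LL 8 (cd 6807552) 1 :=
  ctx.lab3 8 (by decide +kernel) (stdP.ty6 (ctx.chkS_sound Ck.s76).1 (ctx2.sixX (Ck.cw8 ctx2) (by decide) Cs.x76_0 (by decide)) (by decide))
    (stdP.ty4 (ctx.chkS_sound Ck.s76).2 (ctx2.on4 (Ck.cw8 ctx2) (by decide) Ck.o76_1) (by decide)) (by decide)

theorem l77 : LL 8 (cd 7028736) 4 :=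
  ctx.lab3 8 (by decide +kernel) (stdP.ty5 (ctx.chkS_sound Ck.s77).1 pHN21 (by decide))
    (stdP.ty4 (ctx.chkS_sound Ck.s77).2 (ctx2.on4 (Ck.cw8 ctx2) (by decide) Ck.o77_1) (by decide)) (by decide)

theorem l78 : LL 8 (cd 7655424) 4 :=
  ctx.lab3 8 (by decide +kernel) (stdP.ty5 (ctx.chkS_sound Ck.s78).1 pHN22 (by decide))
    (stdP.ty6 (ctx.chkS_sound Ck.s78).2 (ctx2.sixX (Ck.cw8 ctx2) (by decide) Cs.x78_1 (by decide)) (by decide)) (by decide)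

theorem l79 : LL 8 (cd 8540162) 4 :=
  ctx.lab3 8 (by decide +kernel) (stdP.ty5 (ctx.chkS_sound Ck.s79).1 pHN23 (by decide))
    (stdP.ty6 (ctx.chkS_sound Ck.s79).2 (ctx2.sixX (Ck.cw8 ctx2) (by decide) Cs.x79_1 (by decide)) (by decide)) (by decide)

theorem l80 : LL 8 (cd 9720033) 2 :=
  ctx.lab3 8 (by decide +kernel) (stdP.ty6 (ctx.chkS_sound Ck.s80).1 (ctx2.sixX (Ck.cw8 ctx2) (by decide) Cs.x80_0 (by decide)) (by decide))
    (stdP.ty3 (ctx.chkS_sound Ck.s80).2 pTh3 (by decide)) (by decide)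

theorem l81 : LL 8 (cd 10317852) 7 :=
  ctx.lab3 8 (by decide +kernel) (stdP.ty5 (ctx.chkS_sound Ck.s81).1 pHN24 (by decide))
    (stdP.ty5 (ctx.chkS_sound Ck.s81).2 pHN25 (by decide)) (by decide)

theorem l82 : LL 8 (cd 10379264) 1 :=
  ctx.lab3 8 (by decide +kernel) (stdP.ty6 (ctx.chkS_sound Ck.s82).1 (ctx2.sixX (Ck.cw8 ctx2) (by decide) Cs.x82_0 (by decide)) (by decide))
    (stdP.ty6 (ctx.chkS_sound Ck.s82).2 (ctx2.sixX (Ck.cw8 ctx2) (by decide) Cs.x82_1 (by decide)) (by decide)) (by decide)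

theorem l83 : LL 8 (cd 10817761) 1 :=
  ctx.lab3 8 (by decide +kernel) (stdP.ty6 (ctx.chkS_sound Ck.s83).1 (ctx2.sixX (Ck.cw8 ctx2) (by decide) Cs.x83_0 (by decide)) (by decide))
    (stdP.ty6 (ctx.chkS_sound Ck.s83).2 (ctx2.sixX (Ck.cw8 ctx2) (by decide) Cs.x83_1 (by decide)) (by decide)) (by decide)

theorem l84 : LL 8 (cd 11190272) 1 :=
  ctx.lab3 8 (by decide +kernel) (stdP.ty4 (ctx.chkS_sound Ck.s84).1 (ctx2.on4 (Ck.cw8 ctx2) (by decide) Ck.o84_0) (by decide))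
    (stdP.ty6 (ctx.chkS_sound Ck.s84).2 (ctx2.sixX (Ck.cw8 ctx2) (by decide) Cs.x84_1 (by decide)) (by decide)) (by decide)

theorem l85 : LL 8 (cd 12882145) 1 :=
  ctx.lab3 8 (by decide +kernel) (stdP.ty6 (ctx.chkS_sound Ck.s85).1 (ctx2.sixX (Ck.cw8 ctx2) (by decide) Cs.x85_0 (by decide)) (by decide))
    (stdP.ty6 (ctx.chkS_sound Ck.s85).2 (ctx2.sixX (Ck.cw8 ctx2) (by decide) Cs.x85_1 (by decide)) (by decide)) (by decide)

theorem run8 : nE (gel 54) (axW [39, 53]) (axW ([39, 53] ++ muTh)) (aa DD BB av 8) = 240 ∧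
    nE (gel 54) (axW [39, 53]) (axW ([39, 53] ++ muHN)) (aa DD BB av 8) = 61520 ∧
    ∀ p η, Six DD (aa DD BB av 8) (DD.ax p η) :=
  lab3_run hypL.card (Bs8.inv (cls_lab3 (Ck.hg8 ctx))
    (List.forall_mem_cons.2 ⟨⟨by decide, by decide, l65⟩,
    List.forall_mem_cons.2 ⟨⟨by decide, by decide, l66⟩,
    List.forall_mem_cons.2 ⟨⟨by decide, by decide, l67⟩,
    List.forall_mem_cons.2 ⟨⟨by decide, by decide, l68⟩,
    List.forall_mem_cons.2 ⟨⟨by decide, by decide, l69⟩,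
    List.forall_mem_cons.2 ⟨⟨by decide, by decide, l70⟩,
    List.forall_mem_cons.2 ⟨⟨by decide, by decide, l71⟩,
    List.forall_mem_cons.2 ⟨⟨by decide, by decide, l72⟩,
    List.forall_mem_cons.2 ⟨⟨by decide, by decide, l73⟩,
    List.forall_mem_cons.2 ⟨⟨by decide, by decide, l74⟩,
    List.forall_mem_cons.2 ⟨⟨by decide, by decide, l75⟩,
    List.forall_mem_cons.2 ⟨⟨by decide, by decide, l76⟩,
    List.forall_mem_cons.2 ⟨⟨by decide, by decide, l77⟩,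
    List.forall_mem_cons.2 ⟨⟨by decide, by decide, l78⟩,
    List.forall_mem_cons.2 ⟨⟨by decide, by decide, l79⟩,
    List.forall_mem_cons.2 ⟨⟨by decide, by decide, l80⟩,
    List.forall_mem_cons.2 ⟨⟨by decide, by decide, l81⟩,
    List.forall_mem_cons.2 ⟨⟨by decide, by decide, l82⟩,
    List.forall_mem_cons.2 ⟨⟨by decide, by decide, l83⟩,
    List.forall_mem_cons.2 ⟨⟨by decide, by decide, l84⟩,
    List.forall_mem_cons.2 ⟨⟨by decide, by decide, l85⟩,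
    List.forall_mem_nil _⟩⟩⟩⟩⟩⟩⟩⟩⟩⟩⟩⟩⟩⟩⟩⟩⟩⟩⟩⟩⟩))
    Bs8.cnt_eq (by decide +kernel)

theorem l86 : LL 9 (cd 8192) 4 :=
  ctx.lab3 9 (by decide +kernel) (stdP.ty5 (ctx.chkS_sound Ck.s86).1 pHN26 (by decide))
    (stdP.ty4 (ctx.chkS_sound Ck.s86).2 (ctx2.on4 (Ck.cw9 ctx2) (by decide) Ck.o86_1) (by decide)) (by decide)

theorem l87 : LL 9 (cd 9192) 1 :=
  ctx.lab3 9 (by decide +kernel) (stdP.ty4 (ctx.chkS_sound Ck.s87).1 (ctx2.on4 (Ck.cw9 ctx2) (by decide) Ck.o87_0) (by decide))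
    (stdP.ty4 (ctx.chkS_sound Ck.s87).2 (ctx2.on4 (Ck.cw9 ctx2) (by decide) Ck.o87_1) (by decide)) (by decide)

theorem l88 : LL 9 (cd 24576) 1 :=
  ctx.lab3 9 (by decide +kernel) (stdP.ty6 (ctx.chkS_sound Ck.s88).1 (ctx2.sixX (Ck.cw9 ctx2) (by decide) Cs.x88_0 (by decide)) (by decide))
    (stdP.ty4 (ctx.chkS_sound Ck.s88).2 (ctx2.on4 (Ck.cw9 ctx2) (by decide) Ck.o88_1) (by decide)) (by decide)

theorem l89 : LL 9 (cd 81920) 1 :=
  ctx.lab3 9 (by decide +kernel) (stdP.ty4 (ctx.chkS_sound Ck.s89).1 (ctx2.on4 (Ck.cw9 ctx2) (by decide) Ck.o89_0) (by decide))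
    (stdP.ty6 (ctx.chkS_sound Ck.s89).2 (ctx2.sixX (Ck.cw9 ctx2) (by decide) Cs.x89_1 (by decide)) (by decide)) (by decide)

theorem l90 : LL 9 (cd 221797) 1 :=
  ctx.lab3 9 (by decide +kernel) (stdP.ty6 (ctx.chkS_sound Ck.s90).1 (ctx2.sixX (Ck.cw9 ctx2) (by decide) Cs.x90_0 (by decide)) (by decide))
    (stdP.ty6 (ctx.chkS_sound Ck.s90).2 (ctx2.sixX (Ck.cw9 ctx2) (by decide) Cs.x90_1 (by decide)) (by decide)) (by decide)

theorem l91 : LL 9 (cd 307200) 4 :=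
  ctx.lab3 9 (by decide +kernel) (stdP.ty4 (ctx.chkS_sound Ck.s91).1 (ctx2.on4 (Ck.cw9 ctx2) (by decide) Ck.o91_0) (by decide))
    (stdP.ty5 (ctx.chkS_sound Ck.s91).2 pHN27 (by decide)) (by decide)

theorem l92 : LL 9 (cd 876544) 1 :=
  ctx.lab3 9 (by decide +kernel) (stdP.ty6 (ctx.chkS_sound Ck.s92).1 (ctx2.sixX (Ck.cw9 ctx2) (by decide) Cs.x92_0 (by decide)) (by decide))
    (stdP.ty6 (ctx.chkS_sound Ck.s92).2 (ctx2.sixX (Ck.cw9 ctx2) (by decide) Cs.x92_1 (by decide)) (by decide)) (by decide)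

theorem l93 : LL 9 (cd 1249976) 7 :=
  ctx.lab3 9 (by decide +kernel) (stdP.ty5 (ctx.chkS_sound Ck.s93).1 pHN28 (by decide))
    (stdP.ty5 (ctx.chkS_sound Ck.s93).2 pHN29 (by decide)) (by decide)

theorem l94 : LL 9 (cd 3899392) 4 :=
  ctx.lab3 9 (by decide +kernel) (stdP.ty6 (ctx.chkS_sound Ck.s94).1 (ctx2.sixX (Ck.cw9 ctx2) (by decide) Cs.x94_0 (by decide)) (by decide))
    (stdP.ty5 (ctx.chkS_sound Ck.s94).2 pHN30 (by decide)) (by decide)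

theorem l95 : LL 9 (cd 7028736) 4 :=
  ctx.lab3 9 (by decide +kernel) (stdP.ty6 (ctx.chkS_sound Ck.s95).1 (ctx2.sixX (Ck.cw9 ctx2) (by decide) Cs.x95_0 (by decide)) (by decide))
    (stdP.ty5 (ctx.chkS_sound Ck.s95).2 pHN31 (by decide)) (by decide)

theorem l96 : LL 9 (cd 8351744) 1 :=
  ctx.lab3 9 (by decide +kernel) (stdP.ty6 (ctx.chkS_sound Ck.s96).1 (ctx2.sixX (Ck.cw9 ctx2) (by decide) Cs.x96_0 (by decide)) (by decide))
    (stdP.ty6 (ctx.chkS_sound Ck.s96).2 (ctx2.sixX (Ck.cw9 ctx2) (by decide) Cs.x96_1 (by decide)) (by decide)) (by decide)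

theorem l97 : LL 9 (cd 8437760) 4 :=
  ctx.lab3 9 (by decide +kernel) (stdP.ty2 (ctx.chkS_sound Ck.s97).1 (ctx2.on2 (Ck.cw9 ctx2) (by decide) Ck.o97_0) (by decide))
    (stdP.ty5 (ctx.chkS_sound Ck.s97).2 pHN32 (by decide)) (by decide)

theorem run9 : nE (gel 54) (axW [39, 53]) (axW ([39, 53] ++ muTh)) (aa DD BB av 9) = 0 ∧
    nE (gel 54) (axW [39, 53]) (axW ([39, 53] ++ muHN)) (aa DD BB av 9) = 53576 ∧
    ∀ p η, Six DD (aa DD BB av 9) (DD.ax p η) :=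
  lab3_run hypL.card (Bs9.inv (cls_lab3 (Ck.hg9 ctx))
    (List.forall_mem_cons.2 ⟨⟨by decide, by decide, l86⟩,
    List.forall_mem_cons.2 ⟨⟨by decide, by decide, l87⟩,
    List.forall_mem_cons.2 ⟨⟨by decide, by decide, l88⟩,
    List.forall_mem_cons.2 ⟨⟨by decide, by decide, l89⟩,
    List.forall_mem_cons.2 ⟨⟨by decide, by decide, l90⟩,
    List.forall_mem_cons.2 ⟨⟨by decide, by decide, l91⟩,
    List.forall_mem_cons.2 ⟨⟨by decide, by decide, l92⟩,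
    List.forall_mem_cons.2 ⟨⟨by decide, by decide, l93⟩,
    List.forall_mem_cons.2 ⟨⟨by decide, by decide, l94⟩,
    List.forall_mem_cons.2 ⟨⟨by decide, by decide, l95⟩,
    List.forall_mem_cons.2 ⟨⟨by decide, by decide, l96⟩,
    List.forall_mem_cons.2 ⟨⟨by decide, by decide, l97⟩,
    List.forall_mem_nil _⟩⟩⟩⟩⟩⟩⟩⟩⟩⟩⟩⟩))
    Bs9.cnt_eq (by decide +kernel)

theorem l98 : LL 10 (cd 1955) 4 :=
  ctx.lab3 10 (by decide +kernel) (stdP.ty6 (ctx.chkS_sound Ck.s98).1 (ctx2.sixX (Ck.cw10 ctx2) (by decide) Cs.x98_0 (by decide)) (by decide))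
    (stdP.ty5 (ctx.chkS_sound Ck.s98).2 pHN33 (by decide)) (by decide)

theorem l99 : LL 10 (cd 8192) 4 :=
  ctx.lab3 10 (by decide +kernel) (stdP.ty4 (ctx.chkS_sound Ck.s99).1 (ctx2.on4 (Ck.cw10 ctx2) (by decide) Ck.o99_0) (by decide))
    (stdP.ty5 (ctx.chkS_sound Ck.s99).2 pHN34 (by decide)) (by decide)

theorem l100 : LL 10 (cd 33697) 1 :=
  ctx.lab3 10 (by decide +kernel) (stdP.ty6 (ctx.chkS_sound Ck.s100).1 (ctx2.sixX (Ck.cw10 ctx2) (by decide) Cs.x100_0 (by decide)) (by decide))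
    (stdP.ty6 (ctx.chkS_sound Ck.s100).2 (ctx2.sixX (Ck.cw10 ctx2) (by decide) Cs.x100_1 (by decide)) (by decide)) (by decide)

theorem l101 : LL 10 (cd 307200) 4 :=
  ctx.lab3 10 (by decide +kernel) (stdP.ty6 (ctx.chkS_sound Ck.s101).1 (ctx2.sixX (Ck.cw10 ctx2) (by decide) Cs.x101_0 (by decide)) (by decide))
    (stdP.ty5 (ctx.chkS_sound Ck.s101).2 pHN35 (by decide)) (by decide)

theorem l102 : LL 10 (cd 655391) 1 :=
  ctx.lab3 10 (by decide +kernel) (stdP.ty6 (ctx.chkS_sound Ck.s102).1 (ctx2.sixX (Ck.cw10 ctx2) (by decide) Cs.x102_0 (by decide)) (by decide))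
    (stdP.ty6 (ctx.chkS_sound Ck.s102).2 (ctx2.sixX (Ck.cw10 ctx2) (by decide) Cs.x102_1 (by decide)) (by decide)) (by decide)

theorem l103 : LL 10 (cd 958690) 7 :=
  ctx.lab3 10 (by decide +kernel) (stdP.ty5 (ctx.chkS_sound Ck.s103).1 pHN36 (by decide))
    (stdP.ty5 (ctx.chkS_sound Ck.s103).2 pHN37 (by decide)) (by decide)

theorem l104 : LL 10 (cd 2228224) 1 :=
  ctx.lab3 10 (by decide +kernel) (stdP.ty6 (ctx.chkS_sound Ck.s104).1 (ctx2.sixX (Ck.cw10 ctx2) (by decide) Cs.x104_0 (by decide)) (by decide))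
    (stdP.ty4 (ctx.chkS_sound Ck.s104).2 (ctx2.on4 (Ck.cw10 ctx2) (by decide) Ck.o104_1) (by decide)) (by decide)

theorem l105 : LL 10 (cd 7028736) 1 :=
  ctx.lab3 10 (by decide +kernel) (stdP.ty6 (ctx.chkS_sound Ck.s105).1 (ctx2.sixX (Ck.cw10 ctx2) (by decide) Cs.x105_0 (by decide)) (by decide))
    (stdP.ty6 (ctx.chkS_sound Ck.s105).2 (ctx2.sixX (Ck.cw10 ctx2) (by decide) Cs.x105_1 (by decide)) (by decide)) (by decide)

theorem l106 : LL 10 (cd 7491584) 1 :=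
  ctx.lab3 10 (by decide +kernel) (stdP.ty6 (ctx.chkS_sound Ck.s106).1 (ctx2.sixX (Ck.cw10 ctx2) (by decide) Cs.x106_0 (by decide)) (by decide))
    (stdP.ty4 (ctx.chkS_sound Ck.s106).2 (ctx2.on4 (Ck.cw10 ctx2) (by decide) Ck.o106_1) (by decide)) (by decide)

theorem l107 : LL 10 (cd 7655424) 4 :=
  ctx.lab3 10 (by decide +kernel) (stdP.ty4 (ctx.chkS_sound Ck.s107).1 (ctx2.on4 (Ck.cw10 ctx2) (by decide) Ck.o107_0) (by decide))
    (stdP.ty5 (ctx.chkS_sound Ck.s107).2 pHN38 (by decide)) (by decide)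

theorem l108 : LL 10 (cd 8396800) 4 :=
  ctx.lab3 10 (by decide +kernel) (stdP.ty5 (ctx.chkS_sound Ck.s108).1 pHN39 (by decide))
    (stdP.ty4 (ctx.chkS_sound Ck.s108).2 (ctx2.on4 (Ck.cw10 ctx2) (by decide) Ck.o108_1) (by decide)) (by decide)

theorem l109 : LL 10 (cd 10579996) 5 :=
  ctx.lab3 10 (by decide +kernel) (stdP.ty3 (ctx.chkS_sound Ck.s109).1 pTh4 (by decide))
    (stdP.ty5 (ctx.chkS_sound Ck.s109).2 pHN40 (by decide)) (by decide)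

theorem run10 : nE (gel 54) (axW [39, 53]) (axW ([39, 53] ++ muTh)) (aa DD BB av 10) = 160 ∧
    nE (gel 54) (axW [39, 53]) (axW ([39, 53] ++ muHN)) (aa DD BB av 10) = 62120 ∧
    ∀ p η, Six DD (aa DD BB av 10) (DD.ax p η) :=
  lab3_run hypL.card (Bs10.inv (cls_lab3 (Ck.hg10 ctx))
    (List.forall_mem_cons.2 ⟨⟨by decide, by decide, l98⟩,
    List.forall_mem_cons.2 ⟨⟨by decide, by decide, l99⟩,
    List.forall_mem_cons.2 ⟨⟨by decide, by decide, l100⟩,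
    List.forall_mem_cons.2 ⟨⟨by decide, by decide, l101⟩,
    List.forall_mem_cons.2 ⟨⟨by decide, by decide, l102⟩,
    List.forall_mem_cons.2 ⟨⟨by decide, by decide, l103⟩,
    List.forall_mem_cons.2 ⟨⟨by decide, by decide, l104⟩,
    List.forall_mem_cons.2 ⟨⟨by decide, by decide, l105⟩,
    List.forall_mem_cons.2 ⟨⟨by decide, by decide, l106⟩,
    List.forall_mem_cons.2 ⟨⟨by decide, by decide, l107⟩,
    List.forall_mem_cons.2 ⟨⟨by decide, by decide, l108⟩,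
    List.forall_mem_cons.2 ⟨⟨by decide, by decide, l109⟩,
    List.forall_mem_nil _⟩⟩⟩⟩⟩⟩⟩⟩⟩⟩⟩⟩))
    Bs10.cnt_eq (by decide +kernel)

theorem l110 : LL 11 (cd 8192) 7 :=
  ctx.lab3 11 (by decide +kernel) (stdP.ty5 (ctx.chkS_sound Ck.s110).1 pHN41 (by decide))
    (stdP.ty5 (ctx.chkS_sound Ck.s110).2 pHN42 (by decide)) (by decide)

theorem l111 : LL 11 (cd 307200) 4 :=
  ctx.lab3 11 (by decide +kernel) (stdP.ty5 (ctx.chkS_sound Ck.s111).1 pHN43 (by decide))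
    (stdP.ty6 (ctx.chkS_sound Ck.s111).2 (ctx2.sixX (Ck.cw11 ctx2) (by decide) Cs.x111_1 (by decide)) (by decide)) (by decide)

theorem l112 : LL 11 (cd 655360) 2 :=
  ctx.lab3 11 (by decide +kernel) (stdP.ty3 (ctx.chkS_sound Ck.s112).1 pTh5 (by decide))
    (stdP.ty4 (ctx.chkS_sound Ck.s112).2 (ctx2.on4 (Ck.cw11 ctx2) (by decide) Ck.o112_1) (by decide)) (by decide)

theorem l113 : LL 11 (cd 4669440) 2 :=
  ctx.lab3 11 (by decide +kernel) (stdP.ty4 (ctx.chkS_sound Ck.s113).1 (ctx2.on4 (Ck.cw11 ctx2) (by decide) Ck.o113_0) (by decide))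
    (stdP.ty3 (ctx.chkS_sound Ck.s113).2 pTh6 (by decide)) (by decide)

theorem l114 : LL 11 (cd 7028736) 1 :=
  ctx.lab3 11 (by decide +kernel) (stdP.ty6 (ctx.chkS_sound Ck.s114).1 (ctx2.sixX (Ck.cw11 ctx2) (by decide) Cs.x114_0 (by decide)) (by decide))
    (stdP.ty6 (ctx.chkS_sound Ck.s114).2 (ctx2.sixX (Ck.cw11 ctx2) (by decide) Cs.x114_1 (by decide)) (by decide)) (by decide)

theorem run11 : nE (gel 54) (axW [39, 53]) (axW ([39, 53] ++ muTh)) (aa DD BB av 11) = 264 ∧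
    nE (gel 54) (axW [39, 53]) (axW ([39, 53] ++ muHN)) (aa DD BB av 11) = 65472 ∧
    ∀ p η, Six DD (aa DD BB av 11) (DD.ax p η) :=
  lab3_run hypL.card (Bs11.inv (cls_lab3 (Ck.hg11 ctx))
    (List.forall_mem_cons.2 ⟨⟨by decide, by decide, l110⟩,
    List.forall_mem_cons.2 ⟨⟨by decide, by decide, l111⟩,
    List.forall_mem_cons.2 ⟨⟨by decide, by decide, l112⟩,
    List.forall_mem_cons.2 ⟨⟨by decide, by decide, l113⟩,
    List.forall_mem_cons.2 ⟨⟨by decide, by decide, l114⟩,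
    List.forall_mem_nil _⟩⟩⟩⟩⟩))
    Bs11.cnt_eq (by decide +kernel)

def n3 : Fin 12 → ℕ := ![0, 0, 0, 0, 2048, 0, 0, 0, 240, 0, 160, 264]
def n5 : Fin 12 → ℕ := ![0, 0, 0, 57344, 61440, 59008, 59904, 41472, 61520, 53576, 62120, 65472]

theorem run_all (k : Fin 12) : nE (gel 54) (axW [39, 53]) (axW ([39, 53] ++ muTh)) (aa DD BB av k) = n3 k ∧
    nE (gel 54) (axW [39, 53]) (axW ([39, 53] ++ muHN)) (aa DD BB av k) = n5 k ∧
    ∀ p η, Six DD (aa DD BB av k) (DD.ax p η) := by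
  fin_cases k
  exacts [run0, run1, run2, run3, run4, run5, run6, run7, run8, run9, run10, run11]

theorem ipTh : DD.ip (axW [39, 53]) ((wd gel d2Th).1 (axW [39, 53])) = 1 / 8 :=
  ip_root (mu := muTh) (r := [38, 44, 44, 52, 47, 54, 52, 36]) Cs.rTh (Ck.cw1 ctx2) Cs.xr ttTh

theorem zTh : DD.z ∈ S2 (gel 54) (axW [39, 53]) (axW ([39, 53] ++ muTh)) := by
  have := mem_axW Cs.aTh4 Cs.bTh4
  rwa [wd_cons, gel_z, show wd gel [] = 1 from rfl, one_mul] at this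

theorem qTh : ∀ c ∈ bTh, DD.xq (cd c) ∈ S2 (gel 54) (axW [39, 53]) (axW ([39, 53] ++ muTh)) :=
  List.forall_mem_cons.2 ⟨xq_of_wd zTh (mem_axW Cs.aTh5 Cs.bTh5),
  List.forall_mem_cons.2 ⟨xq_of_wd zTh (mem_axW Cs.aTh6 Cs.bTh6),
  List.forall_mem_cons.2 ⟨xq_of_wd zTh (mem_axW Cs.aTh7 Cs.bTh7),
  List.forall_mem_cons.2 ⟨xq_of_wd zTh (mem_axW Cs.aTh8 Cs.bTh8),
  List.forall_mem_cons.2 ⟨xq_of_wd zTh (mem_axW Cs.aTh9 Cs.bTh9),
  List.forall_mem_cons.2 ⟨xq_of_wd zTh (mem_axW Cs.aTh10 Cs.bTh10),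
  List.forall_mem_cons.2 ⟨xq_of_wd zTh (mem_axW Cs.aTh11 Cs.bTh11),
  List.forall_mem_cons.2 ⟨xq_of_wd zTh (mem_axW Cs.aTh12 Cs.bTh12),
  List.forall_mem_nil _⟩⟩⟩⟩⟩⟩⟩⟩

theorem hsTh : ∀ h ∈ HTh, h.1 ∈ S2 (gel 54) (axW [39, 53]) (axW ([39, 53] ++ muTh)) :=
  List.forall_mem_cons.2 ⟨mem_axW Cs.aTh0 Cs.bTh0,
  List.forall_mem_cons.2 ⟨mem_axW Cs.aTh1 Cs.bTh1,
  List.forall_mem_cons.2 ⟨mem_axW Cs.aTh2 Cs.bTh2,
  List.forall_mem_nil _⟩⟩⟩

theorem simpleTh (hM : MTh) (hF : ∀ W : AddSubgroup Cl, (∀ c ∈ bTh, cd c ∈ W) → FX (wN xTh) ≤ W) :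
    IsSimpleGroup (S2 (gel 54) (axW [39, 53]) (axW ([39, 53] ++ muTh))) ∧
      ∀ k ∈ S2 (gel 54) (axW [39, 53]) (axW ([39, 53] ++ muTh)), k * wd gel xTh = wd gel xTh * k :=
  hypK_pair hM axW_Dd axW_Dd ttA ttTh (Subtype.ext (wd_append _ _)) zTh (hF (qSub _ zTh) qTh) hsTh
    (mem_axW Cs.aTh3 Cs.bTh3) (t_z (by decide +kernel)) (mem_FX (c := cTh) _ (by decide +kernel))
    (t_xq (w := [15, 17, 0, 2, 4, 7]) (by decide) (by decide) _ (by decide +kernel))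

theorem zHN : DD.z ∈ S2 (gel 54) (axW [39, 53]) (axW ([39, 53] ++ muHN)) := by
  have := mem_axW Cs.aHN4 Cs.bHN4
  rwa [wd_cons, gel_z, show wd gel [] = 1 from rfl, one_mul] at this

theorem qHN : ∀ c ∈ bHN, DD.xq (cd c) ∈ S2 (gel 54) (axW [39, 53]) (axW ([39, 53] ++ muHN)) :=
  List.forall_mem_cons.2 ⟨xq_of_wd zHN (mem_axW Cs.aHN5 Cs.bHN5),
  List.forall_mem_cons.2 ⟨xq_of_wd zHN (mem_axW Cs.aHN6 Cs.bHN6),
  List.forall_mem_cons.2 ⟨xq_of_wd zHN (mem_axW Cs.aHN7 Cs.bHN7),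
  List.forall_mem_cons.2 ⟨xq_of_wd zHN (mem_axW Cs.aHN8 Cs.bHN8),
  List.forall_mem_cons.2 ⟨xq_of_wd zHN (mem_axW Cs.aHN9 Cs.bHN9),
  List.forall_mem_cons.2 ⟨xq_of_wd zHN (mem_axW Cs.aHN10 Cs.bHN10),
  List.forall_mem_cons.2 ⟨xq_of_wd zHN (mem_axW Cs.aHN11 Cs.bHN11),
  List.forall_mem_cons.2 ⟨xq_of_wd zHN (mem_axW Cs.aHN12 Cs.bHN12),
  List.forall_mem_nil _⟩⟩⟩⟩⟩⟩⟩⟩

theorem hsHN : ∀ h ∈ HHN, h.1 ∈ S2 (gel 54) (axW [39, 53]) (axW ([39, 53] ++ muHN)) :=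
  List.forall_mem_cons.2 ⟨mem_axW Cs.aHN0 Cs.bHN0,
  List.forall_mem_cons.2 ⟨mem_axW Cs.aHN1 Cs.bHN1,
  List.forall_mem_cons.2 ⟨mem_axW Cs.aHN2 Cs.bHN2,
  List.forall_mem_nil _⟩⟩⟩

theorem simpleHN (hM : MHN) (hF : ∀ W : AddSubgroup Cl, (∀ c ∈ bHN, cd c ∈ W) → FX (wN xHN) ≤ W) :
    IsSimpleGroup (S2 (gel 54) (axW [39, 53]) (axW ([39, 53] ++ muHN))) ∧
      ∀ k ∈ S2 (gel 54) (axW [39, 53]) (axW ([39, 53] ++ muHN)), k * wd gel xHN = wd gel xHN * k :=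
  hypK_pair hM axW_Dd axW_Dd ttA ttHN (Subtype.ext (wd_append _ _)) zHN (hF (qSub _ zHN) qHN) hsHN
    (mem_axW Cs.aHN3 Cs.bHN3) (t_z (by decide +kernel)) (mem_FX (c := cHN) _ (by decide +kernel))
    (t_xq (w := [12, 13, 20, 0, 2, 3, 5, 8, 9]) (by decide) (by decide) _ (by decide +kernel))

end

end CfsgMO.Sb
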