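/-
Subgroups of the Monster: the words (first letter acts first).
-/
import Cfsg.Agent.MO.Sb0
import Cfsg.Agent.MO.Fin2

set_option autoImplicit false

namespace CfsgMO

open Dat

noncomputable section

/-- the element of `N` given by a word -/
def wN (w : List ℕ) (h : okN w = true := by decide) : DD.N := ⟨wd gel w, alph.wd_N h⟩

namespace Sb

/-- the involution of the axis `wd [39, 53] (a 1)` -/
def d1w : List ℕ := [39, 50, 48, 49, 46, 43, 42, 41, 26, 33, 34, 12, 13, 14, 18, 20, 23, 8, 9, 24]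

/-! ### Th -/

def muTh : List ℕ := [36, 36, 46]
def d2Th : List ℕ := [38, 44, 44, 39, 50, 48, 49, 46, 43, 42, 41, 26, 33, 34, 12, 13, 14, 18, 20, 23, 8, 9, 24, 36, 36, 46]
def xTh : List ℕ := d2Th ++ d1w
def hTh0 : List ℕ := [36, 47, 43, 49, 39, 50, 29, 35, 13, 14, 3, 6, 8, 9]
def hTh1 : List ℕ := [40, 50, 48, 43, 37, 51, 26, 28, 31, 33, 13, 6, 8, 10]
def hTh2 : List ℕ := [27, 53, 31, 44, 28, 53, 47, 53, 41, 44, 43, 42, 39, 26, 27, 12, 13, 14, 15, 3, 5, 6, 7, 11]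
/-- `g = wd (54 :: mTh)` -/
def mTh : List ℕ := [25, 26, 27, 28, 31, 33, 13, 14, 2, 3, 5, 8, 9]
def cTh : ℕ := 163989
def nTh : List ℕ := [25, 27, 29, 32]
/-- a basis of the fixed classes -/
def bTh : List ℕ := [68097, 163989, 264852, 576001, 1061771, 2154546, 4217133, 8388608]
def RTh : List DD.N := [wN d1w, wN d2Th]
def HTh : List DD.N := [wN hTh0, wN hTh1, wN hTh2]
/-- to prove (WP-G) -/
def MTh : Prop := HypM RTh (wN xTh) HTh (wN nTh)

/-! ### HN -/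

def muHN : List ℕ := [38]
def d2HN : List ℕ := [46, 39, 50, 48, 49, 46, 43, 42, 41, 26, 33, 34, 12, 13, 14, 18, 20, 23, 8, 9, 24, 38]
def xHN : List ℕ := d2HN ++ d1w
def hHN0 : List ℕ := [39, 50, 47, 40, 37, 36, 25, 28, 30, 31, 13, 0, 4, 5, 8]
def hHN1 : List ℕ := [48, 49, 50, 48, 38, 41, 51, 26, 13, 14, 3, 4, 7, 8]
def hHN2 : List ℕ := [47, 43, 34, 53, 44, 53, 36, 51, 39, 26, 30, 31, 14, 16, 1, 4, 6, 7, 9, 11]
/-- `g = wd (54 :: mHN)` -/
def mHN : List ℕ := [25, 26, 30, 31, 13, 14, 0, 1, 9]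
def cHN : ℕ := 1061677
def nHN : List ℕ := [25, 27, 28, 30, 33, 34]
/-- a basis of the fixed classes -/
def bHN : List ℕ := [49152, 147456, 350612, 608560, 1061677, 2191546, 4195223, 8388608]
def RHN : List DD.N := [wN d1w, wN d2HN]
def HHN : List DD.N := [wN hHN0, wN hHN1, wN hHN2]
/-- to prove (WP-G) -/
def MHN : Prop := HypM RHN (wN xHN) HHN (wN nHN)

/-! ### He (`T = t = gel 54`, `u = cd 2048`) -/

def xHe : List ℕ := [36, 39, 12, 13, 15, 18, 20, 21]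
def yHe : List ℕ := [36, 37, 48, 49, 42, 51, 50, 38, 13, 14, 18]
/-- the five non-trivial permutations -/
def pHe : List (List ℕ) := [[36, 46, 36, 36, 37, 47, 46, 51, 14, 16, 17, 0, 1, 2, 9, 10], [36, 42, 42, 44, 47, 41, 43, 37, 16, 20, 0, 1, 2, 9, 10], [46, 42, 47, 47, 38, 44, 46, 12, 14, 20], [38, 36, 46, 39, 39, 50, 38, 12, 16, 20, 0, 1, 2, 9, 10], [37, 43, 42, 51, 46, 44, 40, 41, 12, 16, 17, 20, 0, 1, 2, 9, 10]]
/-- two sign changes -/
def sHe : List (List ℕ) := [[25, 28, 30, 33, 0, 3, 5, 8], [25, 26, 27, 34, 35, 12, 0, 1, 2, 9, 10]]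
/-- the seven frames and the words moving them to the standard frame -/
def fHe : List ℕ := [8388608, 7493127, 8865582, 15881735, 476974, 7672105, 16060713]
def hHe : List (List ℕ) := [[], [46, 45, 50, 33, 28, 53, 38, 53, 50, 38, 39, 51, 47, 44, 25, 26, 28, 31, 32, 12, 14, 16, 17, 20, 1, 3, 4, 6, 7, 8, 9], [39, 51, 45, 35, 53, 47, 53, 40, 44, 39, 49, 51, 42, 49, 26, 29, 30, 32, 13, 14, 17, 0, 5, 7, 10], [46, 45, 50, 33, 53, 38, 53, 40, 42, 47, 44, 49, 40, 46, 26, 30, 32, 34, 13, 14, 3, 7, 8, 9, 10], [39, 33, 51, 45, 53, 47, 53, 40, 44, 39, 49, 51, 42, 49, 26, 29, 30, 32, 17, 0, 1, 2, 4, 5, 6, 7, 8], [46, 26, 36, 53, 42, 39, 53, 38, 49, 40, 50, 49, 50, 51, 25, 26, 27, 29, 32, 13, 15, 17, 20, 1, 2, 3, 4, 9], [29, 46, 36, 53, 49, 43, 53, 47, 37, 49, 46, 41, 48, 50, 48, 25, 29, 30, 32, 15, 16, 17, 20, 0, 2, 3, 4, 5, 6, 9, 10]]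
def cHe : ℕ := 476974
def nHe : List ℕ := [26, 27, 28, 30, 33, 34, 35]
def bHe : List ℕ := [2048, 476974, 665095, 3405614, 4301097, 8388608]
/-- the short classes -/
def shHe : List ℕ := [2048, 479022, 878889, 3405614, 3407662, 3452928, 3454976, 4101639, 4103687, 5029888, 5031936, 7495175, 7892992, 9055751, 9265449, 11841536, 12179753, 12691753, 13418496, 16281600, 16727854]
/-- `gHe` moves the frame `11794222` (one of the other seven) to the standard frame and conjugates `x`, `y` to `xHe2`, `yHe2` -/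
def gHe : List ℕ := [46, 49, 33, 53, 48, 53]
def xHe2 : List ℕ := [37, 42, 36, 50, 47, 49, 51, 40, 26, 28, 30, 31, 32, 35, 13, 14, 16, 17, 19, 1, 2, 3, 4, 6, 8, 9]
def yHe2 : List ℕ := [38, 36, 50, 46, 51, 47, 43, 50, 27, 30, 31, 34, 35, 15, 16, 19, 23, 6, 7, 8, 10, 24]
def RHe : List DD.N := [wN xHe, wN yHe]
def HHe : List DD.N := [wN (pHe.getD 0 []), wN (pHe.getD 1 []), wN (pHe.getD 2 []), wN (pHe.getD 3 []), wN (pHe.getD 4 []), wN (sHe.getD 0 []), wN (sHe.getD 1 []), wN (hHe.getD 1 []), wN (hHe.getD 2 []), wN (hHe.getD 3 []), wN (hHe.getD 4 []), wN (hHe.getD 5 []), wN (hHe.getD 6 [])]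
/-- to prove (WP-G) -/
def MHe : Prop := HypM RHe (wN xHe) HHe (wN nHe)

end Sb

end

end CfsgMO
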