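/-
The Held group: vectors, words and tables.
-/
import Cfsg.Agent.MO.AxD
import Cfsg.Agent.MO.SbK
import Cfsg.Agent.MO.DH0
import Cfsg.Agent.MO.DH1

set_option autoImplicit false

namespace CfsgMO

noncomputable section

/-- the thirteen old vectors, eleven orbit representatives, and the 42 short axes -/
def avH : ℕ → List ℕ := gdL [] [Dt.av0, Dt.av1, Dt.av2, Dt.av3, Dt.av4, Dt.av5, Dt.av6, Dt.av7, Dt.av8, Dt.av9, Dt.av10, Dt.av11, Dt.av12, Dt.sa10, Dt.hb1, Dt.hb2, Dt.hb3, Dt.hb4, Dt.hb5, Dt.hb6, Dt.hb7, Dt.hb8, Dt.hb9, Dt.hb10, Dt.sa0, Dt.sa1, Dt.sa2, Dt.sa3, Dt.sa4, Dt.sa5, Dt.sa6, Dt.sa7, Dt.sa8, Dt.sa9, Dt.sa10, Dt.sa11, Dt.sa12, Dt.sa13, Dt.sa14, Dt.sa15, Dt.sa16, Dt.sa17, Dt.sa18, Dt.sa19, Dt.sa20, Dt.sa21, Dt.sa22, Dt.sa23, Dt.sa24, Dt.sa25, Dt.sa26, Dt.sa27, Dt.sa28, Dt.sa29, Dt.sa30, Dt.sa31, Dt.sa32,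 Dt.sa33, Dt.sa34, Dt.sa35, Dt.sa36, Dt.sa37, Dt.sa38, Dt.sa39, Dt.sa40, Dt.sa41]
def xW : List ℕ := [36, 39, 12, 13, 15, 18, 20, 21]
def yW : List ℕ := [36, 37, 48, 49, 42, 51, 50, 38, 13, 14, 18]
/-- the blocks -/
def blk : List (List ℕ) := [[], [46, 45, 50, 33, 28, 53, 38, 53, 50, 38, 39, 51, 47, 44, 25, 26, 28, 31, 32, 12, 14, 16, 17, 20, 1, 3, 4, 6, 7, 8, 9], [39, 51, 45, 35, 53, 47, 53, 40, 44, 39, 49, 51, 42, 49, 26, 29, 30, 32, 13, 14, 17, 0, 5, 7, 10], [46, 45, 50, 33, 53, 38, 53, 40, 42, 47, 44, 49, 40, 46, 26, 30, 32, 34, 13, 14, 3, 7, 8, 9, 10], [39, 33, 51, 45, 53, 47, 53, 40, 44, 39, 49, 51, 42, 49, 26, 29, 30, 32, 17, 0, 1, 2, 4, 5, 6, 7, 8], [46, 26, 36, 53, 42, 39, 53, 38, 49, 40, 50, 49, 50, 51, 25, 26, 27, 29, 32, 13, 15, 17, 20, 1, 2, 3, 4, 9], [29, 46, 36, 53, 49, 43, 53, 47, 37, 49, 46,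 41, 48, 50, 48, 25, 29, 30, 32, 15, 16, 17, 20, 0, 2, 3, 4, 5, 6, 9, 10], [36, 46, 36, 36, 37, 47, 46, 51, 14, 16, 17, 0, 1, 2, 9, 10], [36, 42, 42, 44, 47, 41, 43, 37, 16, 20, 0, 1, 2, 9, 10], [46, 42, 47, 47, 38, 44, 46, 12, 14, 20], [38, 36, 46, 39, 39, 50, 38, 12, 16, 20, 0, 1, 2, 9, 10], [37, 43, 42, 51, 46, 44, 40, 41, 12, 16, 17, 20, 0, 1, 2, 9, 10], [25, 28, 30, 33, 0, 3, 5, 8], [25, 26, 27, 34, 35, 12, 0, 1, 2, 9, 10], [11], [14, 16, 17, 18, 1, 2, 3, 5, 8, 9, 10], [13, 17, 19, 0, 1, 2, 9, 10], [12, 13, 14, 15, 16, 17, 20, 21, 1, 2, 3, 5, 8, 9, 10], [13, 15, 16, 22, 0, 3, 5, 8], [23], [24], [54]]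
/-- the word of a list of blocks -/
def fl (L : List ℕ) : List ℕ := List.rec [] (fun a _ ih => gdL [] blk a ++ ih) L
/-- the neighbours -/
def nbN (k i s : ℕ) : ℕ := kgd [0, 0, 1, 1, 2, 2, 1, 1, 0, 0, 1, 1, 1, 1, 0, 1, 3, 3, 3, 3, 3, 3, 3, 3, 4, 4, 4, 4, 0, 2, 4, 4, 2, 2, 4, 4, 2, 2, 4, 4, 4, 4, 1, 3, 5, 5, 3, 6, 5, 5, 1, 3, 5, 5, 5, 5, 1, 4, 4, 1, 7, 7, 4, 2, 7, 7, 7, 7, 7, 7, 3, 5, 5, 8, 7, 5, 7, 5, 5, 8, 5, 9, 5, 5, 3, 3, 9, 9, 6, 6, 9, 9, 3, 3, 9, 9, 9, 9, 4, 7, 7, 4, 5, 5, 10, 7, 5, 5, 5, 5, 5, 5, 5, 5, 8, 8, 8, 9, 9, 8, 5, 5, 10, 8, 8, 8, 5, 5, 6, 9, 5, 5, 9, 9, 8, 8, 8, 8, 9, 9, 7, 7, 7, 7, 8, 8, 10, 10, 8, 8, 8, 8, 8, 8] (14 * k + 2 * i + s) % 11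
/-- the positions of the short classes -/
def posT : ℕ → ℕ := kgd [56832, 187694, 57129, 41217, 58670, 2752, 185856, 33153, 58375, 320, 69120, 70663, 2754, 187399, 13825, 2784, 186153, 69417, 352, 2786, 70958]
/-- the inner products -/
def ipT (k x : ℕ) : ℕ := kgd (gdL [] [[512, 512, 512, 512, 128, 128, 0, 0, 512, 512, 4096, 0, 512, 512, 128, 128, 128, 128, 512, 512, 0, 0, 128, 128, 512, 512, 128, 128, 128, 128, 0, 0, 128, 128, 128, 128, 512, 512, 512, 512, 0, 0], [208, 208, 80, 80, 208, 208, 64, 64, 208, 208, 512, 128, 80, 80, 64, 64, 208, 208, 128, 512, 80, 80, 80, 80, 128, 0, 80, 80, 128, 128, 512, 128, 80, 80, 80, 80, 128, 512, 128, 0, 80, 80], [64, 64, 64, 64, 64, 64, 512, 0, 64, 64, 0, 0, 64, 64, 0, 0, 64, 64, 128, 128, 128, 128, 128, 128, 128, 128, 64, 64, 0, 0, 0, 0, 64, 64, 128, 128, 128, 128, 128,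 128, 128, 128], [80, 208, 80, 208, 80, 80, 128, 64, 208, 80, 512, 64, 208, 80, 80, 80, 80, 80, 80, 208, 64, 128, 80, 80, 208, 80, 80, 80, 80, 80, 128, 64, 80, 80, 80, 80, 80, 208, 208, 80, 128, 64], [80, 80, 96, 96, 64, 128, 96, 96, 64, 128, 80, 80, 64, 64, 0, 128, 80, 80, 128, 128, 80, 80, 80, 80, 80, 80, 64, 64, 96, 96, 80, 80, 96, 96, 128, 64, 128, 0, 80, 80, 128, 64], [128, 80, 80, 128, 80, 80, 80, 96, 128, 80, 208, 80, 80, 80, 80, 96, 128, 80, 80, 208, 80, 80, 128, 80, 80, 64, 96, 80, 80, 80, 80, 80, 80, 64, 64, 80, 80, 80, 80, 128, 80, 96], [80, 80, 80, 80, 208, 208, 64, 64, 80, 80, 128, 128, 80, 80, 512, 128, 208, 208, 80, 80, 0, 128, 512, 128, 80, 80, 208, 208, 128, 512, 64, 64, 208, 208, 512, 128, 80, 80, 80, 80, 0, 128], [80, 96, 80, 80, 80, 80, 80, 80, 80, 80, 96, 80, 128, 64, 64, 128, 80, 96,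 64, 64, 80, 96, 80, 96, 96, 80, 128, 64, 80, 80, 96, 80, 80, 80, 80, 80, 64, 128, 96, 80, 80, 80], [80, 80, 80, 128, 96, 208, 80, 80, 80, 80, 208, 96, 128, 128, 80, 128, 128, 128, 128, 128, 128, 96, 80, 64, 80, 80, 96, 128, 80, 64, 80, 80, 128, 128, 128, 80, 80, 80, 128, 80, 96, 0], [208, 128, 96, 96, 128, 128, 80, 80, 128, 128, 80, 80, 128, 128, 512, 80, 80, 128, 80, 128, 512, 80, 0, 208, 128, 128, 80, 80, 128, 80, 96, 96, 80, 80, 208, 128, 80, 80, 80, 80, 80, 128], [80, 80, 64, 128, 96, 96, 128, 64, 96, 96, 80, 80, 128, 0, 64, 64, 80, 80, 128, 128, 80, 80, 80, 80, 80, 80, 0, 128, 128, 64, 80, 80, 128, 64, 96, 96, 64, 64, 80, 80, 96, 96]] k) x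

def chkN (k i s d1 d2 : ℕ) (L1 L2 : List ℕ) : Bool :=
  chkL tab avH (13 + k) (13 + nbN k i s) d1 d2 (fl (i :: 14 * s :: 21 :: L1)) (fl L2)

def chkPP (k j : ℕ) : Bool :=
  chkP avH (13 + k) (24 + 2 * j) (posT j) (Int.ofNat (ipT k (2 * j))) (Int.ofNat (ipT k (2 * j + 1)))

end

end CfsgMO
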