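/-
Checks for the Held group, part 0.
-/
import Cfsg.Agent.MO.SbE

set_option autoImplicit false
set_option Elab.async false
set_option maxRecDepth 100000

namespace CfsgMO.Cs

theorem mH26 : chkL tab avH (24 + 20) (24 + 7) 0 0 (fl [2, 14, 21, 2, 21, 4, 21, 2, 14, 21]) (fl [1]) = true := by
  decide +kernel

theorem pp0 : allL (chkPP 0) (List.range 21) = true := by
  decide +kernel

theorem mH15 : chkL tab avH (24 + 7) (24 + 30) 0 0 (fl [2, 14, 16, 17, 18, 20, 21]) (fl [2, 14]) = true := by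
  decide +kernel

theorem lH24 : chkL tab avH (13 + 9) (13 + 6) 1 1 (fl [1, 12, 15, 19, 20, 21]) (fl [1, 10, 14, 16]) = true := by
  decide +kernel

theorem n4_3_1 : chkN 4 3 1 1 0 [10, 14, 16] [1] = true := by
  decide +kernel

theorem n7_5_1 : chkN 7 5 1 1 0 [8, 12, 15, 16, 17] [2] = true := by
  decide +kernel

theorem n9_6_1 : chkN 9 6 1 0 0 [9, 12, 17, 19] [3] = true := by
  decide +kernel

theorem cy5 : chkL tab av 11 11 0 0 (gdL [] blk 5 ++ yW) (yW ++ gdL [] blk 5) = true := by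
  decide +kernel

theorem cy1 : chkL tab av 11 11 0 0 (gdL [] blk 1 ++ yW) (yW ++ gdL [] blk 1) = true := by
  decide +kernel

theorem n5_2_0 : chkN 5 2 0 0 1 [10] [2] = true := by
  decide +kernel

theorem lH16 : chkL tab avH (13 + 2) (13 + 4) 0 1 (fl [3, 16, 19, 21]) (fl [3, 14, 16, 18]) = true := by
  decide +kernel

theorem n0_6_0 : chkN 0 6 0 0 0 [10] [] = true := by
  decide +kernel

theorem n1_3_0 : chkN 1 3 0 0 4 [10, 15, 19] [] = true := by
  decide +kernel

theorem n5_6_0 : chkN 5 6 0 0 0 [12, 14] [6] = true := by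
  decide +kernel

theorem n10_5_1 : chkN 10 5 1 1 0 [16, 17, 18] [5] = true := by
  decide +kernel

theorem t11 : chkL tab avH (24 + 2 * 11) 13 0 0 (fl [1, 10, 16]) (fl []) = true := by
  decide +kernel

theorem cx6 : chkL tab av 11 11 0 0 (gdL [] blk 6 ++ xW) (xW ++ gdL [] blk 6) = true := by
  decide +kernel

theorem cx3 : chkL tab av 11 11 0 0 (gdL [] blk 3 ++ xW) (xW ++ gdL [] blk 3) = true := by
  decide +kernel

theorem lH13 : chkL tab avH (13 + 4) (13 + 4) 1 1 (fl [1, 9, 15, 16, 17, 19, 20, 21]) (fl [12, 14]) = true := by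
  decide +kernel

theorem lH8 : chkL tab avH (13 + 0) (13 + 2) 0 3 (fl [2, 14, 15, 16, 17, 19, 21]) (fl []) = true := by
  decide +kernel

theorem t16 : chkL tab avH (24 + 2 * 16) 13 0 0 (fl [6, 12, 16]) (fl []) = true := by
  decide +kernel

theorem n4_5_1 : chkN 4 5 1 0 1 [9, 12, 15, 17, 19] [] = true := by
  decide +kernel

theorem mH7 : chkL tab avH (24 + 6) (24 + 30) 0 0 (fl [4, 18, 19, 20]) (fl [12]) = true := by
  decide +kernel

theorem n0_3_0 : chkN 0 3 0 0 0 [20] [] = true := by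
  decide +kernel

theorem n3_0_0 : chkN 3 0 0 4 0 [] [1] = true := by
  decide +kernel

theorem t4 : chkL tab avH (24 + 2 * 4) 13 0 0 (fl [3]) (fl []) = true := by
  decide +kernel

theorem n3_3_0 : chkN 3 3 0 0 0 [15, 16, 18, 19, 20] [] = true := by
  decide +kernel

theorem n8_0_0 : chkN 8 0 0 0 0 [14] [1] = true := by
  decide +kernel

theorem ty : chkL tab av 11 11 0 0 [36, 14, 16, 17, 19, 21, 22, 37, 12, 15, 18, 20, 21, 20, 19, 16, 15, 14, 12, 48, 20, 18, 17, 15, 13, 12, 49, 42, 12, 14, 15, 16, 19, 20, 21, 22, 20, 18, 15, 13, 12, 51, 21, 20, 19, 16, 15, 14, 12, 50, 38, 13, 14, 18] [36, 37, 48, 49, 42, 51, 50, 38, 13, 14, 18] = true := by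
  decide +kernel

theorem cy16 : chkL tab av 11 11 0 0 (gdL [] blk 16 ++ yW) (yW ++ gdL [] blk 16) = true := by
  decide +kernel

theorem v16 : chkW tab avH 12 57 0 0 [27, 39, 52, 35, 37, 52, 29, 30] = true := by
  decide +kernel

theorem v17 : chkW tab avH 12 59 0 0 [27, 38, 52, 33, 46, 52, 30] = true := by
  decide +kernel

theorem u11 : chkW tab avH 0 47 0 0 [42, 52, 37, 30, 52, 28, 35] = true := by
  decide +kernel

theorem u4 : chkW tab avH 0 32 0 0 [51, 52, 30, 44, 52, 28] = true := by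
  decide +kernel

theorem u7 : chkW tab avH 0 38 0 0 [39, 52, 35, 37, 49] = true := by
  decide +kernel

theorem cx16 : chkL tab av 11 11 0 0 (gdL [] blk 16 ++ xW) (xW ++ gdL [] blk 16) = true := by
  decide +kernel

theorem lH0 : chkL tab avH (13 + 2) (13 + 2) 0 0 (fl [15, 17, 18, 19]) (fl [12, 18]) = true := by
  decide +kernel

theorem u19 : chkW tab avH 0 63 0 0 [27, 47, 42] = true := by
  decide +kernel

theorem u9 : chkW tab avH 0 42 0 0 [42, 48] = true := by
  decide +kernel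

theorem n2_0_1 : chkN 2 0 1 0 0 [14] [] = true := by
  decide +kernel

end CfsgMO.Cs
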