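/-
Checks for the Held group, part 1.
-/
import Cfsg.Agent.MO.SbE

set_option autoImplicit false
set_option Elab.async false
set_option maxRecDepth 100000

namespace CfsgMO.Cs

theorem lH26 : chkL tab avH (13 + 6) (13 + 0) 4 0 (fl [2, 14, 21, 2, 21, 4, 21, 2, 14, 21]) (fl [1]) = true := by
  decide +kernel

theorem mH22 : chkL tab avH (24 + 13) (24 + 26) 0 0 (fl [4, 9, 14, 15, 17, 18, 20]) (fl [5, 14, 17, 19]) = true := by
  decide +kernel

theorem mH18 : chkL tab avH (24 + 14) (24 + 29) 0 0 (fl [3, 14, 16, 17, 20, 21]) (fl [6, 14, 15]) = true := by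
  decide +kernel

theorem n6_5_1 : chkN 6 5 1 1 1 [9, 13, 15, 16] [1] = true := by
  decide +kernel

theorem n6_1_1 : chkN 6 1 1 1 1 [10, 12, 18] [1] = true := by
  decide +kernel

theorem n10_6_1 : chkN 10 6 1 1 0 [9, 12, 15, 17, 18] [5] = true := by
  decide +kernel

theorem n9_6_0 : chkN 9 6 0 0 0 [9, 12, 14, 15, 16] [3] = true := by
  decide +kernel

theorem n7_2_1 : chkN 7 2 1 1 0 [11, 17, 18] [2] = true := by
  decide +kernel

theorem cy2 : chkL tab av 11 11 0 0 (gdL [] blk 2 ++ yW) (yW ++ gdL [] blk 2) = true := by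
  decide +kernel

theorem mH13 : chkL tab avH (24 + 14) (24 + 37) 0 0 (fl [1, 9, 15, 16, 17, 19, 20, 21]) (fl [12, 14]) = true := by
  decide +kernel

theorem n2_5_0 : chkN 2 5 0 0 1 [14, 17] [3] = true := by
  decide +kernel

theorem n7_6_0 : chkN 7 6 0 1 0 [12, 13, 15, 16, 17] [2] = true := by
  decide +kernel

theorem n0_5_1 : chkN 0 5 1 0 0 [10, 15, 20] [] = true := by
  decide +kernel

theorem n8_1_1 : chkN 8 1 1 0 0 [12, 13, 15, 16, 19] [1] = true := by
  decide +kernel

theorem t1 : chkL tab avH (24 + 2 * 1) 13 0 0 (fl [5, 9, 16]) (fl []) = true := by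
  decide +kernel

theorem t2 : chkL tab avH (24 + 2 * 2) 13 0 0 (fl [3, 9, 16]) (fl []) = true := by
  decide +kernel

theorem t8 : chkL tab avH (24 + 2 * 8) 13 0 0 (fl [1, 9, 16]) (fl []) = true := by
  decide +kernel

theorem cx1 : chkL tab av 11 11 0 0 (gdL [] blk 1 ++ xW) (xW ++ gdL [] blk 1) = true := by
  decide +kernel

theorem mH12 : chkL tab avH (24 + 37) (24 + 39) 0 0 (fl [12, 15, 16, 17, 21]) (fl [5, 14, 19]) = true := by
  decide +kernel

theorem n4_6_0 : chkN 4 6 0 0 1 [10, 12, 15, 17, 18, 19, 20] [] = true := by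
  decide +kernel

theorem n3_6_1 : chkN 3 6 1 0 0 [8, 13] [] = true := by
  decide +kernel

theorem n1_2_1 : chkN 1 2 1 0 4 [15, 18] [] = true := by
  decide +kernel

theorem n4_0_0 : chkN 4 0 0 4 0 [] [5] = true := by
  decide +kernel

theorem n0_2_1 : chkN 0 2 1 0 3 [] [] = true := by
  decide +kernel

theorem n1_1_0 : chkN 1 1 0 0 4 [] [] = true := by
  decide +kernel

theorem t3 : chkL tab avH (24 + 2 * 3) 13 0 0 (fl [2]) (fl []) = true := by
  decide +kernel

theorem cx11 : chkL tab av 11 11 0 0 (gdL [] blk 11 ++ xW) (xW ++ gdL [] blk 11) = true := by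
  decide +kernel

theorem n4_2_0 : chkN 4 2 0 0 1 [] [] = true := by
  decide +kernel

theorem cy13 : chkL tab av 11 11 0 0 (gdL [] blk 13 ++ yW) (yW ++ gdL [] blk 13) = true := by
  decide +kernel

theorem cy19 : chkL tab av 11 11 0 0 (gdL [] blk 19 ++ yW) (yW ++ gdL [] blk 19) = true := by
  decide +kernel

theorem t18 : chkL tab avH (24 + 2 * 18) 13 0 0 (fl [10, 12, 16]) (fl []) = true := by
  decide +kernel

theorem v10 : chkW tab avH 12 45 0 0 [27, 37, 52, 37, 52, 29, 34] = true := by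
  decide +kernel

theorem v4 : chkW tab avH 12 33 0 0 [51, 52, 30, 44, 52, 28] = true := by
  decide +kernel

theorem u20 : chkW tab avH 0 64 0 0 [51, 52, 44, 52, 28] = true := by
  decide +kernel

theorem cx12 : chkL tab av 11 11 0 0 (gdL [] blk 12 ++ xW) (xW ++ gdL [] blk 12) = true := by
  decide +kernel

theorem mH0 : chkL tab avH (24 + 11) (24 + 31) 0 0 (fl [15, 17, 18, 19]) (fl [12, 18]) = true := by
  decide +kernel

theorem lH2 : chkL tab avH (13 + 2) (13 + 2) 0 0 (fl [14, 15, 17, 18, 19]) (fl [12, 14, 18]) = true := by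
  decide +kernel

theorem u15 : chkW tab avH 0 55 0 0 [27, 48, 43] = true := by
  decide +kernel

theorem n7_0_1 : chkN 7 0 1 0 0 [12, 14, 15, 16, 20] [] = true := by
  decide +kernel

theorem n3_0_1 : chkN 3 0 1 0 0 [14] [] = true := by
  decide +kernel

end CfsgMO.Cs
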