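/-
Checks for the Held group, part 2.
-/
import Cfsg.Agent.MO.SbE

set_option autoImplicit false
set_option Elab.async false
set_option maxRecDepth 100000

namespace CfsgMO.Cs

theorem mH25 : chkL tab avH (24 + 25) (24 + 22) 0 0 (fl [5, 14, 21, 2, 21, 4, 21, 2, 14, 21]) (fl [15, 16, 20]) = true := by
  decide +kernel

theorem pp10 : allL (chkPP 10) (List.range 21) = true := by
  decide +kernel

theorem mH19 : chkL tab avH (24 + 20) (24 + 40) 0 0 (fl [6, 14, 15, 16, 17]) (fl [5, 13, 16, 17, 19]) = true := by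
  decide +kernel

theorem n6_3_0 : chkN 6 3 0 1 1 [11, 12, 16, 18] [1] = true := by
  decide +kernel

theorem n2_1_0 : chkN 2 1 0 0 1 [9, 14, 15, 17, 19] [3] = true := by
  decide +kernel

theorem n9_2_1 : chkN 9 2 1 0 0 [11, 12, 14, 15, 17, 18] [5] = true := by
  decide +kernel

theorem n7_4_0 : chkN 7 4 0 1 0 [7, 12, 15, 18] [2] = true := by
  decide +kernel

theorem n7_2_0 : chkN 7 2 0 1 0 [9, 12, 16, 17, 18, 20] [2] = true := by
  decide +kernel

theorem cy3 : chkL tab av 11 11 0 0 (gdL [] blk 3 ++ yW) (yW ++ gdL [] blk 3) = true := by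
  decide +kernel

theorem n8_5_0 : chkN 8 5 0 0 1 [9, 14, 19] [2] = true := by
  decide +kernel

theorem lH15 : chkL tab avH (13 + 2) (13 + 2) 0 0 (fl [2, 14, 16, 17, 18, 20, 21]) (fl [2, 14]) = true := by
  decide +kernel

theorem n6_2_0 : chkN 6 2 0 1 1 [14, 15, 16] [2] = true := by
  decide +kernel

theorem n2_3_1 : chkN 2 3 1 0 1 [14, 15, 19] [3] = true := by
  decide +kernel

theorem lH20 : chkL tab avH (13 + 10) (13 + 8) 1 0 (fl [5, 15, 16, 17, 19, 21]) (fl [5, 13, 19, 20]) = true := by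
  decide +kernel

theorem n8_3_0 : chkN 8 3 0 0 0 [13, 15, 16] [5] = true := by
  decide +kernel

theorem n9_3_0 : chkN 9 3 0 0 0 [12, 15, 16, 19] [3] = true := by
  decide +kernel

theorem n8_3_1 : chkN 8 3 1 0 0 [14, 15, 17] [3] = true := by
  decide +kernel

theorem cx5 : chkL tab av 11 11 0 0 (gdL [] blk 5 ++ xW) (xW ++ gdL [] blk 5) = true := by
  decide +kernel

theorem mH10 : chkL tab avH (24 + 20) (24 + 39) 0 0 (fl [1, 13, 14, 15, 16, 17, 18, 21]) (fl [16]) = true := by
  decide +kernel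

theorem lH9 : chkL tab avH (13 + 0) (13 + 2) 0 3 (fl [2, 15, 17, 18, 19, 21]) (fl [18]) = true := by
  decide +kernel

theorem n1_6_1 : chkN 1 6 1 0 4 [16, 20] [] = true := by
  decide +kernel

theorem mH6 : chkL tab avH (24 + 21) (24 + 39) 0 0 (fl [1, 16, 17, 18, 21]) (fl [20]) = true := by
  decide +kernel

theorem t10 : chkL tab avH (24 + 2 * 10) 13 0 0 (fl [6, 16]) (fl []) = true := by
  decide +kernel

theorem n4_5_0 : chkN 4 5 0 0 1 [9, 16, 17, 18, 19] [] = true := by
  decide +kernel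

theorem t17 : chkL tab avH (24 + 2 * 17) 13 0 0 (fl [3, 12]) (fl []) = true := by
  decide +kernel

theorem t13 : chkL tab avH (24 + 2 * 13) 13 0 0 (fl [5, 16]) (fl []) = true := by
  decide +kernel

theorem n3_4_1 : chkN 3 4 1 1 1 [14, 15, 18] [] = true := by
  decide +kernel

theorem cx7 : chkL tab av 11 11 0 0 (gdL [] blk 7 ++ xW) (xW ++ gdL [] blk 7) = true := by
  decide +kernel

theorem n5_1_1 : chkN 5 1 1 0 0 [] [] = true := by
  decide +kernel

theorem cy12 : chkL tab av 11 11 0 0 (gdL [] blk 12 ++ yW) (yW ++ gdL [] blk 12) = true := by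
  decide +kernel

theorem t12 : chkL tab avH (24 + 2 * 12) 13 0 0 (fl [9]) (fl []) = true := by
  decide +kernel

theorem u16 : chkW tab avH 0 56 0 0 [27, 39, 52, 35, 37, 52, 29, 30] = true := by
  decide +kernel

theorem u10 : chkW tab avH 0 44 0 0 [27, 37, 52, 37, 52, 29, 34] = true := by
  decide +kernel

theorem u2 : chkW tab avH 0 29 0 0 [43, 52, 32, 49, 52, 29] = true := by
  decide +kernel

theorem u3 : chkW tab avH 0 31 0 0 [38, 52, 50, 34, 38] = true := by
  decide +kernel

theorem tx : chkL tab av 11 11 0 0 [36, 14, 16, 17, 19, 21, 22, 39, 12, 14, 17, 20, 21, 22, 12, 13, 15, 18, 20, 21] [36, 39, 12, 13, 15, 18, 20, 21] = true := by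
  decide +kernel

theorem n4_0_1 : chkN 4 0 1 0 0 [12, 14, 15, 16, 20] [] = true := by
  decide +kernel

theorem v19 : chkW tab avH 12 62 0 0 [27, 47, 42] = true := by
  decide +kernel

theorem v9 : chkW tab avH 12 43 0 0 [42, 48] = true := by
  decide +kernel

theorem n1_0_1 : chkN 1 0 1 0 0 [14] [] = true := by
  decide +kernel

end CfsgMO.Cs
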