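/-
Checks for the Held group, part 3.
-/
import Cfsg.Agent.MO.SbE

set_option autoImplicit false
set_option Elab.async false
set_option maxRecDepth 100000

namespace CfsgMO.Cs

theorem lH25 : chkL tab avH (13 + 1) (13 + 9) 0 4 (fl [5, 14, 21, 2, 21, 4, 21, 2, 14, 21]) (fl [15, 16, 20]) = true := by
  decide +kernel

theorem pp1 : allL (chkPP 1) (List.range 21) = true := by
  decide +kernel

theorem mH20 : chkL tab avH (24 + 26) (24 + 41) 0 0 (fl [5, 15, 16, 17, 19, 21]) (fl [5, 13, 19, 20]) = true := by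
  decide +kernel

theorem n6_5_0 : chkN 6 5 0 1 1 [7, 12, 15, 16] [1] = true := by
  decide +kernel

theorem n2_1_1 : chkN 2 1 1 0 1 [9, 14, 15, 17] [3] = true := by
  decide +kernel

theorem n5_2_1 : chkN 5 2 1 0 0 [7, 12, 14, 15, 16, 17, 18] [2] = true := by
  decide +kernel

theorem n7_1_1 : chkN 7 1 1 1 0 [7, 12, 15, 16, 18] [2] = true := by
  decide +kernel

theorem lH19 : chkL tab avH (13 + 6) (13 + 6) 1 1 (fl [6, 14, 15, 16, 17]) (fl [5, 13, 16, 17, 19]) = true := by
  decide +kernel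

theorem n10_2_1 : chkN 10 2 1 1 0 [10, 17, 18, 19] [5] = true := by
  decide +kernel

theorem lH18 : chkL tab avH (13 + 4) (13 + 2) 1 0 (fl [3, 14, 16, 17, 20, 21]) (fl [6, 14, 15]) = true := by
  decide +kernel

theorem n6_2_1 : chkN 6 2 1 1 1 [15, 16, 17] [2] = true := by
  decide +kernel

theorem n0_6_1 : chkN 0 6 1 0 0 [10, 20] [] = true := by
  decide +kernel

theorem n6_4_1 : chkN 6 4 1 1 1 [14, 16, 19, 20] [2] = true := by
  decide +kernel

theorem n5_1_0 : chkN 5 1 0 0 0 [12, 13, 15, 16, 17, 18, 20] [1] = true := by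
  decide +kernel

theorem t0 : chkL tab avH (24 + 2 * 0) 13 0 0 (fl [1, 10, 12]) (fl []) = true := by
  decide +kernel

theorem n5_5_0 : chkN 5 5 0 0 0 [15, 16, 18, 20] [5] = true := by
  decide +kernel

theorem n5_4_0 : chkN 5 4 0 0 0 [13, 18, 19] [1] = true := by
  decide +kernel

theorem n10_5_0 : chkN 10 5 0 1 0 [20] [5] = true := by
  decide +kernel

theorem lH10 : chkL tab avH (13 + 0) (13 + 1) 0 0 (fl [1, 13, 14, 15, 16, 17, 18, 21]) (fl [16]) = true := by
  decide +kernel

theorem n1_2_0 : chkN 1 2 0 0 4 [12, 17, 18] [] = true := by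
  decide +kernel

theorem cy11 : chkL tab av 11 11 0 0 (gdL [] blk 11 ++ yW) (yW ++ gdL [] blk 11) = true := by
  decide +kernel

theorem lH6 : chkL tab avH (13 + 0) (13 + 1) 0 0 (fl [1, 16, 17, 18, 21]) (fl [20]) = true := by
  decide +kernel

theorem n0_4_1 : chkN 0 4 1 0 0 [16] [] = true := by
  decide +kernel

theorem cy9 : chkL tab av 11 11 0 0 (gdL [] blk 9 ++ yW) (yW ++ gdL [] blk 9) = true := by
  decide +kernel

theorem n1_1_1 : chkN 1 1 1 0 4 [] [] = true := by
  decide +kernel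

theorem t7 : chkL tab avH (24 + 2 * 7) 13 0 0 (fl [1, 12]) (fl []) = true := by
  decide +kernel

theorem n8_0_1 : chkN 8 0 1 0 0 [12, 13, 14, 15, 16, 18] [1] = true := by
  decide +kernel

theorem cx8 : chkL tab av 11 11 0 0 (gdL [] blk 8 ++ xW) (xW ++ gdL [] blk 8) = true := by
  decide +kernel

theorem n5_0_0 : chkN 5 0 0 0 0 [] [1] = true := by
  decide +kernel

theorem cy17 : chkL tab av 11 11 0 0 (gdL [] blk 17 ++ yW) (yW ++ gdL [] blk 17) = true := by
  decide +kernel

theorem v8 : chkW tab avH 12 41 0 0 [27, 38, 52, 27, 36, 52, 28, 33] = true := by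
  decide +kernel

theorem u8 : chkW tab avH 0 40 0 0 [27, 38, 52, 27, 36, 52, 28, 33] = true := by
  decide +kernel

theorem u13 : chkW tab avH 0 51 0 0 [51, 52, 33, 37, 52, 31, 35] = true := by
  decide +kernel

theorem u6 : chkW tab avH 0 36 0 0 [27, 40, 52, 51, 52, 34] = true := by
  decide +kernel

theorem v14 : chkW tab avH 12 52 0 0 [44, 52, 44, 25, 38] = true := by
  decide +kernel

theorem cx18 : chkL tab av 11 11 0 0 (gdL [] blk 18 ++ xW) (xW ++ gdL [] blk 18) = true := by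
  decide +kernel

theorem lH3 : chkL tab avH (13 + 0) (13 + 0) 0 0 (fl [14, 15, 16, 18, 19, 20, 21]) (fl []) = true := by
  decide +kernel

theorem lH4 : chkL tab avH (13 + 0) (13 + 0) 0 0 (fl [14, 16, 18, 19, 21]) (fl []) = true := by
  decide +kernel

theorem lH1 : chkL tab avH (13 + 2) (13 + 2) 0 0 (fl [12, 14, 15, 16, 20]) (fl [14]) = true := by
  decide +kernel

theorem n0_0_1 : chkN 0 0 1 0 0 [] [] = true := by
  decide +kernel

end CfsgMO.Cs
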