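/-
Checks for the Held group, part 4.
-/
import Cfsg.Agent.MO.SbE

set_option autoImplicit false
set_option Elab.async false
set_option maxRecDepth 100000

namespace CfsgMO.Cs

theorem pp9 : allL (chkPP 9) (List.range 21) = true := by
  decide +kernel

theorem pp5 : allL (chkPP 5) (List.range 21) = true := by
  decide +kernel

theorem mH24 : chkL tab avH (24 + 22) (24 + 20) 0 0 (fl [1, 12, 15, 19, 20, 21]) (fl [1, 10, 14, 16]) = true := by
  decide +kernel

theorem n6_6_0 : chkN 6 6 0 1 1 [9, 12, 15, 17] [1] = true := by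
  decide +kernel

theorem lH23 : chkL tab avH (13 + 2) (13 + 2) 0 0 (fl [1, 12, 14, 15, 17, 19]) (fl [5, 10]) = true := by
  decide +kernel

theorem n8_6_1 : chkN 8 6 1 0 0 [8, 12, 13, 15, 16, 20] [1] = true := by
  decide +kernel

theorem n8_4_0 : chkN 8 4 0 0 0 [11, 13, 14, 15, 17, 19] [1] = true := by
  decide +kernel

theorem n10_4_0 : chkN 10 4 0 1 0 [9, 13, 15, 17, 20] [5] = true := by
  decide +kernel

theorem lH14 : chkL tab avH (13 + 0) (13 + 1) 0 0 (fl [5, 12, 15, 16, 20, 21]) (fl [9, 15, 16, 17]) = true := by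
  decide +kernel

theorem n10_1_1 : chkN 10 1 1 1 1 [9, 15, 17, 19] [3] = true := by
  decide +kernel

theorem n2_6_1 : chkN 2 6 1 0 1 [14, 16, 17, 19] [3] = true := by
  decide +kernel

theorem n1_3_1 : chkN 1 3 1 0 4 [10, 12, 15] [] = true := by
  decide +kernel

theorem n2_3_0 : chkN 2 3 0 0 1 [14, 17, 19] [3] = true := by
  decide +kernel

theorem n2_2_1 : chkN 2 2 1 0 0 [] [2] = true := by
  decide +kernel

theorem lH22 : chkL tab avH (13 + 10) (13 + 10) 0 0 (fl [4, 9, 14, 15, 17, 18, 20]) (fl [5, 14, 17, 19]) = true := by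
  decide +kernel

theorem t14 : chkL tab avH (24 + 2 * 14) 13 0 0 (fl [5, 10]) (fl []) = true := by
  decide +kernel

theorem n7_4_1 : chkN 7 4 1 1 0 [15, 16, 18] [2] = true := by
  decide +kernel

theorem n8_2_0 : chkN 8 2 0 0 0 [15, 16, 18, 20] [2] = true := by
  decide +kernel

theorem lH11 : chkL tab avH (13 + 0) (13 + 1) 0 0 (fl [3, 12, 14, 15, 16, 17, 19, 20, 21]) (fl [15, 16]) = true := by
  decide +kernel

theorem n7_3_1 : chkN 7 3 1 0 0 [14, 15, 17, 19] [3] = true := by
  decide +kernel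

theorem n4_1_0 : chkN 4 1 0 1 1 [9, 12, 14, 18, 20] [] = true := by
  decide +kernel

theorem n1_4_0 : chkN 1 4 0 0 4 [12, 16, 19] [] = true := by
  decide +kernel

theorem t20 : chkL tab avH (24 + 2 * 20) 13 0 0 (fl [5, 12, 16]) (fl []) = true := by
  decide +kernel

theorem cy10 : chkL tab av 11 11 0 0 (gdL [] blk 10 ++ yW) (yW ++ gdL [] blk 10) = true := by
  decide +kernel

theorem n0_3_1 : chkN 0 3 1 0 0 [20] [] = true := by
  decide +kernel

theorem n0_1_1 : chkN 0 1 1 0 0 [] [] = true := by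
  decide +kernel

theorem n6_0_1 : chkN 6 0 1 1 1 [14, 15, 16, 17, 18] [2] = true := by
  decide +kernel

theorem n9_0_1 : chkN 9 0 1 0 0 [14, 15, 16, 18, 20] [5] = true := by
  decide +kernel

theorem n7_0_0 : chkN 7 0 0 1 0 [] [2] = true := by
  decide +kernel

theorem n3_1_0 : chkN 3 1 0 0 0 [] [] = true := by
  decide +kernel

theorem cy18 : chkL tab av 11 11 0 0 (gdL [] blk 18 ++ yW) (yW ++ gdL [] blk 18) = true := by
  decide +kernel

theorem x7 : chkL tab av 11 11 0 0 ([36, 39, 12, 13, 15, 18, 20, 21] ++ [36, 39, 12, 13, 15, 18, 20, 21] ++ [36, 39, 12, 13, 15, 18, 20, 21] ++ [36, 39, 12, 13, 15, 18, 20, 21] ++ [36, 39, 12, 13, 15, 18, 20, 21] ++ [36, 39, 12, 13, 15, 18, 20, 21] ++ [36, 39, 12, 13, 15, 18, 20, 21]) [] = true := by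
  decide +kernel

theorem v0 : chkW tab avH 12 25 0 0 [49, 52, 33, 41, 52, 31, 33] = true := by
  decide +kernel

theorem v2 : chkW tab avH 12 28 0 0 [43, 52, 32, 49, 52, 29] = true := by
  decide +kernel

theorem v7 : chkW tab avH 12 39 0 0 [39, 52, 35, 37, 49] = true := by
  decide +kernel

theorem cx13 : chkL tab av 11 11 0 0 (gdL [] blk 13 ++ xW) (xW ++ gdL [] blk 13) = true := by
  decide +kernel

theorem cx15 : chkL tab av 11 11 0 0 (gdL [] blk 15 ++ xW) (xW ++ gdL [] blk 15) = true := by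
  decide +kernel

theorem mH3 : chkL tab avH (24 + 11) (24 + 30) 0 0 (fl [14, 15, 16, 18, 19, 20, 21]) (fl []) = true := by
  decide +kernel

theorem mH4 : chkL tab avH (24 + 30) (24 + 31) 0 0 (fl [14, 16, 18, 19, 21]) (fl []) = true := by
  decide +kernel

theorem u12 : chkW tab avH 0 48 0 0 [47, 42] = true := by
  decide +kernel

theorem rH1 : chkL tab avH (13 + 0) 35 0 0 (fl [16]) [] = true := by
  decide +kernel

end CfsgMO.Cs
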