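/-
Checks for the Held group, part 5.
-/
import Cfsg.Agent.MO.SbE

set_option autoImplicit false
set_option Elab.async false
set_option maxRecDepth 100000

namespace CfsgMO.Cs

theorem pp8 : allL (chkPP 8) (List.range 21) = true := by
  decide +kernel

theorem pp4 : allL (chkPP 4) (List.range 21) = true := by
  decide +kernel

theorem mH23 : chkL tab avH (24 + 14) (24 + 28) 0 0 (fl [1, 12, 14, 15, 17, 19]) (fl [5, 10]) = true := by
  decide +kernel

theorem mH16 : chkL tab avH (24 + 15) (24 + 14) 0 0 (fl [3, 16, 19, 21]) (fl [3, 14, 16, 18]) = true := by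
  decide +kernel

theorem n6_1_0 : chkN 6 1 0 1 1 [10, 13, 18] [1] = true := by
  decide +kernel

theorem n8_4_1 : chkN 8 4 1 0 0 [11, 12, 13, 14, 15, 16, 18, 20] [1] = true := by
  decide +kernel

theorem n5_3_1 : chkN 5 3 1 0 0 [8, 13, 14, 15, 16, 20] [2] = true := by
  decide +kernel

theorem n9_2_0 : chkN 9 2 0 0 0 [11, 14, 15, 16, 20] [5] = true := by
  decide +kernel

theorem n5_3_0 : chkN 5 3 0 0 1 [9, 13, 17, 20] [2] = true := by
  decide +kernel

theorem n10_2_0 : chkN 10 2 0 1 0 [10, 16] [5] = true := by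
  decide +kernel

theorem n3_2_0 : chkN 3 2 0 1 1 [15, 16, 17, 18] [2] = true := by
  decide +kernel

theorem n2_4_1 : chkN 2 4 1 0 0 [12] [2] = true := by
  decide +kernel

theorem n9_1_1 : chkN 9 1 1 1 1 [14, 15, 17] [1] = true := by
  decide +kernel

theorem n4_3_0 : chkN 4 3 0 1 1 [] [3] = true := by
  decide +kernel

theorem n5_6_1 : chkN 5 6 1 0 0 [15, 16, 19] [6] = true := by
  decide +kernel

theorem n9_5_0 : chkN 9 5 0 0 0 [12, 15, 18] [3] = true := by
  decide +kernel

theorem n10_3_1 : chkN 10 3 1 1 1 [15, 16, 17] [3] = true := by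
  decide +kernel

theorem n10_3_0 : chkN 10 3 0 1 1 [14, 17] [3] = true := by
  decide +kernel

theorem cx4 : chkL tab av 11 11 0 0 (gdL [] blk 4 ++ xW) (xW ++ gdL [] blk 4) = true := by
  decide +kernel

theorem n1_6_0 : chkN 1 6 0 0 4 [12, 16] [] = true := by
  decide +kernel

theorem mH8 : chkL tab avH (24 + 7) (24 + 10) 0 0 (fl [2, 14, 15, 16, 17, 19, 21]) (fl []) = true := by
  decide +kernel

theorem cy8 : chkL tab av 11 11 0 0 (gdL [] blk 8 ++ yW) (yW ++ gdL [] blk 8) = true := by
  decide +kernel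

theorem n4_6_1 : chkN 4 6 1 0 1 [10, 12, 15, 16, 19] [] = true := by
  decide +kernel

theorem n1_5_0 : chkN 1 5 0 0 4 [] [] = true := by
  decide +kernel

theorem n2_0_0 : chkN 2 0 0 3 0 [] [2] = true := by
  decide +kernel

theorem n1_0_0 : chkN 1 0 0 0 0 [] [1] = true := by
  decide +kernel

theorem n5_4_1 : chkN 5 4 1 0 0 [12, 13, 15, 16, 17] [] = true := by
  decide +kernel

theorem n3_2_1 : chkN 3 2 1 1 1 [] [] = true := by
  decide +kernel

theorem n5_5_1 : chkN 5 5 1 0 0 [] [] = true := by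
  decide +kernel

theorem n10_0_1 : chkN 10 0 1 0 0 [15, 17, 19] [3] = true := by
  decide +kernel

theorem n7_3_0 : chkN 7 3 0 0 0 [] [] = true := by
  decide +kernel

theorem cy14 : chkL tab av 11 11 0 0 (gdL [] blk 14 ++ yW) (yW ++ gdL [] blk 14) = true := by
  decide +kernel

theorem u17 : chkW tab avH 0 58 0 0 [27, 38, 52, 33, 46, 52, 30] = true := by
  decide +kernel

theorem v1 : chkW tab avH 12 27 0 0 [50, 52, 31, 44, 52, 31] = true := by
  decide +kernel

theorem v3 : chkW tab avH 12 30 0 0 [38, 52, 50, 34, 38] = true := by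
  decide +kernel

theorem lH5 : chkL tab avH (13 + 1) (13 + 1) 0 0 (fl [12, 14, 15, 16, 18, 19, 20, 21]) (fl [14, 19]) = true := by
  decide +kernel

theorem mH2 : chkL tab avH (24 + 10) (24 + 30) 0 0 (fl [14, 15, 17, 18, 19]) (fl [12, 14, 18]) = true := by
  decide +kernel

theorem cx19 : chkL tab av 11 11 0 0 (gdL [] blk 19 ++ xW) (xW ++ gdL [] blk 19) = true := by
  decide +kernel

theorem v18 : chkW tab avH 12 60 0 0 [27, 42, 48] = true := by
  decide +kernel

theorem v5 : chkW tab avH 12 35 0 0 [48, 43] = true := by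
  decide +kernel

theorem n0_0_0 : chkN 0 0 0 0 0 [] [] = true := by
  decide +kernel

end CfsgMO.Cs
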