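/-
Checks for the Held group, part 6.
-/
import Cfsg.Agent.MO.SbE

set_option autoImplicit false
set_option Elab.async false
set_option maxRecDepth 100000

namespace CfsgMO.Cs

theorem pp7 : allL (chkPP 7) (List.range 21) = true := by
  decide +kernel

theorem pp3 : allL (chkPP 3) (List.range 21) = true := by
  decide +kernel

theorem n4_1_1 : chkN 4 1 1 4 0 [9, 15, 16, 18] [5] = true := by
  decide +kernel

theorem n3_4_0 : chkN 3 4 0 4 0 [13, 18, 19] [1] = true := by
  decide +kernel

theorem n9_1_0 : chkN 9 1 0 1 1 [9, 13, 14, 17] [1] = true := by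
  decide +kernel

theorem n8_6_0 : chkN 8 6 0 0 0 [8, 12, 13, 18, 20] [1] = true := by
  decide +kernel

theorem n10_6_0 : chkN 10 6 0 1 0 [9, 15, 17, 18, 19] [5] = true := by
  decide +kernel

theorem n7_6_1 : chkN 7 6 1 1 0 [7, 18] [2] = true := by
  decide +kernel

theorem cy4 : chkL tab av 11 11 0 0 (gdL [] blk 4 ++ yW) (yW ++ gdL [] blk 4) = true := by
  decide +kernel

theorem n10_1_0 : chkN 10 1 0 1 1 [9, 15, 16, 18, 20] [3] = true := by
  decide +kernel

theorem lH17 : chkL tab avH (13 + 2) (13 + 2) 0 0 (fl [1, 12, 17, 18, 19, 20]) (fl [1, 12, 15]) = true := by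
  decide +kernel

theorem n2_4_0 : chkN 2 4 0 0 0 [12, 14] [2] = true := by
  decide +kernel

theorem lH21 : chkL tab avH (13 + 9) (13 + 8) 0 0 (fl [5, 12, 14, 16, 17, 18, 20, 21]) (fl [3, 13, 15, 19, 20]) = true := by
  decide +kernel

theorem n2_2_0 : chkN 2 2 0 0 0 [14] [2] = true := by
  decide +kernel

theorem n9_5_1 : chkN 9 5 1 0 0 [12, 13, 17, 18] [3] = true := by
  decide +kernel

theorem t6 : chkL tab avH (24 + 2 * 6) 13 0 0 (fl [4, 9, 16]) (fl []) = true := by
  decide +kernel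

theorem n9_4_0 : chkN 9 4 0 0 0 [12, 14, 15, 20] [2] = true := by
  decide +kernel

theorem n9_4_1 : chkN 9 4 1 0 0 [14, 16, 18, 19] [2] = true := by
  decide +kernel

theorem cx2 : chkL tab av 11 11 0 0 (gdL [] blk 2 ++ xW) (xW ++ gdL [] blk 2) = true := by
  decide +kernel

theorem mH9 : chkL tab avH (24 + 6) (24 + 31) 0 0 (fl [2, 15, 17, 18, 19, 21]) (fl [18]) = true := by
  decide +kernel

theorem n1_4_1 : chkN 1 4 1 0 4 [15, 16, 17] [] = true := by
  decide +kernel

theorem cy7 : chkL tab av 11 11 0 0 (gdL [] blk 7 ++ yW) (yW ++ gdL [] blk 7) = true := by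
  decide +kernel

theorem n1_5_1 : chkN 1 5 1 0 4 [12, 20] [] = true := by
  decide +kernel

theorem lH7 : chkL tab avH (13 + 0) (13 + 0) 0 0 (fl [4, 18, 19, 20]) (fl [12]) = true := by
  decide +kernel

theorem n0_2_0 : chkN 0 2 0 0 3 [] [] = true := by
  decide +kernel

theorem n0_1_0 : chkN 0 1 0 0 0 [] [] = true := by
  decide +kernel

theorem n3_3_1 : chkN 3 3 1 0 0 [12, 13, 15, 16, 18, 20] [] = true := by
  decide +kernel

theorem n6_0_0 : chkN 6 0 0 1 1 [14] [2] = true := by
  decide +kernel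

theorem n4_2_1 : chkN 4 2 1 0 1 [12, 20] [] = true := by
  decide +kernel

theorem cx9 : chkL tab av 11 11 0 0 (gdL [] blk 9 ++ xW) (xW ++ gdL [] blk 9) = true := by
  decide +kernel

theorem n10_0_0 : chkN 10 0 0 0 0 [] [3] = true := by
  decide +kernel

theorem t9 : chkL tab avH (24 + 2 * 9) 13 0 0 (fl [10, 16]) (fl []) = true := by
  decide +kernel

theorem v13 : chkW tab avH 12 50 0 0 [51, 52, 33, 37, 52, 31, 35] = true := by
  decide +kernel

theorem u0 : chkW tab avH 0 24 0 0 [49, 52, 33, 41, 52, 31, 33] = true := by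
  decide +kernel

theorem u1 : chkW tab avH 0 26 0 0 [50, 52, 31, 44, 52, 31] = true := by
  decide +kernel

theorem mH5 : chkL tab avH (24 + 25) (24 + 39) 0 0 (fl [12, 14, 15, 16, 18, 19, 20, 21]) (fl [14, 19]) = true := by
  decide +kernel

theorem cx17 : chkL tab av 11 11 0 0 (gdL [] blk 17 ++ xW) (xW ++ gdL [] blk 17) = true := by
  decide +kernel

theorem cx14 : chkL tab av 11 11 0 0 (gdL [] blk 14 ++ xW) (xW ++ gdL [] blk 14) = true := by
  decide +kernel

theorem u18 : chkW tab avH 0 61 0 0 [27, 42, 48] = true := by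
  decide +kernel

theorem u5 : chkW tab avH 0 34 0 0 [48, 43] = true := by
  decide +kernel

theorem rH2 : chkL tab avH (24 + 11) 34 0 0 (fl [16]) [] = true := by
  decide +kernel

theorem t5 : chkL tab avH (24 + 2 * 5) 13 0 0 (fl []) (fl []) = true := by
  decide +kernel

end CfsgMO.Cs
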