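/-
Checks for the Held group, part 7.
-/
import Cfsg.Agent.MO.SbE

set_option autoImplicit false
set_option Elab.async false
set_option maxRecDepth 100000

namespace CfsgMO.Cs

theorem pp6 : allL (chkPP 6) (List.range 21) = true := by
  decide +kernel

theorem pp2 : allL (chkPP 2) (List.range 21) = true := by
  decide +kernel

theorem mH21 : chkL tab avH (24 + 22) (24 + 41) 0 0 (fl [5, 12, 14, 16, 17, 18, 20, 21]) (fl [3, 13, 15, 19, 20]) = true := by
  decide +kernel

theorem mH17 : chkL tab avH (24 + 14) (24 + 15) 0 0 (fl [1, 12, 17, 18, 19, 20]) (fl [1, 12, 15]) = true := by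
  decide +kernel

theorem n6_6_1 : chkN 6 6 1 1 1 [9, 12] [1] = true := by
  decide +kernel

theorem n6_3_1 : chkN 6 3 1 1 1 [10, 15, 16] [1] = true := by
  decide +kernel

theorem cy6 : chkL tab av 11 11 0 0 (gdL [] blk 6 ++ yW) (yW ++ gdL [] blk 6) = true := by
  decide +kernel

theorem n10_4_1 : chkN 10 4 1 1 0 [9, 13, 15, 17, 20] [5] = true := by
  decide +kernel

theorem mH14 : chkL tab avH (24 + 40) (24 + 25) 0 0 (fl [5, 12, 15, 16, 20, 21]) (fl [9, 15, 16, 17]) = true := by
  decide +kernel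

theorem n7_5_0 : chkN 7 5 0 1 0 [10, 17, 18] [2] = true := by
  decide +kernel

theorem n2_6_0 : chkN 2 6 0 0 1 [14, 15, 16, 19] [3] = true := by
  decide +kernel

theorem n6_4_0 : chkN 6 4 0 1 1 [14, 15, 18, 19] [2] = true := by
  decide +kernel

theorem n2_5_1 : chkN 2 5 1 0 1 [14, 15] [3] = true := by
  decide +kernel

theorem n0_5_0 : chkN 0 5 0 0 0 [10, 15] [] = true := by
  decide +kernel

theorem n9_3_1 : chkN 9 3 1 0 0 [12, 13, 15, 16, 20] [3] = true := by
  decide +kernel

theorem n8_5_1 : chkN 8 5 1 0 0 [14, 15, 16, 18, 20] [5] = true := by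
  decide +kernel

theorem n8_2_1 : chkN 8 2 1 0 0 [12, 15] [4] = true := by
  decide +kernel

theorem n8_1_0 : chkN 8 1 0 0 0 [12, 15, 16, 20] [1] = true := by
  decide +kernel

theorem mH11 : chkL tab avH (24 + 41) (24 + 25) 0 0 (fl [3, 12, 14, 15, 16, 17, 19, 20, 21]) (fl [15, 16]) = true := by
  decide +kernel

theorem lH12 : chkL tab avH (13 + 4) (13 + 1) 4 0 (fl [12, 15, 16, 17, 21]) (fl [5, 14, 19]) = true := by
  decide +kernel

theorem n3_6_0 : chkN 3 6 0 0 0 [10, 13, 15, 16, 18, 20] [] = true := by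
  decide +kernel

theorem n0_4_0 : chkN 0 4 0 0 0 [12, 16] [] = true := by
  decide +kernel

theorem n3_5_1 : chkN 3 5 1 0 0 [10, 13, 17, 19] [] = true := by
  decide +kernel

theorem n4_4_0 : chkN 4 4 0 0 1 [10, 12, 15, 18, 19] [] = true := by
  decide +kernel

theorem n4_4_1 : chkN 4 4 1 0 1 [10, 17, 18] [] = true := by
  decide +kernel

theorem n3_5_0 : chkN 3 5 0 0 0 [10, 15] [] = true := by
  decide +kernel

theorem n7_1_0 : chkN 7 1 0 0 0 [9, 14, 16, 18, 20] [] = true := by
  decide +kernel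

theorem n3_1_1 : chkN 3 1 1 0 0 [12, 13] [] = true := by
  decide +kernel

theorem n9_0_0 : chkN 9 0 0 0 0 [14] [5] = true := by
  decide +kernel

theorem cx10 : chkL tab av 11 11 0 0 (gdL [] blk 10 ++ xW) (xW ++ gdL [] blk 10) = true := by
  decide +kernel

theorem cy15 : chkL tab av 11 11 0 0 (gdL [] blk 15 ++ yW) (yW ++ gdL [] blk 15) = true := by
  decide +kernel

theorem t19 : chkL tab avH (24 + 2 * 19) 13 0 0 (fl [9, 12]) (fl []) = true := by
  decide +kernel

theorem v11 : chkW tab avH 12 46 0 0 [42, 52, 37, 30, 52, 28, 35] = true := by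
  decide +kernel

theorem v6 : chkW tab avH 12 37 0 0 [27, 40, 52, 51, 52, 34] = true := by
  decide +kernel

theorem v20 : chkW tab avH 12 65 0 0 [51, 52, 44, 52, 28] = true := by
  decide +kernel

theorem u14 : chkW tab avH 0 53 0 0 [44, 52, 44, 25, 38] = true := by
  decide +kernel

theorem n5_0_1 : chkN 5 0 1 0 0 [12, 13, 14, 17, 20] [] = true := by
  decide +kernel

theorem mH1 : chkL tab avH (24 + 31) (24 + 10) 0 0 (fl [12, 14, 15, 16, 20]) (fl [14]) = true := by
  decide +kernel

theorem v15 : chkW tab avH 12 54 0 0 [27, 48, 43] = true := by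
  decide +kernel

theorem v12 : chkW tab avH 12 49 0 0 [47, 42] = true := by
  decide +kernel

theorem t15 : chkL tab avH (24 + 2 * 15) 13 0 0 (fl [12]) (fl []) = true := by
  decide +kernel

end CfsgMO.Cs
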