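/-
The letters: lattice side checks.
-/
import Cfsg.Agent.MO.TabA
import Cfsg.Agent.MO.K1
import Cfsg.Agent.MO.L

set_option autoImplicit false
set_option maxRecDepth 100000
set_option Elab.async false

namespace CfsgMO

noncomputable section

def toMn (t : List ℕ × ℕ × List ℕ × ℕ × List ℕ × ℕ) : Mn :=
  ⟨t.1, t.2.1, t.2.2.1, t.2.2.2.1, t.2.2.2.2.1, t.2.2.2.2.2⟩

/-- the data of the monomial letter `25 + a` -/
def mnT (a : ℕ) : Mn := toMn (gdL Dt.yM0 [Dt.yM0, Dt.yM1, Dt.yM2, Dt.yM3, Dt.yM4, Dt.yM5, Dt.yM6, Dt.yM7, Dt.yM8, Dt.yM9, Dt.yM10, Dt.pM0, Dt.pM1, Dt.pM2, Dt.pM3, Dt.pM4, Dt.pM5, Dt.pM6, Dt.pM7] a)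

def spmL (r : List ℕ) (s : ℕ) : List (List ℤ) :=
  (List.range 24).map fun i => (List.range 24).map fun j =>
    if r.getD j 0 = i then (if s.testBit i then -2 else 2) else 0

theorem getD_rmap {α : Type} (f : ℕ → α) (d : α) (i : Fin 24) :
    ((List.range 24).map f).getD i d = f i := by
  rw [List.getD_eq_getElem _ _ (by simp), List.getElem_map, List.getElem_range]

theorem smat_spmL (r : List ℕ) (s : ℕ) : smat (spmL r s) = spm r s := by
  ext i j
  simp only [smat, spm, spmL, Matrix.of_apply, getD_rmap]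
  split_ifs <;> norm_num

def monOK (a : ℕ) : Bool :=
  an (okMon BB (mnT a) (amat (25 + a)) (tab (25 + a)))
    (okG (spmL (mnT a).r (mnT a).s) (amat (25 + a)))

theorem mon_0 : monOK 0 = true := by decide +kernel
theorem mon_1 : monOK 1 = true := by decide +kernel
theorem mon_2 : monOK 2 = true := by decide +kernel
theorem mon_3 : monOK 3 = true := by decide +kernel
theorem mon_4 : monOK 4 = true := by decide +kernel
theorem mon_5 : monOK 5 = true := by decide +kernel
theorem mon_6 : monOK 6 = true := by decide +kernel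
theorem mon_7 : monOK 7 = true := by decide +kernel
theorem mon_8 : monOK 8 = true := by decide +kernel
theorem mon_9 : monOK 9 = true := by decide +kernel
theorem mon_10 : monOK 10 = true := by decide +kernel
theorem mon_11 : monOK 11 = true := by decide +kernel
theorem mon_12 : monOK 12 = true := by decide +kernel
theorem mon_13 : monOK 13 = true := by decide +kernel
theorem mon_14 : monOK 14 = true := by decide +kernel
theorem mon_15 : monOK 15 = true := by decide +kernel
theorem mon_16 : monOK 16 = true := by decide +kernel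
theorem mon_17 : monOK 17 = true := by decide +kernel
theorem mon_18 : monOK 18 = true := by decide +kernel

theorem mon_all {a : ℕ} (h : a < 19) : monOK a = true := by
  interval_cases a
  · exact mon_0
  · exact mon_1
  · exact mon_2
  · exact mon_3
  · exact mon_4
  · exact mon_5
  · exact mon_6
  · exact mon_7
  · exact mon_8
  · exact mon_9
  · exact mon_10
  · exact mon_11
  · exact mon_12
  · exact mon_13
  · exact mon_14
  · exact mon_15
  · exact mon_16
  · exact mon_17
  · exact mon_18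

theorem xi_ok : okXi BB (toMn Dt.xM1) (toMn Dt.xM2) Dt.xA1 Dt.xA2 Dt.xA Dt.xS Dt.xP1 Dt.xP2 = true := by
  decide +kernel
theorem xi_G : okG Dt.xS Dt.xA = true := by decide +kernel
theorem xH_eq : xH0 = hM1 ∧ xH1 = hM2 ∧ xH2 = hM3 ∧ xH3 = hM4 ∧ xH4 = hM5 := by decide +kernel
theorem mono_tab : ∀ a < 52, mono (tab a) = true := by decide +kernel
theorem inv_amat : ∀ a < 8, mat2 24 (amat (36 + a)) * mat2 24 (amat (44 + a)) = 1 := by decide +kernel
theorem inv_xi : mat2 24 (amat 52) * mat2 24 (amat 53) = 1 := by decide +kernel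
theorem look_one : look BB.L BB.X 1 = 0 := by decide +kernel
theorem look_p0 : look BB.L BB.X 7028736 ≠ 0 := by decide +kernel
theorem lam_0 : okLam [-4, 4, 0, 0, 0, 0, 0, 0, 0, 0, 0, 0, 0, 0, 0, 0, 0, 0, 0, 0, 0, 0, 0, 0] 7028736 = true := by decide +kernel
theorem lam_1 : okLam [0, -4, 4, 0, 0, 0, 0, 0, 0, 0, 0, 0, 0, 0, 0, 0, 0, 0, 0, 0, 0, 0, 0, 0] 2588672 = true := by decide +kernel
theorem lam_2 : okLam [-4, 0, 4, 0, 0, 0, 0, 0, 0, 0, 0, 0, 0, 0, 0, 0, 0, 0, 0, 0, 0, 0, 0, 0] 5029888 = true := by decide +kernel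

end

end CfsgMO
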