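/-
The letters: kernel checks.
-/
import Cfsg.Agent.MO.TabA

set_option autoImplicit false
set_option maxRecDepth 100000
set_option Elab.async false

namespace CfsgMO

theorem okB_BB : okB BB = true := by decide +kernel
theorem okX_36 : okX BB (amat 36) (tab 36) = true := by decide +kernel
theorem okX_37 : okX BB (amat 37) (tab 37) = true := by decide +kernel
theorem okX_38 : okX BB (amat 38) (tab 38) = true := by decide +kernel
theorem okX_25 : okX BB (amat 25) (tab 25) = true := by decide +kernel
theorem okX_52 : okX BB (amat 52) Dt.xP2 = true := by decide +kernel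
theorem wf_54 : wf (tab 54) = true := by decide +kernel
theorem supp_54 : subM (supp (tab 54) BB.M) BB.M = true := by decide +kernel
theorem sym_54 : symEq3 BB (tab 54) (tab 54 ++ trP) = true := by decide +kernel
theorem inv_54 : symEq3 BB (tab 54) (tab 54).reverse = true := by decide +kernel
theorem reg_54 : okReg BB (tab 54) sO R0 RX RY RZ = true := by decide +kernel
theorem row_0 : okRow BB tabM 16777216 [16777216, 16777217, 16777249, 16777250, 7028736, 2588672, 8388609, 7340035, 33554432, 33556480, 2048, 33558528, 33560576, 7030784] [[38], [36, 39], [38, 38], [48, 38, 36], [36, 42, 41], [50, 39, 43], [36, 38, 42, 44], [36, 42, 37, 47], [26], [28], [38], [30], [40, 50], [35], [38, 38], [36, 39], [31], [33], [32], [26], [25], [0], [1], [2], [3], [4], [5], [6], [7], [8], [9], [10], [27]] BB.M = true := by decide +kernel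
theorem row_1 : okRow BB tabM 16777217 [16777216, 16777217, 16777218, 7028736, 16777282, 16777283, 5029888, 1785856, 8388609, 7340035, 4, 33554432, 33556480, 2048, 33562624, 33564672, 5031936] [[43, 42, 43], [43, 44, 41], [36, 42, 41, 47], [41, 46, 39, 41], [51, 37, 50, 51], [43, 39, 42, 42], [36, 40, 49], [25], [36, 36, 47, 42, 37], [32], [31], [51, 46, 43], [35], [36, 40, 49], [43, 42, 43], [27], [33], [29], [28], [35], [36, 40, 49], [0], [1], [2], [3], [4], [5], [6], [7], [8], [9], [10]] BB.M = true := by decide +kernel
theorem row_2 : okRow BB tabM 7028736 [16777216, 16777217, 16777218, 7028736, 15417344, 16777282, 16777283, 5029888, 1785856, 8388609, 5029889, 7340035, 4, 33554432, 33556480, 2048, 2052, 33562624, 33564672, 5031936, 13420548] [[41, 40, 51], [41, 41, 38], [41, 48, 44], [46, 48, 51, 49], [51, 47, 42, 36], [48, 46, 43, 47], [42, 38, 44, 51], [31], [37, 42, 36, 47], [35, 34], [28], [30, 27], [41, 41, 38], [41, 48, 44], [33], [44, 51, 51, 42], [35, 30], [2], [25], [34, 30], [41, 41, 38], [0], [1], [3], [4], [5], [6], [7], [8], [9], [2]]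 BB.M = true := by decide +kernel
theorem row_3 : okRow BB tabM 8388609 [16777216, 16777217, 16777224, 7028736, 15417344, 16777480, 16777481, 7491584, 6111232, 14499840, 8388609, 8388610, 7028737, 7028738, 15728641, 14012418, 2965506, 12976130, 6160414, 8601630, 3014686, 6283294, 299044, 15155236, 593956, 3924004, 33554432, 33556480, 2048, 2050, 6162462, 301092, 596006, 16771114, 33587200, 33589248, 7493632, 7493634, 10377222, 11294750, 7784484, 8079398, 899114] [[44, 42, 48], [36, 36, 36, 38], [36, 39, 51, 48, 44], [37, 48, 37, 40, 46], [37, 51, 39, 50, 43], [36, 48, 39, 51, 44], [51, 39, 49], [39, 48, 42], [25], [44, 42, 48], [44, 51, 51, 41], [36, 48, 42, 51], [41, 37, 48, 46], [51, 39, 49], [39, 48, 42], [44, 42, 48], [39, 48, 42], [1], [2], [3], [4], [5], [6], [7], [8], [9], [10], [0]] BB.M = true := by decide +kernel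
theorem row_4 : okRow BB tabM 2048 [33554432, 33558528] [[0], [1], [2], [3], [4], [5], [6], [7], [8], [9], [10], [38], [36, 39], [38, 38], [48, 38, 36], [47, 41, 41]] RZ = true := by decide +kernel
theorem col_0 : okCol BB tabM [16777216, 16777217, 7028736, 8388609] [36, 37, 40, 38, 39, 42, 36, 41, 43, 26, 35, 40, 30, 38, 36, 42, 41, 43, 40, 30] BB.M R0 = true := by decide +kernel
theorem col_1 : okCol BB tabM [2048] [25, 26, 27, 28, 29, 30, 31, 32, 33, 34, 35, 36, 37, 40, 38, 36, 37] RZ RX = true := by decide +kernel

end CfsgMO
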